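-- helper20: a sum of integer squares equal to 4 containing a 1 consists of four terms ±1.
import Mathlib

set_option autoImplicit false

namespace Cfsg.Agent.Helper20

theorem int_sq_eq_one_of_le_three (z : ℤ) (h0 : z ≠ 0) (h3 : z ^ 2 ≤ 3) : z = 1 ∨ z = -1 := by
  have h1 : -2 < z := by nlinarith
  have h2 : z < 2 := by nlinarith
  omega

theorem exists_three_of_sum_sq_eq_four {ι : Type*} [Fintype ι] [DecidableEq ι] (w : ι → ℤ) (i₀ : ι)
    (h0 : w i₀ = 1) (hsum : ∑ i, (w i) ^ 2 = 4) :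
    ∃ i₁ i₂ i₃ : ι, i₁ ≠ i₀ ∧ i₂ ≠ i₀ ∧ i₃ ≠ i₀ ∧ i₁ ≠ i₂ ∧ i₁ ≠ i₃ ∧ i₂ ≠ i₃ ∧
      (w i₁ = 1 ∨ w i₁ = -1) ∧ (w i₂ = 1 ∨ w i₂ = -1) ∧ (w i₃ = 1 ∨ w i₃ = -1) ∧
      ∀ i, i ≠ i₀ → i ≠ i₁ → i ≠ i₂ → i ≠ i₃ → w i = 0 := by
  classical
  obtain ⟨T, hT⟩ : ∃ T : Finset ι, T = Finset.univ.filter (fun i => i ≠ i₀ ∧ w i ≠ 0) := ⟨_, rfl⟩
  have hmemT : ∀ i, i ∈ T ↔ i ≠ i₀ ∧ w i ≠ 0 := by
    intro i; rw [hT]; simp
  have hsplit : ∑ i, (w i) ^ 2 = (w i₀) ^ 2 + ∑ i ∈ T, (w i) ^ 2 := by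
    rw [← Finset.add_sum_erase Finset.univ (fun i => (w i) ^ 2) (Finset.mem_univ i₀)]
    congr 1
    symm
    apply Finset.sum_subset
    · intro i hi
      rw [hmemT] at hi
      exact Finset.mem_erase.mpr ⟨hi.1, Finset.mem_univ i⟩
    · intro i hi hiT
      rw [hmemT] at hiT
      have hne : i ≠ i₀ := (Finset.mem_erase.mp hi).1
      have : w i = 0 := by
        by_contra hc
        exact hiT ⟨hne, hc⟩
      rw [this]; rfl
  have hT3 : ∑ i ∈ T, (w i) ^ 2 = 3 := by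
    rw [hsplit, h0] at hsum
    linarith
  have hle : ∀ i ∈ T, (w i) ^ 2 ≤ 3 := by
    intro i hi
    rw [← hT3]
    exact Finset.single_le_sum (f := fun i => (w i) ^ 2) (fun j _ => sq_nonneg (w j)) hi
  have hpm : ∀ i ∈ T, w i = 1 ∨ w i = -1 := by
    intro i hi
    exact int_sq_eq_one_of_le_three (w i) ((hmemT i).mp hi).2 (hle i hi)
  have hcard : T.card = 3 := by
    have h1 : ∑ i ∈ T, (w i) ^ 2 = ∑ i ∈ T, (1 : ℤ) := by
      apply Finset.sum_congr rfl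
      intro i hi
      rcases hpm i hi with h | h <;> rw [h] <;> norm_num
    rw [hT3, Finset.sum_const, nsmul_eq_mul, mul_one] at h1
    exact_mod_cast h1.symm
  obtain ⟨x, y, z, hxy, hxz, hyz, hTeq⟩ := Finset.card_eq_three.mp hcard
  have hx : x ∈ T := by rw [hTeq]; simp
  have hy : y ∈ T := by rw [hTeq]; simp
  have hz : z ∈ T := by rw [hTeq]; simp
  refine ⟨x, y, z, ((hmemT x).mp hx).1, ((hmemT y).mp hy).1, ((hmemT z).mp hz).1, hxy, hxz, hyz,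
    hpm x hx, hpm y hy, hpm z hz, ?_⟩
  intro i hi0 hix hiy hiz
  by_contra hc
  have hiT : i ∈ T := (hmemT i).mpr ⟨hi0, hc⟩
  rw [hTeq] at hiT
  simp only [Finset.mem_insert, Finset.mem_singleton] at hiT
  rcases hiT with h | h | h
  · exact hix h
  · exact hiy h
  · exact hiz h

/-- A sum over a fintype of a function vanishing off four distinct points. -/
theorem sum_eq_four_terms {ι : Type*} [Fintype ι] [DecidableEq ι] {M : Type*} [AddCommMonoid M]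
    (f : ι → M) (i₀ i₁ i₂ i₃ : ι) (h01 : i₁ ≠ i₀) (h02 : i₂ ≠ i₀) (h03 : i₃ ≠ i₀) (h12 : i₁ ≠ i₂)
    (h13 : i₁ ≠ i₃) (h23 : i₂ ≠ i₃)
    (hf : ∀ i, i ≠ i₀ → i ≠ i₁ → i ≠ i₂ → i ≠ i₃ → f i = 0) :
    ∑ i, f i = f i₀ + (f i₁ + (f i₂ + f i₃)) := by
  have hsub : ∑ i ∈ ({i₀, i₁, i₂, i₃} : Finset ι), f i = ∑ i, f i := by
    apply Finset.sum_subset (Finset.subset_univ _)
    intro i _ hi
    simp only [Finset.mem_insert, Finset.mem_singleton, not_or] at hi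
    exact hf i hi.1 hi.2.1 hi.2.2.1 hi.2.2.2
  rw [← hsub, Finset.sum_insert, Finset.sum_insert, Finset.sum_insert, Finset.sum_singleton]
  · simp only [Finset.mem_singleton]; exact h23
  · simp only [Finset.mem_insert, Finset.mem_singleton, not_or]; exact ⟨h12, h13⟩
  · simp only [Finset.mem_insert, Finset.mem_singleton, not_or]
    exact ⟨h01.symm, h02.symm, h03.symm⟩

end Cfsg.Agent.Helper20
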