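-- helper20: restriction of a character to a cyclic subgroup of order 4 and to a quaternion subgroup
-- of order 8: the congruences used in the Brauer–Suzuki theorem for Q8.
import Cfsg.Agent.Helper15.IndChar
import Cfsg.Agent.Helper15.LinChar
import Cfsg.Agent.Helper74.CharBasic

set_option autoImplicit false

namespace Cfsg.Agent.Helper20

open Cfsg QuaternionGroup
open scoped ComplexConjugate

theorem q8_sum_univ {M : Type*} [AddCommMonoid M] (F : QuaternionGroup 2 → M) :
    ∑ q : QuaternionGroup 2, F q = F (a 0) + (F (a 1) + (F (a 2) + (F (a 3) +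
      (F (xa 0) + (F (xa 1) + (F (xa 2) + F (xa 3))))))) := by
  have h : (Finset.univ : Finset (QuaternionGroup 2)) =
      {a 0, a 1, a 2, a 3, xa 0, xa 1, xa 2, xa 3} := by decide
  rw [h]
  rw [Finset.sum_insert (by decide), Finset.sum_insert (by decide), Finset.sum_insert (by decide),
    Finset.sum_insert (by decide), Finset.sum_insert (by decide), Finset.sum_insert (by decide),
    Finset.sum_insert (by decide), Finset.sum_singleton]

/-- The sign character of `Q8` with kernel `⟨x⟩`, with values in `ℤˣ`. -/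
def q8SignFun : QuaternionGroup 2 → ℤˣ
  | a i => if i.val % 2 = 0 then 1 else -1
  | xa i => if i.val % 2 = 0 then 1 else -1

def q8Sign : QuaternionGroup 2 →* ℤˣ where
  toFun := q8SignFun
  map_one' := by decide
  map_mul' := by decide

/-- The complex-valued sign character of `Q8`. -/
noncomputable def q8SignC : QuaternionGroup 2 →* ℂ :=
  ((Int.castRingHom ℂ).toMonoidHom.comp (Units.coeHom ℤ)).comp q8Sign

theorem q8SignC_a0 : q8SignC (a 0) = 1 := by
  have : q8Sign (a 0) = 1 := by decide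
  simp [q8SignC, this]
theorem q8SignC_a1 : q8SignC (a 1) = -1 := by
  have : q8Sign (a 1) = -1 := by decide
  simp [q8SignC, this]
theorem q8SignC_a2 : q8SignC (a 2) = 1 := by
  have : q8Sign (a 2) = 1 := by decide
  simp [q8SignC, this]
theorem q8SignC_a3 : q8SignC (a 3) = -1 := by
  have : q8Sign (a 3) = -1 := by decide
  simp [q8SignC, this]
theorem q8SignC_xa0 : q8SignC (xa 0) = 1 := by
  have : q8Sign (xa 0) = 1 := by decide
  simp [q8SignC, this]
theorem q8SignC_xa1 : q8SignC (xa 1) = -1 := by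
  have : q8Sign (xa 1) = -1 := by decide
  simp [q8SignC, this]
theorem q8SignC_xa2 : q8SignC (xa 2) = 1 := by
  have : q8Sign (xa 2) = 1 := by decide
  simp [q8SignC, this]
theorem q8SignC_xa3 : q8SignC (xa 3) = -1 := by
  have : q8Sign (xa 3) = -1 := by decide
  simp [q8SignC, this]

variable {G : Type*} [Group G]

/-- Restriction to a quaternion subgroup of order 8 all of whose elements of order 4 have the same
character value `c`: `χ(1) + χ(t) - 2c` is a natural multiple of 8. -/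
theorem char_q8_mult {χ : G → ℂ} (hχ : IsCharacter G χ) (S : Subgroup G)
    (e : S ≃* QuaternionGroup 2) (c : ℂ)
    (hc : ∀ q : QuaternionGroup 2, q * q ≠ 1 → χ (e.symm q : G) = c) :
    ∃ n : ℕ, χ 1 + χ (e.symm (a 2) : G) - 2 * c = 8 * (n : ℂ) := by
  classical
  haveI : Fintype S := Fintype.ofEquiv _ e.symm.toEquiv
  let φ : S →* ℂ := q8SignC.comp e.toMonoidHom
  obtain ⟨n, hn⟩ := Helper15.isCharacter_inner_nat (Helper74.isCharacter_restrict S hχ)
    (Helper15.isCharacter_of_hom φ).1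
  refine ⟨n, ?_⟩
  rw [classInner] at hn
  have hcard : Nat.card S = 8 := by
    rw [Nat.card_congr e.toEquiv, Nat.card_eq_fintype_card, QuaternionGroup.card]
  rw [hcard] at hn
  have hsum : ∑ s : S, χ (s : G) * conj ((φ : S → ℂ) s) =
      ∑ q : QuaternionGroup 2, χ (e.symm q : G) * conj (q8SignC q) := by
    apply Fintype.sum_equiv e.toEquiv
    intro s
    show χ (s : G) * conj (q8SignC (e s)) = χ (e.symm (e s) : G) * conj (q8SignC (e s))
    rw [MulEquiv.symm_apply_apply]
  have hn' : ((8 : ℕ) : ℂ)⁻¹ * ∑ s : S, χ (s : G) * conj ((φ : S → ℂ) s) = n := hn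
  rw [hsum, q8_sum_univ] at hn'
  rw [q8SignC_a0, q8SignC_a1, q8SignC_a2, q8SignC_a3, q8SignC_xa0, q8SignC_xa1, q8SignC_xa2,
    q8SignC_xa3] at hn'
  rw [hc (a 1) (by decide), hc (a 3) (by decide), hc (xa 0) (by decide), hc (xa 1) (by decide),
    hc (xa 2) (by decide), hc (xa 3) (by decide)] at hn'
  have h1 : (e.symm (a 0) : G) = 1 := by
    have : (a 0 : QuaternionGroup 2) = 1 := rfl
    rw [this, map_one]; rfl
  rw [h1] at hn'
  simp only [map_one, map_neg] at hn'
  have h8 : ((8 : ℕ) : ℂ) ≠ 0 := by norm_num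
  have := congrArg (fun z => ((8 : ℕ) : ℂ) * z) hn'
  simp only [← mul_assoc, mul_inv_cancel₀ h8, one_mul] at this
  push_cast at this
  linear_combination this

/-- Restriction to a cyclic subgroup `⟨u⟩` of order 4 with `χ(u³) = χ(u)`: `χ(1) - χ(u²)` is a natural
multiple of 4. -/
theorem char_c4_mult {χ : G → ℂ} (hχ : IsCharacter G χ) (u : G) (hu : orderOf u = 4)
    (hreal : χ (u ^ 3) = χ u) : ∃ m : ℕ, χ 1 - χ (u ^ 2) = 4 * (m : ℂ) := by
  classical
  have hfin : IsOfFinOrder u := orderOf_pos_iff.mp (by omega)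
  obtain ⟨H, hHdef⟩ : ∃ H : Subgroup G, H = Subgroup.zpowers u := ⟨_, rfl⟩
  have huH : u ∈ H := by rw [hHdef]; exact Subgroup.mem_zpowers u
  let E : Fin 4 ≃ H := ((finCongr hu.symm).trans (finEquivZPowers hfin)).trans
    (Equiv.setCongr (by rw [hHdef]))
  haveI : Fintype H := Fintype.ofEquiv _ E
  have hE : ∀ k : Fin 4, ((E k : H) : G) = u ^ (k : ℕ) := by
    intro k
    rfl
  obtain ⟨g, hgdef⟩ : ∃ g : H, g = ⟨u, huH⟩ := ⟨_, rfl⟩
  have hgu : (g : G) = u := by rw [hgdef]
  have hgen : ∀ x : H, x ∈ Subgroup.zpowers g := by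
    intro x
    have hx : (x : G) ∈ Subgroup.zpowers u := by rw [← hHdef]; exact x.2
    obtain ⟨k, hk⟩ := Subgroup.mem_zpowers_iff.mp hx
    rw [Subgroup.mem_zpowers_iff]
    refine ⟨k, ?_⟩
    apply Subtype.ext
    rw [Subgroup.coe_zpow, hgu, hk]
  have hgo : orderOf g = 4 := by
    rw [← hu, ← hgu, Subgroup.orderOf_coe]
  obtain ⟨I', hI'⟩ : ∃ I' : ℂˣ, (I' : ℂ) = Complex.I :=
    ⟨⟨Complex.I, -Complex.I, by simp, by simp⟩, rfl⟩
  have hI4 : I' ^ 4 = 1 := by
    apply Units.ext
    rw [Units.val_pow_eq_pow_val, hI', Complex.I_pow_four]; rfl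
  have hdvd : orderOf I' ∣ orderOf g := by
    rw [hgo]; exact orderOf_dvd_of_pow_eq_one hI4
  let φ₀ : H →* ℂˣ := monoidHomOfForallMemZpowers hgen hdvd
  let φ : H →* ℂ := (Units.coeHom ℂ).comp φ₀
  have hφg : φ g = Complex.I := by
    show ((φ₀ g : ℂˣ) : ℂ) = Complex.I
    rw [monoidHomOfForallMemZpowers_apply_gen, hI']
  have hφ : ∀ k : Fin 4, (φ : H → ℂ) (E k) = Complex.I ^ (k : ℕ) := by
    intro k
    have : E k = g ^ (k : ℕ) := by
      apply Subtype.ext
      rw [hE, Subgroup.coe_pow, hgu]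
    rw [this, map_pow, hφg]
  obtain ⟨m, hm⟩ := Helper15.isCharacter_inner_nat (Helper74.isCharacter_restrict H hχ)
    (Helper15.isCharacter_of_hom φ).1
  refine ⟨m, ?_⟩
  rw [classInner] at hm
  have hcard : Nat.card H = 4 := by
    rw [Nat.card_congr E.symm, Nat.card_eq_fintype_card, Fintype.card_fin]
  rw [hcard] at hm
  have hsum : ∑ s : H, χ (s : G) * conj ((φ : H → ℂ) s) =
      ∑ k : Fin 4, χ (u ^ (k : ℕ)) * conj (Complex.I ^ (k : ℕ)) := by
    symm
    apply Fintype.sum_equiv E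
    intro k
    rw [hφ k, hE k]
  have hm' : ((4 : ℕ) : ℂ)⁻¹ * ∑ s : H, χ (s : G) * conj ((φ : H → ℂ) s) = m := hm
  rw [hsum, Fin.sum_univ_four] at hm'
  simp only [Fin.val_zero, Fin.val_one, Fin.val_two, pow_zero, pow_one, map_one] at hm'
  have h3 : ((3 : Fin 4) : ℕ) = 3 := rfl
  rw [h3, hreal] at hm'
  have hI2 : conj (Complex.I ^ 2) = -1 := by
    rw [Complex.I_sq, map_neg, map_one]
  have hI3 : conj (Complex.I ^ 3) = Complex.I := by
    rw [Complex.I_pow_three, map_neg, Complex.conj_I, neg_neg]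
  rw [hI2, hI3, Complex.conj_I] at hm'
  have h4 : ((4 : ℕ) : ℂ) ≠ 0 := by norm_num
  have := congrArg (fun z => ((4 : ℕ) : ℂ) * z) hm'
  simp only [← mul_assoc, mul_inv_cancel₀ h4, one_mul] at this
  push_cast at this
  linear_combination this

end Cfsg.Agent.Helper20
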