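import Mathlib.GroupTheory.PGroup
import Mathlib.GroupTheory.OrderOfElement
import Mathlib.Tactic

set_option autoImplicit false

/-!
Automorphisms of odd order of a 2-group stabilising a chain with steps of index two are trivial.
-/

namespace Cfsg.Agent.Helper20

variable {G : Type*} [Group G]

theorem mulAut_pow_succ_apply (φ : MulAut G) (j : ℕ) (g : G) : (φ ^ (j + 1)) g = φ ((φ ^ j) g) := by
  rw [pow_succ', MulAut.mul_apply]

/-- If `φ^k = 1` with `k` odd, `φ` fixes the 2-subgroup `N` pointwise and `g⁻¹ φ(g) ∈ N`, then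
`φ g = g`. -/
theorem odd_aut_fix_of_coset (φ : MulAut G) {k : ℕ} (hk : Odd k) (hφ : φ ^ k = 1) (N : Subgroup G)
    (hN : ∀ n ∈ N, φ n = n) (h2 : ∀ n ∈ N, ∃ e : ℕ, n ^ (2 ^ e) = 1) (g : G)
    (hg : g⁻¹ * φ g ∈ N) : φ g = g := by
  set n := g⁻¹ * φ g with hn
  have hφg : φ g = g * n := by rw [hn]; group
  have hpow : ∀ j : ℕ, (φ ^ j) g = g * n ^ j := by
    intro j
    induction j with
    | zero => simp
    | succ j ih =>
      rw [mulAut_pow_succ_apply, ih, map_mul, map_pow, hN n hg, hφg, mul_assoc, ← pow_succ']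
  have h1 : g * n ^ k = g := by
    rw [← hpow k, hφ]; rfl
  have hnk : n ^ k = 1 := by
    have := mul_left_cancel (a := g) (b := n ^ k) (c := 1) (by rw [h1, mul_one])
    exact this
  obtain ⟨e, he⟩ := h2 n hg
  have hd1 : orderOf n ∣ k := orderOf_dvd_of_pow_eq_one hnk
  have hd2 : orderOf n ∣ 2 ^ e := orderOf_dvd_of_pow_eq_one he
  have hco : Nat.Coprime k (2 ^ e) := by
    apply Nat.Coprime.pow_right
    exact (Nat.coprime_comm.mp ((Nat.Prime.coprime_iff_not_dvd Nat.prime_two).mpr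
      (fun h => (Nat.not_even_iff_odd.mpr hk) (even_iff_two_dvd.mpr h))))
  have h3 : orderOf n = 1 := Nat.eq_one_of_dvd_coprimes hco hd1 hd2
  have hn1 : n = 1 := orderOf_eq_one_iff.mp h3
  rw [hφg, hn1, mul_one]

/-- One step up a chain: `H ≤ K` of "index at most two", `φ` of odd order fixing `H` pointwise and
preserving `K` fixes `K` pointwise. -/
theorem odd_aut_fix_of_index_two (φ : MulAut G) {k : ℕ} (hk : Odd k) (hφ : φ ^ k = 1)
    (H K : Subgroup G) (hHfix : ∀ h ∈ H, φ h = h) (hKinv : ∀ g ∈ K, φ g ∈ K)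
    (h2 : ∀ n ∈ H, ∃ e : ℕ, n ^ (2 ^ e) = 1)
    (hidx : ∀ a ∈ K, ∀ b ∈ K, a ∉ H → b ∉ H → a⁻¹ * b ∈ H) : ∀ g ∈ K, φ g = g := by
  intro g hg
  by_cases hgH : g ∈ H
  · exact hHfix g hgH
  · have h1 : φ g ∉ H := by
      intro hm
      have h3 : φ (φ g) = φ g := hHfix _ hm
      have h4 : φ g = g := φ.injective h3
      exact hgH (h4 ▸ hm)
    exact odd_aut_fix_of_coset φ hk hφ H hHfix h2 g (hidx g hg (φ g) (hKinv g hg) hgH h1)

/-- If every automorphism of odd order is trivial then the automorphism group is a 2-group. -/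
theorem isPGroup_two_mulAut_of_odd_trivial [Finite G]
    (h : ∀ ψ : MulAut G, ∀ k : ℕ, Odd k → ψ ^ k = 1 → ψ = 1) : IsPGroup 2 (MulAut G) := by
  intro φ
  have hpos : 0 < orderOf φ := orderOf_pos φ
  obtain ⟨v, o, ho, hm⟩ := Nat.exists_eq_two_pow_mul_odd (Nat.pos_iff_ne_zero.mp hpos)
  refine ⟨v, ?_⟩
  apply h (φ ^ (2 ^ v)) o ho
  rw [← pow_mul, ← hm, pow_orderOf_eq_one]

end Cfsg.Agent.Helper20
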