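-- helper20: automorphisms of abelian 2-groups: odd automorphisms fixing all involutions are trivial;
-- bound on |Aut| when the involutions form a Klein four-group.
import Cfsg.Agent.Helper20.OddAut
import Cfsg.Agent.Helper17.Klein

set_option autoImplicit false

namespace Cfsg.Agent.Helper20

theorem mulAut_pow_fix {G : Type*} [Group G] (φ : MulAut G) {u : G} (h : φ u = u) (j : ℕ) :
    (φ ^ j) u = u := by
  induction j with
  | zero => simp
  | succ j ih => rw [mulAut_pow_succ_apply, ih, h]

/-- An automorphism of odd order of a commutative 2-group fixing every element of square one is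
trivial. -/
theorem odd_aut_trivial_of_fix_involutions {U : Type*} [Group U]
    (hcomm : ∀ a b : U, a * b = b * a)
    (h2 : ∀ u : U, ∃ e : ℕ, u ^ (2 ^ e) = 1) (φ : MulAut U) {k : ℕ} (hk : Odd k) (hφ : φ ^ k = 1)
    (hfix : ∀ u : U, u ^ 2 = 1 → φ u = u) : φ = 1 := by
  have key : ∀ e : ℕ, ∀ u : U, u ^ (2 ^ e) = 1 → φ u = u := by
    intro e
    induction e with
    | zero => intro u hu; rw [pow_zero, pow_one] at hu; rw [hu, map_one]
    | succ e ih =>
      intro u hu
      let N : Subgroup U :=
        { carrier := {v | v ^ (2 ^ e) = 1}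
          one_mem' := one_pow _
          mul_mem' := fun {a b} ha hb => by
            simp only [Set.mem_ofPred_eq] at *
            rw [(show Commute a b from hcomm a b).mul_pow, ha, hb, one_mul]
          inv_mem' := fun {a} ha => by
            simp only [Set.mem_ofPred_eq] at *
            rw [inv_pow, ha, inv_one] }
      apply odd_aut_fix_of_coset φ hk hφ N (fun n hn => ih n hn) (fun n _ => h2 n) u
      show (u⁻¹ * φ u) ^ (2 ^ e) = 1
      rw [(show Commute u⁻¹ (φ u) from hcomm _ _).mul_pow, inv_pow, ← map_pow,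
        hfix (u ^ 2 ^ e) (by rw [← pow_mul, ← pow_succ]; exact hu), inv_mul_cancel]
  ext u
  obtain ⟨e, he⟩ := h2 u
  exact key e u he

/-- If the elements of square one of a finite commutative 2-group `U` form a Klein four-group then
`|Aut U|` divides `2^k * 6` for some `k`. -/
theorem card_mulAut_dvd_of_kleinFour_omega {U : Type*} [Group U] [Finite U]
    (hcomm : ∀ a b : U, a * b = b * a)
    (h2 : ∀ u : U, ∃ e : ℕ, u ^ (2 ^ e) = 1)
    (Ω : Subgroup U) (hΩ : ∀ u : U, u ∈ Ω ↔ u ^ 2 = 1) (hK : IsKleinFour Ω) :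
    ∃ k : ℕ, Nat.card (MulAut U) ∣ 2 ^ k * 6 := by
  haveI : Ω.Characteristic := by
    rw [Subgroup.characteristic_iff_le_comap]
    intro φ u hu
    rw [Subgroup.mem_comap, hΩ]
    show (φ u) ^ 2 = 1
    rw [← map_pow, (hΩ u).mp hu, map_one]
  have hker : IsPGroup 2 (MulAut.characteristic Ω).ker := by
    rintro ⟨φ, hφ⟩
    obtain ⟨v, o, ho, hm⟩ := Nat.exists_eq_two_pow_mul_odd (orderOf_pos φ).ne'
    refine ⟨v, ?_⟩
    apply Subtype.ext
    show φ ^ (2 ^ v) = 1
    apply odd_aut_trivial_of_fix_involutions hcomm h2 (φ ^ 2 ^ v) ho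
      (by rw [← pow_mul, ← hm, pow_orderOf_eq_one])
    intro u hu
    have h1 : φ u = u := by
      have := congrArg (fun ψ : MulAut Ω => ((ψ ⟨u, (hΩ u).mpr hu⟩ : Ω) : U))
        (MonoidHom.mem_ker.mp hφ)
      simpa using this
    exact mulAut_pow_fix φ h1 _
  obtain ⟨k, hk⟩ := IsPGroup.iff_card.mp hker
  refine ⟨k, ?_⟩
  have h1 := Subgroup.card_mul_index (MulAut.characteristic Ω).ker
  rw [Subgroup.index_ker, hk] at h1
  rw [← h1]
  apply Nat.mul_dvd_mul_left
  haveI := hK
  exact (Subgroup.card_subgroup_dvd_card (MulAut.characteristic Ω).range).trans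
    Cfsg.Agent.Helper17.card_mulAut_kleinFour_dvd

end Cfsg.Agent.Helper20
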