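-- helper20: general lemmas on the index |N_G(H) : C_G(H)| and related relIndex computations
-- (self-contained copies of lemmas first written for S1203).
import Mathlib
import Cfsg.Agent.S3742

set_option autoImplicit false

namespace Cfsg.Agent.Helper20

open Subgroup

variable {G : Type*} [Group G]

theorem two_dvd_relIndex_of_two_elt [Finite G] (M N : Subgroup G) [hn : (M.subgroupOf N).Normal]
    (s : G) (hsN : s ∈ N) (hsM : s ∉ M) (a : ℕ) (hs : s ^ (2 ^ a) = 1) : 2 ∣ M.relIndex N := by
  by_contra h2
  have hodd : Nat.Coprime (M.relIndex N) (2 ^ a) := by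
    apply Nat.Coprime.pow_right
    exact ((Nat.Prime.coprime_iff_not_dvd Nat.prime_two).mpr h2).symm
  have h1 : (⟨s, hsN⟩ : N) ^ (M.subgroupOf N).index ∈ M.subgroupOf N := Subgroup.pow_index_mem _ _
  have h1' : s ^ (M.relIndex N) ∈ M := by
    rw [Subgroup.mem_subgroupOf] at h1
    simpa [Subgroup.relIndex] using h1
  have hco : Nat.Coprime (M.relIndex N) (orderOf s) :=
    Nat.Coprime.coprime_dvd_right (orderOf_dvd_of_pow_eq_one hs) hodd
  obtain ⟨m, hm⟩ := exists_pow_eq_self_of_coprime hco
  apply hsM
  rw [← hm]
  exact Subgroup.pow_mem _ h1' m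

theorem eq_two_or_six {d : ℕ} (h6 : d ∣ 6) (h2 : 2 ∣ d) : d = 2 ∨ d = 6 := by
  have hle : d ≤ 6 := Nat.le_of_dvd (by norm_num) h6
  interval_cases d <;> omega

theorem relIndex_centralizer_normalizer_dvd [Finite G] (H : Subgroup G) :
    (centralizer (H : Set G)).relIndex (normalizer (H : Set G)) ∣ Nat.card (MulAut H) := by
  have key := Subgroup.card_dvd_of_injective _ (QuotientGroup.kerLift_injective H.normalizerMonoidHom)
  rwa [normalizerMonoidHom_ker, ← index, ← relIndex] at key

instance centralizer_normal_in_normalizer (H : Subgroup G) :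
    ((centralizer (H : Set G)).subgroupOf (normalizer (H : Set G))).Normal := by
  rw [← normalizerMonoidHom_ker]; infer_instance

theorem isKleinFour_of_equiv {A B : Type*} [Group A] [Group B] (e : A ≃* B) (hB : IsKleinFour B) :
    IsKleinFour A :=
  ⟨by rw [Nat.card_congr e.toEquiv]; exact hB.card_four,
   by rw [Monoid.exponent_eq_of_mulEquiv e]; exact hB.exponent_two⟩

/-- transfer of normalizer membership from `S` to `G`. -/
theorem coe_mem_normalizer_of_subgroupOf {S H : Subgroup G} (hHS : H ≤ S) {s : S}
    (hs : s ∈ normalizer ((H.subgroupOf S : Subgroup S) : Set S)) :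
    (s : G) ∈ normalizer (H : Set G) := by
  rw [mem_normalizer_iff] at hs ⊢
  intro h
  constructor
  · intro hh
    have := (hs ⟨h, hHS hh⟩).mp (by rw [mem_subgroupOf]; exact hh)
    rw [mem_subgroupOf] at this
    simpa using this
  · intro hh
    have hS' : h ∈ S := by
      have h1 : (s : G) * h * (s : G)⁻¹ ∈ S := hHS hh
      have : h = (s : G)⁻¹ * ((s : G) * h * (s : G)⁻¹) * (s : G) := by group
      rw [this]
      exact S.mul_mem (S.mul_mem (S.inv_mem s.2) h1) s.2
    have := (hs ⟨h, hS'⟩).mpr (by rw [mem_subgroupOf]; simpa using hh)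
    rw [mem_subgroupOf] at this
    simpa using this

theorem card_center_quaternion8 : Nat.card (Subgroup.center (QuaternionGroup 2)) = 2 := by
  rw [Nat.card_eq_fintype_card]
  decide

theorem card_mulAut_quaternion8 : Nat.card (MulAut (QuaternionGroup 2)) = 24 := by
  obtain ⟨e⟩ := Cfsg.Agent.S3742.result
  rw [Nat.card_congr e.toEquiv, Nat.card_eq_fintype_card, Fintype.card_perm, Fintype.card_fin]
  rfl

theorem subgroupOf_centralizer_self_eq_center (Q : Subgroup G) :
    (centralizer (Q : Set G)).subgroupOf Q = Subgroup.center Q := by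
  ext x
  rw [mem_subgroupOf, mem_centralizer_iff, Subgroup.mem_center_iff]
  constructor
  · intro h g
    apply Subtype.ext
    simpa using h g g.2
  · intro h g hg
    have := congrArg Subtype.val (h ⟨g, hg⟩)
    simpa using this

theorem relIndex_centralizer_quaternion8 [Finite G] (Q : Subgroup G) (eQ : Q ≃* QuaternionGroup 2) :
    (centralizer (Q : Set G)).relIndex Q = 4 := by
  rw [Subgroup.relIndex, subgroupOf_centralizer_self_eq_center]
  have h1 := Subgroup.card_mul_index (Subgroup.center Q)
  have h2 : Nat.card (Subgroup.center Q) = 2 := by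
    rw [Nat.card_congr (Subgroup.centerCongr eQ).toEquiv]; exact card_center_quaternion8
  have h3 : Nat.card Q = 8 := by
    rw [Nat.card_congr eQ.toEquiv, Nat.card_eq_fintype_card, QuaternionGroup.card]
  rw [h2, h3] at h1
  omega

/-- `|HK : K| = |H : H ∩ K|` when `H` normalizes `K`. -/
theorem relIndex_sup_of_le_normalizer (H K : Subgroup G) (hHK : H ≤ normalizer (K : Set G)) :
    K.relIndex (H ⊔ K) = K.relIndex H := by
  have hKN : K ≤ normalizer (K : Set G) := le_normalizer
  have hMN : H ⊔ K ≤ normalizer (K : Set G) := sup_le hHK hKN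
  haveI : (K.subgroupOf (normalizer (K : Set G))).Normal := Subgroup.normal_in_normalizer
  rw [← relIndex_subgroupOf hMN, subgroupOf_sup hHK hKN, relIndex_sup_right, relIndex_subgroupOf hHK]

theorem le_normalizer_centralizer_self (Q : Subgroup G) :
    Q ≤ normalizer ((centralizer (Q : Set G) : Subgroup G) : Set G) := by
  have hCN : centralizer (Q : Set G) ≤ normalizer (Q : Set G) := centralizer_le_normalizer _
  exact le_normalizer.trans
    ((normal_subgroupOf_iff_le_normalizer hCN).mp (centralizer_normal_in_normalizer Q))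

theorem relIndex_centralizer_sup_self (Q : Subgroup G) :
    (centralizer (Q : Set G)).relIndex (Q ⊔ centralizer (Q : Set G)) =
      (centralizer (Q : Set G)).relIndex Q :=
  relIndex_sup_of_le_normalizer Q _ (le_normalizer_centralizer_self Q)

instance sup_centralizer_normal_in_normalizer (Q : Subgroup G) :
    ((Q ⊔ centralizer (Q : Set G)).subgroupOf (normalizer (Q : Set G))).Normal := by
  have hQN : Q ≤ normalizer (Q : Set G) := le_normalizer
  have hCN : centralizer (Q : Set G) ≤ normalizer (Q : Set G) := centralizer_le_normalizer _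
  rw [subgroupOf_sup hQN hCN]
  infer_instance

end Cfsg.Agent.Helper20
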