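import Cfsg.Agent.Helper20.QD2
import Mathlib.GroupTheory.SpecificGroups.KleinFour

set_option autoImplicit false

namespace Cfsg.Agent.Helper20

/-- A subgroup with four elements containing distinct non-identity `a`, `b` (with `b² = 1`)
consists of `1, a, b, a*b`. -/
theorem four_group_elems {G : Type*} [Group G] (T : Subgroup G) (hcard : Nat.card T = 4) {a b : G}
    (ha : a ∈ T) (hb : b ∈ T) (ha1 : a ≠ 1) (hb1 : b ≠ 1) (hab : a ≠ b) (hb2 : b * b = 1) :
    ∀ t ∈ T, t = 1 ∨ t = a ∨ t = b ∨ t = a * b := by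
  classical
  have hfin : Finite T := Nat.finite_of_card_ne_zero (by omega)
  have : Fintype T := Fintype.ofFinite T
  have hbi : b⁻¹ = b := inv_eq_of_mul_eq_one_right hb2
  have h1 : (1 : T) ≠ ⟨a, ha⟩ := fun h => ha1 (congrArg Subtype.val h).symm
  have h2 : (1 : T) ≠ ⟨b, hb⟩ := fun h => hb1 (congrArg Subtype.val h).symm
  have h3 : (1 : T) ≠ ⟨a * b, T.mul_mem ha hb⟩ := by
    intro h
    have : a * b = 1 := (congrArg Subtype.val h).symm
    apply hab
    rw [eq_inv_of_mul_eq_one_left this, hbi]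
  have h4 : (⟨a, ha⟩ : T) ≠ ⟨b, hb⟩ := fun h => hab (congrArg Subtype.val h)
  have h5 : (⟨a, ha⟩ : T) ≠ ⟨a * b, T.mul_mem ha hb⟩ := by
    intro h
    have : a = a * b := congrArg Subtype.val h
    apply hb1
    exact (mul_eq_left.mp this.symm)
  have h6 : (⟨b, hb⟩ : T) ≠ ⟨a * b, T.mul_mem ha hb⟩ := by
    intro h
    have : b = a * b := congrArg Subtype.val h
    apply ha1
    exact (mul_eq_right.mp this.symm)
  let s : Finset T := {1, ⟨a, ha⟩, ⟨b, hb⟩, ⟨a * b, T.mul_mem ha hb⟩}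
  have hs : s.card = 4 := by
    rw [Finset.card_insert_of_notMem, Finset.card_insert_of_notMem, Finset.card_pair h6]
    · simp only [Finset.mem_insert, Finset.mem_singleton, not_or]
      exact ⟨h4, h5⟩
    · simp only [Finset.mem_insert, Finset.mem_singleton, not_or]
      exact ⟨h1, h2, h3⟩
  have huniv : s = Finset.univ :=
    Finset.eq_univ_of_card s (by rw [hs, ← Nat.card_eq_fintype_card, hcard])
  intro t ht
  have hm : (⟨t, ht⟩ : T) ∈ s := by rw [huniv]; exact Finset.mem_univ _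
  simp only [s, Finset.mem_insert, Finset.mem_singleton] at hm
  rcases hm with h | h | h | h
  · left; exact congrArg Subtype.val h
  · right; left; exact congrArg Subtype.val h
  · right; right; left; exact congrArg Subtype.val h
  · right; right; right; exact congrArg Subtype.val h

theorem kleinFour_sq {G : Type*} [Group G] {T : Subgroup G} (hT : IsKleinFour T) {t : G}
    (ht : t ∈ T) : t * t = 1 := by
  have h := Monoid.pow_exponent_eq_one (⟨t, ht⟩ : T)
  rw [hT.exponent_two, pow_two] at h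
  exact congrArg Subtype.val h

/-- In a group of order four there are two distinct non-identity elements. -/
theorem exists_two_of_card_four {G : Type*} [Group G] (T : Subgroup G) (hcard : Nat.card T = 4) :
    ∃ a b : G, a ∈ T ∧ b ∈ T ∧ a ≠ 1 ∧ b ≠ 1 ∧ a ≠ b := by
  classical
  have hfin : Finite T := Nat.finite_of_card_ne_zero (by omega)
  have : Fintype T := Fintype.ofFinite T
  have hc : Fintype.card T = 4 := by rw [← Nat.card_eq_fintype_card, hcard]
  have h1 : 1 < Fintype.card T := by omega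
  obtain ⟨a, ha⟩ := Fintype.exists_ne_of_one_lt_card h1 (1 : T)
  have h2 : ({1, a} : Finset T).card < Fintype.card T := by
    rw [Finset.card_pair ha.symm, hc]; norm_num
  obtain ⟨b, hb⟩ : ∃ b : T, b ∉ ({1, a} : Finset T) := by
    by_contra hcon
    simp only [not_exists, not_not] at hcon
    have : ({1, a} : Finset T) = Finset.univ := Finset.eq_univ_iff_forall.mpr hcon
    rw [this, Finset.card_univ] at h2
    exact lt_irrefl _ h2
  simp only [Finset.mem_insert, Finset.mem_singleton, not_or] at hb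
  refine ⟨a, b, a.2, b.2, ?_, ?_, ?_⟩
  · intro h; exact ha (Subtype.ext h)
  · intro h; exact hb.1 (Subtype.ext h)
  · intro h; exact hb.2 (Subtype.ext h.symm)

namespace QDData

variable {S : Type*} [Group S] {k : ℕ} {x y : S}

/-- `8P ∣ a (2 - 4P) ↔ 4P ∣ a` -/
theorem dvd_cancel (k : ℕ) (a : ℤ) :
    (8 * 2 ^ k : ℤ) ∣ a * (2 - 4 * 2 ^ k) ↔ (4 * 2 ^ k : ℤ) ∣ a := by
  constructor
  · intro h
    have h1 : (8 * 2 ^ k : ℤ) ∣ a * (2 - 4 * 2 ^ k) * (1 + 2 * 2 ^ k + 4 * 2 ^ k * 2 ^ k) :=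
      Dvd.dvd.mul_right h _
    have h2 : a * (2 - 4 * 2 ^ k) * (1 + 2 * 2 ^ k + 4 * 2 ^ k * 2 ^ k)
        = 2 * a - 8 * 2 ^ k * (2 * a * 2 ^ k * 2 ^ k) := by ring
    rw [h2] at h1
    have h3 : (8 * 2 ^ k : ℤ) ∣ 2 * a := by
      have := Dvd.dvd.add h1 (Dvd.intro (2 * a * 2 ^ k * 2 ^ k) rfl)
      simpa using this
    obtain ⟨c, hc⟩ := h3
    exact ⟨c, by linarith⟩
  · rintro ⟨c, rfl⟩
    exact ⟨c * (1 - 2 * 2 ^ k), by ring⟩

/-- explicit conjugation shifting the exponent by `2c` -/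
theorem conj_shift (h : QDData S k x y) (i c : ℤ) :
    x ^ (c * (1 + 2 * 2 ^ k + 4 * 2 ^ k * 2 ^ k)) * (x ^ i * y) *
      (x ^ (c * (1 + 2 * 2 ^ k + 4 * 2 ^ k * 2 ^ k)))⁻¹ = x ^ (i + 2 * c) * y := by
  rw [h.conj_xpow_y_by_xpow, h.xpow_y_eq_iff]
  exact ⟨-(2 * c * 2 ^ k * 2 ^ k), by ring⟩

theorem xpow_comm_xpow_y_iff (h : QDData S k x y) (i j : ℤ) :
    x ^ i * (x ^ j * y) = (x ^ j * y) * x ^ i ↔ (4 * 2 ^ k : ℤ) ∣ i := by
  rw [xpow_mul_xpow_y, h.xpow_mul_y_mul_xpow, h.xpow_y_eq_iff, ← dvd_cancel k i]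
  have : i + j - (j + (4 * 2 ^ k - 1) * i) = i * (2 - 4 * 2 ^ k) := by ring
  rw [this]

theorem xpow_y_comm_xpow_y_iff (h : QDData S k x y) (i j : ℤ) :
    (x ^ i * y) * (x ^ j * y) = (x ^ j * y) * (x ^ i * y) ↔ (4 * 2 ^ k : ℤ) ∣ i - j := by
  rw [h.xpow_y_mul_xpow_y, h.xpow_y_mul_xpow_y, h.xpow_eq_iff, ← dvd_cancel k (i - j)]
  have : i + (4 * 2 ^ k - 1) * j - (j + (4 * 2 ^ k - 1) * i) = (i - j) * (2 - 4 * 2 ^ k) := by ring
  rw [this]

/-- `z * x^i y = x^(i+4P) y` -/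
theorem z_mul_xpow_y (i : ℤ) :
    x ^ (4 * 2 ^ k : ℤ) * (x ^ i * y) = x ^ (i + 4 * 2 ^ k) * y := by
  rw [xpow_mul_xpow_y, add_comm]

/-- Structure of a Klein four-subgroup of a quasi-dihedral group. -/
theorem kleinFour_structure (h : QDData S k x y) (T : Subgroup S) (hT : IsKleinFour T) :
    x ^ (4 * 2 ^ k : ℤ) ∈ T ∧ ∃ c : ℤ, x ^ (2 * c) * y ∈ T ∧
      ∀ t ∈ T, t = 1 ∨ t = x ^ (4 * 2 ^ k : ℤ) ∨ t = x ^ (2 * c) * y ∨
        t = x ^ (2 * c + 4 * 2 ^ k) * y := by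
  have hcard : Nat.card T = 4 := hT.card_four
  obtain ⟨a, b, ha, hb, ha1, hb1, hab⟩ := exists_two_of_card_four T hcard
  have ha2 := (orderOf_eq_two_iff a).mpr ⟨kleinFour_sq hT ha, ha1⟩
  have hb2 := (orderOf_eq_two_iff b).mpr ⟨kleinFour_sq hT hb, hb1⟩
  -- z ∈ T and some x^(2c) y ∈ T
  have key : x ^ (4 * 2 ^ k : ℤ) ∈ T ∧ ∃ c : ℤ, x ^ (2 * c) * y ∈ T := by
    rcases (h.involution_iff a).mp ha2 with rfl | ⟨c, rfl⟩
    · rcases (h.involution_iff b).mp hb2 with rfl | ⟨d, rfl⟩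
      · exact absurd rfl hab
      · exact ⟨ha, d, hb⟩
    · refine ⟨?_, c, ha⟩
      rcases (h.involution_iff b).mp hb2 with rfl | ⟨d, rfl⟩
      · exact hb
      · -- the product is an involution in ⟨x⟩
        have hprod : (x ^ (2 * c) * y) * (x ^ (2 * d) * y) ∈ T := T.mul_mem ha hb
        have hne : (x ^ (2 * c) * y) * (x ^ (2 * d) * y) ≠ 1 := by
          intro h1
          apply hab
          have := eq_inv_of_mul_eq_one_left h1
          rw [this, inv_eq_of_mul_eq_one_right (kleinFour_sq hT hb)]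
        have ho := (orderOf_eq_two_iff _).mpr ⟨kleinFour_sq hT hprod, hne⟩
        rcases (h.involution_iff _).mp ho with h3 | ⟨e, h3⟩
        · rwa [h3] at hprod
        · rw [h.xpow_y_mul_xpow_y] at h3
          exact absurd h3 (h.xpow_ne_xpow_y _ _)
  obtain ⟨hz, c, hc⟩ := key
  refine ⟨hz, c, hc, ?_⟩
  have hzc : x ^ (4 * 2 ^ k : ℤ) ≠ x ^ (2 * c) * y := h.xpow_ne_xpow_y _ _
  have hsq : (x ^ (2 * c) * y) * (x ^ (2 * c) * y) = 1 := kleinFour_sq hT hc
  intro t ht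
  have := four_group_elems T hcard hz hc h.z_ne_one (h.xpow_y_ne_one _) hzc hsq t ht
  rwa [z_mul_xpow_y] at this

end QDData

end Cfsg.Agent.Helper20
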