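import Mathlib.GroupTheory.SpecificGroups.Quaternion
import Mathlib.Tactic

set_option autoImplicit false

/-!
Elementary facts on generalized quaternion groups `QuaternionGroup m`, `m ≥ 2`: central elements
square to one, involutions are central, the group is not commutative.
-/

namespace Cfsg.Agent.Helper20

open QuaternionGroup

theorem zmod_two_ne_zero (m : ℕ) (hm : 2 ≤ m) : (2 : ZMod (2 * m)) ≠ 0 := by
  intro h
  have h1 : ((2 : ℕ) : ZMod (2 * m)) = 0 := by exact_mod_cast h
  rw [ZMod.natCast_eq_zero_iff] at h1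
  have := Nat.le_of_dvd (by norm_num) h1
  omega

theorem zmod_m_ne_zero (m : ℕ) (hm : 1 ≤ m) : (m : ZMod (2 * m)) ≠ 0 := by
  intro h
  rw [ZMod.natCast_eq_zero_iff] at h
  have := Nat.le_of_dvd (by omega) h
  omega

theorem quat_center_sq (m : ℕ) (hm : 2 ≤ m) (q : QuaternionGroup m) (hq : ∀ g, g * q = q * g) :
    q * q = 1 := by
  rcases q with k | k
  · have h1 := hq (xa 0)
    rw [xa_mul_a, a_mul_xa] at h1
    have h2 : (0 : ZMod (2 * m)) + k = 0 - k := by injection h1
    rw [a_mul_a, one_def]
    congr 1
    linear_combination h2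
  · exfalso
    have h1 := hq (a 1)
    rw [a_mul_xa, xa_mul_a] at h1
    have h2 : k - 1 = k + 1 := by injection h1
    apply zmod_two_ne_zero m hm
    linear_combination -h2

theorem quat_involution_central (m : ℕ) (hm : 1 ≤ m) (q : QuaternionGroup m) (hq : q * q = 1) :
    ∀ g, g * q = q * g := by
  rcases q with k | k
  · rw [a_mul_a, one_def] at hq
    have h2 : k + k = 0 := by injection hq
    rintro (j | j)
    · rw [a_mul_a, a_mul_a, add_comm]
    · rw [xa_mul_a, a_mul_xa]
      congr 1
      linear_combination h2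
  · exfalso
    rw [xa_mul_xa, one_def] at hq
    have h2 : (m : ZMod (2 * m)) + k - k = 0 := by injection hq
    apply zmod_m_ne_zero m hm
    linear_combination h2

theorem quat_noncomm (m : ℕ) (hm : 2 ≤ m) : (a 1 : QuaternionGroup m) * xa 0 ≠ xa 0 * a 1 := by
  rw [a_mul_xa, xa_mul_a]
  intro h
  have h2 : (0 : ZMod (2 * m)) - 1 = 0 + 1 := by injection h
  apply zmod_two_ne_zero m hm
  linear_combination -h2

variable {G : Type*} [Group G] {m : ℕ}

theorem iso_center_sq (hm : 2 ≤ m) (e : G ≃* QuaternionGroup m) (q : G)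
    (hq : ∀ g, g * q = q * g) : q * q = 1 := by
  apply e.injective
  rw [map_mul, map_one]
  apply quat_center_sq m hm
  intro g
  have := congrArg e (hq (e.symm g))
  simpa using this

theorem iso_involution_central (hm : 1 ≤ m) (e : G ≃* QuaternionGroup m) (q : G)
    (hq : q * q = 1) : ∀ g, g * q = q * g := by
  intro g
  apply e.injective
  rw [map_mul, map_mul]
  exact quat_involution_central m hm (e q) (by rw [← map_mul, hq, map_one]) (e g)

theorem iso_noncomm (hm : 2 ≤ m) (e : G ≃* QuaternionGroup m) : ∃ p q : G, p * q ≠ q * p :=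
  ⟨e.symm (a 1), e.symm (xa 0), fun h => quat_noncomm m hm (by
    have := congrArg e h
    simpa using this)⟩

end Cfsg.Agent.Helper20
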