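-- helper20: element facts on subgroups isomorphic to the quaternion group of order 8.
import Cfsg.Agent.Helper20.QuatFacts

set_option autoImplicit false

namespace Cfsg.Agent.Helper20

open QuaternionGroup

theorem q8_sq (q : QuaternionGroup 2) : q * q = 1 ∨ q * q = a 2 := by
  revert q; decide

theorem q8_inv (q : QuaternionGroup 2) (h : q * q = 1) : q = 1 ∨ q = a 2 := by
  revert q; decide

theorem q8_c_ne_one : (a 2 : QuaternionGroup 2) ≠ 1 := by decide

theorem q8_c_sq : (a 2 : QuaternionGroup 2) * a 2 = 1 := by decide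

theorem q8_i_sq : (a 1 : QuaternionGroup 2) * a 1 = a 2 := by decide

theorem q8_c_central (q : QuaternionGroup 2) : q * a 2 = a 2 * q := by
  revert q; decide

/-- Element facts on a subgroup `Q ≅ Q₈`: there are `c, i ∈ Q` with `c ≠ 1`, `c² = 1`, `c` central
in `Q`, `i² = c`, every square in `Q` is `1` or `c`, and the only elements of square `1` are `1, c`. -/
theorem exists_q8_data {G : Type*} [Group G] (Q : Subgroup G) (eQ : Q ≃* QuaternionGroup 2) :
    ∃ c i : G, c ∈ Q ∧ i ∈ Q ∧ c ≠ 1 ∧ c * c = 1 ∧ (∀ q ∈ Q, q * c = c * q) ∧ i * i = c ∧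
      (∀ q ∈ Q, q * q = 1 ∨ q * q = c) ∧ (∀ q ∈ Q, q * q = 1 → q = 1 ∨ q = c) := by
  refine ⟨(eQ.symm (a 2) : Q), (eQ.symm (a 1) : Q), (eQ.symm (a 2)).2, (eQ.symm (a 1)).2,
    ?_, ?_, ?_, ?_, ?_, ?_⟩
  · intro h
    have h1 : eQ.symm (a 2) = 1 := Subtype.ext h
    have := congrArg eQ h1
    rw [MulEquiv.apply_symm_apply, map_one] at this
    exact q8_c_ne_one this
  · have : eQ.symm (a 2) * eQ.symm (a 2) = 1 := by
      rw [← map_mul, q8_c_sq, map_one]
    exact congrArg Subtype.val this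
  · intro q hq
    have : (⟨q, hq⟩ : Q) * eQ.symm (a 2) = eQ.symm (a 2) * ⟨q, hq⟩ := by
      apply eQ.injective
      rw [map_mul, map_mul, MulEquiv.apply_symm_apply]
      exact q8_c_central _
    exact congrArg Subtype.val this
  · have : eQ.symm (a 1) * eQ.symm (a 1) = eQ.symm (a 2) := by
      rw [← map_mul, q8_i_sq]
    exact congrArg Subtype.val this
  · intro q hq
    rcases q8_sq (eQ ⟨q, hq⟩) with h | h
    · left
      have : (⟨q, hq⟩ : Q) * ⟨q, hq⟩ = 1 := by
        apply eQ.injective; rw [map_mul, map_one]; exact h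
      exact congrArg Subtype.val this
    · right
      have : (⟨q, hq⟩ : Q) * ⟨q, hq⟩ = eQ.symm (a 2) := by
        apply eQ.injective; rw [map_mul, MulEquiv.apply_symm_apply]; exact h
      exact congrArg Subtype.val this
  · intro q hq hsq
    have h1 : eQ ⟨q, hq⟩ * eQ ⟨q, hq⟩ = 1 := by
      rw [← map_mul]
      have : (⟨q, hq⟩ : Q) * ⟨q, hq⟩ = 1 := Subtype.ext hsq
      rw [this, map_one]
    rcases q8_inv _ h1 with h | h
    · left
      have : (⟨q, hq⟩ : Q) = 1 := by
        apply eQ.injective; rw [map_one]; exact h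
      exact congrArg Subtype.val this
    · right
      have : (⟨q, hq⟩ : Q) = eQ.symm (a 2) := by
        apply eQ.injective; rw [MulEquiv.apply_symm_apply]; exact h
      exact congrArg Subtype.val this

/-- A subgroup isomorphic to `Q₈` has two non-commuting elements. -/
theorem exists_noncomm_q8 {G : Type*} [Group G] (Q : Subgroup G) (eQ : Q ≃* QuaternionGroup 2) :
    ∃ p ∈ Q, ∃ q ∈ Q, p * q ≠ q * p := by
  obtain ⟨p, q, hpq⟩ := iso_noncomm (le_refl 2) eQ
  exact ⟨p, p.2, q, q.2, fun h => hpq (Subtype.ext h)⟩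

end Cfsg.Agent.Helper20
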