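-- helper20: elements of order 3 in N/C acting on four-groups and quaternion groups; index-two lemmas.
import Cfsg.Agent.Helper20.NormIdx
import Cfsg.Agent.Helper20.Quat8
import Cfsg.Agent.Helper20.QD3
import Cfsg.Agent.Helper20.AutTwo

set_option autoImplicit false

namespace Cfsg.Agent.Helper20

open Subgroup

variable {G : Type*} [Group G]

/-- Cauchy in `N/M`. -/
theorem exists_pow_mem_of_prime_dvd_relIndex [Finite G] (M N : Subgroup G)
    [hn : (M.subgroupOf N).Normal] {p : ℕ} [hp : Fact p.Prime] (hd : p ∣ M.relIndex N) :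
    ∃ g ∈ N, g ∉ M ∧ g ^ p ∈ M := by
  have hcard : Nat.card (N ⧸ M.subgroupOf N) = M.relIndex N := by
    rw [← Subgroup.index_eq_card]; rfl
  obtain ⟨xq, hx⟩ := exists_prime_orderOf_dvd_card' (G := N ⧸ M.subgroupOf N) p (hcard ▸ hd)
  obtain ⟨g, rfl⟩ := QuotientGroup.mk_surjective xq
  refine ⟨g, g.2, ?_, ?_⟩
  · intro hgM
    have : (g : N ⧸ M.subgroupOf N) = 1 :=
      (QuotientGroup.eq_one_iff g).mpr (mem_subgroupOf.mpr hgM)
    rw [this, orderOf_one] at hx
    exact hp.out.ne_one hx.symm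
  · have h1 : ((g ^ p : N) : N ⧸ M.subgroupOf N) = 1 := by
      rw [QuotientGroup.mk_pow, ← hx, pow_orderOf_eq_one]
    have := (QuotientGroup.eq_one_iff (g ^ p)).mp h1
    simpa [mem_subgroupOf] using this

theorem conj_eq_one_imp {g t : G} (h : g * t * g⁻¹ = 1) : t = 1 := by
  have : t = g⁻¹ * (g * t * g⁻¹) * g := by group
  rw [this, h]; group

theorem kleinFour_comm {T : Subgroup G} (hT : IsKleinFour T) {a b : G} (ha : a ∈ T) (hb : b ∈ T) :
    a * b = b * a := by
  have h1 := kleinFour_sq hT ha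
  have h2 := kleinFour_sq hT hb
  have h3 := kleinFour_sq hT (T.mul_mem ha hb)
  calc a * b = a * (a * b * (a * b)) * b := by rw [h3, mul_one]
    _ = (a * a) * b * a * (b * b) := by group
    _ = b * a := by rw [h1, h2, one_mul, mul_one]

/-- If `g` normalizes a four-group and fixes one of its involutions then `g` or `g²` centralizes it. -/
theorem kleinFour_fix_imp_sq_centralizes {T : Subgroup G} (hT : IsKleinFour T) {g t : G}
    (hg : g ∈ normalizer (T : Set G)) (ht : t ∈ T) (ht1 : t ≠ 1) (hfix : g * t * g⁻¹ = t) :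
    g ∈ centralizer (T : Set G) ∨ g * g ∈ centralizer (T : Set G) := by
  obtain ⟨a, b, ha, hb, ha1, hb1, hab⟩ := exists_two_of_card_four T hT.card_four
  obtain ⟨t', ht', ht'1, ht't⟩ : ∃ t' ∈ T, t' ≠ 1 ∧ t' ≠ t := by
    by_cases h : a = t
    · exact ⟨b, hb, hb1, fun h' => hab (h.trans h'.symm)⟩
    · exact ⟨a, ha, ha1, h⟩
  have hel := four_group_elems T hT.card_four ht ht' ht1 ht'1 (Ne.symm ht't) (kleinFour_sq hT ht')
  have hgt' : g * t' * g⁻¹ ∈ T := (mem_normalizer_iff.mp hg t').mp ht'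
  have hcent : ∀ k : G, k * t * k⁻¹ = t → k * t' * k⁻¹ = t' → k ∈ centralizer (T : Set G) := by
    intro k h1 h2
    rw [mem_centralizer_iff]
    intro s hs
    have hconj : k * s * k⁻¹ = s := by
      rcases hel s hs with h | h | h | h
      · rw [h]; group
      · rw [h]; exact h1
      · rw [h]; exact h2
      · rw [h]
        calc k * (t * t') * k⁻¹ = (k * t * k⁻¹) * (k * t' * k⁻¹) := by group
          _ = t * t' := by rw [h1, h2]
    calc s * k = (k * s * k⁻¹) * k := by rw [hconj]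
      _ = k * s := by group
  rcases hel _ hgt' with h | h | h | h
  · exact absurd (conj_eq_one_imp h) ht'1
  · exfalso
    apply ht't
    have h3 : g * t' * g⁻¹ = g * t * g⁻¹ := h.trans hfix.symm
    exact mul_left_cancel (mul_right_cancel h3)
  · left; exact hcent g hfix h
  · right
    apply hcent
    · calc g * g * t * (g * g)⁻¹ = g * (g * t * g⁻¹) * g⁻¹ := by group
        _ = t := by rw [hfix, hfix]
    · calc g * g * t' * (g * g)⁻¹ = g * (g * t' * g⁻¹) * g⁻¹ := by group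
        _ = g * (t * t') * g⁻¹ := by rw [h]
        _ = (g * t * g⁻¹) * (g * t' * g⁻¹) := by group
        _ = t * (t * t') := by rw [hfix, h]
        _ = t' := by rw [← mul_assoc, kleinFour_sq hT ht, one_mul]

/-- If `g` normalizes a four-group and fixes none of its involutions, all its involutions are
conjugate. -/
theorem kleinFour_isConj_of_fpf {T : Subgroup G} (hT : IsKleinFour T) {g : G}
    (hg : g ∈ normalizer (T : Set G)) (hfpf : ∀ t ∈ T, t ≠ 1 → g * t * g⁻¹ ≠ t) :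
    ∀ t ∈ T, ∀ t' ∈ T, t ≠ 1 → t' ≠ 1 → IsConj t t' := by
  intro t ht t' ht' ht1 ht'1
  have ht₂ : g * t * g⁻¹ ∈ T := (mem_normalizer_iff.mp hg t).mp ht
  have ht₂1 : g * t * g⁻¹ ≠ 1 := fun h => ht1 (conj_eq_one_imp h)
  have ht₂t := hfpf t ht ht1
  have hel := four_group_elems T hT.card_four ht ht₂ ht1 ht₂1 (Ne.symm ht₂t) (kleinFour_sq hT ht₂)
  rcases hel t' ht' with h | h | h | h
  · exact absurd h ht'1
  · rw [h]
  · rw [h]; exact isConj_iff.mpr ⟨g, rfl⟩
  · have ht₃ : g * (g * t * g⁻¹) * g⁻¹ ∈ T := (mem_normalizer_iff.mp hg _).mp ht₂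
    rcases hel _ ht₃ with h3 | h3 | h3 | h3
    · exact absurd (conj_eq_one_imp h3) ht₂1
    · exfalso
      have hcomm : t * (g * t * g⁻¹) = (g * t * g⁻¹) * t := kleinFour_comm hT ht ht₂
      have hne1 : t * (g * t * g⁻¹) ≠ 1 := by
        intro h1
        apply ht₂t
        have h2 : g * t * g⁻¹ = t⁻¹ := eq_inv_of_mul_eq_one_right h1
        rw [h2]
        exact inv_eq_of_mul_eq_one_right (kleinFour_sq hT ht)
      apply hfpf (t * (g * t * g⁻¹)) (T.mul_mem ht ht₂) hne1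
      calc g * (t * (g * t * g⁻¹)) * g⁻¹ = (g * t * g⁻¹) * (g * (g * t * g⁻¹) * g⁻¹) := by group
        _ = (g * t * g⁻¹) * t := by rw [h3]
        _ = t * (g * t * g⁻¹) := hcomm.symm
    · exact absurd h3 (hfpf _ ht₂ ht₂1)
    · rw [h, ← h3]; exact isConj_iff.mpr ⟨g * g, by group⟩

/-- An element normalizing a commutative 2-group `U`, with an odd power centralizing `U`, and fixing
all elements of square one of `U`, centralizes `U`. -/
theorem mem_centralizer_of_fix_involutions (U : Subgroup G)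
    (hcomm : ∀ a ∈ U, ∀ b ∈ U, a * b = b * a) (h2 : ∀ u ∈ U, ∃ e : ℕ, u ^ 2 ^ e = 1) {g : G}
    (hg : g ∈ normalizer (U : Set G)) {k : ℕ} (hk : Odd k)
    (hgk : g ^ k ∈ centralizer (U : Set G))
    (hfix : ∀ u ∈ U, u * u = 1 → g * u * g⁻¹ = u) : g ∈ centralizer (U : Set G) := by
  obtain ⟨α, hα⟩ : ∃ α : MulAut U, α = U.normalizerMonoidHom ⟨g, hg⟩ := ⟨_, rfl⟩
  have h1 : α ^ k = 1 := by
    rw [hα, ← map_pow]
    have : (⟨g, hg⟩ : normalizer (U : Set G)) ^ k ∈ U.normalizerMonoidHom.ker := by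
      rw [normalizerMonoidHom_ker, mem_subgroupOf]
      simpa using hgk
    exact MonoidHom.mem_ker.mp this
  have happ : ∀ u : U, ((α u : U) : G) = g * u * g⁻¹ := by
    intro u; rw [hα]; rfl
  have h3 : α = 1 := by
    apply odd_aut_trivial_of_fix_involutions (fun a b => Subtype.ext (hcomm a a.2 b b.2))
      (fun u => by
        obtain ⟨e, he⟩ := h2 u u.2
        exact ⟨e, Subtype.ext (by rw [Subgroup.coe_pow]; exact he)⟩) α hk h1
    intro u hu
    apply Subtype.ext
    rw [happ]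
    apply hfix u u.2
    have := congrArg Subtype.val hu
    simpa [pow_two] using this
  have h4 : (⟨g, hg⟩ : normalizer (U : Set G)) ∈ U.normalizerMonoidHom.ker := by
    rw [MonoidHom.mem_ker, ← hα, h3]
  rw [normalizerMonoidHom_ker, mem_subgroupOf] at h4
  exact h4

/-! ### automorphisms of `Q₈` -/

open QuaternionGroup in
theorem q8_noncomm_cases (p q r : QuaternionGroup 2) (h : p * q ≠ q * p) (h' : p * r ≠ r * p) :
    r = q ∨ r = q⁻¹ ∨ r = p * q ∨ r = (p * q)⁻¹ := by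
  revert p q r; decide

theorem q8_words (p q r : QuaternionGroup 2) (h : p * q ≠ q * p) :
    r = 1 ∨ r = p ∨ r = p * p ∨ r = p⁻¹ ∨ r = q ∨ r = p * q ∨ r = p * p * q ∨ r = p⁻¹ * q := by
  revert p q r; decide

theorem q8_exists_noncomm (p : QuaternionGroup 2) (h : p * p ≠ 1) : ∃ q, p * q ≠ q * p := by
  revert p; decide

theorem q8_id1 (p q : QuaternionGroup 2) (h : p * q ≠ q * p) : p * (p * q) = p * q * p⁻¹ := by
  revert p q; decide

theorem q8_id2 (p q : QuaternionGroup 2) (h : p * q ≠ q * p) : p * q * p = q := by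
  revert p q; decide

theorem q8_hom_eq_conj (ψ : MulAut (QuaternionGroup 2)) (p q q₀ : QuaternionGroup 2)
    (hpq : p * q ≠ q * p) (h1 : ψ p = q₀ * p * q₀⁻¹) (h2 : ψ q = q₀ * q * q₀⁻¹) :
    ∀ r, ψ r = q₀ * r * q₀⁻¹ := by
  intro r
  rcases q8_words p q r hpq with h | h | h | h | h | h | h | h <;> rw [h] <;>
    simp only [map_one, map_mul, map_inv, h1, h2] <;> group

/-- An automorphism of `Q₈` stabilizing a cyclic subgroup of order 4 has inner square. -/
theorem q8_aut_sq_inner (φ : MulAut (QuaternionGroup 2)) (p : QuaternionGroup 2) (hp : p * p ≠ 1)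
    (hφ : φ p = p ∨ φ p = p⁻¹) :
    ∃ q₀ : QuaternionGroup 2, ∀ r, φ (φ r) = q₀ * r * q₀⁻¹ := by
  obtain ⟨q, hq⟩ := q8_exists_noncomm p hp
  have h1 : p * φ q ≠ φ q * p := by
    intro h
    apply hq
    apply φ.injective
    rw [map_mul, map_mul]
    rcases hφ with h' | h'
    · rw [h']; exact h
    · rw [h']
      exact ((show Commute p (φ q) from h).inv_left).eq
  have hφφp : φ (φ p) = p := by
    rcases hφ with h' | h'
    · rw [h', h']
    · rw [h', map_inv, h', inv_inv]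
  have key : ∀ q₀ : QuaternionGroup 2, q₀ * p * q₀⁻¹ = p → φ (φ q) = q₀ * q * q₀⁻¹ →
      ∃ q₀ : QuaternionGroup 2, ∀ r, φ (φ r) = q₀ * r * q₀⁻¹ := by
    intro q₀ hp₀ hq₀
    refine ⟨q₀, fun r => ?_⟩
    have := q8_hom_eq_conj (φ * φ) p q q₀ hq (by rw [MulAut.mul_apply, hφφp, hp₀])
      (by rw [MulAut.mul_apply, hq₀]) r
    rwa [MulAut.mul_apply] at this
  rcases q8_noncomm_cases p q (φ q) hq h1 with h2 | h2 | h2 | h2
  · apply key 1 (by group)
    rw [h2, h2]; group
  · apply key 1 (by group)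
    rw [h2, map_inv, h2, inv_inv]; group
  · rcases hφ with h' | h'
    · apply key p (by group)
      rw [h2, map_mul, h', h2]
      exact q8_id1 p q hq
    · apply key 1 (by group)
      rw [h2, map_mul, h', h2]; group
  · rcases hφ with h' | h'
    · apply key p (by group)
      rw [h2, map_inv, map_mul, h', h2]; group
    · apply key 1 (by group)
      rw [h2, map_inv, map_mul, h', h2]
      have := q8_id2 p q hq
      calc (p⁻¹ * (p * q)⁻¹)⁻¹ = p * q * p := by group
        _ = q := this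
        _ = 1 * q * 1⁻¹ := by group

/-- An element of `N(Q)`, `Q ≅ Q₈`, of order 3 modulo `Q C(Q)` normalizes no cyclic subgroup of
order 4 of `Q`. -/
theorem quat_normalizer_moves (Q : Subgroup G) (eQ : Q ≃* QuaternionGroup 2) {g : G}
    (hg : g ∈ normalizer (Q : Set G)) (hg3 : g ^ 3 ∈ Q ⊔ centralizer (Q : Set G))
    (hgM : g ∉ Q ⊔ centralizer (Q : Set G)) {i : G} (hi : i ∈ Q) (hi2 : i * i ≠ 1) :
    g * i * g⁻¹ ≠ i ∧ g * i * g⁻¹ ≠ i⁻¹ := by
  by_contra hcon
  have hcon' : g * i * g⁻¹ = i ∨ g * i * g⁻¹ = i⁻¹ := by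
    by_contra h
    simp only [not_or] at h
    exact hcon h
  obtain ⟨α, hα⟩ : ∃ α : MulAut Q, α = Q.normalizerMonoidHom ⟨g, hg⟩ := ⟨_, rfl⟩
  have happ : ∀ u : Q, ((α u : Q) : G) = g * u * g⁻¹ := by
    intro u; rw [hα]; rfl
  obtain ⟨φ, hφ⟩ : ∃ φ : MulAut (QuaternionGroup 2), φ = (eQ.symm.trans α).trans eQ := ⟨_, rfl⟩
  have hφapp : ∀ r, φ r = eQ (α (eQ.symm r)) := by
    intro r; rw [hφ]; rfl
  have hp2 : eQ ⟨i, hi⟩ * eQ ⟨i, hi⟩ ≠ 1 := by
    intro h
    apply hi2
    have h1 : (⟨i, hi⟩ : Q) * ⟨i, hi⟩ = 1 := by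
      apply eQ.injective; rw [map_mul, map_one]; exact h
    exact congrArg Subtype.val h1
  have hφp : φ (eQ ⟨i, hi⟩) = eQ ⟨i, hi⟩ ∨ φ (eQ ⟨i, hi⟩) = (eQ ⟨i, hi⟩)⁻¹ := by
    rw [hφapp, MulEquiv.symm_apply_apply]
    rcases hcon' with h | h
    · left
      congr 1
      apply Subtype.ext
      rw [happ]; exact h
    · right
      rw [← map_inv]
      congr 1
      apply Subtype.ext
      rw [happ]; exact h
  obtain ⟨q₀, hq₀⟩ := q8_aut_sq_inner φ _ hp2 hφp
  have hsq : ∀ r ∈ Q, g * (g * r * g⁻¹) * g⁻¹ = (eQ.symm q₀ : Q) * r * ((eQ.symm q₀ : Q) : G)⁻¹ := by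
    intro r hr
    have h1 := hq₀ (eQ ⟨r, hr⟩)
    rw [hφapp, hφapp, MulEquiv.symm_apply_apply, MulEquiv.symm_apply_apply] at h1
    have h2 : α (α ⟨r, hr⟩) = eQ.symm q₀ * ⟨r, hr⟩ * (eQ.symm q₀)⁻¹ := by
      apply eQ.injective
      rw [h1, map_mul, map_mul, map_inv, MulEquiv.apply_symm_apply]
    have h3 := congrArg Subtype.val h2
    rw [happ, happ] at h3
    simpa using h3
  have hc : ((eQ.symm q₀ : Q) : G)⁻¹ * (g * g) ∈ centralizer (Q : Set G) := by
    rw [mem_centralizer_iff]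
    intro r hr
    have h1 := hsq r hr
    have h2 : g * g * r = (eQ.symm q₀ : Q) * r * ((eQ.symm q₀ : Q) : G)⁻¹ * (g * g) := by
      rw [← h1]; group
    calc r * (((eQ.symm q₀ : Q) : G)⁻¹ * (g * g))
        = ((eQ.symm q₀ : Q) : G)⁻¹ * ((eQ.symm q₀ : Q) * r * ((eQ.symm q₀ : Q) : G)⁻¹ * (g * g)) := by
          group
      _ = ((eQ.symm q₀ : Q) : G)⁻¹ * (g * g * r) := by rw [h2]
      _ = ((eQ.symm q₀ : Q) : G)⁻¹ * (g * g) * r := by group
  have hgg : g * g ∈ Q ⊔ centralizer (Q : Set G) := by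
    have : g * g = ((eQ.symm q₀ : Q) : G) * (((eQ.symm q₀ : Q) : G)⁻¹ * (g * g)) := by group
    rw [this]
    exact mul_mem_sup (eQ.symm q₀).2 hc
  apply hgM
  have : g = g ^ 3 * (g * g)⁻¹ := by group
  rw [this]
  exact mul_mem hg3 (inv_mem hgg)

/-! ### index two -/

theorem commutator_le_of_index_two (H : Subgroup G) (hH : H.index = 2) : commutator G ≤ H := by
  rw [commutator_def, Subgroup.commutator_le]
  intro a _ b _
  rw [commutatorElement_def]
  have h1 : a * b * a⁻¹ * b⁻¹ = (a * b) * (a⁻¹ * b⁻¹) := by group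
  rw [h1, Subgroup.mul_mem_iff_of_index_two hH, Subgroup.mul_mem_iff_of_index_two hH,
    Subgroup.mul_mem_iff_of_index_two hH, inv_mem_iff, inv_mem_iff]

theorem no_index_two_of_sylow_le_commutator [Finite G] (S : Sylow 2 G)
    (hS : (S : Subgroup G) ≤ commutator G) : ∀ H : Subgroup G, H.index ≠ 2 := by
  intro H hH
  have h1 : (S : Subgroup G) ≤ H := hS.trans (commutator_le_of_index_two H hH)
  have h2 : H.index ∣ (S : Subgroup G).index := Subgroup.index_dvd_of_le h1
  rw [hH] at h2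
  exact S.not_dvd_index h2

theorem conj_mul_inv_mem_commutator (h c : G) : h * c * h⁻¹ * c⁻¹ ∈ commutator G := by
  rw [commutator_def]
  exact Subgroup.commutator_mem_commutator (mem_top h) (mem_top c)

theorem mem_commutator_of_isConj {a b : G} (hab : IsConj a b) (ha : a ∈ commutator G) :
    b ∈ commutator G := by
  obtain ⟨h, rfl⟩ := isConj_iff.mp hab
  have : h * a * h⁻¹ = (h * a * h⁻¹ * a⁻¹) * a := by group
  rw [this]
  exact mul_mem (conj_mul_inv_mem_commutator h a) ha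

end Cfsg.Agent.Helper20
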