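-- helper20: transfer into a quotient of order two of a Sylow 2-subgroup, for elements of any order.
import Cfsg.Agent.Helper53.Thompson

set_option autoImplicit false

namespace Cfsg.Agent.Helper20

/-- Generalized Thompson transfer for a subgroup `M` of index two in a Sylow 2-subgroup `S`:
if for every conjugate `g₀⁻¹ x^m g₀ ∈ S` with `m ∣ |x|`, membership in `M` is equivalent to `m` being
even, then `G` has a normal subgroup of index two not containing `x`. -/
theorem transfer_index_two {G : Type*} [Group G] [Finite G]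
    (S : Sylow 2 G) (M : Subgroup G) (hM : M.relIndex (S : Subgroup G) = 2)
    (x : G) (hx : x ∈ (S : Subgroup G))
    (hcon : ∀ (g₀ : G) (m : ℕ), m ∣ orderOf x → g₀⁻¹ * x ^ m * g₀ ∈ (S : Subgroup G) →
      (g₀⁻¹ * x ^ m * g₀ ∈ M ↔ Even m)) :
    ∃ H : Subgroup G, H.Normal ∧ H.index = 2 ∧ x ∉ H := by
  classical
  set M' : Subgroup ↥(S : Subgroup G) := M.subgroupOf (S : Subgroup G) with hM'
  have hidx : M'.index = 2 := hM
  have : M'.Normal := Subgroup.normal_of_index_eq_two hidx
  have hcardA : Nat.card (↥(S : Subgroup G) ⧸ M') = 2 := by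
    rw [← Subgroup.index_eq_card]; exact hidx
  have : Fact (Nat.Prime 2) := ⟨Nat.prime_two⟩
  have : IsCyclic (↥(S : Subgroup G) ⧸ M') := isCyclic_of_prime_card hcardA
  let _ : CommGroup (↥(S : Subgroup G) ⧸ M') := IsCyclic.commGroup
  let φ : ↥(S : Subgroup G) →* (↥(S : Subgroup G) ⧸ M') := QuotientGroup.mk' M'
  have hφ1 : ∀ y : ↥(S : Subgroup G), φ y = 1 ↔ (y : G) ∈ M := by
    intro y
    show (QuotientGroup.mk' M') y = 1 ↔ _
    rw [QuotientGroup.mk'_apply, QuotientGroup.eq_one_iff]
    rfl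
  set c := φ ⟨x, hx⟩ with hc
  have hxM : x ∉ M := by
    have h1 := hcon 1 1 (one_dvd _) (by simpa using hx)
    intro hxm
    have h2 : (1 : G)⁻¹ * x ^ 1 * 1 ∈ M := by simpa using hxm
    have := h1.mp h2
    exact absurd this (by decide)
  have hc1 : c ≠ 1 := by
    intro h
    rw [hφ1] at h
    exact hxM h
  have hc2 : c ^ 2 = 1 := Cfsg.Agent.Helper53.sq_eq_one_of_card_two' hcardA c
  have hφc : ∀ y : ↥(S : Subgroup G), (y : G) ∉ M → φ y = c := by
    intro y hy
    apply Cfsg.Agent.Helper53.eq_of_ne_one_of_card_two' hcardA _ hc1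
    rwa [Ne, hφ1]
  have : (S : Subgroup G).FiniteIndex := inferInstance
  have : Fintype (Quotient (MulAction.orbitRel (Subgroup.zpowers x) (G ⧸ (S : Subgroup G)))) :=
    Fintype.ofFinite _
  have hgen : ∀ (m : ℕ) (g₀ : G) (h : g₀⁻¹ * x ^ m * g₀ ∈ (S : Subgroup G)), m ∣ orderOf x →
      φ ⟨g₀⁻¹ * x ^ m * g₀, h⟩ = c ^ m := by
    intro m g₀ hyS hmdvd
    have h1 := hcon g₀ m hmdvd hyS
    rcases Nat.even_or_odd' m with ⟨d, rfl | rfl⟩
    · have hcm : c ^ (2 * d) = 1 := by rw [pow_mul, hc2, one_pow]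
      rw [hcm, hφ1]
      exact h1.mpr ⟨d, by ring⟩
    · have hcm : c ^ (2 * d + 1) = c := by rw [pow_succ, pow_mul, hc2, one_pow, one_mul]
      rw [hcm]
      apply hφc
      intro hmem
      have := h1.mp hmem
      rw [Nat.even_add_one] at this
      exact this ⟨d, by ring⟩
  have key : MonoidHom.transfer φ x = c := by
    rw [MonoidHom.transfer_eq_prod_quotient_orbitRel_zpowers_quot]
    have hfac : ∀ q : Quotient (MulAction.orbitRel (Subgroup.zpowers x) (G ⧸ (S : Subgroup G))),
        φ ⟨q.out.out⁻¹ * x ^ Function.minimalPeriod (x • ·) q.out * q.out.out,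
            QuotientGroup.out_conj_pow_minimalPeriod_mem (S : Subgroup G) x q.out⟩ =
          c ^ Function.minimalPeriod (x • ·) q.out := by
      intro q
      apply hgen
      rw [← MulAction.pow_smul_eq_iff_minimalPeriod_dvd, pow_orderOf_eq_one, one_smul]
    rw [Finset.prod_congr rfl (fun q _ => hfac q), Finset.prod_pow_eq_pow_sum,
      ← Subgroup.index_eq_sum_minimalPeriod]
    have hodd : ¬ 2 ∣ (S : Subgroup G).index := S.not_dvd_index
    obtain ⟨k, hk⟩ : ∃ k, (S : Subgroup G).index = 2 * k + 1 := ⟨(S : Subgroup G).index / 2, by omega⟩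
    rw [hk, pow_succ, pow_mul, hc2, one_pow, one_mul]
  have hker : (MonoidHom.transfer φ).ker.index = 2 := by
    rw [Subgroup.index_ker]
    have hdvd : Nat.card (MonoidHom.transfer φ).range ∣ 2 := by
      have h := Subgroup.card_subgroup_dvd_card (MonoidHom.transfer φ).range
      rwa [hcardA] at h
    rcases (Nat.dvd_prime Nat.prime_two).mp hdvd with h1 | h2
    · exfalso
      rw [Subgroup.card_eq_one] at h1
      have : c ∈ (MonoidHom.transfer φ).range := ⟨x, key⟩
      rw [h1, Subgroup.mem_bot] at this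
      exact hc1 this
    · exact h2
  refine ⟨(MonoidHom.transfer φ).ker, MonoidHom.normal_ker _, hker, ?_⟩
  intro hmem
  rw [MonoidHom.mem_ker, key] at hmem
  exact hc1 hmem

end Cfsg.Agent.Helper20
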