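-- helper20: groups with an involution whose centralizer is dihedral of order eight: the group theory.
import Mathlib
import Cfsg.Agent.Helper20.Transfer2
import Cfsg.Agent.Helper20.Fusion3

set_option autoImplicit false

namespace Cfsg.Agent.Helper20.D8

open DihedralGroup

/-! ### facts about `DihedralGroup 4` -/

theorem d4_central (q : DihedralGroup 4) (h : ∀ p : DihedralGroup 4, p * q = q * p) :
    q = 1 ∨ q = r 2 := by
  revert q; decide

theorem d4_involution (q : DihedralGroup 4) (h : q * q = 1) (h1 : q ≠ 1) (h2 : q ≠ r 2) :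
    ∃ i : ZMod 4, q = sr i := by
  revert q; decide

theorem d4_comm_r1 (q : DihedralGroup 4) (h : q * r 1 = r 1 * q) : ∃ i : ZMod 4, q = r i := by
  revert q; decide

theorem d4_inverts (q : DihedralGroup 4) (h : q * r 1 * q⁻¹ = (r 1)⁻¹) : ∃ i : ZMod 4, q = sr i := by
  revert q; decide

theorem d4_sr_inverts (i : ZMod 4) : sr i * r 1 * (sr i)⁻¹ = (r 1 : DihedralGroup 4)⁻¹ := by
  revert i; decide

theorem d4_r_pow (i : ZMod 4) : (r i : DihedralGroup 4) = (r 1) ^ i.val := by
  revert i; decide

theorem d4_r1_sr (i : ZMod 4) :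
    (r 1 * sr i : DihedralGroup 4) * (r 1 * sr i) = 1 ∧ (r 1 * sr i : DihedralGroup 4) ≠ 1 := by
  revert i; decide

theorem d4_r1_sq : (r 1 : DihedralGroup 4) * r 1 = r 2 := by decide

theorem d4_r2_ne : (r 2 : DihedralGroup 4) ≠ 1 := by decide

theorem d4_r2_sq : (r 2 : DihedralGroup 4) * r 2 = 1 := by decide

theorem d4_sr_sq (i : ZMod 4) : (sr i : DihedralGroup 4) * sr i = 1 := by
  revert i; decide

theorem d4_sr_ne (i : ZMod 4) : (sr i : DihedralGroup 4) ≠ 1 := by
  revert i; decide

theorem d4_sr_inj (i j : ZMod 4) (h : (sr i : DihedralGroup 4) = sr j) : i = j := by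
  revert i j; decide

theorem d4_r1_pow_four : (r 1 : DihedralGroup 4) ^ 4 = 1 := by decide

theorem d4_r1_pow_two : (r 1 : DihedralGroup 4) ^ 2 ≠ 1 := by decide

theorem d4_r1_cube : (r 1 : DihedralGroup 4) ^ 3 = (r 1)⁻¹ := by decide

variable {G : Type*} [Group G]

section basic

variable {t : G} (e : Subgroup.centralizer ({t} : Set G) ≃* DihedralGroup 4)

/-- the element of order four -/
noncomputable def elA : G := (e.symm (r 1) : G)

/-- the involutions outside the cyclic subgroup -/
noncomputable def elB (i : ZMod 4) : G := (e.symm (sr i) : G)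

theorem coe_mul_symm (p q : DihedralGroup 4) :
    ((e.symm (p * q) : Subgroup.centralizer ({t} : Set G)) : G) =
      (e.symm p : G) * (e.symm q : G) := by
  rw [map_mul]; rfl

theorem coe_inv_symm (p : DihedralGroup 4) :
    ((e.symm p⁻¹ : Subgroup.centralizer ({t} : Set G)) : G) = (e.symm p : G)⁻¹ := by
  rw [map_inv]; rfl

theorem coe_pow_symm (p : DihedralGroup 4) (n : ℕ) :
    ((e.symm (p ^ n) : Subgroup.centralizer ({t} : Set G)) : G) = (e.symm p : G) ^ n := by
  rw [map_pow]; rfl

theorem coe_one_symm : ((e.symm 1 : Subgroup.centralizer ({t} : Set G)) : G) = 1 := by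
  rw [map_one]; rfl

theorem coe_symm_inj {p q : DihedralGroup 4} (h : (e.symm p : G) = (e.symm q : G)) : p = q :=
  e.symm.injective (Subtype.ext h)

theorem mem_cent_iff (c : G) : c ∈ Subgroup.centralizer ({t} : Set G) ↔ c * t = t * c := by
  rw [Subgroup.mem_centralizer_singleton_iff]

theorem t_mem : t ∈ Subgroup.centralizer ({t} : Set G) := (mem_cent_iff t).2 rfl

/-- an element of the centralizer commuting with the whole centralizer is `1` or `r 2`. -/
theorem central_cases (z : G) (hz : z ∈ Subgroup.centralizer ({t} : Set G))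
    (hc : ∀ c ∈ Subgroup.centralizer ({t} : Set G), c * z = z * c) :
    z = 1 ∨ z = (e.symm (r 2) : G) := by
  have hcentral : ∀ p : DihedralGroup 4, p * e ⟨z, hz⟩ = e ⟨z, hz⟩ * p := by
    intro p
    have h1 : e.symm p * ⟨z, hz⟩ = ⟨z, hz⟩ * e.symm p := by
      apply Subtype.ext
      exact hc _ (e.symm p).2
    have := congrArg e h1
    rwa [map_mul, map_mul, MulEquiv.apply_symm_apply] at this
  rcases d4_central _ hcentral with h | h
  · left
    have : (⟨z, hz⟩ : Subgroup.centralizer ({t} : Set G)) = 1 := by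
      apply e.injective; rw [map_one]; exact h
    exact congrArg Subtype.val this
  · right
    have : (⟨z, hz⟩ : Subgroup.centralizer ({t} : Set G)) = e.symm (r 2) := by
      apply e.injective; rw [MulEquiv.apply_symm_apply]; exact h
    exact congrArg Subtype.val this

theorem t_eq (ht1 : t ≠ 1) : t = (e.symm (r 2) : G) := by
  rcases central_cases e t t_mem (fun c hc => (mem_cent_iff c).1 hc) with h | h
  · exact absurd h ht1
  · exact h

theorem elA_mem : elA e ∈ Subgroup.centralizer ({t} : Set G) := (e.symm (r 1)).2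

theorem elB_mem (i : ZMod 4) : elB e i ∈ Subgroup.centralizer ({t} : Set G) := (e.symm (sr i)).2

theorem elA_sq (ht1 : t ≠ 1) : elA e * elA e = t := by
  have h : elA e * elA e = (e.symm (r 2) : G) := by
    rw [← d4_r1_sq, coe_mul_symm]; rfl
  exact h.trans (t_eq e ht1).symm

theorem elA_pow_four : elA e ^ 4 = 1 := by
  unfold elA
  rw [← coe_pow_symm, d4_r1_pow_four, coe_one_symm]

theorem elA_pow_two_ne : elA e ^ 2 ≠ 1 := by
  unfold elA
  rw [← coe_pow_symm, ← coe_one_symm e]
  intro h
  exact d4_r1_pow_two (coe_symm_inj e h)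

theorem orderOf_elA : orderOf (elA e) = 4 := by
  haveI : Fact (Nat.Prime 2) := ⟨Nat.prime_two⟩
  have h := orderOf_eq_prime_pow (x := elA e) (p := 2) (n := 1)
    (by rw [pow_one]; exact elA_pow_two_ne e) (by norm_num; exact elA_pow_four e)
  rw [h]; norm_num

theorem elA_cube : elA e ^ 3 = (elA e)⁻¹ := by
  unfold elA
  rw [← coe_pow_symm, d4_r1_cube, coe_inv_symm]

theorem elB_sq (i : ZMod 4) : elB e i * elB e i = 1 := by
  unfold elB
  rw [← coe_mul_symm, d4_sr_sq, coe_one_symm]

theorem elB_ne_one (i : ZMod 4) : elB e i ≠ 1 := by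
  unfold elB
  rw [← coe_one_symm e]
  intro h
  exact d4_sr_ne i (coe_symm_inj e h)

theorem orderOf_elB (i : ZMod 4) : orderOf (elB e i) = 2 := by
  haveI : Fact (Nat.Prime 2) := ⟨Nat.prime_two⟩
  exact orderOf_eq_prime (by rw [pow_two]; exact elB_sq e i) (elB_ne_one e i)

theorem elB_inj {i j : ZMod 4} (h : elB e i = elB e j) : i = j :=
  d4_sr_inj i j (coe_symm_inj e h)

theorem elB_inverts (i : ZMod 4) : elB e i * elA e * (elB e i)⁻¹ = (elA e)⁻¹ := by
  unfold elB elA
  rw [← coe_inv_symm, ← coe_mul_symm, ← coe_mul_symm, d4_sr_inverts, coe_inv_symm]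

theorem elA_mul_elB_sq (i : ZMod 4) : (elA e * elB e i) * (elA e * elB e i) = 1 := by
  unfold elB elA
  rw [← coe_mul_symm, ← coe_mul_symm, (d4_r1_sr i).1, coe_one_symm]

theorem elA_mul_elB_ne (i : ZMod 4) : elA e * elB e i ≠ 1 := by
  unfold elB elA
  rw [← coe_mul_symm, ← coe_one_symm e]
  intro h
  exact (d4_r1_sr i).2 (coe_symm_inj e h)

/-- involutions of the centralizer -/
theorem involution_cases (ht1 : t ≠ 1) (v : G) (hv : v ∈ Subgroup.centralizer ({t} : Set G))
    (hv2 : v * v = 1) (hv1 : v ≠ 1) : v = t ∨ ∃ i : ZMod 4, v = elB e i := by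
  by_cases h2 : e ⟨v, hv⟩ = r 2
  · left
    rw [t_eq e ht1]
    have : (⟨v, hv⟩ : Subgroup.centralizer ({t} : Set G)) = e.symm (r 2) := by
      apply e.injective; rw [MulEquiv.apply_symm_apply]; exact h2
    exact congrArg Subtype.val this
  · right
    have hsq : e ⟨v, hv⟩ * e ⟨v, hv⟩ = 1 := by
      rw [← map_mul]
      have : (⟨v, hv⟩ : Subgroup.centralizer ({t} : Set G)) * ⟨v, hv⟩ = 1 := Subtype.ext hv2
      rw [this, map_one]
    have hne : e ⟨v, hv⟩ ≠ 1 := by
      intro h
      apply hv1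
      have : (⟨v, hv⟩ : Subgroup.centralizer ({t} : Set G)) = 1 := by
        apply e.injective; rw [map_one]; exact h
      exact congrArg Subtype.val this
    obtain ⟨i, hi⟩ := d4_involution _ hsq hne h2
    refine ⟨i, ?_⟩
    have : (⟨v, hv⟩ : Subgroup.centralizer ({t} : Set G)) = e.symm (sr i) := by
      apply e.injective; rw [MulEquiv.apply_symm_apply]; exact hi
    exact congrArg Subtype.val this

/-- elements commuting with `a` are powers of `a`. -/
theorem centralizer_elA (ht1 : t ≠ 1) :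
    Subgroup.centralizer ({elA e} : Set G) = Subgroup.zpowers (elA e) := by
  apply le_antisymm
  · intro c hc
    rw [Subgroup.mem_centralizer_singleton_iff] at hc
    -- c commutes with t = a * a
    have hct : c ∈ Subgroup.centralizer ({t} : Set G) := by
      rw [mem_cent_iff, ← elA_sq e ht1, ← mul_assoc, hc, mul_assoc, hc, ← mul_assoc]
    have h1 : e ⟨c, hct⟩ * r 1 = r 1 * e ⟨c, hct⟩ := by
      have h2 : (⟨c, hct⟩ : Subgroup.centralizer ({t} : Set G)) * e.symm (r 1) =
          e.symm (r 1) * ⟨c, hct⟩ := Subtype.ext hc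
      have := congrArg e h2
      rwa [map_mul, map_mul, MulEquiv.apply_symm_apply] at this
    obtain ⟨i, hi⟩ := d4_comm_r1 _ h1
    have h3 : (⟨c, hct⟩ : Subgroup.centralizer ({t} : Set G)) = e.symm (r i) := by
      apply e.injective; rw [MulEquiv.apply_symm_apply]; exact hi
    have h4 : c = (e.symm (r i) : G) := congrArg Subtype.val h3
    rw [h4, d4_r_pow, coe_pow_symm]
    exact Subgroup.pow_mem _ (Subgroup.mem_zpowers _) _
  · rw [Subgroup.zpowers_le, Subgroup.mem_centralizer_singleton_iff]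

theorem card_centralizer_elA (ht1 : t ≠ 1) :
    Nat.card (Subgroup.centralizer ({elA e} : Set G)) = 4 := by
  rw [centralizer_elA e ht1, Nat.card_zpowers, orderOf_elA]

/-- involutions inverting `a`. -/
theorem inverting_cases (ht1 : t ≠ 1) (v : G) (hv : v * elA e * v⁻¹ = (elA e)⁻¹) :
    ∃ i : ZMod 4, v = elB e i := by
  have hvt : v ∈ Subgroup.centralizer ({t} : Set G) := by
    rw [mem_cent_iff]
    have h1 : v * t * v⁻¹ = t := by
      rw [← elA_sq e ht1]
      have : v * (elA e * elA e) * v⁻¹ = (v * elA e * v⁻¹) * (v * elA e * v⁻¹) := by group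
      rw [this, hv, ← mul_inv_rev, elA_sq e ht1]
      -- t⁻¹ = t
      have h4 := elA_pow_four e
      have h5 : t * t = 1 := by
        rw [← elA_sq e ht1]
        have : elA e * elA e * (elA e * elA e) = elA e ^ 4 := by
          simp only [pow_succ, pow_zero, one_mul, mul_assoc]
        rw [this, h4]
      exact inv_eq_of_mul_eq_one_left h5
    calc v * t = v * t * v⁻¹ * v := by group
      _ = t * v := by rw [h1]
  have h1 : e ⟨v, hvt⟩ * r 1 * (e ⟨v, hvt⟩)⁻¹ = (r 1)⁻¹ := by
    have h2 : (⟨v, hvt⟩ : Subgroup.centralizer ({t} : Set G)) * e.symm (r 1) * ⟨v, hvt⟩⁻¹ =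
        (e.symm (r 1))⁻¹ := Subtype.ext hv
    have := congrArg e h2
    rwa [map_mul, map_mul, map_inv, map_inv, MulEquiv.apply_symm_apply] at this
  obtain ⟨i, hi⟩ := d4_inverts _ h1
  refine ⟨i, ?_⟩
  have : (⟨v, hvt⟩ : Subgroup.centralizer ({t} : Set G)) = e.symm (sr i) := by
    apply e.injective; rw [MulEquiv.apply_symm_apply]; exact hi
  exact congrArg Subtype.val this

theorem isConj_elA_inv : IsConj (elA e)⁻¹ (elA e) := by
  rw [isConj_comm, isConj_iff]
  exact ⟨elB e 0, elB_inverts e 0⟩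

theorem card_cent (e' : Subgroup.centralizer ({t} : Set G) ≃* DihedralGroup 4) :
    Nat.card (Subgroup.centralizer ({t} : Set G)) = 8 := by
  rw [Nat.card_congr e'.toEquiv, DihedralGroup.nat_card]

end basic

end Cfsg.Agent.Helper20.D8
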