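-- helper20: groups with an involution whose centralizer is dihedral of order eight: Sylow
-- subgroups, fusion of involutions and a counting lemma.
import Cfsg.Agent.Helper20.D8Grp

set_option autoImplicit false

namespace Cfsg.Agent.Helper20.D8

open DihedralGroup

variable {G : Type*} [Group G] [Finite G] {t : G}
  (e : Subgroup.centralizer ({t} : Set G) ≃* DihedralGroup 4)

include e

/-- The centralizer is a Sylow `2`-subgroup. -/
theorem exists_sylow_eq (ht1 : t ≠ 1) :
    ∃ P : Sylow 2 G, (P : Subgroup G) = Subgroup.centralizer ({t} : Set G) := by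
  haveI : Fact (Nat.Prime 2) := ⟨Nat.prime_two⟩
  have hCp : IsPGroup 2 (Subgroup.centralizer ({t} : Set G)) :=
    IsPGroup.of_card (n := 3) (by rw [card_cent e]; norm_num)
  obtain ⟨P, hP⟩ := hCp.exists_le_sylow
  refine ⟨P, le_antisymm ?_ hP⟩
  have htP : t ∈ (P : Subgroup G) := hP t_mem
  haveI : Nontrivial (P : Subgroup G) :=
    ⟨⟨⟨t, htP⟩, 1, fun h => ht1 (congrArg Subtype.val h)⟩⟩
  haveI := P.2.center_nontrivial
  obtain ⟨z, hz⟩ := exists_ne (1 : Subgroup.center (P : Subgroup G))
  have hz1 : ((z : (P : Subgroup G)) : G) ≠ 1 := by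
    intro h
    apply hz
    apply Subtype.ext
    apply Subtype.ext
    exact h
  have hzcomm : ∀ p ∈ (P : Subgroup G), p * ((z : (P : Subgroup G)) : G) =
      ((z : (P : Subgroup G)) : G) * p := by
    intro p hp
    have h1 := Subgroup.mem_center_iff.mp z.2 ⟨p, hp⟩
    exact congrArg Subtype.val h1
  have hzC : ((z : (P : Subgroup G)) : G) ∈ Subgroup.centralizer ({t} : Set G) := by
    rw [mem_cent_iff]
    exact (hzcomm t htP).symm
  rcases central_cases e _ hzC (fun c hc => hzcomm c (hP hc)) with h | h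
  · exact absurd h hz1
  · rw [← t_eq e ht1] at h
    intro p hp
    rw [mem_cent_iff]
    have := hzcomm p hp
    rwa [h] at this

/-- an involution in `⟨a⟩` is `t`. -/
theorem eq_t_of_mem_zpowers (ht1 : t ≠ 1) (y : G) (hy : y ∈ Subgroup.zpowers (elA e))
    (hy2 : y * y = 1) (hy1 : y ≠ 1) : y = t := by
  have hyC : y ∈ Subgroup.centralizer ({t} : Set G) := by
    have : Subgroup.zpowers (elA e) ≤ Subgroup.centralizer ({t} : Set G) :=
      Subgroup.zpowers_le.mpr (elA_mem e)
    exact this hy
  rcases involution_cases e ht1 y hyC hy2 hy1 with h | ⟨i, hi⟩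
  · exact h
  · exfalso
    -- elB i commutes with a, but inverts it
    have hcomm : y * elA e = elA e * y := by
      obtain ⟨k, hk⟩ := Subgroup.mem_zpowers_iff.mp hy
      rw [← hk]
      exact ((Commute.refl (elA e)).zpow_left k).eq
    have hinv := elB_inverts e i
    rw [← hi, hcomm, mul_inv_cancel_right] at hinv
    -- a = a⁻¹
    have h2 : elA e ^ 2 = 1 := by
      rw [pow_two]
      nth_rewrite 1 [hinv]
      exact inv_mul_cancel _
    exact elA_pow_two_ne e h2

/-- Without subgroups of index two all involutions are conjugate to `t`. -/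
theorem isConj_of_involution (ht : orderOf t = 2) (hno : ∀ H : Subgroup G, H.index ≠ 2)
    (v : G) (hv : orderOf v = 2) : IsConj v t := by
  classical
  haveI : Fact (Nat.Prime 2) := ⟨Nat.prime_two⟩
  have ht1 : t ≠ 1 := by
    intro h; rw [h, orderOf_one] at ht; omega
  obtain ⟨P, hP⟩ := exists_sylow_eq e ht1
  -- conjugate `v` into `P`
  have hVp : IsPGroup 2 (Subgroup.zpowers v) :=
    IsPGroup.of_card (n := 1) (by rw [Nat.card_zpowers, hv, pow_one])
  obtain ⟨Q, hQ⟩ := hVp.exists_le_sylow
  obtain ⟨c, hcQ⟩ := MulAction.exists_smul_eq G Q P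
  have hmem : ∀ x ∈ (Q : Subgroup G), c * x * c⁻¹ ∈ (P : Subgroup G) := by
    intro x hx
    rw [← hcQ, Sylow.coe_subgroup_smul]
    have := Subgroup.smul_mem_pointwise_smul x (MulAut.conj c) _ hx
    simpa [MulAut.smul_def] using this
  obtain ⟨v', hv'⟩ : ∃ v' : G, v' = c * v * c⁻¹ := ⟨_, rfl⟩
  have hv'P : v' ∈ (P : Subgroup G) := by
    rw [hv']; exact hmem v (hQ (Subgroup.mem_zpowers v))
  have hv'o : orderOf v' = 2 := by
    have h5 := (MulAut.conj c).orderOf_eq v
    rw [MulAut.conj_apply, ← hv', hv] at h5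
    exact h5
  have hvv' : IsConj v v' := by
    rw [isConj_iff]; exact ⟨c, hv'.symm⟩
  have hv'2 : v' * v' = 1 := by
    rw [← pow_two, ← hv'o]; exact pow_orderOf_eq_one v'
  have hv'1 : v' ≠ 1 := by
    intro h; rw [h, orderOf_one] at hv'o; omega
  rw [hP] at hv'P
  rcases involution_cases e ht1 v' hv'P hv'2 hv'1 with h | ⟨i, hi⟩
  · rw [← h]; exact hvv'
  · -- Thompson transfer
    by_contra hcon
    have hnot : ∀ g₀ : G, g₀⁻¹ * elB e i * g₀ ≠ t := by
      intro g₀ hg
      apply hcon
      refine hvv'.trans ?_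
      rw [hi, isConj_iff]
      refine ⟨g₀⁻¹, ?_⟩
      rw [inv_inv]; exact hg
    have hMle : Subgroup.zpowers (elA e) ≤ (P : Subgroup G) := by
      rw [hP]; exact Subgroup.zpowers_le.mpr (elA_mem e)
    have hMidx : (Subgroup.zpowers (elA e)).relIndex (P : Subgroup G) = 2 := by
      have h1 := ((Subgroup.zpowers (elA e)).subgroupOf (P : Subgroup G)).card_mul_index
      have hPc : Nat.card (P : Subgroup G) = 8 := by rw [hP]; exact card_cent e
      rw [Nat.card_congr (Subgroup.subgroupOfEquivOfLe hMle).toEquiv, Nat.card_zpowers,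
        orderOf_elA, hPc] at h1
      show ((Subgroup.zpowers (elA e)).subgroupOf (P : Subgroup G)).index = 2
      omega
    have hxP : elB e i ∈ (P : Subgroup G) := by rw [hP]; exact elB_mem e i
    obtain ⟨H, -, hHi, -⟩ := transfer_index_two P (Subgroup.zpowers (elA e)) hMidx (elB e i) hxP
      (by
        intro g₀ m hm _
        rw [orderOf_elB] at hm
        have hm2 : m = 1 ∨ m = 2 := by
          have hle : m ≤ 2 := Nat.le_of_dvd (by norm_num) hm
          have hpos : 0 < m := Nat.pos_of_dvd_of_pos hm (by norm_num)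
          omega
        rcases hm2 with rfl | rfl
        · rw [pow_one]
          simp only [Nat.not_even_one, iff_false]
          intro hin
          apply hnot g₀
          apply eq_t_of_mem_zpowers e ht1 _ hin
          · have : g₀⁻¹ * elB e i * g₀ * (g₀⁻¹ * elB e i * g₀) =
                g₀⁻¹ * (elB e i * elB e i) * g₀ := by group
            rw [this, elB_sq]; group
          · intro h
            apply elB_ne_one e i
            have : elB e i = g₀ * (g₀⁻¹ * elB e i * g₀) * g₀⁻¹ := by group
            rw [this, h]; group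
        · rw [pow_two, elB_sq]
          constructor
          · intro _; exact even_two
          · intro _
            have : g₀⁻¹ * 1 * g₀ = 1 := by group
            rw [this]; exact one_mem _)
    exact hno H hHi

/-- Counting: the number of `g` with `a * (g t g⁻¹)` an involution is `32`. -/
theorem card_conj_set (ht : orderOf t = 2) (hno : ∀ H : Subgroup G, H.index ≠ 2) :
    Nat.card {g : G // IsConj (elA e * (g * t * g⁻¹)) t} = 32 := by
  classical
  have ht1 : t ≠ 1 := by
    intro h; rw [h, orderOf_one] at ht; omega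
  have htt : t * t = 1 := by rw [← pow_two, ← ht]; exact pow_orderOf_eq_one t
  have hex : ∀ i : ZMod 4, ∃ g : G, g * t * g⁻¹ = elB e i := by
    intro i
    have h1 := isConj_of_involution e ht hno (elB e i) (orderOf_elB e i)
    exact isConj_iff.mp h1.symm
  choose gi hgi using hex
  have hP : ∀ (i : ZMod 4) (c : Subgroup.centralizer ({t} : Set G)),
      IsConj (elA e * ((gi i * (c : G)) * t * (gi i * (c : G))⁻¹)) t := by
    intro i c
    have hc : (c : G) * t * (c : G)⁻¹ = t := by
      have := (mem_cent_iff (c : G)).1 c.2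
      rw [this, mul_inv_cancel_right]
    have h1 : (gi i * (c : G)) * t * (gi i * (c : G))⁻¹ = elB e i := by
      rw [← hgi i]
      have : (gi i * (c : G)) * t * (gi i * (c : G))⁻¹ =
          gi i * ((c : G) * t * (c : G)⁻¹) * (gi i)⁻¹ := by group
      rw [this, hc]
    rw [h1]
    apply isConj_of_involution e ht hno
    haveI : Fact (Nat.Prime 2) := ⟨Nat.prime_two⟩
    exact orderOf_eq_prime (by rw [pow_two]; exact elA_mul_elB_sq e i) (elA_mul_elB_ne e i)
  let f : ZMod 4 × Subgroup.centralizer ({t} : Set G) →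
      {g : G // IsConj (elA e * (g * t * g⁻¹)) t} := fun p => ⟨gi p.1 * (p.2 : G), hP p.1 p.2⟩
  have hconjt : ∀ (i : ZMod 4) (c : Subgroup.centralizer ({t} : Set G)),
      (gi i * (c : G)) * t * (gi i * (c : G))⁻¹ = elB e i := by
    intro i c
    have hc : (c : G) * t * (c : G)⁻¹ = t := by
      have := (mem_cent_iff (c : G)).1 c.2
      rw [this, mul_inv_cancel_right]
    rw [← hgi i]
    have : (gi i * (c : G)) * t * (gi i * (c : G))⁻¹ =
        gi i * ((c : G) * t * (c : G)⁻¹) * (gi i)⁻¹ := by group
    rw [this, hc]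
  have hf : Function.Bijective f := by
    constructor
    · rintro ⟨i, c⟩ ⟨j, c'⟩ h
      have h1 : gi i * (c : G) = gi j * (c' : G) := congrArg Subtype.val h
      have h2 : elB e i = elB e j := by
        rw [← hconjt i c, ← hconjt j c', h1]
      have h3 : i = j := elB_inj e h2
      subst h3
      have h4 : (c : G) = (c' : G) := mul_left_cancel h1
      rw [Subtype.ext h4]
    · rintro ⟨g, hg⟩
      obtain ⟨v, hv⟩ : ∃ v : G, v = g * t * g⁻¹ := ⟨_, rfl⟩
      rw [← hv] at hg
      have hvv : v * v = 1 := by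
        rw [hv]
        have : g * t * g⁻¹ * (g * t * g⁻¹) = g * (t * t) * g⁻¹ := by group
        rw [this, htt]; group
      have hav : orderOf (elA e * v) = 2 := by
        obtain ⟨c, hc⟩ := isConj_iff.mp hg
        have h5 := (MulAut.conj c).orderOf_eq (elA e * v)
        rw [MulAut.conj_apply, hc, ht] at h5
        exact h5.symm
      have hav2 : (elA e * v) * (elA e * v) = 1 := by
        rw [← pow_two, ← hav]; exact pow_orderOf_eq_one _
      have hvinv : v⁻¹ = v := inv_eq_of_mul_eq_one_left hvv
      have hinv : v * elA e * v⁻¹ = (elA e)⁻¹ := by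
        rw [hvinv]
        have h6 : elA e * (v * elA e * v) = 1 := by
          rw [← hav2]; group
        exact (inv_eq_of_mul_eq_one_right h6).symm
      obtain ⟨i, hi⟩ := inverting_cases e ht1 v hinv
      have hcC : (gi i)⁻¹ * g ∈ Subgroup.centralizer ({t} : Set G) := by
        rw [mem_cent_iff]
        have h7 : g * t * g⁻¹ = gi i * t * (gi i)⁻¹ := by rw [← hv, hi, hgi i]
        have h8 : (gi i)⁻¹ * (g * t * g⁻¹) * gi i = t := by rw [h7]; group
        calc (gi i)⁻¹ * g * t = ((gi i)⁻¹ * (g * t * g⁻¹) * gi i) * ((gi i)⁻¹ * g) := by group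
          _ = t * ((gi i)⁻¹ * g) := by rw [h8]
      refine ⟨(i, ⟨(gi i)⁻¹ * g, hcC⟩), ?_⟩
      apply Subtype.ext
      show gi i * ((gi i)⁻¹ * g) = g
      group
  rw [← Nat.card_congr (Equiv.ofBijective f hf), Nat.card_prod, card_cent e,
    Nat.card_eq_fintype_card, ZMod.card]

end Cfsg.Agent.Helper20.D8
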