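-- helper20: character values for groups with an involution whose centralizer is dihedral of order 8.
import Cfsg.Agent.Helper20.D8Grp2
import Cfsg.Agent.Helper20.BSQ8Res
import Cfsg.Agent.Helper3.ClassFunction
import Cfsg.Agent.Helper75.FrobeniusKernel

set_option autoImplicit false

namespace Cfsg.Agent.Helper20.D8

open Cfsg DihedralGroup
open scoped ComplexConjugate

theorem d4_sum_univ {M : Type*} [AddCommMonoid M] (F : DihedralGroup 4 → M) :
    ∑ q : DihedralGroup 4, F q = F (r 0) + (F (r 1) + (F (r 2) + (F (r 3) +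
      (F (sr 0) + (F (sr 1) + (F (sr 2) + F (sr 3))))))) := by
  have h : (Finset.univ : Finset (DihedralGroup 4)) =
      {r 0, r 1, r 2, r 3, sr 0, sr 1, sr 2, sr 3} := by decide
  rw [h]
  rw [Finset.sum_insert (by decide), Finset.sum_insert (by decide), Finset.sum_insert (by decide),
    Finset.sum_insert (by decide), Finset.sum_insert (by decide), Finset.sum_insert (by decide),
    Finset.sum_insert (by decide), Finset.sum_singleton]

/-- The sign character of `D8` with kernel `⟨r², s⟩`, with values in `ℤˣ`. -/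
def d4SignFun : DihedralGroup 4 → ℤˣ
  | r i => if i.val % 2 = 0 then 1 else -1
  | sr i => if i.val % 2 = 0 then 1 else -1

def d4Sign : DihedralGroup 4 →* ℤˣ where
  toFun := d4SignFun
  map_one' := by decide
  map_mul' := by decide

/-- The complex-valued sign character of `D8`. -/
noncomputable def d4SignC : DihedralGroup 4 →* ℂ :=
  ((Int.castRingHom ℂ).toMonoidHom.comp (Units.coeHom ℤ)).comp d4Sign

theorem d4SignC_r0 : d4SignC (r 0) = 1 := by
  have : d4Sign (r 0) = 1 := by decide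
  simp [d4SignC, this]
theorem d4SignC_r1 : d4SignC (r 1) = -1 := by
  have : d4Sign (r 1) = -1 := by decide
  simp [d4SignC, this]
theorem d4SignC_r2 : d4SignC (r 2) = 1 := by
  have : d4Sign (r 2) = 1 := by decide
  simp [d4SignC, this]
theorem d4SignC_r3 : d4SignC (r 3) = -1 := by
  have : d4Sign (r 3) = -1 := by decide
  simp [d4SignC, this]
theorem d4SignC_sr0 : d4SignC (sr 0) = 1 := by
  have : d4Sign (sr 0) = 1 := by decide
  simp [d4SignC, this]
theorem d4SignC_sr1 : d4SignC (sr 1) = -1 := by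
  have : d4Sign (sr 1) = -1 := by decide
  simp [d4SignC, this]
theorem d4SignC_sr2 : d4SignC (sr 2) = 1 := by
  have : d4Sign (sr 2) = 1 := by decide
  simp [d4SignC, this]
theorem d4SignC_sr3 : d4SignC (sr 3) = -1 := by
  have : d4Sign (sr 3) = -1 := by decide
  simp [d4SignC, this]

variable {G : Type*} [Group G]

/-- Restriction to a dihedral subgroup of order 8 on which the character takes the value `c` on the
elements of order four and `τ` on all involutions: `χ(1) + τ - 2c` is a natural multiple of 8. -/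
theorem char_d8_mult {χ : G → ℂ} (hχ : IsCharacter G χ) (S : Subgroup G)
    (e : S ≃* DihedralGroup 4) (c τ : ℂ)
    (hc1 : χ (e.symm (r 1) : G) = c) (hc3 : χ (e.symm (r 3) : G) = c)
    (hτ2 : χ (e.symm (r 2) : G) = τ) (hτ : ∀ i : ZMod 4, χ (e.symm (sr i) : G) = τ) :
    ∃ n : ℕ, χ 1 + τ - 2 * c = 8 * (n : ℂ) := by
  classical
  haveI : Fintype S := Fintype.ofEquiv _ e.symm.toEquiv
  let φ : S →* ℂ := d4SignC.comp e.toMonoidHom
  obtain ⟨n, hn⟩ := Helper15.isCharacter_inner_nat (Helper74.isCharacter_restrict S hχ)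
    (Helper15.isCharacter_of_hom φ).1
  refine ⟨n, ?_⟩
  rw [classInner] at hn
  have hcard : Nat.card S = 8 := by
    rw [Nat.card_congr e.toEquiv, DihedralGroup.nat_card]
  rw [hcard] at hn
  have hsum : ∑ s : S, χ (s : G) * conj ((φ : S → ℂ) s) =
      ∑ q : DihedralGroup 4, χ (e.symm q : G) * conj (d4SignC q) := by
    apply Fintype.sum_equiv e.toEquiv
    intro s
    show χ (s : G) * conj (d4SignC (e s)) = χ (e.symm (e s) : G) * conj (d4SignC (e s))
    rw [MulEquiv.symm_apply_apply]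
  have hn' : ((8 : ℕ) : ℂ)⁻¹ * ∑ s : S, χ (s : G) * conj ((φ : S → ℂ) s) = n := hn
  rw [hsum, d4_sum_univ] at hn'
  rw [d4SignC_r0, d4SignC_r1, d4SignC_r2, d4SignC_r3, d4SignC_sr0, d4SignC_sr1, d4SignC_sr2,
    d4SignC_sr3] at hn'
  rw [hc1, hc3, hτ2, hτ 0, hτ 1, hτ 2, hτ 3] at hn'
  have h1 : (e.symm (r 0) : G) = 1 := by
    have : (r 0 : DihedralGroup 4) = 1 := rfl
    rw [this, map_one]; rfl
  rw [h1] at hn'
  simp only [map_one, map_neg] at hn'
  have h8 : ((8 : ℕ) : ℂ) ≠ 0 := by norm_num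
  have := congrArg (fun z => ((8 : ℕ) : ℂ) * z) hn'
  simp only [← mul_assoc, mul_inv_cancel₀ h8, one_mul] at this
  push_cast at this
  linear_combination this

/-- Character data: degree `D`, value `D - 4m` at the involution and `D - 2m - 4A` at the element
of order four. -/
theorem d8_char_data [Finite G] {t : G} (e : Subgroup.centralizer ({t} : Set G) ≃* DihedralGroup 4)
    (ht : orderOf t = 2) (hno : ∀ H : Subgroup G, H.index ≠ 2) (χ : IrrCharacter G) :
    ∃ D Mm A : ℕ, 0 < D ∧ (χ : G → ℂ) 1 = D ∧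
      (χ : G → ℂ) t = (D : ℂ) - 4 * Mm ∧
      (χ : G → ℂ) (elA e) = (D : ℂ) - 2 * Mm - 4 * A := by
  have ht1 : t ≠ 1 := by
    intro h; rw [h, orderOf_one] at ht; omega
  have hχc : IsCharacter G (χ : G → ℂ) := Helper74.isCharacter_of_isIrr χ.2
  have hcf : IsClassFunction G (χ : G → ℂ) := Helper74.isClassFunction_of_isCharacter hχc
  obtain ⟨D, hDpos, hD⟩ := Helper75.fk_irr_apply_one χ
  have hreal : (χ : G → ℂ) (elA e ^ 3) = (χ : G → ℂ) (elA e) := by
    rw [elA_cube]
    exact Helper3.isClassFunction_isConj hcf (isConj_elA_inv e)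
  obtain ⟨m, hm⟩ := char_c4_mult hχc _ (orderOf_elA e) hreal
  rw [pow_two, elA_sq e ht1] at hm
  have hτ : ∀ i : ZMod 4, (χ : G → ℂ) (e.symm (sr i) : G) = (χ : G → ℂ) t := by
    intro i
    exact Helper3.isClassFunction_isConj hcf
      (isConj_of_involution e ht hno (elB e i) (orderOf_elB e i))
  have h3 : (χ : G → ℂ) (e.symm (r 3) : G) = (χ : G → ℂ) (elA e) := by
    have h4 : (e.symm (r 3) : G) = (elA e)⁻¹ := by
      have : (r 3 : DihedralGroup 4) = (r 1)⁻¹ := by decide
      rw [this, coe_inv_symm]; rfl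
    rw [h4]
    exact Helper3.isClassFunction_isConj hcf (isConj_elA_inv e)
  have h2 : (χ : G → ℂ) (e.symm (r 2) : G) = (χ : G → ℂ) t := by
    rw [← t_eq e ht1]
  obtain ⟨n, hn⟩ := char_d8_mult hχc _ e _ _ rfl h3 h2 hτ
  refine ⟨D, m, n, hDpos, hD, ?_, ?_⟩
  · rw [hD] at hm
    linear_combination -hm
  · rw [hD] at hm hn
    have : (χ : G → ℂ) (e.symm (r 1) : G) = (χ : G → ℂ) (elA e) := rfl
    rw [this] at hn
    linear_combination (-1 / 2 : ℂ) * hn - (1 / 2 : ℂ) * hm

end Cfsg.Agent.Helper20.D8
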