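-- helper20: a perfect group with an involution whose centralizer is dihedral of order 8 has order
-- 168 or 360.
import Cfsg.Agent.Helper20.D8Char
import Cfsg.Agent.Helper20.D8Arith
import Cfsg.Agent.Helper20.BSQ8Comb
import Cfsg.Agent.Helper3.ColumnOrth
import Cfsg.Agent.Helper74.CharCount
import Cfsg.Agent.Helper16.CharBasic
import Cfsg.Agent.Helper79.Linear

set_option autoImplicit false

namespace Cfsg.Agent.Helper20.D8

open Cfsg DihedralGroup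
open scoped ComplexConjugate

variable {G : Type*} [Group G]

/-- the class multiplication formula, for irreducible characters as functions. -/
theorem sum_irr_class [Fintype G] {χ : G → ℂ} (hχ : IsIrrCharacter G χ) (x y : G) :
    ∑ g : G, χ (x * (g * y * g⁻¹)) = (Nat.card G : ℂ) * χ y / χ 1 * χ x := by
  obtain ⟨n, ρ, hirr, rfl⟩ := hχ
  haveI := hirr
  rw [Representation.char_one]
  exact Helper16.sum_char_mul_conj ρ x y

/-- an irreducible character of degree one of a perfect group is principal. -/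
theorem eq_principal_of_degree_one [Finite G] (hperf : commutator G = ⊤) (χ : IrrCharacter G)
    (h1 : (χ : G → ℂ) 1 = 1) : χ = Helper79.principalIrr G := by
  have hχc : IsCharacter G (χ : G → ℂ) := Helper74.isCharacter_of_isIrr χ.2
  let φ : G →* ℂ :=
    { toFun := (χ : G → ℂ)
      map_one' := h1
      map_mul' := Helper79.isCharacter_linear_mul hχc h1 }
  have hker : commutator G ≤ φ.toHomUnits.ker := Abelianization.commutator_subset_ker _
  apply Subtype.ext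
  funext g
  have hg : g ∈ φ.toHomUnits.ker := hker (by rw [hperf]; exact Subgroup.mem_top g)
  rw [MonoidHom.mem_ker] at hg
  have h2 := congrArg (fun u : ℂˣ => (u : ℂ)) hg
  simp only [MonoidHom.coe_toHomUnits, Units.val_one] at h2
  exact h2

theorem card_eq_of_d8 [Finite G] (hperf : commutator G = ⊤) (t : G) (ht : orderOf t = 2)
    (e : Subgroup.centralizer ({t} : Set G) ≃* DihedralGroup 4) :
    Nat.card G = 168 ∨ Nat.card G = 360 := by
  classical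
  haveI : Fintype G := Fintype.ofFinite G
  letI : Fintype (IrrCharacter G) := Helper74.irrFintype G
  have ht1 : t ≠ 1 := by
    intro h; rw [h, orderOf_one] at ht; omega
  have hno : ∀ H : Subgroup G, H.index ≠ 2 := by
    intro H hH
    have h1 := commutator_le_of_index_two H hH
    rw [hperf, top_le_iff] at h1
    rw [h1, Subgroup.index_top] at hH
    omega
  obtain ⟨a, hadef⟩ : ∃ a : G, a = elA e := ⟨_, rfl⟩
  have hao : orderOf a = 4 := by rw [hadef]; exact orderOf_elA e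
  have ha1 : a ≠ 1 := by
    intro h; rw [h, orderOf_one] at hao; omega
  -- character data
  choose D Mm A hDpos hD hT hU using fun χ : IrrCharacter G => d8_char_data e ht hno χ
  simp only [← hadef] at hU
  obtain ⟨cZ, hcZdef⟩ : ∃ cZ : IrrCharacter G → ℤ,
      cZ = fun χ => (D χ : ℤ) - 2 * (Mm χ : ℤ) - 4 * (A χ : ℤ) := ⟨_, rfl⟩
  obtain ⟨tZ, htZdef⟩ : ∃ tZ : IrrCharacter G → ℤ,
      tZ = fun χ => (D χ : ℤ) - 4 * (Mm χ : ℤ) := ⟨_, rfl⟩
  have hcZ : ∀ χ : IrrCharacter G, (χ : G → ℂ) a = (cZ χ : ℂ) := by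
    intro χ; rw [hU, hcZdef]; push_cast; ring
  have htZ : ∀ χ : IrrCharacter G, (χ : G → ℂ) t = (tZ χ : ℂ) := by
    intro χ; rw [hT, htZdef]; push_cast; ring
  have hχ1 : ∀ χ : IrrCharacter G, (χ : G → ℂ) 1 = ((D χ : ℤ) : ℂ) := by
    intro χ; rw [hD]; push_cast; rfl
  -- norm sums
  have hsumc : ∑ χ, (cZ χ) ^ 2 = 4 := by
    have h := Helper3.column_orthogonality_self (G := G) a
    rw [hadef, card_centralizer_elA e ht1, ← hadef] at h
    have h1 : ((∑ χ, (cZ χ) ^ 2 : ℤ) : ℂ) = ((4 : ℕ) : ℂ) := by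
      rw [← h]
      push_cast
      refine Finset.sum_congr rfl (fun χ _ => ?_)
      rw [hcZ, map_intCast, pow_two]
    have h2 : ((∑ χ, (cZ χ) ^ 2 : ℤ) : ℂ) = ((4 : ℤ) : ℂ) := by
      rw [h1]; norm_num
    exact_mod_cast h2
  have hsumt : ∑ χ, (tZ χ) ^ 2 = 8 := by
    have h := Helper3.column_orthogonality_self (G := G) t
    rw [card_cent e] at h
    have h1 : ((∑ χ, (tZ χ) ^ 2 : ℤ) : ℂ) = ((8 : ℕ) : ℂ) := by
      rw [← h]
      push_cast
      refine Finset.sum_congr rfl (fun χ _ => ?_)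
      rw [htZ, map_intCast, pow_two]
    have h2 : ((∑ χ, (tZ χ) ^ 2 : ℤ) : ℂ) = ((8 : ℤ) : ℂ) := by
      rw [h1]; norm_num
    exact_mod_cast h2
  have hsumd : ∑ χ, ((D χ : ℤ)) ^ 2 = (Nat.card G : ℤ) := by
    have h := Helper3.column_orthogonality_self (G := G) 1
    have hc1 : Nat.card (Subgroup.centralizer ({(1 : G)} : Set G)) = Nat.card G := by
      have : Subgroup.centralizer ({(1 : G)} : Set G) = ⊤ := by
        rw [eq_top_iff]
        intro g _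
        rw [Subgroup.mem_centralizer_singleton_iff]
        rw [one_mul, mul_one]
      rw [this, Subgroup.card_top]
    rw [hc1] at h
    have h1 : ((∑ χ, ((D χ : ℤ)) ^ 2 : ℤ) : ℂ) = ((Nat.card G : ℤ) : ℂ) := by
      push_cast
      rw [← h]
      refine Finset.sum_congr rfl (fun χ _ => ?_)
      rw [hχ1]
      push_cast
      rw [Complex.conj_natCast, pow_two]
    exact_mod_cast h1
  have hc0 : cZ (Helper79.principalIrr G) = 1 := by
    have h := hcZ (Helper79.principalIrr G)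
    have h' : ((Helper79.principalIrr G : IrrCharacter G) : G → ℂ) a = 1 := rfl
    rw [h'] at h
    exact_mod_cast h.symm
  have ht0 : tZ (Helper79.principalIrr G) = 1 := by
    have h := htZ (Helper79.principalIrr G)
    have h' : ((Helper79.principalIrr G : IrrCharacter G) : G → ℂ) t = 1 := rfl
    rw [h'] at h
    exact_mod_cast h.symm
  obtain ⟨χ₁, χ₂, χ₃, h10, h20, h30, h12, h13, h23, hw1, hw2, hw3, hrest⟩ :=
    exists_three_of_sum_sq_eq_four cZ (Helper79.principalIrr G) hc0 hsumc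
  -- orthogonality against `a`
  have hθ : ∀ g : G, ¬ IsConj g a →
      1 + (χ₁ : G → ℂ) g * (cZ χ₁ : ℂ) + (χ₂ : G → ℂ) g * (cZ χ₂ : ℂ) +
        (χ₃ : G → ℂ) g * (cZ χ₃ : ℂ) = 0 := by
    intro g hne
    have hbo := Helper3.column_orthogonality (G := G) g a
    rw [if_neg hne] at hbo
    have hterm : ∀ χ : IrrCharacter G,
        (χ : G → ℂ) g * conj ((χ : G → ℂ) a) = (χ : G → ℂ) g * (cZ χ : ℂ) := by
      intro χ
      rw [hcZ, map_intCast]
    simp only [hterm] at hbo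
    rw [sum_eq_four_terms (fun χ : IrrCharacter G => (χ : G → ℂ) g * (cZ χ : ℂ))
      (Helper79.principalIrr G) χ₁ χ₂ χ₃ h10 h20 h30 h12 h13 h23] at hbo
    · simp only [hc0] at hbo
      have h' : ((Helper79.principalIrr G : IrrCharacter G) : G → ℂ) g = 1 := rfl
      rw [h'] at hbo
      push_cast at hbo
      linear_combination hbo
    · intro χ hx0 hx1 hx2 hx3
      show (χ : G → ℂ) g * (cZ χ : ℂ) = 0
      rw [hrest χ hx0 hx1 hx2 hx3]; simp
  have hnot1 : ¬ IsConj (1 : G) a := by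
    intro h
    exact ha1 (isConj_one_right.mp h)
  have hnott : ¬ IsConj t a := by
    intro h
    obtain ⟨c, hc⟩ := isConj_iff.mp h
    have h5 := (MulAut.conj c).orderOf_eq t
    rw [MulAut.conj_apply, hc, hao, ht] at h5
    omega
  have hR1 := hθ 1 hnot1
  have hR2 := hθ t hnott
  -- the class sum relation
  have hN : (Nat.card G : ℂ) ≠ 0 := by
    have : Nat.card G ≠ 0 := Nat.card_pos.ne'
    exact_mod_cast this
  have hcount : ∑ g : G, ∑ χ : IrrCharacter G,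
      (χ : G → ℂ) (a * (g * t * g⁻¹)) * conj ((χ : G → ℂ) t) = 256 := by
    have hinner : ∀ g : G, ∑ χ : IrrCharacter G,
        (χ : G → ℂ) (a * (g * t * g⁻¹)) * conj ((χ : G → ℂ) t) =
        if IsConj (a * (g * t * g⁻¹)) t then (8 : ℂ) else 0 := by
      intro g
      rw [Helper74.second_orthogonality, card_cent e]
      norm_num
    rw [Finset.sum_congr rfl (fun g _ => hinner g), Finset.sum_ite, Finset.sum_const_zero,
      add_zero, Finset.sum_const, nsmul_eq_mul]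
    have hcard : (Finset.univ.filter (fun g : G => IsConj (a * (g * t * g⁻¹)) t)).card = 32 := by
      have h := card_conj_set e ht hno
      rw [← hadef, Nat.card_eq_fintype_card, Fintype.card_subtype] at h
      exact h
    rw [hcard]; norm_num
  have hcount' : ∑ χ : IrrCharacter G, conj ((χ : G → ℂ) t) *
      ((Nat.card G : ℂ) * (χ : G → ℂ) t / (χ : G → ℂ) 1 * (χ : G → ℂ) a) = 256 := by
    rw [← hcount, Finset.sum_comm]
    refine Finset.sum_congr rfl (fun χ _ => ?_)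
    rw [← sum_irr_class χ.2 a t, Finset.mul_sum]
    refine Finset.sum_congr rfl (fun g _ => ?_)
    ring
  rw [sum_eq_four_terms (fun χ : IrrCharacter G => conj ((χ : G → ℂ) t) *
      ((Nat.card G : ℂ) * (χ : G → ℂ) t / (χ : G → ℂ) 1 * (χ : G → ℂ) a))
      (Helper79.principalIrr G) χ₁ χ₂ χ₃ h10 h20 h30 h12 h13 h23] at hcount'
  swap
  · intro χ hx0 hx1 hx2 hx3
    show conj ((χ : G → ℂ) t) *
      ((Nat.card G : ℂ) * (χ : G → ℂ) t / (χ : G → ℂ) 1 * (χ : G → ℂ) a) = 0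
    rw [hcZ, hrest χ hx0 hx1 hx2 hx3]; simp
  -- integers
  obtain ⟨d₁, hd₁⟩ : ∃ d₁ : ℤ, d₁ = D χ₁ := ⟨_, rfl⟩
  obtain ⟨d₂, hd₂⟩ : ∃ d₂ : ℤ, d₂ = D χ₂ := ⟨_, rfl⟩
  obtain ⟨d₃, hd₃⟩ : ∃ d₃ : ℤ, d₃ = D χ₃ := ⟨_, rfl⟩
  obtain ⟨m₁, hm₁⟩ : ∃ m₁ : ℤ, m₁ = Mm χ₁ := ⟨_, rfl⟩
  obtain ⟨m₂, hm₂⟩ : ∃ m₂ : ℤ, m₂ = Mm χ₂ := ⟨_, rfl⟩
  obtain ⟨m₃, hm₃⟩ : ∃ m₃ : ℤ, m₃ = Mm χ₃ := ⟨_, rfl⟩
  have hp₁ : 0 < d₁ := by rw [hd₁]; exact_mod_cast hDpos χ₁
  have hp₂ : 0 < d₂ := by rw [hd₂]; exact_mod_cast hDpos χ₂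
  have hp₃ : 0 < d₃ := by rw [hd₃]; exact_mod_cast hDpos χ₃
  have hτ₁ : tZ χ₁ = d₁ - 4 * m₁ := by rw [htZdef, hd₁, hm₁]
  have hτ₂ : tZ χ₂ = d₂ - 4 * m₂ := by rw [htZdef, hd₂, hm₂]
  have hτ₃ : tZ χ₃ = d₃ - 4 * m₃ := by rw [htZdef, hd₃, hm₃]
  have hc₁ : cZ χ₁ = d₁ - 2 * m₁ - 4 * (A χ₁ : ℤ) := by rw [hcZdef, hd₁, hm₁]
  have hc₂ : cZ χ₂ = d₂ - 2 * m₂ - 4 * (A χ₂ : ℤ) := by rw [hcZdef, hd₂, hm₂]
  have hc₃ : cZ χ₃ = d₃ - 2 * m₃ - 4 * (A χ₃ : ℤ) := by rw [hcZdef, hd₃, hm₃]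
  have hne : ∀ χ : IrrCharacter G, χ ≠ Helper79.principalIrr G → (D χ : ℤ) ≠ 1 := by
    intro χ hχ h
    apply hχ
    apply eq_principal_of_degree_one hperf
    rw [hD]
    have : D χ = 1 := by exact_mod_cast h
    rw [this]; norm_num
  have hne₁ : d₁ ≠ 1 := by rw [hd₁]; exact hne χ₁ h10
  have hne₂ : d₂ ≠ 1 := by rw [hd₂]; exact hne χ₂ h20
  have hne₃ : d₃ ≠ 1 := by rw [hd₃]; exact hne χ₃ h30
  have hI1 : 1 + cZ χ₁ * d₁ + cZ χ₂ * d₂ + cZ χ₃ * d₃ = 0 := by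
    rw [hχ1 χ₁, hχ1 χ₂, hχ1 χ₃, ← hd₁, ← hd₂, ← hd₃] at hR1
    have : ((1 + cZ χ₁ * d₁ + cZ χ₂ * d₂ + cZ χ₃ * d₃ : ℤ) : ℂ) = 0 := by
      push_cast; linear_combination hR1
    exact_mod_cast this
  have hI2 : 1 + cZ χ₁ * tZ χ₁ + cZ χ₂ * tZ χ₂ + cZ χ₃ * tZ χ₃ = 0 := by
    rw [htZ χ₁, htZ χ₂, htZ χ₃] at hR2
    have : ((1 + cZ χ₁ * tZ χ₁ + cZ χ₂ * tZ χ₂ + cZ χ₃ * tZ χ₃ : ℤ) : ℂ) = 0 := by
      push_cast; linear_combination hR2
    exact_mod_cast this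
  have hI3 : (Nat.card G : ℤ) * (d₁ * d₂ * d₃ + cZ χ₁ * (tZ χ₁) ^ 2 * d₂ * d₃ +
      cZ χ₂ * (tZ χ₂) ^ 2 * d₁ * d₃ + cZ χ₃ * (tZ χ₃) ^ 2 * d₁ * d₂) = 256 * (d₁ * d₂ * d₃) := by
    have h0a : ((Helper79.principalIrr G : IrrCharacter G) : G → ℂ) a = 1 := rfl
    have h0t : ((Helper79.principalIrr G : IrrCharacter G) : G → ℂ) t = 1 := rfl
    have h01 : ((Helper79.principalIrr G : IrrCharacter G) : G → ℂ) 1 = 1 := rfl
    simp only [h0a, h0t, h01] at hcount'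
    rw [hχ1 χ₁, hχ1 χ₂, hχ1 χ₃, htZ χ₁, htZ χ₂, htZ χ₃, hcZ χ₁, hcZ χ₂, hcZ χ₃, ← hd₁, ← hd₂,
      ← hd₃] at hcount'
    simp only [map_intCast, map_one] at hcount'
    have hd₁0 : (d₁ : ℂ) ≠ 0 := by exact_mod_cast hp₁.ne'
    have hd₂0 : (d₂ : ℂ) ≠ 0 := by exact_mod_cast hp₂.ne'
    have hd₃0 : (d₃ : ℂ) ≠ 0 := by exact_mod_cast hp₃.ne'
    have : (((Nat.card G : ℤ) * (d₁ * d₂ * d₃ + cZ χ₁ * (tZ χ₁) ^ 2 * d₂ * d₃ +
      cZ χ₂ * (tZ χ₂) ^ 2 * d₁ * d₃ + cZ χ₃ * (tZ χ₃) ^ 2 * d₁ * d₂) : ℤ) : ℂ) =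
        ((256 * (d₁ * d₂ * d₃) : ℤ) : ℂ) := by
      push_cast
      rw [← hcount']
      field_simp
      ring
    exact_mod_cast this
  have hB4 : (tZ χ₁) ^ 2 + (tZ χ₂) ^ 2 + (tZ χ₃) ^ 2 ≤ 7 := by
    have hsub : ∑ χ ∈ ({Helper79.principalIrr G, χ₁, χ₂, χ₃} : Finset (IrrCharacter G)),
        (tZ χ) ^ 2 ≤ ∑ χ, (tZ χ) ^ 2 :=
      Finset.sum_le_sum_of_subset_of_nonneg (Finset.subset_univ _) (fun χ _ _ => sq_nonneg _)
    rw [hsumt, Finset.sum_insert, Finset.sum_insert, Finset.sum_insert, Finset.sum_singleton,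
      ht0] at hsub
    · linarith
    · simp only [Finset.mem_singleton]; exact h23
    · simp only [Finset.mem_insert, Finset.mem_singleton, not_or]; exact ⟨h12, h13⟩
    · simp only [Finset.mem_insert, Finset.mem_singleton, not_or]
      exact ⟨h10.symm, h20.symm, h30.symm⟩
  have hsize : 1 + d₁ ^ 2 + d₂ ^ 2 + d₃ ^ 2 ≤ (Nat.card G : ℤ) := by
    have hsub : ∑ χ ∈ ({Helper79.principalIrr G, χ₁, χ₂, χ₃} : Finset (IrrCharacter G)),
        ((D χ : ℤ)) ^ 2 ≤ ∑ χ, ((D χ : ℤ)) ^ 2 :=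
      Finset.sum_le_sum_of_subset_of_nonneg (Finset.subset_univ _) (fun χ _ _ => sq_nonneg _)
    have hD0 : (D (Helper79.principalIrr G) : ℤ) = 1 := by
      have h := hχ1 (Helper79.principalIrr G)
      have h' : ((Helper79.principalIrr G : IrrCharacter G) : G → ℂ) 1 = 1 := rfl
      rw [h'] at h
      exact_mod_cast h.symm
    rw [hsumd, Finset.sum_insert, Finset.sum_insert, Finset.sum_insert, Finset.sum_singleton,
      hD0, ← hd₁, ← hd₂, ← hd₃] at hsub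
    · linarith
    · simp only [Finset.mem_singleton]; exact h23
    · simp only [Finset.mem_insert, Finset.mem_singleton, not_or]; exact ⟨h12, h13⟩
    · simp only [Finset.mem_insert, Finset.mem_singleton, not_or]
      exact ⟨h10.symm, h20.symm, h30.symm⟩
  have hfin := d8_arith (Nat.card G : ℤ) (cZ χ₁) (cZ χ₂) (cZ χ₃) d₁ d₂ d₃ m₁ m₂ m₃
    (A χ₁ : ℤ) (A χ₂ : ℤ) (A χ₃ : ℤ) (tZ χ₁) (tZ χ₂) (tZ χ₃) hw1 hw2 hw3
    (by positivity) (by positivity) (by positivity) hp₁ hp₂ hp₃ hτ₁ hτ₂ hτ₃ hc₁ hc₂ hc₃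
    hne₁ hne₂ hne₃ hI1 hI2 hI3 hB4 hsize
  rcases hfin with h | h
  · left; exact_mod_cast h
  · right; exact_mod_cast h

end Cfsg.Agent.Helper20.D8
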