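-- helper20: the arithmetic heart of the Brauer–Suzuki theorem for quaternion Sylow 2-subgroups of
-- order 8 (Cauchy–Schwarz case and 2-adic descent case).
import Mathlib

set_option autoImplicit false

namespace Cfsg.Agent.Helper20

/-- The Cauchy–Schwarz case: sign pattern `(+,+,-)`. -/
theorem bs_cs_case (d₁ d₂ m₁ m₂ : ℤ) (hd₁ : 0 < d₁) (hd₂ : 0 < d₂)
    (h : m₁ ^ 2 * d₂ * (1 + d₁ + d₂) + m₂ ^ 2 * d₁ * (1 + d₁ + d₂) = (m₁ + m₂) ^ 2 * d₁ * d₂) :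
    m₁ = 0 ∧ m₂ = 0 := by
  have key : m₁ ^ 2 * d₂ + m₂ ^ 2 * d₁ + (m₁ * d₂ - m₂ * d₁) ^ 2 = 0 := by
    linear_combination h
  have h1 : 0 ≤ m₁ ^ 2 * d₂ := mul_nonneg (sq_nonneg _) hd₂.le
  have h2 : 0 ≤ m₂ ^ 2 * d₁ := mul_nonneg (sq_nonneg _) hd₁.le
  have h3 : 0 ≤ (m₁ * d₂ - m₂ * d₁) ^ 2 := sq_nonneg _
  have e1 : m₁ ^ 2 * d₂ = 0 := by linarith
  have e2 : m₂ ^ 2 * d₁ = 0 := by linarith
  constructor
  · rcases mul_eq_zero.mp e1 with h' | h'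
    · exact pow_eq_zero_iff (two_ne_zero) |>.mp h'
    · omega
  · rcases mul_eq_zero.mp e2 with h' | h'
    · exact pow_eq_zero_iff (two_ne_zero) |>.mp h'
    · omega

/-- mod 4 obstruction, both odd. -/
theorem bs_mod4_odd_odd (x y a b : ZMod 4) (hx : x = 1 ∨ x = 3) (hy : y = 1 ∨ y = 3)
    (hab : a + b = 2) (ha : a = 1 ∨ a = 3) :
    (y * a - x * b) ^ 2 ≠ x ^ 2 * b + y ^ 2 * a := by
  revert x y a b; decide

/-- mod 4 obstruction, exactly one odd: the right-hand side is `3`. -/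
theorem bs_mod4_odd_even (x y a b : ZMod 4) (hx : x = 1 ∨ x = 3) (hy : y = 0 ∨ y = 2)
    (hb : b = 3) :
    (y * a - x * b) ^ 2 ≠ x ^ 2 * b + y ^ 2 * a := by
  revert x y a b; decide

theorem zmod4_cast_mod (m : ℤ) : (m : ZMod 4) = ((m % 4 : ℤ) : ZMod 4) := by
  have h := ZMod.intCast_mod m 4
  exact_mod_cast h.symm

theorem zmod4_odd (m : ℤ) (h : m % 2 = 1) : ((m : ZMod 4) = 1 ∨ (m : ZMod 4) = 3) := by
  have h4 : m % 4 = 1 ∨ m % 4 = 3 := by omega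
  rcases h4 with h4 | h4
  · left
    have : (m : ZMod 4) = ((m % 4 : ℤ) : ZMod 4) := zmod4_cast_mod m
    rw [this, h4]; rfl
  · right
    have : (m : ZMod 4) = ((m % 4 : ℤ) : ZMod 4) := zmod4_cast_mod m
    rw [this, h4]; rfl

theorem zmod4_even (m : ℤ) (h : m % 2 = 0) : ((m : ZMod 4) = 0 ∨ (m : ZMod 4) = 2) := by
  have h4 : m % 4 = 0 ∨ m % 4 = 2 := by omega
  rcases h4 with h4 | h4
  · left
    have : (m : ZMod 4) = ((m % 4 : ℤ) : ZMod 4) := zmod4_cast_mod m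
    rw [this, h4]; rfl
  · right
    have : (m : ZMod 4) = ((m % 4 : ℤ) : ZMod 4) := zmod4_cast_mod m
    rw [this, h4]; rfl

theorem zmod4_of_mod (m : ℤ) (r : ℤ) (h : m % 4 = r) : (m : ZMod 4) = (r : ZMod 4) := by
  have : (m : ZMod 4) = ((m % 4 : ℤ) : ZMod 4) := zmod4_cast_mod m
  rw [this, h]

/-- The descent, once both `d`'s are `3 mod 4`. -/
theorem bs_descent_three : ∀ (n : ℕ) (m₂ m₃ d₂ d₃ : ℤ), m₂.natAbs + m₃.natAbs ≤ n →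
    d₂ % 4 = 3 → d₃ % 4 = 3 →
    (m₃ * d₂ - m₂ * d₃) ^ 2 = m₂ ^ 2 * d₃ + m₃ ^ 2 * d₂ → m₂ = 0 ∧ m₃ = 0 := by
  intro n
  induction n with
  | zero =>
    intro m₂ m₃ d₂ d₃ hn _ _ _
    constructor <;> omega
  | succ n ih =>
    intro m₂ m₃ d₂ d₃ hn hd₂ hd₃ h
    by_cases hz : m₂ = 0 ∧ m₃ = 0
    · exact hz
    exfalso
    have hc := congrArg (Int.cast : ℤ → ZMod 4) h
    push_cast at hc
    have hd₂' : (d₂ : ZMod 4) = 3 := by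
      have := zmod4_of_mod d₂ 3 hd₂; simpa using this
    have hd₃' : (d₃ : ZMod 4) = 3 := by
      have := zmod4_of_mod d₃ 3 hd₃; simpa using this
    rcases Int.emod_two_eq_zero_or_one m₂ with h2 | h2 <;>
      rcases Int.emod_two_eq_zero_or_one m₃ with h3 | h3
    · -- both even: halve
      obtain ⟨μ₂, rfl⟩ : ∃ μ₂, m₂ = 2 * μ₂ := ⟨m₂ / 2, by omega⟩
      obtain ⟨μ₃, rfl⟩ : ∃ μ₃, m₃ = 2 * μ₃ := ⟨m₃ / 2, by omega⟩
      have h' : (μ₃ * d₂ - μ₂ * d₃) ^ 2 = μ₂ ^ 2 * d₃ + μ₃ ^ 2 * d₂ := by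
        have : 4 * (μ₃ * d₂ - μ₂ * d₃) ^ 2 = 4 * (μ₂ ^ 2 * d₃ + μ₃ ^ 2 * d₂) := by
          linear_combination h
        linarith
      have hn' : μ₂.natAbs + μ₃.natAbs ≤ n := by
        have hne : μ₂ ≠ 0 ∨ μ₃ ≠ 0 := by
          by_contra hcon
          rw [not_or, not_not, not_not] at hcon
          apply hz
          rw [hcon.1, hcon.2]; simp
        omega
      obtain ⟨e2, e3⟩ := ih μ₂ μ₃ d₂ d₃ hn' hd₂ hd₃ h'
      apply hz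
      rw [e2, e3]; simp
    · -- m₂ even, m₃ odd
      have hx := zmod4_odd m₃ h3
      have hy := zmod4_even m₂ h2
      have := bs_mod4_odd_even (m₃ : ZMod 4) (m₂ : ZMod 4) (d₃ : ZMod 4) (d₂ : ZMod 4) hx hy hd₂'
      apply this
      have e : ((m₂ : ZMod 4) * (d₃ : ZMod 4) - (m₃ : ZMod 4) * (d₂ : ZMod 4)) ^ 2 =
          ((m₃ : ZMod 4) * (d₂ : ZMod 4) - (m₂ : ZMod 4) * (d₃ : ZMod 4)) ^ 2 := by ring
      rw [e, hc]; ring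
    · -- m₂ odd, m₃ even
      have hx := zmod4_odd m₂ h2
      have hy := zmod4_even m₃ h3
      have := bs_mod4_odd_even (m₂ : ZMod 4) (m₃ : ZMod 4) (d₂ : ZMod 4) (d₃ : ZMod 4) hx hy hd₃'
      exact this hc
    · -- both odd
      have hx := zmod4_odd m₂ h2
      have hy := zmod4_odd m₃ h3
      have := bs_mod4_odd_odd (m₂ : ZMod 4) (m₃ : ZMod 4) (d₂ : ZMod 4) (d₃ : ZMod 4) hx hy
        (by rw [hd₂', hd₃']; decide) (by rw [hd₂']; right; rfl)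
      exact this hc

/-- The descent: sign pattern `(+,-,-)`. -/
theorem bs_descent (m₂ m₃ d₂ d₃ : ℤ) (hd₂ : (d₂ - (2 * m₂ - 1)) % 4 = 0)
    (hd₃ : (d₃ - (2 * m₃ - 1)) % 4 = 0)
    (h : (m₃ * d₂ - m₂ * d₃) ^ 2 = m₂ ^ 2 * d₃ + m₃ ^ 2 * d₂) : m₂ = 0 ∧ m₃ = 0 := by
  have hc := congrArg (Int.cast : ℤ → ZMod 4) h
  push_cast at hc
  rcases Int.emod_two_eq_zero_or_one m₂ with h2 | h2 <;>
    rcases Int.emod_two_eq_zero_or_one m₃ with h3 | h3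
  · exact bs_descent_three _ m₂ m₃ d₂ d₃ le_rfl (by omega) (by omega) h
  · exfalso
    have hd₂' : (d₂ : ZMod 4) = 3 := by
      have := zmod4_of_mod d₂ 3 (by omega); simpa using this
    have hx := zmod4_odd m₃ h3
    have hy := zmod4_even m₂ h2
    have := bs_mod4_odd_even (m₃ : ZMod 4) (m₂ : ZMod 4) (d₃ : ZMod 4) (d₂ : ZMod 4) hx hy hd₂'
    apply this
    have e : ((m₂ : ZMod 4) * (d₃ : ZMod 4) - (m₃ : ZMod 4) * (d₂ : ZMod 4)) ^ 2 =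
        ((m₃ : ZMod 4) * (d₂ : ZMod 4) - (m₂ : ZMod 4) * (d₃ : ZMod 4)) ^ 2 := by ring
    rw [e, hc]; ring
  · exfalso
    have hd₃' : (d₃ : ZMod 4) = 3 := by
      have := zmod4_of_mod d₃ 3 (by omega); simpa using this
    have hx := zmod4_odd m₂ h2
    have hy := zmod4_even m₃ h3
    exact bs_mod4_odd_even (m₂ : ZMod 4) (m₃ : ZMod 4) (d₂ : ZMod 4) (d₃ : ZMod 4) hx hy hd₃' hc
  · exfalso
    have hd₂' : (d₂ : ZMod 4) = 1 := by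
      have := zmod4_of_mod d₂ 1 (by omega); simpa using this
    have hd₃' : (d₃ : ZMod 4) = 1 := by
      have := zmod4_of_mod d₃ 1 (by omega); simpa using this
    have hx := zmod4_odd m₂ h2
    have hy := zmod4_odd m₃ h3
    exact bs_mod4_odd_odd (m₂ : ZMod 4) (m₃ : ZMod 4) (d₂ : ZMod 4) (d₃ : ZMod 4) hx hy
      (by rw [hd₂', hd₃']; decide) (by rw [hd₂']; left; rfl) hc

/-- The descent case in the form used below: `d₁ = d₂ + d₃ - 1`, `m₁ = m₂ + m₃`. -/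
theorem bs_desc_case (d₂ d₃ m₂ m₃ : ℤ) (hd₂ : (d₂ - (2 * m₂ - 1)) % 4 = 0)
    (hd₃ : (d₃ - (2 * m₃ - 1)) % 4 = 0)
    (h : (m₂ + m₃) ^ 2 * d₂ * d₃ = m₂ ^ 2 * (d₂ + d₃ - 1) * d₃ + m₃ ^ 2 * (d₂ + d₃ - 1) * d₂) :
    m₂ = 0 ∧ m₃ = 0 := by
  apply bs_descent m₂ m₃ d₂ d₃ hd₂ hd₃
  linear_combination -h

/-- The arithmetic heart: all three multiplicities vanish. -/
theorem bs_arith (δ₁ δ₂ δ₃ d₁ d₂ d₃ m₁ m₂ m₃ a₁ a₂ a₃ : ℤ)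
    (hδ₁ : δ₁ = 1 ∨ δ₁ = -1) (hδ₂ : δ₂ = 1 ∨ δ₂ = -1) (hδ₃ : δ₃ = 1 ∨ δ₃ = -1)
    (hd₁ : d₁ = δ₁ + 4 * a₁ + 2 * m₁) (hd₂ : d₂ = δ₂ + 4 * a₂ + 2 * m₂)
    (hd₃ : d₃ = δ₃ + 4 * a₃ + 2 * m₃)
    (hp₁ : 0 < d₁) (hp₂ : 0 < d₂) (hp₃ : 0 < d₃)
    (h1 : 1 + δ₁ * d₁ + δ₂ * d₂ + δ₃ * d₃ = 0)
    (h2 : δ₁ * m₁ + δ₂ * m₂ + δ₃ * m₃ = 0)
    (h3 : δ₁ * m₁ ^ 2 * d₂ * d₃ + δ₂ * m₂ ^ 2 * d₁ * d₃ + δ₃ * m₃ ^ 2 * d₁ * d₂ = 0) :
    m₁ = 0 ∧ m₂ = 0 ∧ m₃ = 0 := by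
  rcases hδ₁ with rfl | rfl <;> rcases hδ₂ with rfl | rfl <;> rcases hδ₃ with rfl | rfl
  · exfalso; linarith
  · -- (+,+,-): d₃ = 1 + d₁ + d₂, m₃ = m₁ + m₂
    have e3 : d₃ = 1 + d₁ + d₂ := by linarith
    have em : m₃ = m₁ + m₂ := by linarith
    obtain ⟨z1, z2⟩ := bs_cs_case d₁ d₂ m₁ m₂ hp₁ hp₂ (by rw [e3, em] at h3; linear_combination h3)
    exact ⟨z1, z2, by rw [em, z1, z2]; rfl⟩
  · -- (+,-,+)
    have e3 : d₂ = 1 + d₁ + d₃ := by linarith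
    have em : m₂ = m₁ + m₃ := by linarith
    obtain ⟨z1, z2⟩ := bs_cs_case d₁ d₃ m₁ m₃ hp₁ hp₃ (by rw [e3, em] at h3; linear_combination h3)
    exact ⟨z1, by rw [em, z1, z2]; rfl, z2⟩
  · -- (+,-,-): d₁ = d₂ + d₃ - 1, m₁ = m₂ + m₃
    have e1 : d₁ = d₂ + d₃ - 1 := by linarith
    have em : m₁ = m₂ + m₃ := by linarith
    obtain ⟨z2, z3⟩ := bs_desc_case d₂ d₃ m₂ m₃ (by rw [hd₂]; omega) (by rw [hd₃]; omega)
      (by rw [e1, em] at h3; linear_combination h3)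
    exact ⟨by rw [em, z2, z3]; rfl, z2, z3⟩
  · -- (-,+,+)
    have e3 : d₁ = 1 + d₂ + d₃ := by linarith
    have em : m₁ = m₂ + m₃ := by linarith
    obtain ⟨z1, z2⟩ := bs_cs_case d₂ d₃ m₂ m₃ hp₂ hp₃ (by rw [e3, em] at h3; linear_combination h3)
    exact ⟨by rw [em, z1, z2]; rfl, z1, z2⟩
  · -- (-,+,-)
    have e1 : d₂ = d₁ + d₃ - 1 := by linarith
    have em : m₂ = m₁ + m₃ := by linarith
    obtain ⟨z2, z3⟩ := bs_desc_case d₁ d₃ m₁ m₃ (by rw [hd₁]; omega) (by rw [hd₃]; omega)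
      (by rw [e1, em] at h3; linear_combination h3)
    exact ⟨z2, by rw [em, z2, z3]; rfl, z3⟩
  · -- (-,-,+)
    have e1 : d₃ = d₁ + d₂ - 1 := by linarith
    have em : m₃ = m₁ + m₂ := by linarith
    obtain ⟨z2, z3⟩ := bs_desc_case d₁ d₂ m₁ m₂ (by rw [hd₁]; omega) (by rw [hd₂]; omega)
      (by rw [e1, em] at h3; linear_combination h3)
    exact ⟨z2, z3, by rw [em, z2, z3]; rfl⟩
  · exfalso; linarith

end Cfsg.Agent.Helper20
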