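-- helper20: character values on a fused quaternion Sylow subgroup of order 8.
import Cfsg.Agent.Helper20.BSQ8Res
import Cfsg.Agent.Helper3.ClassFunction
import Cfsg.Agent.Helper75.FrobeniusKernel

set_option autoImplicit false

namespace Cfsg.Agent.Helper20

open Cfsg QuaternionGroup
open scoped ComplexConjugate

variable {G : Type*} [Group G]

theorem q8_coe_sq (S : Subgroup G) (e : S ≃* QuaternionGroup 2) :
    ((e.symm (a 1) : S) : G) ^ 2 = (e.symm (a 2) : G) := by
  have h : (a 1 : QuaternionGroup 2) ^ 2 = a 2 := by decide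
  rw [← h, map_pow, Subgroup.coe_pow]

theorem q8_coe_cube (S : Subgroup G) (e : S ≃* QuaternionGroup 2) :
    ((e.symm (a 1) : S) : G) ^ 3 = (e.symm (a 3) : G) := by
  have h : (a 1 : QuaternionGroup 2) ^ 3 = a 3 := by decide
  rw [← h, map_pow, Subgroup.coe_pow]

theorem q8_coe_ne_one (S : Subgroup G) (e : S ≃* QuaternionGroup 2) (q : QuaternionGroup 2)
    (hq : q ≠ 1) : ((e.symm q : S) : G) ≠ 1 := by
  intro h
  apply hq
  have h1 : (e.symm q : S) = 1 := Subtype.ext h
  have h2 := congrArg e h1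
  rwa [MulEquiv.apply_symm_apply, map_one] at h2

theorem q8_orderOf_u (S : Subgroup G) (e : S ≃* QuaternionGroup 2) :
    orderOf ((e.symm (a 1) : S) : G) = 4 := by
  haveI : Fact (Nat.Prime 2) := ⟨Nat.prime_two⟩
  have h4 : ((e.symm (a 1) : S) : G) ^ 2 ^ (1 + 1) = 1 := by
    have h : (a 1 : QuaternionGroup 2) ^ 2 ^ (1 + 1) = 1 := by decide
    rw [← Subgroup.coe_pow, ← map_pow, h, map_one]; rfl
  have h2 : ¬ ((e.symm (a 1) : S) : G) ^ 2 ^ 1 = 1 := by
    rw [pow_one, q8_coe_sq]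
    exact q8_coe_ne_one S e (a 2) (by decide)
  have := orderOf_eq_prime_pow h2 h4
  rw [this]; norm_num

theorem q8_orderOf_t (S : Subgroup G) (e : S ≃* QuaternionGroup 2) :
    orderOf ((e.symm (a 2) : S) : G) = 2 := by
  haveI : Fact (Nat.Prime 2) := ⟨Nat.prime_two⟩
  apply orderOf_eq_prime
  · have h : (a 2 : QuaternionGroup 2) ^ 2 = 1 := by decide
    rw [← Subgroup.coe_pow, ← map_pow, h, map_one]; rfl
  · exact q8_coe_ne_one S e (a 2) (by decide)

/-- The values of an irreducible character on a fused quaternion subgroup of order 8. -/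
theorem q8_char_data [Finite G] (S : Subgroup G) (e : S ≃* QuaternionGroup 2)
    (hfused : ∀ q q' : QuaternionGroup 2, q * q ≠ 1 → q' * q' ≠ 1 →
      IsConj (e.symm q : G) (e.symm q' : G))
    (χ : IrrCharacter G) :
    ∃ D Mm A : ℕ, 0 < D ∧ (χ : G → ℂ) 1 = D ∧
      (χ : G → ℂ) (e.symm (a 2) : G) = (D : ℂ) - 4 * Mm ∧
      (χ : G → ℂ) (e.symm (a 1) : G) = (D : ℂ) - 2 * Mm - 4 * A := by
  have hχc : IsCharacter G (χ : G → ℂ) := Helper74.isCharacter_of_isIrr χ.2
  have hcf : IsClassFunction G (χ : G → ℂ) := Helper74.isClassFunction_of_isCharacter hχc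
  obtain ⟨D, hDpos, hD⟩ := Helper75.fk_irr_apply_one χ
  have hreal : (χ : G → ℂ) (((e.symm (a 1) : S) : G) ^ 3) = (χ : G → ℂ) (e.symm (a 1) : G) := by
    rw [q8_coe_cube]
    exact Helper3.isClassFunction_isConj hcf (hfused (a 3) (a 1) (by decide) (by decide))
  obtain ⟨m, hm⟩ := char_c4_mult hχc _ (q8_orderOf_u S e) hreal
  rw [q8_coe_sq] at hm
  have hc : ∀ q : QuaternionGroup 2, q * q ≠ 1 →
      (χ : G → ℂ) (e.symm q : G) = (χ : G → ℂ) (e.symm (a 1) : G) := by
    intro q hq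
    exact Helper3.isClassFunction_isConj hcf (hfused q (a 1) hq (by decide))
  obtain ⟨n, hn⟩ := char_q8_mult hχc S e _ hc
  refine ⟨D, m, n, hDpos, hD, ?_, ?_⟩
  · rw [hD] at hm
    linear_combination -hm
  · rw [hD] at hm hn
    linear_combination (-1 / 2 : ℂ) * hn - (1 / 2 : ℂ) * hm

end Cfsg.Agent.Helper20
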