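-- helper20: the character-theoretic core of the Brauer–Suzuki theorem for quaternion Sylow
-- 2-subgroups of order 8: in the fused case some nonprincipal irreducible character has the
-- involution in its kernel.
import Cfsg.Agent.S0925
import Cfsg.Agent.S0947
import Cfsg.Agent.Helper20.BSQ8Arith
import Cfsg.Agent.Helper20.BSQ8Comb
import Cfsg.Agent.Helper20.BSQ8Data
import Cfsg.Agent.Helper16.CharBasic
import Cfsg.Agent.Helper74.DefectZero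
import Cfsg.Agent.Helper79.PrincipalCrit

set_option autoImplicit false

namespace Cfsg.Agent.Helper20

open Cfsg QuaternionGroup
open scoped ComplexConjugate

theorem finsum_mem_eq_sum_ite {ι R : Type*} [Fintype ι] [AddCommMonoid R] (s : Set ι)
    [DecidablePred (· ∈ s)] (f : ι → R) :
    ∑ᶠ i ∈ s, f i = ∑ i, if i ∈ s then f i else 0 := by
  rw [finsum_mem_def, finsum_eq_sum_of_fintype]
  refine Finset.sum_congr rfl (fun i _ => ?_)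
  rw [Set.indicator_apply]

variable {G : Type*} [Group G]

/-- the class multiplication formula, for irreducible characters as functions. -/
theorem sum_irr_mul_conj' [Fintype G] {χ : G → ℂ} (hχ : IsIrrCharacter G χ) (x y : G) :
    ∑ g : G, χ (x * (g * y * g⁻¹)) = (Nat.card G : ℂ) * χ y / χ 1 * χ x := by
  obtain ⟨n, ρ, hirr, rfl⟩ := hχ
  haveI := hirr
  rw [Representation.char_one]
  exact Helper16.sum_char_mul_conj ρ x y

theorem exists_irr_ker_of_q8 [Finite G] (S : Subgroup G) (e : S ≃* QuaternionGroup 2)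
    (hfused : ∀ q q' : QuaternionGroup 2, q * q ≠ 1 → q' * q' ≠ 1 →
      IsConj (e.symm q : G) (e.symm q' : G))
    (hnc : ∃ k : ℕ, (Cfsg.pPrimeCore 2
      (Subgroup.centralizer ({(e.symm (a 1) : G)} : Set G))).index = 2 ^ k)
    (hc4 : (Nat.card (Subgroup.centralizer ({(e.symm (a 1) : G)} : Set G))).factorization 2 = 2)
    (hodd : ∀ g : G, ¬ 2 ∣ orderOf ((e.symm (a 2) : G) * (g * (e.symm (a 2) : G) * g⁻¹))) :
    ∃ χ : IrrCharacter G, χ ≠ Helper79.principalIrr G ∧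
      (χ : G → ℂ) (e.symm (a 2) : G) = (χ : G → ℂ) 1 := by
  classical
  haveI : Fact (Nat.Prime 2) := ⟨Nat.prime_two⟩
  haveI : Fintype G := Fintype.ofFinite G
  letI : Fintype (IrrCharacter G) := Helper74.irrFintype G
  obtain ⟨M, hM⟩ := Helper74.exists_isPModular 2 Nat.prime_two
  -- character data
  choose D Mm A hDpos hD hT hU using fun χ : IrrCharacter G => q8_char_data S e hfused χ
  obtain ⟨u, hudef⟩ : ∃ u : G, u = (e.symm (a 1) : G) := ⟨_, rfl⟩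
  obtain ⟨t, htdef⟩ : ∃ t : G, t = (e.symm (a 2) : G) := ⟨_, rfl⟩
  rw [← hudef] at hnc hc4
  rw [← htdef] at hodd ⊢
  simp only [← hudef] at hU
  simp only [← htdef] at hT
  have huo : orderOf u = 4 := by rw [hudef]; exact q8_orderOf_u S e
  have hto : orderOf t = 2 := by rw [htdef]; exact q8_orderOf_t S e
  have hu1 : u ≠ 1 := by
    intro h; rw [h, orderOf_one] at huo; omega
  have huinv : IsConj u⁻¹ u := by
    have h4 : u ^ 4 = 1 := by rw [← huo]; exact pow_orderOf_eq_one u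
    have h3 : u⁻¹ = u ^ 3 := by
      apply inv_eq_of_mul_eq_one_right
      rw [← pow_succ']; exact h4
    rw [h3, hudef, q8_coe_cube]
    exact hfused (a 3) (a 1) (by decide) (by decide)
  -- the principal block
  obtain ⟨B, hBdef⟩ : ∃ B : Set (IrrCharacter G), B = principalBlock M G := ⟨_, rfl⟩
  have hB : IsPBlock M B := by rw [hBdef]; exact Helper78.isPBlock_principalBlock M G
  have h1B : Helper79.principalIrr G ∈ B := by rw [hBdef]; exact Helper79.principalIrr_mem hM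
  -- integer values at `u`
  obtain ⟨cZ, hcZdef⟩ : ∃ cZ : IrrCharacter G → ℤ,
      cZ = fun χ => (D χ : ℤ) - 2 * (Mm χ : ℤ) - 4 * (A χ : ℤ) := ⟨_, rfl⟩
  have hcZ : ∀ χ : IrrCharacter G, (χ : G → ℂ) u = (cZ χ : ℂ) := by
    intro χ; rw [hU, hcZdef]; push_cast; ring
  obtain ⟨w, hwdef⟩ : ∃ w : IrrCharacter G → ℤ, w = fun χ => if χ ∈ B then cZ χ else 0 :=
    ⟨_, rfl⟩
  have hw_mem : ∀ χ, χ ∈ B → w χ = cZ χ := by
    intro χ h; rw [hwdef]; exact if_pos h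
  have hw_not : ∀ χ, χ ∉ B → w χ = 0 := by
    intro χ h; rw [hwdef]; exact if_neg h
  -- the norm sum
  have hnorm := (Cfsg.Agent.S0947.result 2 M hM u ⟨2, by rw [huo]; norm_num⟩ hu1
    (1 : Subgroup.centralizer ({u} : Set G)) (by rw [orderOf_one]; norm_num)).2 hnc
  rw [hc4, ← hBdef] at hnorm
  simp only [Subgroup.coe_one, mul_one] at hnorm
  have hsumw : ∑ χ, (w χ) ^ 2 = 4 := by
    rw [finsum_mem_eq_sum_ite] at hnorm
    have h1 : ((∑ χ, (w χ) ^ 2 : ℤ) : ℝ) = ((2 ^ 2 : ℕ) : ℝ) := by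
      rw [← hnorm]
      push_cast
      refine Finset.sum_congr rfl (fun χ _ => ?_)
      by_cases hχ : χ ∈ B
      · rw [if_pos hχ, hw_mem χ hχ, hcZ, Complex.norm_intCast, sq_abs]
      · rw [if_neg hχ, hw_not χ hχ]; norm_num
    have h2 : ((∑ χ, (w χ) ^ 2 : ℤ) : ℝ) = ((4 : ℤ) : ℝ) := by
      rw [h1]; norm_num
    exact_mod_cast h2
  have hw0 : w (Helper79.principalIrr G) = 1 := by
    rw [hw_mem _ h1B]
    have h := hcZ (Helper79.principalIrr G)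
    have h' : ((Helper79.principalIrr G : IrrCharacter G) : G → ℂ) u = 1 := rfl
    rw [h'] at h
    exact_mod_cast h.symm
  obtain ⟨χ₁, χ₂, χ₃, h10, h20, h30, h12, h13, h23, hw1, hw2, hw3, hrest⟩ :=
    exists_three_of_sum_sq_eq_four w (Helper79.principalIrr G) hw0 hsumw
  -- membership in the block and values at u
  have hmemB : ∀ χ, w χ ≠ 0 → χ ∈ B := by
    intro χ h
    by_contra hc
    exact h (hw_not χ hc)
  have hχ₁B : χ₁ ∈ B := hmemB χ₁ (by rcases hw1 with h | h <;> rw [h] <;> norm_num)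
  have hχ₂B : χ₂ ∈ B := hmemB χ₂ (by rcases hw2 with h | h <;> rw [h] <;> norm_num)
  have hχ₃B : χ₃ ∈ B := hmemB χ₃ (by rcases hw3 with h | h <;> rw [h] <;> norm_num)
  -- block orthogonality against `u`
  have hθ : ∀ g x : G, IsPPart 2 g x → ¬ IsConj x u →
      1 + (χ₁ : G → ℂ) g * (w χ₁ : ℂ) + (χ₂ : G → ℂ) g * (w χ₂ : ℂ) +
        (χ₃ : G → ℂ) g * (w χ₃ : ℂ) = 0 := by
    intro g x hgx hne
    have hbo := (Cfsg.Agent.S0925.result (G := G) 2 M hM).2 g u x u hgx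
      ⟨1, by rw [mul_one], Commute.one_right u, ⟨2, by rw [huo]; norm_num⟩,
        by rw [orderOf_one]; norm_num⟩ hne B hB
    rw [finsum_mem_eq_sum_ite] at hbo
    have hterm : ∀ χ : IrrCharacter G,
        (if χ ∈ B then (χ : G → ℂ) g * (χ : G → ℂ) u⁻¹ else 0) = (χ : G → ℂ) g * (w χ : ℂ) := by
      intro χ
      have hcf : IsClassFunction G (χ : G → ℂ) :=
        Helper74.isClassFunction_of_isCharacter (Helper74.isCharacter_of_isIrr χ.2)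
      by_cases hχ : χ ∈ B
      · rw [if_pos hχ, hw_mem χ hχ, Helper3.isClassFunction_isConj hcf huinv, hcZ]
      · rw [if_neg hχ, hw_not χ hχ]; simp
    simp only [hterm] at hbo
    rw [sum_eq_four_terms (fun χ : IrrCharacter G => (χ : G → ℂ) g * (w χ : ℂ))
      (Helper79.principalIrr G) χ₁ χ₂ χ₃ h10 h20 h30 h12 h13 h23] at hbo
    · simp only [hw0] at hbo
      have h' : ((Helper79.principalIrr G : IrrCharacter G) : G → ℂ) g = 1 := rfl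
      rw [h'] at hbo
      push_cast at hbo
      linear_combination hbo
    · intro χ hc0 hc1 hc2 hc3
      show (χ : G → ℂ) g * (w χ : ℂ) = 0
      rw [hrest χ hc0 hc1 hc2 hc3]; simp
  -- the three relations
  have hnot1 : ¬ IsConj (1 : G) u := by
    intro h
    exact hu1 (isConj_one_right.mp h)
  have hnott : ¬ IsConj t u := by
    intro h
    obtain ⟨c, hc⟩ := isConj_iff.mp h
    have h5 := (MulAut.conj c).orderOf_eq t
    rw [MulAut.conj_apply, hc, huo, hto] at h5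
    omega
  have hP1 : IsPPart 2 (1 : G) 1 :=
    ⟨1, mul_one 1, Commute.one_right 1, ⟨0, by rw [orderOf_one, pow_zero]⟩,
      by rw [orderOf_one]; norm_num⟩
  have hPt : IsPPart 2 t t :=
    ⟨1, mul_one t, Commute.one_right t, ⟨1, by rw [hto, pow_one]⟩,
      by rw [orderOf_one]; norm_num⟩
  have hR1 := hθ 1 1 hP1 hnot1
  have hR2 := hθ t t hPt hnott
  have hR3 : ∀ g : G, 1 + (χ₁ : G → ℂ) (t * (g * t * g⁻¹)) * (w χ₁ : ℂ) +
      (χ₂ : G → ℂ) (t * (g * t * g⁻¹)) * (w χ₂ : ℂ) +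
      (χ₃ : G → ℂ) (t * (g * t * g⁻¹)) * (w χ₃ : ℂ) = 0 := by
    intro g
    exact hθ _ 1 ⟨t * (g * t * g⁻¹), one_mul _, Commute.one_left _,
      ⟨0, by rw [orderOf_one, pow_zero]⟩, hodd g⟩ hnot1
  -- sum over the group
  have hN : (Nat.card G : ℂ) ≠ 0 := by
    have : Nat.card G ≠ 0 := Nat.card_pos.ne'
    exact_mod_cast this
  have hsumG : (Nat.card G : ℂ) +
      ((Nat.card G : ℂ) * (χ₁ : G → ℂ) t / (χ₁ : G → ℂ) 1 * (χ₁ : G → ℂ) t) * (w χ₁ : ℂ) +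
      ((Nat.card G : ℂ) * (χ₂ : G → ℂ) t / (χ₂ : G → ℂ) 1 * (χ₂ : G → ℂ) t) * (w χ₂ : ℂ) +
      ((Nat.card G : ℂ) * (χ₃ : G → ℂ) t / (χ₃ : G → ℂ) 1 * (χ₃ : G → ℂ) t) * (w χ₃ : ℂ) = 0 := by
    rw [← sum_irr_mul_conj' χ₁.2, ← sum_irr_mul_conj' χ₂.2, ← sum_irr_mul_conj' χ₃.2]
    have h0 : ∑ g : G, (1 + (χ₁ : G → ℂ) (t * (g * t * g⁻¹)) * (w χ₁ : ℂ) +
      (χ₂ : G → ℂ) (t * (g * t * g⁻¹)) * (w χ₂ : ℂ) +
      (χ₃ : G → ℂ) (t * (g * t * g⁻¹)) * (w χ₃ : ℂ)) = 0 :=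
      Finset.sum_eq_zero (fun g _ => hR3 g)
    rw [Finset.sum_add_distrib, Finset.sum_add_distrib, Finset.sum_add_distrib,
      Finset.sum_const, Finset.card_univ, nsmul_eq_mul, mul_one, ← Finset.sum_mul,
      ← Finset.sum_mul, ← Finset.sum_mul, ← Nat.card_eq_fintype_card] at h0
    exact h0
  -- integers
  obtain ⟨d₁, hd₁⟩ : ∃ d₁ : ℤ, d₁ = D χ₁ := ⟨_, rfl⟩
  obtain ⟨d₂, hd₂⟩ : ∃ d₂ : ℤ, d₂ = D χ₂ := ⟨_, rfl⟩
  obtain ⟨d₃, hd₃⟩ : ∃ d₃ : ℤ, d₃ = D χ₃ := ⟨_, rfl⟩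
  obtain ⟨m₁, hm₁⟩ : ∃ m₁ : ℤ, m₁ = Mm χ₁ := ⟨_, rfl⟩
  obtain ⟨m₂, hm₂⟩ : ∃ m₂ : ℤ, m₂ = Mm χ₂ := ⟨_, rfl⟩
  obtain ⟨m₃, hm₃⟩ : ∃ m₃ : ℤ, m₃ = Mm χ₃ := ⟨_, rfl⟩
  have hp₁ : 0 < d₁ := by rw [hd₁]; exact_mod_cast hDpos χ₁
  have hp₂ : 0 < d₂ := by rw [hd₂]; exact_mod_cast hDpos χ₂
  have hp₃ : 0 < d₃ := by rw [hd₃]; exact_mod_cast hDpos χ₃
  have hχ1 : ∀ χ : IrrCharacter G, (χ : G → ℂ) 1 = ((D χ : ℤ) : ℂ) := by
    intro χ; rw [hD]; push_cast; rfl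
  have hχt : ∀ χ : IrrCharacter G, (χ : G → ℂ) t = (((D χ : ℤ) - 4 * (Mm χ : ℤ) : ℤ) : ℂ) := by
    intro χ; rw [hT]; push_cast; rfl
  have hwc₁ : w χ₁ = d₁ - 2 * m₁ - 4 * (A χ₁ : ℤ) := by
    rw [hw_mem χ₁ hχ₁B, hcZdef, hd₁, hm₁]
  have hwc₂ : w χ₂ = d₂ - 2 * m₂ - 4 * (A χ₂ : ℤ) := by
    rw [hw_mem χ₂ hχ₂B, hcZdef, hd₂, hm₂]
  have hwc₃ : w χ₃ = d₃ - 2 * m₃ - 4 * (A χ₃ : ℤ) := by
    rw [hw_mem χ₃ hχ₃B, hcZdef, hd₃, hm₃]
  have hI1 : 1 + w χ₁ * d₁ + w χ₂ * d₂ + w χ₃ * d₃ = 0 := by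
    rw [hχ1 χ₁, hχ1 χ₂, hχ1 χ₃, ← hd₁, ← hd₂, ← hd₃] at hR1
    have : ((1 + w χ₁ * d₁ + w χ₂ * d₂ + w χ₃ * d₃ : ℤ) : ℂ) = 0 := by
      push_cast; linear_combination hR1
    exact_mod_cast this
  have hI2' : 1 + w χ₁ * (d₁ - 4 * m₁) + w χ₂ * (d₂ - 4 * m₂) + w χ₃ * (d₃ - 4 * m₃) = 0 := by
    rw [hχt χ₁, hχt χ₂, hχt χ₃, ← hd₁, ← hd₂, ← hd₃, ← hm₁, ← hm₂, ← hm₃] at hR2
    have : ((1 + w χ₁ * (d₁ - 4 * m₁) + w χ₂ * (d₂ - 4 * m₂) + w χ₃ * (d₃ - 4 * m₃) : ℤ) : ℂ)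
        = 0 := by
      push_cast; push_cast at hR2; linear_combination hR2
    exact_mod_cast this
  have hI2 : w χ₁ * m₁ + w χ₂ * m₂ + w χ₃ * m₃ = 0 := by
    have : 4 * (w χ₁ * m₁ + w χ₂ * m₂ + w χ₃ * m₃) = 0 := by
      linear_combination hI1 - hI2'
    omega
  have hI3' : d₁ * d₂ * d₃ + w χ₁ * (d₁ - 4 * m₁) ^ 2 * d₂ * d₃ +
      w χ₂ * (d₂ - 4 * m₂) ^ 2 * d₁ * d₃ + w χ₃ * (d₃ - 4 * m₃) ^ 2 * d₁ * d₂ = 0 := by
    rw [hχ1 χ₁, hχ1 χ₂, hχ1 χ₃, hχt χ₁, hχt χ₂, hχt χ₃, ← hd₁, ← hd₂, ← hd₃, ← hm₁, ← hm₂,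
      ← hm₃] at hsumG
    have hd₁0 : (d₁ : ℂ) ≠ 0 := by exact_mod_cast hp₁.ne'
    have hd₂0 : (d₂ : ℂ) ≠ 0 := by exact_mod_cast hp₂.ne'
    have hd₃0 : (d₃ : ℂ) ≠ 0 := by exact_mod_cast hp₃.ne'
    have : ((d₁ * d₂ * d₃ + w χ₁ * (d₁ - 4 * m₁) ^ 2 * d₂ * d₃ +
      w χ₂ * (d₂ - 4 * m₂) ^ 2 * d₁ * d₃ + w χ₃ * (d₃ - 4 * m₃) ^ 2 * d₁ * d₂ : ℤ) : ℂ) = 0 := by
      push_cast
      push_cast at hsumG
      have hmul := congrArg (fun z => z * ((d₁ : ℂ) * d₂ * d₃) / (Nat.card G : ℂ)) hsumG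
      simp only [zero_mul, zero_div] at hmul
      rw [← hmul]
      field_simp
    exact_mod_cast this
  have hI3 : w χ₁ * m₁ ^ 2 * d₂ * d₃ + w χ₂ * m₂ ^ 2 * d₁ * d₃ + w χ₃ * m₃ ^ 2 * d₁ * d₂ = 0 := by
    have : 16 * (w χ₁ * m₁ ^ 2 * d₂ * d₃ + w χ₂ * m₂ ^ 2 * d₁ * d₃ + w χ₃ * m₃ ^ 2 * d₁ * d₂)
        = 0 := by
      linear_combination hI3' - d₁ * d₂ * d₃ * hI1 + 8 * d₁ * d₂ * d₃ * hI2
    omega
  obtain ⟨z₁, -, -⟩ := bs_arith (w χ₁) (w χ₂) (w χ₃) d₁ d₂ d₃ m₁ m₂ m₃ (A χ₁) (A χ₂) (A χ₃)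
    hw1 hw2 hw3 (by linarith) (by linarith) (by linarith) hp₁ hp₂ hp₃ hI1 hI2 hI3
  refine ⟨χ₁, h10, ?_⟩
  rw [hχt χ₁, hχ1 χ₁, ← hm₁, z₁]
  push_cast; ring

end Cfsg.Agent.Helper20
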