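import Cfsg.Agent.Helper20.Dihedral

set_option autoImplicit false

/-!
Basic facts on isolated involutions.
-/

namespace Cfsg.Agent.Helper20

variable {G : Type*} [Group G]

theorem isolated_sq {z : G} (hz : Cfsg.IsIsolatedInvolution z) : z * z = 1 := by
  have h := pow_orderOf_eq_one z
  rw [hz.1, pow_two] at h
  exact h

theorem isolated_ne_one {z : G} (hz : Cfsg.IsIsolatedInvolution z) : z ≠ 1 := by
  intro h
  have h1 := hz.1
  rw [h, orderOf_one] at h1
  omega

theorem isolated_inv {z : G} (hz : Cfsg.IsIsolatedInvolution z) : z⁻¹ = z :=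
  inv_eq_self_of_sq (isolated_sq hz)

theorem conj_sq {z : G} (hz : z * z = 1) (g : G) : (g * z * g⁻¹) * (g * z * g⁻¹) = 1 := by
  have : (g * z * g⁻¹) * (g * z * g⁻¹) = g * (z * z) * g⁻¹ := by group
  rw [this, hz, mul_one, mul_inv_cancel]

/-- Key fact: the product of an isolated involution with any of its conjugates has odd order. -/
theorem isolated_odd_order [Finite G] {z : G} (hz : Cfsg.IsIsolatedInvolution z) (g : G) :
    Odd (orderOf (z * (g * z * g⁻¹))) := by
  have hzz := isolated_sq hz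
  have htt := conj_sq hzz g
  by_contra hodd
  rw [Nat.not_odd_iff_even] at hodd
  obtain ⟨k, hk⟩ := hodd
  have hpos : 0 < orderOf (z * (g * z * g⁻¹)) := orderOf_pos _
  have hk0 : 0 < k := by omega
  have hk2 : orderOf (z * (g * z * g⁻¹)) = 2 * k := by omega
  obtain ⟨hconj, hne, hcomm, -, -, -⟩ := dihedral_middle hzz htt hk0 hk2
  have : ∃ c : G, c * z * c⁻¹ = (z * (g * z * g⁻¹)) ^ k * z := by
    rcases hconj with ⟨c, hc⟩ | ⟨c, hc⟩
    · exact ⟨c, hc⟩
    · refine ⟨c * g, ?_⟩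
      rw [← hc]
      group
  obtain ⟨c, hc⟩ := this
  rw [← hc] at hcomm hne
  exact hne (hz.2 c hcomm)

/-- Two involutions whose product has odd order `2k+1` are conjugate by `(x*t)^k`. -/
theorem conj_of_odd_order {x t : G} (hx : x * x = 1) (ht : t * t = 1) {k : ℕ}
    (hord : orderOf (x * t) = 2 * k + 1) :
    (x * t) ^ k * x * ((x * t) ^ k)⁻¹ = t := by
  rw [pow_conj_left hx ht k]
  have h1 : (x * t) ^ (2 * k) * (x * t) = 1 := by
    rw [← pow_succ, ← hord, pow_orderOf_eq_one]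
  have h2 : (x * t) ^ (2 * k) = (x * t)⁻¹ := eq_inv_of_mul_eq_one_left h1
  rw [h2, mul_inv_rev, inv_eq_self_of_sq hx, inv_eq_self_of_sq ht, mul_assoc, hx, mul_one]

/-- In a finite group, an isolated involution is conjugate to each of its conjugates `g z g⁻¹`
by a power of `z * (g z g⁻¹)`. -/
theorem isolated_conj_by_pow [Finite G] {z : G} (hz : Cfsg.IsIsolatedInvolution z) (g : G) :
    ∃ k : ℕ, (z * (g * z * g⁻¹)) ^ k * z * ((z * (g * z * g⁻¹)) ^ k)⁻¹ = g * z * g⁻¹ := by
  obtain ⟨k, hk⟩ := isolated_odd_order hz g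
  exact ⟨k, conj_of_odd_order (isolated_sq hz) (conj_sq (isolated_sq hz) g) hk⟩

/-- Elements of odd order with equal squares are equal. -/
theorem eq_of_sq_eq_of_odd {a b : G} (ha : Odd (orderOf a)) (hb : Odd (orderOf b))
    (h : a * a = b * b) : a = b := by
  obtain ⟨i, hi⟩ := ha
  obtain ⟨j, hj⟩ := hb
  -- n = (2i+1)(2j+1) = 2 l + 1
  have hodd : Odd ((2 * i + 1) * (2 * j + 1)) := by
    exact (odd_two_mul_add_one i).mul (odd_two_mul_add_one j)
  obtain ⟨l, hl⟩ := hodd
  have ha1 : a ^ (2 * l + 1) = 1 := by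
    rw [← hl, ← hi, pow_mul, pow_orderOf_eq_one, one_pow]
  have hb1 : b ^ (2 * l + 1) = 1 := by
    rw [← hl, ← hj, mul_comm, pow_mul, pow_orderOf_eq_one, one_pow]
  have ha2 : a = (a * a) ^ (l + 1) := by
    rw [← pow_two, ← pow_mul]
    have : 2 * (l + 1) = (2 * l + 1) + 1 := by ring
    rw [this, pow_succ, ha1, one_mul]
  have hb2 : b = (b * b) ^ (l + 1) := by
    rw [← pow_two, ← pow_mul]
    have : 2 * (l + 1) = (2 * l + 1) + 1 := by ring
    rw [this, pow_succ, hb1, one_mul]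
  rw [ha2, hb2, h]

theorem orderOf_mul_comm' (a b : G) : orderOf (a * b) = orderOf (b * a) := by
  have : b * a = b * (a * b) * b⁻¹ := by group
  rw [this]
  exact (orderOf_injective (MulAut.conj b).toMonoidHom (MulAut.conj b).injective (a * b)).symm

/-- A conjugate of an isolated involution is an isolated involution. -/
theorem isolated_conj {z : G} (hz : Cfsg.IsIsolatedInvolution z) (g : G) :
    Cfsg.IsIsolatedInvolution (g * z * g⁻¹) := by
  constructor
  · have : g * z * g⁻¹ = (MulAut.conj g).toMonoidHom z := by simp [MulAut.conj_apply]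
    rw [this, orderOf_injective _ (MulAut.conj g).injective, hz.1]
  · intro h hc
    -- conjugate back by g⁻¹
    have key : g⁻¹ * (h * (g * z * g⁻¹) * h⁻¹) * g = (g⁻¹ * h * g) * z * (g⁻¹ * h * g)⁻¹ := by group
    have hc' : Commute z ((g⁻¹ * h * g) * z * (g⁻¹ * h * g)⁻¹) := by
      rw [← key]
      have h1 : z = g⁻¹ * (g * z * g⁻¹) * g := by group
      have : Commute (g⁻¹ * (g * z * g⁻¹) * g) (g⁻¹ * (h * (g * z * g⁻¹) * h⁻¹) * g) := by
        unfold Commute SemiconjBy at hc ⊢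
        have e1 : g⁻¹ * (g * z * g⁻¹) * g * (g⁻¹ * (h * (g * z * g⁻¹) * h⁻¹) * g)
            = g⁻¹ * ((g * z * g⁻¹) * (h * (g * z * g⁻¹) * h⁻¹)) * g := by group
        have e2 : g⁻¹ * (h * (g * z * g⁻¹) * h⁻¹) * g * (g⁻¹ * (g * z * g⁻¹) * g)
            = g⁻¹ * ((h * (g * z * g⁻¹) * h⁻¹) * (g * z * g⁻¹)) * g := by group
        rw [e1, e2, hc]
      rwa [← h1] at this
    have h2 := hz.2 _ hc'
    rw [← key] at h2
    -- g⁻¹ * X * g = z → X = g z g⁻¹
    have : h * (g * z * g⁻¹) * h⁻¹ = g * (g⁻¹ * (h * (g * z * g⁻¹) * h⁻¹) * g) * g⁻¹ := by group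
    rw [this, h2]

end Cfsg.Agent.Helper20
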