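-- helper20: group-theoretic input for the Brauer–Suzuki theorem with Sylow 2-subgroup `Q8`:
-- isolation of the involution and the structure of the centralizer of an element of order four.
import Mathlib
import Cfsg.Agent.Helper95.QuatInduct
import Cfsg.Agent.Helper53.NormalComplement
import Cfsg.Agent.Lib.Cores
import Cfsg.Agent.Helper20.Isolated

set_option autoImplicit false

namespace Cfsg.Agent.Helper20

open Cfsg QuaternionGroup

/-- A finite group with a cyclic Sylow `2`-subgroup: `O_{2'}` has `2`-power index. -/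
theorem pPrimeCore_index_of_isCyclic_sylow {H : Type*} [Group H] [Finite H] (P : Sylow 2 H)
    (hP : IsCyclic (P : Subgroup H)) : ∃ k : ℕ, (Cfsg.pPrimeCore 2 H).index = 2 ^ k := by
  haveI : Fact (Nat.Prime 2) := ⟨Nat.prime_two⟩
  obtain ⟨Q, N, hN, hc⟩ := Helper53.hasNormalPComplement_two_of_isCyclic P hP
  have hcard : Nat.card N * Nat.card (Q : Subgroup H) = Nat.card H := hc.card_mul_card
  obtain ⟨m, hm⟩ := Q.2.exists_card_eq
  have hQi : (Q : Subgroup H).index = Nat.card N := by
    have h1 := (Q : Subgroup H).card_mul_index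
    have hpos : 0 < Nat.card (Q : Subgroup H) := Nat.card_pos
    have h2 : Nat.card (Q : Subgroup H) * (Q : Subgroup H).index =
        Nat.card (Q : Subgroup H) * Nat.card N := by rw [h1, ← hcard, mul_comm]
    exact Nat.eq_of_mul_eq_mul_left hpos h2
  have hNi : N.index = 2 ^ m := by
    have h1 := N.card_mul_index
    have hpos : 0 < Nat.card N := Nat.card_pos
    have h2 : Nat.card N * N.index = Nat.card N * Nat.card (Q : Subgroup H) := by rw [h1, hcard]
    rw [← hm]
    exact Nat.eq_of_mul_eq_mul_left hpos h2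
  have hodd : ¬ 2 ∣ Nat.card N := by
    rw [← hQi]; exact Q.not_dvd_index
  have hle : N ≤ Cfsg.pPrimeCore 2 H := by
    apply Cfsg.Agent.Lib.le_pPrimeCore hN
    exact (Nat.coprime_comm.mp ((Nat.Prime.coprime_iff_not_dvd Nat.prime_two).2 hodd))
  have hdvd : (Cfsg.pPrimeCore 2 H).index ∣ 2 ^ m := by
    rw [← hNi]; exact Subgroup.index_dvd_of_le hle
  obtain ⟨j, _, hj⟩ := (Nat.dvd_prime_pow Nat.prime_two).1 hdvd
  exact ⟨j, hj⟩

variable {G : Type*} [Group G] [Finite G]

/-- An involution of a Sylow `2`-subgroup which is not conjugate to any other element of it is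
isolated. -/
theorem isIsolatedInvolution_of_sylow (P : Sylow 2 G) (x : G) (hx : orderOf x = 2)
    (hiso : ∀ g : G, g * x * g⁻¹ ∈ (P : Subgroup G) → g * x * g⁻¹ = x) :
    Cfsg.IsIsolatedInvolution x := by
  classical
  haveI : Fact (Nat.Prime 2) := ⟨Nat.prime_two⟩
  refine ⟨hx, ?_⟩
  intro g hc
  obtain ⟨y, hy⟩ : ∃ y : G, y = g * x * g⁻¹ := ⟨_, rfl⟩
  rw [← hy] at hc ⊢
  have hxy : Commute x y := hc
  have hyo : orderOf y = 2 := by
    have h5 := (MulAut.conj g).orderOf_eq x
    rw [MulAut.conj_apply, ← hy, hx] at h5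
    exact h5
  have hXp : IsPGroup 2 (Subgroup.zpowers x) :=
    IsPGroup.of_card (n := 1) (by rw [Nat.card_zpowers, hx, pow_one])
  have hYp : IsPGroup 2 (Subgroup.zpowers y) :=
    IsPGroup.of_card (n := 1) (by rw [Nat.card_zpowers, hyo, pow_one])
  have hle : Subgroup.zpowers y ≤
      Subgroup.normalizer ((Subgroup.zpowers x : Subgroup G) : Set G) := by
    rw [Subgroup.zpowers_le, Subgroup.mem_normalizer_iff]
    intro h
    have key : ∀ h ∈ Subgroup.zpowers x, y * h * y⁻¹ = h := by
      intro h hh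
      rw [Subgroup.mem_zpowers_iff] at hh
      obtain ⟨k, rfl⟩ := hh
      have h1 : Commute y (x ^ k) := (hxy.symm).zpow_right k
      rw [h1.eq, mul_inv_cancel_right]
    constructor
    · intro hh
      rw [key h hh]; exact hh
    · intro hh
      have h5 := key _ hh
      have e : y * h * y⁻¹ = h := by
        have h6 : y⁻¹ * (y * (y * h * y⁻¹) * y⁻¹) * y = y⁻¹ * (y * h * y⁻¹) * y := by rw [h5]
        have e1 : y⁻¹ * (y * (y * h * y⁻¹) * y⁻¹) * y = y * h * y⁻¹ := by group
        have e2 : y⁻¹ * (y * h * y⁻¹) * y = h := by group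
        rw [e1, e2] at h6
        exact h6
      rw [← e]; exact hh
  have hAp : IsPGroup 2 (Subgroup.zpowers y ⊔ Subgroup.zpowers x : Subgroup G) :=
    IsPGroup.to_sup_of_normal_right' hYp hXp hle
  obtain ⟨Q, hQ⟩ := hAp.exists_le_sylow
  obtain ⟨c, hcQ⟩ := MulAction.exists_smul_eq G Q P
  have hmem : ∀ a ∈ (Q : Subgroup G), c * a * c⁻¹ ∈ (P : Subgroup G) := by
    intro a ha
    rw [← hcQ, Sylow.coe_subgroup_smul]
    have := Subgroup.smul_mem_pointwise_smul a (MulAut.conj c) _ ha
    simpa [MulAut.smul_def] using this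
  have hxQ : x ∈ (Q : Subgroup G) :=
    hQ (le_sup_right (a := Subgroup.zpowers y) (Subgroup.mem_zpowers x))
  have hyQ : y ∈ (Q : Subgroup G) :=
    hQ (le_sup_left (b := Subgroup.zpowers x) (Subgroup.mem_zpowers y))
  have h1 := hiso c (hmem x hxQ)
  have h2 : (c * g) * x * (c * g)⁻¹ = x := by
    apply hiso
    have e : (c * g) * x * (c * g)⁻¹ = c * y * c⁻¹ := by rw [hy]; group
    rw [e]; exact hmem y hyQ
  have h3 : c * y * c⁻¹ = c * x * c⁻¹ := by
    rw [h1, ← h2, hy]; group
  exact mul_left_cancel (mul_right_cancel h3)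

/-- With a quaternion Sylow `2`-subgroup of order eight the involution is isolated. -/
theorem q8_isolated (S : Sylow 2 G) {t : G} (h : Helper95.QuatInduct.Q8Data (S : Subgroup G) t) :
    Cfsg.IsIsolatedInvolution t := by
  apply isIsolatedInvolution_of_sylow S t h.orderOf_t
  intro g hg
  apply h.eq_of_involution hg
  have h5 := (MulAut.conj g).orderOf_eq t
  rw [MulAut.conj_apply, h.orderOf_t] at h5
  exact h5

/-- The centralizer of an element of order four: its order is `4` times an odd number, and it has a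
normal `2`-complement. -/
theorem q8_centralizer_data (S : Sylow 2 G) {t : G}
    (h : Helper95.QuatInduct.Q8Data (S : Subgroup G) t) (u : G) (huo : orderOf u = 4) :
    (Nat.card (Subgroup.centralizer ({u} : Set G))).factorization 2 = 2 ∧
    ∃ k : ℕ, (Cfsg.pPrimeCore 2 (Subgroup.centralizer ({u} : Set G))).index = 2 ^ k := by
  classical
  haveI : Fact (Nat.Prime 2) := ⟨Nat.prime_two⟩
  have huC : u ∈ Subgroup.centralizer ({u} : Set G) := by
    rw [Subgroup.mem_centralizer_singleton_iff]
  obtain ⟨u', hu'⟩ : ∃ u' : Subgroup.centralizer ({u} : Set G), u' = ⟨u, huC⟩ := ⟨_, rfl⟩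
  have hu'o : orderOf u' = 4 := by rw [hu', Subgroup.orderOf_mk, huo]
  have hzc : Nat.card (Subgroup.zpowers u') = 2 ^ 2 := by rw [Nat.card_zpowers, hu'o]; norm_num
  have hu'central : ∀ c : Subgroup.centralizer ({u} : Set G), u' * c = c * u' := by
    intro c
    have hc := c.2
    rw [Subgroup.mem_centralizer_singleton_iff] at hc
    apply Subtype.ext
    rw [hu']
    exact hc.symm
  have h4 : 2 ^ 2 ∣ Nat.card (Subgroup.centralizer ({u} : Set G)) := by
    have := orderOf_dvd_natCard u'
    rw [hu'o] at this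
    exact this
  have h8 : ¬ 2 ^ 3 ∣ Nat.card (Subgroup.centralizer ({u} : Set G)) := by
    intro hdvd
    obtain ⟨K, hKc, hKle⟩ := Sylow.exists_subgroup_card_pow_prime_le 2 hdvd (Subgroup.zpowers u') hzc
      (by norm_num)
    obtain ⟨K', hK'⟩ : ∃ K' : Subgroup G, K' = K.map (Subgroup.centralizer ({u} : Set G)).subtype :=
      ⟨_, rfl⟩
    have hK'c : Nat.card K' = 2 ^ 3 := by
      rw [hK', Subgroup.card_map_of_injective (Subgroup.subtype_injective _), hKc]
    have hK'p : IsPGroup 2 K' := IsPGroup.of_card hK'c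
    obtain ⟨Q, hQ⟩ := hK'p.exists_le_sylow
    obtain ⟨c, hcQ⟩ := MulAction.exists_smul_eq G Q S
    have hQc : Nat.card (Q : Subgroup G) = 2 ^ 3 := by
      rw [Sylow.card_eq_multiplicity Q, ← Sylow.card_eq_multiplicity S, h.card]; norm_num
    have hKQ : K' = (Q : Subgroup G) := Subgroup.eq_of_le_of_card_ge hQ (by rw [hQc, hK'c])
    have huQ : u ∈ (Q : Subgroup G) := by
      rw [← hKQ, hK']
      refine ⟨u', hKle (Subgroup.mem_zpowers u'), ?_⟩
      rw [hu']; rfl
    have hQcomm : ∀ q ∈ (Q : Subgroup G), u * q = q * u := by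
      intro q hq
      rw [← hKQ, hK'] at hq
      obtain ⟨k, -, rfl⟩ := hq
      have hc := k.2
      rw [Subgroup.mem_centralizer_singleton_iff] at hc
      exact hc.symm
    have hmemiff : ∀ a : G, a ∈ (S : Subgroup G) ↔ c⁻¹ * a * c ∈ (Q : Subgroup G) := by
      intro a
      rw [← hcQ, Sylow.coe_subgroup_smul, Subgroup.mem_pointwise_smul_iff_inv_smul_mem]
      have : (MulAut.conj c)⁻¹ • a = c⁻¹ * a * c := by
        simp [MulAut.smul_def]
      rw [this]
    obtain ⟨v, hv⟩ : ∃ v : G, v = c * u * c⁻¹ := ⟨_, rfl⟩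
    have hvS : v ∈ (S : Subgroup G) := by
      rw [hmemiff, hv]
      have : c⁻¹ * (c * u * c⁻¹) * c = u := by group
      rw [this]; exact huQ
    have hvcentral : ∀ s ∈ (S : Subgroup G), s * v = v * s := by
      intro s hs
      have h1 := hQcomm _ ((hmemiff s).1 hs)
      have h2 : s * v = c * ((c⁻¹ * s * c) * u) * c⁻¹ := by rw [hv]; group
      have h3 : v * s = c * (u * (c⁻¹ * s * c)) * c⁻¹ := by rw [hv]; group
      rw [h2, h3, h1]
    have hvo : orderOf v = 4 := by
      have h5 := (MulAut.conj c).orderOf_eq u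
      rw [MulAut.conj_apply, ← hv, huo] at h5
      exact h5
    rcases h.center v hvS hvcentral with h1 | h1
    · rw [h1, orderOf_one] at hvo; omega
    · rw [h1, h.orderOf_t] at hvo; omega
  have hne : Nat.card (Subgroup.centralizer ({u} : Set G)) ≠ 0 := Nat.card_pos.ne'
  have hfac : (Nat.card (Subgroup.centralizer ({u} : Set G))).factorization 2 = 2 := by
    have h1 := (Nat.Prime.pow_dvd_iff_le_factorization Nat.prime_two hne).1 h4
    have h2 : ¬ 3 ≤ (Nat.card (Subgroup.centralizer ({u} : Set G))).factorization 2 := by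
      intro h3
      exact h8 ((Nat.Prime.pow_dvd_iff_le_factorization Nat.prime_two hne).2 h3)
    omega
  refine ⟨hfac, ?_⟩
  -- the Sylow subgroup is generated by `u`
  have hzp : IsPGroup 2 (Subgroup.zpowers u') := IsPGroup.of_card hzc
  obtain ⟨P, hP⟩ := hzp.exists_le_sylow
  have hPc : Nat.card (P : Subgroup (Subgroup.centralizer ({u} : Set G))) = 4 := by
    rw [Sylow.card_eq_multiplicity P, hfac]; norm_num
  have hu'P : u' ∈ (P : Subgroup (Subgroup.centralizer ({u} : Set G))) :=
    hP (Subgroup.mem_zpowers u')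
  have hcyc : IsCyclic (P : Subgroup (Subgroup.centralizer ({u} : Set G))) := by
    apply isCyclic_of_orderOf_eq_card (⟨u', hu'P⟩ : (P : Subgroup _))
    rw [Subgroup.orderOf_mk, hu'o, hPc]
  exact pPrimeCore_index_of_isCyclic_sylow P hcyc

end Cfsg.Agent.Helper20
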