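-- helper20: the Brauer–Suzuki theorem for Sylow 2-subgroups isomorphic to `Q8`.
import Cfsg.Agent.Helper20.BSQ8Char
import Cfsg.Agent.Helper20.BSQ8Grp
import Cfsg.Agent.Helper95.QuatFused
import Cfsg.Agent.Helper75.FrobeniusKernel

set_option autoImplicit false

namespace Cfsg.Agent.Helper20

open Cfsg QuaternionGroup
open scoped ComplexConjugate

universe u

/-- The fused case of Brauer–Suzuki for `Q8`: the kernel of a suitable nonprincipal irreducible
character of the principal block is a proper normal subgroup containing the involution. -/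
theorem q8_fusedCase : Helper95.QuatInduct.FusedCase.{u} := by
  intro G _ _ S e _hO hfus
  classical
  haveI : Fact (Nat.Prime 2) := ⟨Nat.prime_two⟩
  haveI : Fintype G := Fintype.ofFinite G
  obtain ⟨t', h⟩ := Helper95.QuatInduct.exists_q8Data (S : Subgroup G) e
  have hto : orderOf ((e.symm (a 2) : (S : Subgroup G)) : G) = 2 := q8_orderOf_t (S : Subgroup G) e
  have htt' : ((e.symm (a 2) : (S : Subgroup G)) : G) = t' :=
    h.eq_of_involution (e.symm (a 2)).2 hto
  have hord : ∀ q : QuaternionGroup 2, q * q ≠ 1 →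
      orderOf ((e.symm q : (S : Subgroup G)) : G) = 4 := by
    intro q hq
    have h4 : ((e.symm q : (S : Subgroup G)) : G) ^ 4 = 1 := h.pow_four _ (e.symm q).2
    have h2 : ((e.symm q : (S : Subgroup G)) : G) ^ 2 ≠ 1 := by
      intro hc
      apply hq
      have h5 : (e.symm q) ^ 2 = 1 := by
        apply Subtype.ext
        rw [Subgroup.coe_pow, hc, Subgroup.coe_one]
      have h6 := congrArg e h5
      rw [map_pow, MulEquiv.apply_symm_apply, map_one, pow_two] at h6
      exact h6
    have h7 := orderOf_eq_prime_pow (x := ((e.symm q : (S : Subgroup G)) : G)) (p := 2) (n := 1)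
      (by rw [pow_one]; exact h2) (by norm_num; exact h4)
    rw [h7]; norm_num
  have hfused : ∀ q q' : QuaternionGroup 2, q * q ≠ 1 → q' * q' ≠ 1 →
      IsConj ((e.symm q : (S : Subgroup G)) : G) ((e.symm q' : (S : Subgroup G)) : G) := by
    intro q q' hq hq'
    obtain ⟨g, hg⟩ := hfus _ (e.symm q).2 _ (e.symm q').2 (hord q hq) (hord q' hq')
    rw [isConj_iff]
    refine ⟨g⁻¹, ?_⟩
    rw [inv_inv]; exact hg
  have hiso : Cfsg.IsIsolatedInvolution t' := q8_isolated S h
  have hodd : ∀ g : G, ¬ 2 ∣ orderOf (((e.symm (a 2) : (S : Subgroup G)) : G) *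
      (g * ((e.symm (a 2) : (S : Subgroup G)) : G) * g⁻¹)) := by
    intro g
    rw [htt']
    have h1 := isolated_odd_order hiso g
    exact h1.not_two_dvd_nat
  obtain ⟨hc4, hnc⟩ := q8_centralizer_data S h ((e.symm (a 1) : (S : Subgroup G)) : G)
    (q8_orderOf_u (S : Subgroup G) e)
  obtain ⟨χ, hχne, hχt⟩ := exists_irr_ker_of_q8 (S : Subgroup G) e hfused hnc hc4 hodd
  obtain ⟨N, hN, hmem⟩ :=
    Helper75.fk_exists_normal_kernel (Helper74.isCharacter_of_isIrr χ.2)
  refine ⟨N, hN, ?_, ((e.symm (a 2) : (S : Subgroup G)) : G), (hmem _).2 hχt, hto⟩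
  intro htop
  have hconst : ∀ g : G, (χ : G → ℂ) g = (χ : G → ℂ) 1 := by
    intro g
    apply (hmem g).1
    rw [htop]; exact Subgroup.mem_top g
  obtain ⟨d, hdpos, hd⟩ := Helper75.fk_irr_apply_one χ
  have hin := Helper74.irr_inner_ne hχne
  unfold classInner at hin
  have hsum : ∑ g : G, (χ : G → ℂ) g *
      conj (((Helper79.principalIrr G : IrrCharacter G) : G → ℂ) g) = (Nat.card G : ℂ) * d := by
    have hterm : ∀ g : G, (χ : G → ℂ) g *
        conj (((Helper79.principalIrr G : IrrCharacter G) : G → ℂ) g) = d := by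
      intro g
      have h' : ((Helper79.principalIrr G : IrrCharacter G) : G → ℂ) g = 1 := rfl
      rw [h', map_one, mul_one, hconst g, hd]
    rw [Finset.sum_congr rfl (fun g _ => hterm g), Finset.sum_const, Finset.card_univ,
      nsmul_eq_mul, Nat.card_eq_fintype_card]
  rw [hsum] at hin
  have hN0 : (Nat.card G : ℂ) ≠ 0 := by
    have : Nat.card G ≠ 0 := Nat.card_pos.ne'
    exact_mod_cast this
  have hd0 : (d : ℂ) ≠ 0 := by
    have : d ≠ 0 := hdpos.ne'
    exact_mod_cast this
  rw [← mul_assoc, inv_mul_cancel₀ hN0, one_mul] at hin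
  exact hd0 hin

/-- **Brauer–Suzuki for `Q8`**: if a Sylow `2`-subgroup of `G` is quaternion of order eight and
`O(G) = 1`, then the centre of `G` has order two. -/
theorem brauer_suzuki_q8 {G : Type u} [Group G] [Finite G] (S : Sylow 2 G)
    (e : (S : Subgroup G) ≃* QuaternionGroup 2)
    (hO : ∀ N : Subgroup G, N.Normal → Odd (Nat.card N) → N = ⊥) :
    Nat.card (Subgroup.center G) = 2 :=
  Helper95.QuatInduct.brauer_suzuki_q8_of_fused q8_fusedCase _ G rfl S e hO

end Cfsg.Agent.Helper20
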