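import Cfsg.Agent.Helper78.Olsson.Defs

/-!
# Olsson's theorem, piece (RK1): `p ∣ det (p^d · Gram matrix of the basic set)`

The matrix `p^d ((θ⁰, θ'))` on a block `b` has rank one modulo the local ideal
(`Helper16.U_congr`), so the same holds for the integral matrix `g = p^d ((φ_i, φ_j))`.
-/

set_option autoImplicit false
set_option linter.unusedSectionVars false
set_option linter.unusedVariables false
set_option linter.style.haveILetI false

noncomputable section

namespace Cfsg.Agent.Helper20.Olsson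

open Cfsg
open scoped ComplexConjugate
open Cfsg.Agent.S4426 (cut)
open Cfsg.Agent.Helper16
open Cfsg.Agent.Helper78.Olsson

variable {H : Type*} [Group H] [Fintype H] {M : Ideal AlgInt} {p : ℕ}

/-- the cutoff `cut p 1` is an orthogonal projection: `(f⁰, g⁰) = (f⁰, g)`. -/
theorem classInner_cut_one_cut_one (f g : H → ℂ) :
    classInner (cut p 1 f) (cut p 1 g) = classInner (cut p 1 f) g := by
  unfold classInner cut
  congr 1
  refine Finset.sum_congr rfl fun x _ => ?_
  split_ifs <;> simp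

/-- the basic set as a combination of the `θ⁰`. -/
theorem LatData.phi_eq_sum {b : Set (IrrCharacter H)} (L : LatData p b) (i : Fin 2) :
    L.φ i = ∑ θ : IrrCharacter H, (L.A i θ : ℂ) • cut p 1 (θ : H → ℂ) := by
  funext h
  rw [L.hA i h, Finset.sum_apply]
  refine Finset.sum_congr rfl fun θ _ => ?_
  rw [Pi.smul_apply, smul_eq_mul]

/-- the Gram matrix of the basic set in terms of the `(θ⁰, θ')`. -/
theorem LatData.classInner_phi {b : Set (IrrCharacter H)} (L : LatData p b) (i j : Fin 2) :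
    classInner (L.φ i) (L.φ j) = ∑ θ : IrrCharacter H, ∑ θ' : IrrCharacter H,
      (L.A i θ : ℂ) * (L.A j θ' : ℂ) * classInner (cut p 1 (θ : H → ℂ)) (θ' : H → ℂ) := by
  rw [LatData.phi_eq_sum L i, LatData.phi_eq_sum L j, Helper79.classInner_sum_left]
  refine Finset.sum_congr rfl (fun θ _ => ?_)
  rw [Helper79.classInner_sum_right]
  refine Finset.sum_congr rfl (fun θ' _ => ?_)
  rw [Helper79.classInner_smul_left, Helper79.classInner_smul_right, map_intCast,
    classInner_cut_one_cut_one]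
  ring

/-- (RK1) `p` divides the determinant of `p^d ·` Gram matrix. -/
theorem LatData.dvd_det_gram [Fact p.Prime] (hM : IsPModular p M) {b : Set (IrrCharacter H)}
    (hb : IsPBlock M b) (L : LatData p b) (g : Matrix (Fin 2) (Fin 2) ℤ)
    (hg : ∀ i j : Fin 2,
      ((p ^ blockDefect p b : ℕ) : ℂ) * classInner (L.φ i) (L.φ j) = (g i j : ℂ)) :
    (p : ℤ) ∣ g.det := by
  haveI hMp : M.IsPrime := IsPModular.isPrime hM
  have hpr : p.Prime := Fact.out
  obtain ⟨θ₀, hθ₀, hd, hmin⟩ := exists_height_zero' p b (Helper78.isPBlock_nonempty hMp hb)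
  set a := (Nat.card H).factorization p with ha
  set e₀ := (charDegree (θ₀ : H → ℂ)).factorization p with he₀
  have he₀a : e₀ ≤ a := factorization_charDegree_le p θ₀
  set P : ℂ := ((p ^ a : ℕ) : ℂ) with hP
  set Q : ℂ := ((p ^ e₀ : ℕ) : ℂ) with hQ
  have hQ0 : Q ≠ 0 := by
    rw [hQ]; exact_mod_cast (pow_pos hpr.pos e₀).ne'
  have hPQ : P = ((p ^ blockDefect p b : ℕ) : ℂ) * Q := by
    rw [hP, hQ, hd, ← Nat.cast_mul, ← pow_add]
    congr 2
    omega
  have hθ₀1 : (θ₀ : H → ℂ) 1 ≠ 0 := irr_one_ne_zero θ₀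
  set U : IrrCharacter H → IrrCharacter H → ℂ := fun θ θ' =>
    classInner (cut p P (θ : H → ℂ)) (θ' : H → ℂ) / (θ' : H → ℂ) 1 with hU
  set u₀ : ℂ := U θ₀ θ₀ with hu₀
  set r : IrrCharacter H → ℂ := fun θ => (θ : H → ℂ) 1 / (θ₀ : H → ℂ) 1 with hr
  set s : IrrCharacter H → ℂ := fun θ => (θ : H → ℂ) 1 / Q with hs
  have hratio : ∀ θ ∈ b, MemLocalRing M (r θ) := by
    intro θ hθ
    rw [hr]
    simp only
    rw [irr_one_eq_natCast θ, irr_one_eq_natCast θ₀]
    exact Helper78.memLocalRing_natCast_div hM (charDegree_ne_zero' θ₀) (charDegree_ne_zero' θ)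
      (hmin θ hθ)
  have hu₀R : MemLocalRing M u₀ := Cfsg.Agent.S4426.memLocalRing_U hM θ₀.2 θ₀.2
  have hstar : ∀ θ ∈ b, ∀ θ' ∈ b, MemLocalIdeal M (U θ θ' - u₀ * r θ) :=
    fun θ hθ θ' hθ' => U_congr hM hb θ₀ hθ₀ hmin θ θ' hθ hθ'
  have hdegQ : ∀ θ' ∈ b, MemLocalRing M (s θ') := by
    intro θ' hθ'
    rw [hs]
    simp only
    rw [hQ, irr_one_eq_natCast θ']
    refine Helper78.memLocalRing_natCast_div hM (pow_pos hpr.pos e₀).ne' (charDegree_ne_zero' θ') ?_
    rw [hpr.factorization_pow]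
    simpa using hmin θ' hθ'
  -- `p^d (θ⁰, θ') = U(θ, θ') θ'(1) / Q`
  have hkey : ∀ θ θ' : IrrCharacter H,
      ((p ^ blockDefect p b : ℕ) : ℂ) * classInner (cut p 1 (θ : H → ℂ)) (θ' : H → ℂ) =
        U θ θ' * s θ' := by
    intro θ θ'
    rw [hU, hs]
    simp only
    have e1 : cut p P (θ : H → ℂ) = P • cut p 1 (θ : H → ℂ) := by
      rw [← Cfsg.Agent.S4494.cut_mul, mul_one]
    rw [e1, Helper79.classInner_smul_left, hPQ]
    have hθ'1 : (θ' : H → ℂ) 1 ≠ 0 := irr_one_ne_zero θ'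
    field_simp
  -- the rank one approximation
  set w : Fin 2 → ℂ := fun i => ∑ θ : IrrCharacter H, (L.A i θ : ℂ) * r θ with hw
  set w' : Fin 2 → ℂ := fun j => ∑ θ' : IrrCharacter H, (L.A j θ' : ℂ) * s θ' with hw'
  have hwR : ∀ i, MemLocalRing M (w i) := by
    intro i
    refine memLocalRing_sum _ _ (fun θ _ => ?_)
    by_cases hθ : θ ∈ b
    · exact memLocalRing_mul (memLocalRing_intCast _) (hratio θ hθ)
    · rw [L.hA0 i θ hθ, Int.cast_zero, zero_mul]
      exact memLocalRing_zero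
  have hw'R : ∀ j, MemLocalRing M (w' j) := by
    intro j
    refine memLocalRing_sum _ _ (fun θ _ => ?_)
    by_cases hθ : θ ∈ b
    · exact memLocalRing_mul (memLocalRing_intCast _) (hdegQ θ hθ)
    · rw [L.hA0 j θ hθ, Int.cast_zero, zero_mul]
      exact memLocalRing_zero
  set c : Fin 2 → Fin 2 → ℂ := fun i j => u₀ * w i * w' j with hc
  have hcR : ∀ i j, MemLocalRing M (c i j) := fun i j =>
    memLocalRing_mul (memLocalRing_mul hu₀R (hwR i)) (hw'R j)
  have hcong : ∀ i j : Fin 2, MemLocalIdeal M ((g i j : ℂ) - c i j) := by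
    intro i j
    have h1 : (g i j : ℂ) = ∑ θ : IrrCharacter H, ∑ θ' : IrrCharacter H,
        (L.A i θ : ℂ) * (L.A j θ' : ℂ) * (U θ θ' * s θ') := by
      rw [← hg i j, LatData.classInner_phi L i j, Finset.mul_sum]
      refine Finset.sum_congr rfl (fun θ _ => ?_)
      rw [Finset.mul_sum]
      refine Finset.sum_congr rfl (fun θ' _ => ?_)
      rw [← hkey θ θ']
      ring
    have h2 : c i j = ∑ θ : IrrCharacter H, ∑ θ' : IrrCharacter H,
        (L.A i θ : ℂ) * (L.A j θ' : ℂ) * (u₀ * r θ * s θ') := by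
      rw [hc, hw, hw']
      simp only
      rw [mul_assoc, Finset.sum_mul_sum, Finset.mul_sum]
      refine Finset.sum_congr rfl (fun θ _ => ?_)
      rw [Finset.mul_sum]
      refine Finset.sum_congr rfl (fun θ' _ => ?_)
      ring
    rw [h1, h2, ← Finset.sum_sub_distrib]
    refine memLocalIdeal_sum _ _ (fun θ _ => ?_)
    rw [← Finset.sum_sub_distrib]
    refine memLocalIdeal_sum _ _ (fun θ' _ => ?_)
    by_cases hθ : θ ∈ b
    · by_cases hθ' : θ' ∈ b
      · have h3 := memLocalIdeal_mul_right (hstar θ hθ θ' hθ') (hdegQ θ' hθ')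
        have h4 := memLocalIdeal_mul_left (memLocalRing_mul (memLocalRing_intCast (M := M) (L.A i θ))
          (memLocalRing_intCast (M := M) (L.A j θ'))) h3
        convert h4 using 1
        ring
      · rw [L.hA0 j θ' hθ', Int.cast_zero, mul_zero, zero_mul, zero_mul, sub_zero]
        exact memLocalIdeal_zero
    · rw [L.hA0 i θ hθ, Int.cast_zero, zero_mul, zero_mul, zero_mul, sub_zero]
      exact memLocalIdeal_zero
  have hgR : ∀ i j : Fin 2, MemLocalRing M (g i j : ℂ) := fun i j => memLocalRing_intCast _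
  rw [← Helper78.memLocalIdeal_intCast_iff hM, Matrix.det_fin_two]
  push_cast
  have hsplit : (g 0 0 : ℂ) * (g 1 1 : ℂ) - (g 0 1 : ℂ) * (g 1 0 : ℂ) =
      (((g 0 0 : ℂ) - c 0 0) * (g 1 1 : ℂ) + c 0 0 * ((g 1 1 : ℂ) - c 1 1)) -
        (((g 0 1 : ℂ) - c 0 1) * (g 1 0 : ℂ) + c 0 1 * ((g 1 0 : ℂ) - c 1 0)) := by
    rw [hc]
    simp only
    ring
  rw [hsplit]
  exact memLocalIdeal_sub
    (memLocalIdeal_add (memLocalIdeal_mul_right (hcong 0 0) (hgR 1 1))
      (memLocalIdeal_mul_left (hcR 0 0) (hcong 1 1)))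
    (memLocalIdeal_add (memLocalIdeal_mul_right (hcong 0 1) (hgR 1 0))
      (memLocalIdeal_mul_left (hcR 0 1) (hcong 1 0)))

end Cfsg.Agent.Helper20.Olsson

end
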