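-- helper20: fixed-point-free coprime action from the absence of elements of order `q r`
-- (tools T1, T2 of helper61's board post #4202, for S2490).
import Mathlib
import Cfsg.Agent.Helper17.SylowKit

set_option autoImplicit false
set_option linter.style.haveILetI false

namespace Cfsg.Agent.Helper20.Fpf

open Subgroup Cfsg.Agent.Helper17

variable {G : Type*} [Group G]

/-- The conjugation action of a subgroup `Q ≤ N_G(R)` on `R`. -/
@[reducible] def conjAct (Q R : Subgroup G) (hQR : Q ≤ normalizer (R : Set G)) : MulAction Q R where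
  smul x y := ⟨x * y * x⁻¹, (Subgroup.mem_normalizer_iff.mp (hQR x.2) y).mp y.2⟩
  one_smul y := Subtype.ext (by
    change ((1 : Q) : G) * y * ((1 : Q) : G)⁻¹ = y
    simp)
  mul_smul x x' y := Subtype.ext (by
    change ((x * x' : Q) : G) * y * ((x * x' : Q) : G)⁻¹ = (x : G) * ((x' : G) * y * (x' : G)⁻¹) * (x : G)⁻¹
    simp [mul_assoc])

/-- An element of `q`-power order and one of `r`-power order (both non-trivial) which commute
produce an element of order `q r`. -/
theorem exists_orderOf_mul [Finite G] {q r : ℕ} [hq : Fact q.Prime] [hr : Fact r.Prime]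
    (hqr : q ≠ r) {x y : G} {i k : ℕ} (hx : orderOf x = q ^ i) (hy : orderOf y = r ^ k)
    (hx1 : x ≠ 1) (hy1 : y ≠ 1) (hc : Commute x y) : ∃ g : G, orderOf g = q * r := by
  have hi : i ≠ 0 := by
    rintro rfl
    rw [pow_zero, orderOf_eq_one_iff] at hx
    exact hx1 hx
  have hk : k ≠ 0 := by
    rintro rfl
    rw [pow_zero, orderOf_eq_one_iff] at hy
    exact hy1 hy
  obtain ⟨i', rfl⟩ := Nat.exists_eq_succ_of_ne_zero hi
  obtain ⟨k', rfl⟩ := Nat.exists_eq_succ_of_ne_zero hk
  have hqpos : 0 < q := hq.out.pos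
  have hrpos : 0 < r := hr.out.pos
  have ox : orderOf (x ^ q ^ i') = q := by
    rw [orderOf_pow_of_dvd (pow_ne_zero _ hqpos.ne') (by rw [hx]; exact pow_dvd_pow q (Nat.le_succ i')),
      hx, pow_succ, Nat.mul_div_cancel_left _ (pow_pos hqpos i')]
  have oy : orderOf (y ^ r ^ k') = r := by
    rw [orderOf_pow_of_dvd (pow_ne_zero _ hrpos.ne') (by rw [hy]; exact pow_dvd_pow r (Nat.le_succ k')),
      hy, pow_succ, Nat.mul_div_cancel_left _ (pow_pos hrpos k')]
  have hc' : Commute (x ^ q ^ i') (y ^ r ^ k') := (hc.pow_left _).pow_right _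
  refine ⟨x ^ q ^ i' * y ^ r ^ k', ?_⟩
  rw [hc'.orderOf_mul_eq_mul_orderOf_of_coprime, ox, oy]
  rw [ox, oy]
  exact (Nat.coprime_primes hq.out hr.out).mpr hqr

/-- **T1.** -/
theorem fpf_card_dvd [Finite G] {q r : ℕ} [Fact q.Prime] [Fact r.Prime] (hqr : q ≠ r)
    (hno : ∀ g : G, orderOf g ≠ q * r) (Q R : Subgroup G) (hQ : IsPGroup q Q)
    (hR : IsPGroup r R) (hQR : Q ≤ Subgroup.normalizer (R : Set G)) :
    Nat.card Q ∣ Nat.card R - 1 := by
  classical
  letI act : MulAction Q R := conjAct Q R hQR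
  letI : Fintype Q := Fintype.ofFinite _
  letI : Fintype R := Fintype.ofFinite _
  letI : Fintype (MulAction.orbitRel.Quotient Q R) := Fintype.ofFinite _
  have hsmul : ∀ (x : Q) (y : R), ((x • y : R) : G) = (x : G) * y * (x : G)⁻¹ := fun _ _ => rfl
  have hfree : ∀ (x : Q) (y : R), x ≠ 1 → x • y = y → y = 1 := by
    intro x y hx hxy
    by_contra hy
    obtain ⟨i, hi⟩ := (IsPGroup.iff_orderOf.mp hQ) x
    obtain ⟨k, hk⟩ := (IsPGroup.iff_orderOf.mp hR) y
    have hxG : orderOf (x : G) = q ^ i := by rw [Subgroup.orderOf_coe, hi]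
    have hyG : orderOf (y : G) = r ^ k := by rw [Subgroup.orderOf_coe, hk]
    have hx1 : (x : G) ≠ 1 := fun h => hx (Subtype.ext h)
    have hy1 : (y : G) ≠ 1 := fun h => hy (Subtype.ext h)
    have hc : Commute (x : G) (y : G) := by
      have := congrArg Subtype.val hxy
      rw [hsmul] at this
      -- x * y * x⁻¹ = y
      change (x : G) * y = y * x
      calc (x : G) * y = (x : G) * y * (x : G)⁻¹ * x := by group
        _ = y * x := by rw [this]
    obtain ⟨g, hg⟩ := exists_orderOf_mul hqr hxG hyG hx1 hy1 hc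
    exact hno g hg
  have hB := MulAction.sum_card_fixedBy_eq_card_orbits_mul_card_group Q R
  have h1 : ∀ x : Q, x ≠ 1 → Fintype.card (MulAction.fixedBy R x) = 1 := by
    intro x hx
    rw [Fintype.card_eq_one_iff]
    refine ⟨⟨1, ?_⟩, ?_⟩
    · rw [MulAction.mem_fixedBy]
      apply Subtype.ext
      rw [hsmul]
      simp
    · rintro ⟨y, hy⟩
      apply Subtype.ext
      exact hfree x y hx hy
  have h0 : Fintype.card (MulAction.fixedBy R (1 : Q)) = Fintype.card R := by
    apply Fintype.card_congr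
    exact Equiv.subtypeUnivEquiv (fun y => by rw [MulAction.mem_fixedBy, one_smul])
  rw [← Finset.add_sum_erase _ _ (Finset.mem_univ (1 : Q)), h0,
    Finset.sum_congr rfl (fun x hx => h1 x (Finset.ne_of_mem_erase hx)), Finset.sum_const,
    Finset.card_erase_of_mem (Finset.mem_univ _), Finset.card_univ, smul_eq_mul, mul_one] at hB
  rw [Nat.card_eq_fintype_card, Nat.card_eq_fintype_card]
  have hQpos : 0 < Fintype.card Q := Fintype.card_pos
  have hRpos : 0 < Fintype.card R := Fintype.card_pos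
  generalize Fintype.card (MulAction.orbitRel.Quotient Q R) = w at hB
  rcases Nat.eq_zero_or_pos w with rfl | hw
  · rw [zero_mul] at hB
    omega
  obtain ⟨w', rfl⟩ := Nat.exists_eq_succ_of_ne_zero hw.ne'
  refine ⟨w', ?_⟩
  have e : (w' + 1) * Fintype.card Q = Fintype.card Q * w' + Fintype.card Q := by ring
  rw [e] at hB
  omega

/-- **T2.** -/
theorem frat_pow_dvd [Finite G] (N : Subgroup G) [N.Normal] {q r : ℕ} [Fact q.Prime]
    [Fact r.Prime] (hqr : q ≠ r) (hno : ∀ g : G, orderOf g ≠ q * r) (j : ℕ)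
    (hj : q ^ j ∣ N.index) (a m : ℕ) (hN : Nat.card N = r ^ a * m) (hm : ¬ r ∣ m) :
    q ^ j ∣ r ^ a - 1 := by
  obtain ⟨R⟩ : Nonempty (Sylow r N) := inferInstance
  have hRcard : Nat.card (R : Subgroup N) = r ^ a := card_sylow_subgroup_of_card_eq hN hm R
  set R' : Subgroup G := (R : Subgroup N).map N.subtype with hR'
  have hR'card : Nat.card R' = r ^ a := by
    rw [hR', Subgroup.card_map_of_injective N.subtype_injective, hRcard]
  set X := normalizer (R' : Set G) with hX
  have hfrat : X ⊔ N = ⊤ := Sylow.normalizer_sup_eq_top R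
  have hidx : N.index = N.relIndex X := by
    rw [← Subgroup.relIndex_top_right, ← hfrat, Subgroup.relIndex_sup_right]
  have hdvdX : q ^ j ∣ Nat.card X := by
    rw [hidx] at hj
    exact hj.trans (Subgroup.relIndex_dvd_card N X)
  obtain ⟨K, hK⟩ := Sylow.exists_subgroup_card_pow_prime q hdvdX
  set Q1 : Subgroup G := K.map X.subtype with hQ1
  have hQ1card : Nat.card Q1 = q ^ j := by
    rw [hQ1, Subgroup.card_map_of_injective X.subtype_injective, hK]
  have hQ1X : Q1 ≤ X := Subgroup.map_subtype_le K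
  have := fpf_card_dvd hqr hno Q1 R' (IsPGroup.of_card hQ1card) (IsPGroup.of_card hR'card) hQ1X
  rwa [hQ1card, hR'card] at this

end Cfsg.Agent.Helper20.Fpf
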