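import Mathlib
import Cfsg.Agent.Helper86.Spec4.Defs

set_option autoImplicit false

/-!
# S2510 piece (C0) for helper86: the characteristic of a field with `p ^ a` elements
-/

namespace Cfsg.Agent.Helper20.Spec4

open Matrix Cfsg.Agent.Helper86.Spec4

variable {F : Type*} [Field F] [Fintype F]

/-- (C0) the characteristic. -/
theorem charP_of_card {p a : ℕ} (hp : p.Prime) (ha : 1 ≤ a) (hF : Fintype.card F = p ^ a) :
    CharP F p := by
  obtain ⟨c, hc⟩ := CharP.exists F
  haveI := hc
  obtain ⟨n, hcp, hcard⟩ := FiniteField.card F c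
  have h1 : p ∣ c ^ (n : ℕ) := by
    rw [← hcard, hF]; exact dvd_pow_self p (by omega)
  have h2 : p ∣ c := hp.dvd_of_dvd_pow h1
  have h3 : p = c := (Nat.prime_dvd_prime_iff_eq hp hcp).mp h2
  rw [h3]; exact hc

end Cfsg.Agent.Helper20.Spec4
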