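import Mathlib
import Cfsg.Agent.Helper5.OmBN.Defs

/-!
# S2549 (Steinberg character of `PΩ⁻`), piece (N1) for helper5 (#11691)

`Sset_subset_Mono1`: the representatives of the simple reflections are block monomial.
-/

set_option autoImplicit false

namespace Cfsg.Agent.Helper20.OmBN

open Matrix Cfsg.Agent.Helper5.OmBN

variable {F : Type*} [Field F] {m : ℕ} {α β : F}

/-- (N1) the reflections are block monomial -/
theorem Sset_subset_Mono1 (hsq : ∀ k : Fin m, sMat α k * sMat α k = 1) :
    Sset m α β ⊆ (Mono1 m α β : Set (OG m α β)) := by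
  rintro s ⟨k, hk⟩
  have hss : s * s = 1 := by
    apply mat_injective
    rw [mat_mul, hk, hsq k, mat_one]
  have hsinv : s⁻¹ = s := inv_eq_of_mul_eq_one_left hss
  show s ∈ Mono1 m α β
  rw [mem_Mono1_iff]
  by_cases hlt : k.val + 1 < m
  · -- kind I: a permutation matrix
    have hkm := k.2
    have hc1 : sPerm k c1 = c1 := by
      apply Fin.ext
      rw [val_sPerm k hlt, val_c1]
      split_ifs <;> omega
    have hc2 : sPerm k c2 = c2 := by
      apply Fin.ext
      rw [val_sPerm k hlt, val_c2]
      split_ifs <;> omega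
    have hinv : ∀ x, (sPerm k)⁻¹ x = sPerm k x := by
      intro x
      rw [Equiv.Perm.inv_eq_iff_eq, sPerm_sPerm k hlt]
    refine ⟨sPerm k, hc1, hc2, ?_, ?_⟩
    · intro r t hrt
      rw [hk, sMat_of_lt α k hlt, pMat_apply, if_neg]
      intro h
      exact hrt (by rw [h])
    · intro r t hrt
      rw [hsinv, hk, sMat_of_lt α k hlt, pMat_apply, if_neg]
      intro h
      apply hrt
      rw [hinv, h]
  · -- kind V
    have hkm := k.2
    have heq : k.val + 1 = m := by omega
    have hc1 : Equiv.swap (lo k) (hi k) c1 = c1 :=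
      Equiv.swap_apply_of_ne_of_ne (lo_ne_c1 k).symm (hi_ne_c1 k).symm
    have hc2 : Equiv.swap (lo k) (hi k) c2 = c2 :=
      Equiv.swap_apply_of_ne_of_ne (lo_ne_c2 k).symm (hi_ne_c2 k).symm
    have key : ∀ r t : Fin (2 * m + 2), pos r ≠ pos (Equiv.swap (lo k) (hi k) t) →
        sVMat α k r t = 0 := by
      intro r t hrt
      rw [sVMat_apply]
      by_cases ht : t = c2
      · rw [if_pos ht]
        rw [ht, hc2, pos_c2] at hrt
        have hr1 : r ≠ c1 := fun h => hrt (by rw [h, pos_c1])
        have hr2 : r ≠ c2 := fun h => hrt (by rw [h, pos_c2])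
        rw [if_neg hr1, if_neg hr2]
      · rw [if_neg ht, if_neg]
        intro h
        exact hrt (by rw [h])
    refine ⟨Equiv.swap (lo k) (hi k), hc1, hc2, ?_, ?_⟩
    · intro r t hrt
      rw [hk, sMat_of_eq α k heq]
      exact key r t hrt
    · intro r t hrt
      rw [hsinv, hk, sMat_of_eq α k heq]
      apply key r t
      rw [Equiv.swap_inv] at hrt
      exact hrt

end Cfsg.Agent.Helper20.OmBN
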