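import Mathlib
import Cfsg.Agent.Helper5.OmBN.Defs

/-!
# S2549 (Steinberg character of `PΩ⁻`), piece (N2) for helper5 (#11691)

`Bsub_inf_Mono1`: block upper triangular block monomial isometries are block diagonal.
-/

set_option autoImplicit false

namespace Cfsg.Agent.Helper20.OmBN

open Matrix Cfsg.Agent.Helper5.OmBN

variable {F : Type*} [Field F] {m : ℕ} {α β : F}

/-- (N2) block upper triangular block monomial matrices are block diagonal -/
theorem Bsub_inf_Mono1 : Bsub m α β ⊓ Mono1 m α β = Tsub m α β := by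
  apply le_antisymm
  · intro g hg
    have hgB : g ∈ Bsub m α β := (Subgroup.mem_inf.1 hg).1
    have hgM : g ∈ Mono1 m α β := (Subgroup.mem_inf.1 hg).2
    obtain ⟨π, hπ1, hπ2, hπ, -⟩ := (mem_Mono1_iff g).1 hgM
    have hgB' := (mem_Bsub_iff g).1 hgB
    rw [mem_Tsub_iff]
    refine ⟨?_, hgB'.2⟩
    have hgF : g ∈ Bfull m α β := Bsub_le_Bfull hgB
    have hgiF : g⁻¹ ∈ Bfull m α β := (Bfull m α β).inv_mem hgF
    have hpos : ∀ s : Fin (2 * m + 2), pos (π s) = pos s := by
      intro s
      by_cases hs1 : s = c1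
      · rw [hs1, hπ1]
      by_cases hs2 : s = c2
      · rw [hs2, hπ2]
      have h1 := mul_apply_diag g⁻¹ g hgiF hgF s hs1 hs2
      rw [inv_mul_cancel, mat_one, Matrix.one_apply_eq] at h1
      have h2 : mat g s s ≠ 0 := by
        intro h0
        rw [h0, mul_zero] at h1
        exact one_ne_zero h1
      by_contra hne
      exact h2 (hπ s s (fun h => hne h.symm))
    intro r s hrs
    apply hπ r s
    rw [hpos s]
    exact hrs
  · exact le_inf Tsub_le_Bsub Tsub_le_Mono1

end Cfsg.Agent.Helper20.OmBN
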