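import Mathlib
import Cfsg.Agent.Helper70.DefOneXG

/-!
# Group-theoretic core of piece (P12) for S4705

`P` a Sylow `p`-subgroup of order `p > 2`, `C = C_G(P)` of index `2` in `N = N_G(P)`, the
`p`-regular elements of `C` central, the centre a `p'`-group, `t ∈ N ∖ C` with `t²` central and
`t z` conjugate to `t` only for `z = 1` (`z` central).  If a product of two conjugates of `t` is
`z u` with `z` central and `u ∈ P ∖ 1`, then `z = t²`.
-/

set_option autoImplicit false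
set_option linter.unusedSectionVars false
set_option linter.unusedVariables false

namespace Cfsg.Agent.Helper20.B66

variable {G : Type*} [Group G] [Fintype G] {p : ℕ} [hp : Fact p.Prime] (P : Sylow p G)

theorem pow_p_eq_one_of_mem (hP : Nat.card P = p) {x : G} (hx : x ∈ (P : Subgroup G)) :
    x ^ p = 1 := by
  have h := pow_card_eq_one' (G := ↥(P : Subgroup G)) (x := ⟨x, hx⟩)
  rw [hP] at h
  exact congrArg Subtype.val h

theorem commute_of_mem (hP : Nat.card P = p) {x y : G} (hx : x ∈ (P : Subgroup G))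
    (hy : y ∈ (P : Subgroup G)) : Commute x y := by
  by_cases hx1 : x = 1
  · rw [hx1]; exact Commute.one_left y
  · have hz := Cfsg.Agent.Helper70.DefOneXG.zpowers_eq_sylow P hP hx hx1
    rw [← hz] at hy
    obtain ⟨k, rfl⟩ := Subgroup.mem_zpowers_iff.mp hy
    exact (Commute.refl x).zpow_right k

/-- an element commuting with a nontrivial element of `P` centralizes `P` -/
theorem mem_centralizer_of_commute (hP : Nat.card P = p) {w : G} (hw : w ∈ (P : Subgroup G))
    (hw1 : w ≠ 1) {t : G} (ht : Commute t w) :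
    t ∈ Subgroup.centralizer ((P : Subgroup G) : Set G) := by
  rw [Subgroup.mem_centralizer_iff]
  intro y hy
  have hz := Cfsg.Agent.Helper70.DefOneXG.zpowers_eq_sylow P hP hw hw1
  have hy' : y ∈ Subgroup.zpowers w := by rw [hz]; exact hy
  obtain ⟨k, rfl⟩ := Subgroup.mem_zpowers_iff.mp hy'
  exact ((ht.zpow_right k).eq).symm

/-- (P07) an element of `N ∖ C` inverts `P` when `|N : C| = 2` -/
theorem conj_eq_inv_core (hP : Nat.card P = p)
    (hf : (Subgroup.centralizer ((P : Subgroup G) : Set G)).relIndex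
      (Subgroup.normalizer ((P : Subgroup G) : Set G)) = 2)
    (t : G) (htN : t ∈ Subgroup.normalizer ((P : Subgroup G) : Set G))
    (htC : t ∉ Subgroup.centralizer ((P : Subgroup G) : Set G)) (x : G)
    (hx : x ∈ (P : Subgroup G)) : t * x * t⁻¹ = x⁻¹ := by
  have htt : t * t ∈ Subgroup.centralizer ((P : Subgroup G) : Set G) := by
    have := Subgroup.mul_self_mem_of_index_two hf (⟨t, htN⟩ :
      ↥(Subgroup.normalizer ((P : Subgroup G) : Set G)))
    rw [Subgroup.mem_subgroupOf] at this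
    exact this
  have hconj : t * x * t⁻¹ ∈ (P : Subgroup G) := (Subgroup.mem_normalizer_iff.mp htN x).mp hx
  set w := x * (t * x * t⁻¹) with hw
  have hwP : w ∈ (P : Subgroup G) := (P : Subgroup G).mul_mem hx hconj
  have hcomm : t * w * t⁻¹ = w := by
    have h1 : (t * t) * x = x * (t * t) := by
      have := (Subgroup.mem_centralizer_iff.mp htt) x hx
      exact this.symm
    have h2 : t * w * t⁻¹ = (t * x * t⁻¹) * ((t * t) * x * (t * t)⁻¹) := by
      rw [hw]; group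
    rw [h2, h1, mul_inv_cancel_right]
    exact ((commute_of_mem P hP hconj hx).eq)
  by_cases hw1 : w = 1
  · rw [hw] at hw1
    exact eq_inv_of_mul_eq_one_right hw1
  · exfalso
    apply htC
    apply mem_centralizer_of_commute P hP hwP hw1
    show t * w = w * t
    calc t * w = (t * w * t⁻¹) * t := by group
      _ = w * t := by rw [hcomm]

/-- (P08) the coset `P t` consists of `P`-conjugates of `t` -/
theorem exists_conj_eq_mul_core (hP : Nat.card P = p) (hp2 : 2 < p) (t : G)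
    (hinv : ∀ x : G, x ∈ (P : Subgroup G) → t * x * t⁻¹ = x⁻¹)
    (x : G) (hx : x ∈ (P : Subgroup G)) :
    ∃ y : G, y ∈ (P : Subgroup G) ∧ y * t * y⁻¹ = x * t := by
  have hodd : p % 2 = 1 := by
    rcases hp.out.eq_two_or_odd with h | h
    · omega
    · exact h
  refine ⟨x ^ ((p + 1) / 2), (P : Subgroup G).pow_mem hx _, ?_⟩
  set y := x ^ ((p + 1) / 2) with hy
  have hyP : y ∈ (P : Subgroup G) := (P : Subgroup G).pow_mem hx _
  have hyy : y * y = x := by
    rw [hy, ← pow_add]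
    have : (p + 1) / 2 + (p + 1) / 2 = p + 1 := by omega
    rw [this, pow_succ, pow_p_eq_one_of_mem P hP hx, one_mul]
  have h1 : t * y⁻¹ * t⁻¹ = y := by
    rw [hinv y⁻¹ ((P : Subgroup G).inv_mem hyP), inv_inv]
  calc y * t * y⁻¹ = y * (t * y⁻¹ * t⁻¹) * t := by group
    _ = y * y * t := by rw [h1]
    _ = x * t := by rw [hyy]

/-- (P12a) `C_G(P) = P Z(G)` -/
theorem exists_mul_of_mem_cen_core (hP : Nat.card P = p)
    (hcent : ∀ c : Subgroup.centralizer ((P : Subgroup G) : Set G), ¬ p ∣ orderOf c →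
      (c : G) ∈ Subgroup.center G)
    (c : G) (hc : c ∈ Subgroup.centralizer ((P : Subgroup G) : Set G)) :
    ∃ x : G, x ∈ (P : Subgroup G) ∧ ∃ z : G, z ∈ Subgroup.center G ∧ c = x * z := by
  obtain ⟨u, y, hu, hy, huy, ⟨k, hk⟩, hyreg⟩ :=
    Cfsg.Agent.Helper70.DefOneXG.exists_pPart_decomp (p := p) c
  have hzc : Subgroup.zpowers c ≤ Subgroup.centralizer ((P : Subgroup G) : Set G) := by
    rw [Subgroup.zpowers_le]
    exact hc
  have huC := hzc hu
  have hyC := hzc hy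
  have huN : u ∈ Subgroup.normalizer ((P : Subgroup G) : Set G) :=
    Subgroup.centralizer_le_normalizer (G := G) ((P : Subgroup G) : Set G) huC
  have huP : u ∈ (P : Subgroup G) := Cfsg.Agent.Helper70.DefOneXG.mem_sylow_of_pow P hk huN
  have hyZ : y ∈ Subgroup.center G := by
    have := hcent ⟨y, hyC⟩ (by
      rw [← Subgroup.orderOf_coe]
      exact hyreg)
    exact this
  exact ⟨u, huP, y, hyZ, huy.symm⟩

/-- conjugating a central element -/
theorem conj_central {z : G} (hz : z ∈ Subgroup.center G) (g : G) : g * z * g⁻¹ = z := by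
  rw [Subgroup.mem_center_iff.mp hz g, mul_inv_cancel_right]

/-- the central computation: `t₁⁻¹ u t₁ u` is central -/
theorem conj_mul_eq_central {t1 t2 z u s : G} (hz : z ∈ Subgroup.center G)
    (hs : s ∈ Subgroup.center G) (h1 : t1 * t1 = s) (h2 : t2 * t2 = s) (h : t1 * t2 = z * u) :
    t1⁻¹ * u * t1 * u = s * s * z⁻¹ * z⁻¹ := by
  have hzc : ∀ g, g * z = z * g := Subgroup.mem_center_iff.mp hz
  have hsc : ∀ g, g * s = s * g := Subgroup.mem_center_iff.mp hs
  have ht2 : t2 = z * (t1⁻¹ * u) := by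
    have : t2 = t1⁻¹ * (z * u) := by rw [← h]; group
    rw [this, ← mul_assoc, hzc t1⁻¹, mul_assoc]
  have ht1inv : t1⁻¹ = s⁻¹ * t1 := by
    rw [← h1]; group
  -- `s = z z s⁻¹ (t1⁻¹ u t1 u)`
  have hX : s = z * z * s⁻¹ * (t1⁻¹ * u * t1 * u) := by
    have hsinv : ∀ g, g * s⁻¹ = s⁻¹ * g := by
      intro g
      have := hsc g
      calc g * s⁻¹ = s⁻¹ * (s * g) * s⁻¹ := by group
        _ = s⁻¹ * (g * s) * s⁻¹ := by rw [this]
        _ = s⁻¹ * g := by group
    calc s = t2 * t2 := h2.symm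
      _ = z * (t1⁻¹ * u) * (z * (t1⁻¹ * u)) := by rw [← ht2]
      _ = z * ((t1⁻¹ * u) * z) * (t1⁻¹ * u) := by group
      _ = z * (z * (t1⁻¹ * u)) * (t1⁻¹ * u) := by rw [hzc (t1⁻¹ * u)]
      _ = z * z * (t1⁻¹ * u * (t1⁻¹ * u)) := by group
      _ = z * z * (t1⁻¹ * u * (s⁻¹ * t1 * u)) := by rw [← ht1inv]
      _ = z * z * ((t1⁻¹ * u * s⁻¹) * (t1 * u)) := by group
      _ = z * z * ((s⁻¹ * (t1⁻¹ * u)) * (t1 * u)) := by rw [hsinv (t1⁻¹ * u)]
      _ = z * z * s⁻¹ * (t1⁻¹ * u * t1 * u) := by group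
  -- solve for the conjugate
  have hzz : ∀ g, g * (z * z * s⁻¹) = (z * z * s⁻¹) * g := by
    intro g
    have hc : z * z * s⁻¹ ∈ Subgroup.center G :=
      (Subgroup.center G).mul_mem ((Subgroup.center G).mul_mem hz hz)
        ((Subgroup.center G).inv_mem hs)
    exact Subgroup.mem_center_iff.mp hc g
  calc t1⁻¹ * u * t1 * u = (z * z * s⁻¹)⁻¹ * (z * z * s⁻¹ * (t1⁻¹ * u * t1 * u)) := by group
    _ = (z * z * s⁻¹)⁻¹ * s := by rw [← hX]
    _ = s * z⁻¹ * z⁻¹ * s := by group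
    _ = s * s * z⁻¹ * z⁻¹ := by
        have e1 : z⁻¹ * s = s * z⁻¹ := hsc z⁻¹
        calc s * z⁻¹ * z⁻¹ * s = s * z⁻¹ * (z⁻¹ * s) := by group
          _ = s * z⁻¹ * (s * z⁻¹) := by rw [e1]
          _ = s * (z⁻¹ * s) * z⁻¹ := by group
          _ = s * (s * z⁻¹) * z⁻¹ := by rw [e1]
          _ = s * s * z⁻¹ * z⁻¹ := by group

/-- a central `p`-element of a group whose centre is a `p'`-group is trivial -/
theorem central_eq_one_of_pow {w : G} (hZreg : ∀ z : G, z ∈ Subgroup.center G → ¬ p ∣ orderOf z)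
    (hw : w ∈ Subgroup.center G) (hwp : w ^ p = 1) : w = 1 := by
  have hd : orderOf w ∣ p := orderOf_dvd_of_pow_eq_one hwp
  rcases (Nat.dvd_prime hp.out).mp hd with h | h
  · exact orderOf_eq_one_iff.mp h
  · exact absurd (by rw [h]) (hZreg w hw)

/-- (P12), stated with `C_G(P)` and `N_G(P)` -/
theorem center_eq_core (hP : Nat.card P = p) (hp2 : 2 < p)
    (hf : (Subgroup.centralizer ((P : Subgroup G) : Set G)).relIndex
      (Subgroup.normalizer ((P : Subgroup G) : Set G)) = 2)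
    (hcent : ∀ c : Subgroup.centralizer ((P : Subgroup G) : Set G), ¬ p ∣ orderOf c →
      (c : G) ∈ Subgroup.center G)
    (hZreg : ∀ z : G, z ∈ Subgroup.center G → ¬ p ∣ orderOf z)
    (t : G) (htN : t ∈ Subgroup.normalizer ((P : Subgroup G) : Set G))
    (htC : t ∉ Subgroup.centralizer ((P : Subgroup G) : Set G))
    (htt : t * t ∈ Subgroup.center G)
    (hZT : ∀ z : G, z ∈ Subgroup.center G → ∀ g : G, g * t * g⁻¹ = t * z → z = 1)
    (u : G) (hu : u ∈ (P : Subgroup G)) (hu1 : u ≠ 1) (z : G) (hz : z ∈ Subgroup.center G)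
    (a b : G) (h : a * t * a⁻¹ * (b * t * b⁻¹) = z * u) : z = t * t := by
  set s := t * t with hs
  set t1 := a * t * a⁻¹ with ht1
  set t2 := b * t * b⁻¹ with ht2
  have hzc : ∀ g, g * z = z * g := Subgroup.mem_center_iff.mp hz
  have hsc : ∀ g, g * s = s * g := Subgroup.mem_center_iff.mp htt
  have h1 : t1 * t1 = s := by
    calc t1 * t1 = a * (t * t) * a⁻¹ := by rw [ht1]; group
      _ = s := conj_central htt a
  have h2 : t2 * t2 = s := by
    calc t2 * t2 = b * (t * t) * b⁻¹ := by rw [ht2]; group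
      _ = s := conj_central htt b
  -- (1) `t1` inverts `u`
  have hcentral := conj_mul_eq_central hz htt h1 h2 h
  set w := s * s * z⁻¹ * z⁻¹ with hw
  have hwZ : w ∈ Subgroup.center G :=
    (Subgroup.center G).mul_mem ((Subgroup.center G).mul_mem
      ((Subgroup.center G).mul_mem htt htt) ((Subgroup.center G).inv_mem hz))
      ((Subgroup.center G).inv_mem hz)
  have hup : u ^ p = 1 := pow_p_eq_one_of_mem P hP hu
  have hv : t1⁻¹ * u * t1 = w * u⁻¹ := by
    rw [← hcentral]; group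
  have hwp : w ^ p = 1 := by
    have hcomm : Commute w u⁻¹ := (Subgroup.mem_center_iff.mp hwZ u⁻¹).symm
    have e1 : (t1⁻¹ * u * t1) ^ p = 1 := by
      have : (t1⁻¹ * u * t1) ^ p = t1⁻¹ * u ^ p * t1 := by
        have := conj_pow (a := t1⁻¹) (b := u) (i := p)
        rw [inv_inv] at this
        exact this
      rw [this, hup]; group
    rw [hv, hcomm.mul_pow, inv_pow, hup, inv_one, mul_one] at e1
    exact e1
  have hw1 : w = 1 := central_eq_one_of_pow hZreg hwZ hwp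
  have hinv1 : t1⁻¹ * u * t1 = u⁻¹ := by rw [hv, hw1, one_mul]
  have hinv1' : t1 * u * t1⁻¹ = u⁻¹ := by
    have : u = t1 * u⁻¹ * t1⁻¹ := by rw [← hinv1]; group
    calc t1 * u * t1⁻¹ = (t1 * u⁻¹ * t1⁻¹)⁻¹ := by group
      _ = u⁻¹ := by rw [← this]
  -- (2) `t1 ∈ N ∖ C`
  have hzp := Cfsg.Agent.Helper70.DefOneXG.zpowers_eq_sylow P hP hu hu1
  have hconjmem : ∀ g : G, g * u * g⁻¹ = u⁻¹ → ∀ y, y ∈ (P : Subgroup G) →
      g * y * g⁻¹ ∈ (P : Subgroup G) := by
    intro g hg y hy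
    have hy' : y ∈ Subgroup.zpowers u := by rw [hzp]; exact hy
    obtain ⟨k, rfl⟩ := Subgroup.mem_zpowers_iff.mp hy'
    have : g * u ^ k * g⁻¹ = (g * u * g⁻¹) ^ k := (conj_zpow).symm
    rw [this, hg]
    exact (P : Subgroup G).zpow_mem ((P : Subgroup G).inv_mem hu) k
  have ht1N : t1 ∈ Subgroup.normalizer ((P : Subgroup G) : Set G) := by
    rw [Subgroup.mem_normalizer_iff]
    intro y
    constructor
    · exact hconjmem t1 hinv1' y
    · intro hy
      have := hconjmem t1⁻¹ (by rw [inv_inv]; exact hinv1) _ hy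
      rw [inv_inv] at this
      have e : t1⁻¹ * (t1 * y * t1⁻¹) * t1 = y := by group
      rw [e] at this
      exact this
  have hp_ord : orderOf u = p := by
    have hd : orderOf u ∣ p := orderOf_dvd_of_pow_eq_one hup
    rcases (Nat.dvd_prime hp.out).mp hd with h | h
    · exact absurd (orderOf_eq_one_iff.mp h) hu1
    · exact h
  have ht1C : t1 ∉ Subgroup.centralizer ((P : Subgroup G) : Set G) := by
    intro hc
    have hcomm := (Subgroup.mem_centralizer_iff.mp hc) u hu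
    -- `u * t1 = t1 * u`, so `t1 u t1⁻¹ = u = u⁻¹`
    have : t1 * u * t1⁻¹ = u := by rw [← hcomm]; group
    rw [hinv1'] at this
    have huu : u ^ 2 = 1 := by
      rw [pow_two]
      calc u * u = u * u⁻¹ := by rw [this]
        _ = 1 := mul_inv_cancel u
    have hd : orderOf u ∣ 2 := orderOf_dvd_of_pow_eq_one huu
    rw [hp_ord] at hd
    have := Nat.le_of_dvd (by norm_num) hd
    omega
  -- (3) `t⁻¹ t1 ∈ C`
  have htinvN : t⁻¹ ∈ Subgroup.normalizer ((P : Subgroup G) : Set G) := Subgroup.inv_mem _ htN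
  have hmemC : t⁻¹ * t1 ∈ Subgroup.centralizer ((P : Subgroup G) : Set G) := by
    have := Subgroup.mul_mem_iff_of_index_two hf
      (a := (⟨t⁻¹, htinvN⟩ : ↥(Subgroup.normalizer ((P : Subgroup G) : Set G))))
      (b := ⟨t1, ht1N⟩)
    rw [Subgroup.mem_subgroupOf, Subgroup.mem_subgroupOf, Subgroup.mem_subgroupOf] at this
    apply this.mpr
    constructor
    · intro h'
      exact absurd ((Subgroup.inv_mem_iff _).mp h') htC
    · intro h'
      exact absurd h' ht1C
  obtain ⟨x, hxP, z1, hz1, hxz⟩ := exists_mul_of_mem_cen_core P hP hcent _ hmemC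
  have hinvt : ∀ y : G, y ∈ (P : Subgroup G) → t * y * t⁻¹ = y⁻¹ :=
    conj_eq_inv_core P hP hf t htN htC
  have ht1eq : t1 = t * x * z1 := by
    calc t1 = t * (t⁻¹ * t1) := by group
      _ = t * (x * z1) := by rw [hxz]
      _ = t * x * z1 := by group
  have htx : t * x = x⁻¹ * t := by
    calc t * x = (t * x * t⁻¹) * t := by group
      _ = x⁻¹ * t := by rw [hinvt x hxP]
  obtain ⟨y, hyP, hy⟩ := exists_conj_eq_mul_core P hP hp2 t hinvt x⁻¹
    ((P : Subgroup G).inv_mem hxP)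
  have hz1c : ∀ g, g * z1 = z1 * g := Subgroup.mem_center_iff.mp hz1
  have hz1one : z1 = 1 := by
    apply hZT z1 hz1 (y⁻¹ * a)
    calc y⁻¹ * a * t * (y⁻¹ * a)⁻¹ = y⁻¹ * (a * t * a⁻¹) * y := by group
      _ = y⁻¹ * (t * x * z1) * y := by rw [← ht1, ht1eq]
      _ = y⁻¹ * (y * t * y⁻¹ * z1) * y := by rw [htx, ← hy]
      _ = t * (y⁻¹ * z1 * y) := by group
      _ = t * z1 := by rw [hz1c y⁻¹, mul_assoc, inv_mul_cancel, mul_one]
  have ht1eq' : t1 = t * x := by rw [ht1eq, hz1one, mul_one]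
  -- (4) `t2 = (s⁻¹ z) (x⁻¹ u⁻¹) t`
  have htinv : t⁻¹ = s⁻¹ * t := by rw [hs]; group
  have htu : t * u = u⁻¹ * t := by
    calc t * u = (t * u * t⁻¹) * t := by group
      _ = u⁻¹ * t := by rw [hinvt u hu]
  have hsz : s⁻¹ * z ∈ Subgroup.center G :=
    (Subgroup.center G).mul_mem ((Subgroup.center G).inv_mem htt) hz
  have hszc : ∀ g, g * (s⁻¹ * z) = (s⁻¹ * z) * g := Subgroup.mem_center_iff.mp hsz
  have ht2eq : t2 = (s⁻¹ * z) * (x⁻¹ * u⁻¹ * t) := by
    have e1 : t2 = t1⁻¹ * (z * u) := by rw [← h]; group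
    calc t2 = t1⁻¹ * (z * u) := e1
      _ = x⁻¹ * t⁻¹ * (z * u) := by rw [ht1eq']; group
      _ = x⁻¹ * (s⁻¹ * t) * (z * u) := by rw [← htinv]
      _ = x⁻¹ * s⁻¹ * (t * z) * u := by group
      _ = x⁻¹ * s⁻¹ * (z * t) * u := by rw [hzc t]
      _ = x⁻¹ * (s⁻¹ * z) * (t * u) := by group
      _ = (s⁻¹ * z) * x⁻¹ * (t * u) := by rw [hszc x⁻¹]
      _ = (s⁻¹ * z) * x⁻¹ * (u⁻¹ * t) := by rw [htu]
      _ = (s⁻¹ * z) * (x⁻¹ * u⁻¹ * t) := by group
  obtain ⟨y', hy'P, hy'⟩ := exists_conj_eq_mul_core P hP hp2 t hinvt (x⁻¹ * u⁻¹)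
    ((P : Subgroup G).mul_mem ((P : Subgroup G).inv_mem hxP) ((P : Subgroup G).inv_mem hu))
  have hfin : s⁻¹ * z = 1 := by
    apply hZT (s⁻¹ * z) hsz (y'⁻¹ * b)
    calc y'⁻¹ * b * t * (y'⁻¹ * b)⁻¹ = y'⁻¹ * (b * t * b⁻¹) * y' := by group
      _ = y'⁻¹ * ((s⁻¹ * z) * (x⁻¹ * u⁻¹ * t)) * y' := by rw [← ht2, ht2eq]
      _ = y'⁻¹ * ((s⁻¹ * z) * (y' * t * y'⁻¹)) * y' := by rw [hy']
      _ = (y'⁻¹ * (s⁻¹ * z) * y') * t := by group
      _ = (s⁻¹ * z) * t := by rw [hszc y'⁻¹, mul_assoc (s⁻¹ * z), inv_mul_cancel, mul_one]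
      _ = t * (s⁻¹ * z) := (hszc t).symm
  calc z = s * (s⁻¹ * z) := by group
    _ = s := by rw [hfin, mul_one]

end Cfsg.Agent.Helper20.B66
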