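import Cfsg.Agent.Helper57.BP.PartI
import Cfsg.Agent.Helper20.B66P12core

/-!
# Piece (P12) for S4705: if a product of two conjugates of `t` is `z u` with `z` central and
`u ∈ P ∖ 1` then `z = t ^ 2`
-/

set_option autoImplicit false

namespace Cfsg.Agent.Helper20.B66

open Cfsg Cfsg.Agent.Helper16 Cfsg.Agent.Helper16.DefOne Cfsg.Agent.Helper82.DefOne
  Cfsg.Agent.Helper77.DefOne Cfsg.Agent.Helper57.BH Cfsg.Agent.Helper57.BP
open scoped ComplexConjugate

universe u

variable {G : Type u} [Group G] [Fintype G] {p : ℕ} [Fact p.Prime] (P : Sylow p G)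

/-- (P12) if a product of two conjugates of `t` is `z u` with `z` central and `u ∈ P ∖ 1` then
`z = t ^ 2` -/
theorem center_eq_of_conj_mul_conj (hP : Nat.card P = p) (hp2 : 2 < p)
    (hf : (cen P).relIndex (nor P) = 2)
    (hcent : ∀ c : cen P, ¬ p ∣ orderOf c → (c : G) ∈ Subgroup.center G)
    (hZreg : ∀ z : G, z ∈ Subgroup.center G → ¬ p ∣ orderOf z)
    (t : G) (htN : t ∈ nor P) (htC : t ∉ cen P) (htt : t * t ∈ Subgroup.center G)
    (hZT : ∀ z : G, z ∈ Subgroup.center G → ∀ g : G, g * t * g⁻¹ = t * z → z = 1)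
    (u : G) (hu : u ∈ (P : Subgroup G)) (hu1 : u ≠ 1) (z : G) (hz : z ∈ Subgroup.center G)
    (a b : G) (h : a * t * a⁻¹ * (b * t * b⁻¹) = z * u) : z = t * t := by
  have hN : nor P = Subgroup.normalizer ((P : Subgroup G) : Set G) :=
    Cfsg.Agent.Helper82.DefOne.nor_eq_normalizer P hP
  rw [hN] at hf htN
  exact center_eq_core P hP hp2 hf hcent hZreg t htN htC htt hZT u hu hu1 z hz a b h

/-- (P07) an element of `N ∖ C` inverts `P` when `|N : C| = 2` (bonus, same statement as the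
skeleton's `conj_eq_inv`) -/
theorem conj_eq_inv' (hP : Nat.card P = p) (hf : (cen P).relIndex (nor P) = 2)
    (t : G) (htN : t ∈ nor P) (htC : t ∉ cen P) (x : G) (hx : x ∈ (P : Subgroup G)) :
    t * x * t⁻¹ = x⁻¹ := by
  have hN : nor P = Subgroup.normalizer ((P : Subgroup G) : Set G) :=
    Cfsg.Agent.Helper82.DefOne.nor_eq_normalizer P hP
  rw [hN] at hf htN
  exact conj_eq_inv_core P hP hf t htN htC x hx

/-- (P08) the coset `P t` consists of `P`-conjugates of `t` (bonus) -/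
theorem exists_conj_eq_mul' (hP : Nat.card P = p) (hp2 : 2 < p) (t : G)
    (hinv : ∀ x : G, x ∈ (P : Subgroup G) → t * x * t⁻¹ = x⁻¹)
    (x : G) (hx : x ∈ (P : Subgroup G)) :
    ∃ y : G, y ∈ (P : Subgroup G) ∧ y * t * y⁻¹ = x * t :=
  exists_conj_eq_mul_core P hP hp2 t hinv x hx

/-- (P12a) `C_G(P) = P Z(G)` (bonus) -/
theorem exists_mul_of_mem_cen' (hP : Nat.card P = p)
    (hcent : ∀ c : cen P, ¬ p ∣ orderOf c → (c : G) ∈ Subgroup.center G)
    (c : G) (hc : c ∈ cen P) :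
    ∃ x : G, x ∈ (P : Subgroup G) ∧ ∃ z : G, z ∈ Subgroup.center G ∧ c = x * z :=
  exists_mul_of_mem_cen_core P hP hcent c hc

end Cfsg.Agent.Helper20.B66
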