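import Mathlib

/-!
# Arithmetic core of piece (P27) for S4705: the order of `G` from three moments
-/

set_option autoImplicit false

namespace Cfsg.Agent.Helper20.B66

theorem prod_three_nonneg (c : ℤ) (h : 0 ≤ c) : 0 ≤ c * (c - 1) * (c - 2) := by
  rcases lt_or_ge c 2 with h2 | h2
  · have : c = 0 ∨ c = 1 := by omega
    rcases this with rfl | rfl <;> norm_num
  · exact mul_nonneg (mul_nonneg h (by omega)) (by omega)

theorem prod_two_nonneg (c : ℤ) : 0 ≤ c * (c - 1) := by
  rcases le_or_gt c 0 with h | h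
  · exact mul_nonneg_of_nonpos_of_nonpos h (by omega)
  · exact mul_nonneg (by omega) (by omega)

theorem moments_core {α : Type*} [Fintype α] (p : ℤ) (hp5 : 5 < p) (c : α → ℤ)
    (sing : α → Prop) [DecidablePred sing]
    (hcs : ∀ g, sing g → c g = -1) (hcr : ∀ g, ¬ sing g → 0 ≤ c g) (hcle : ∀ g, c g ≤ p - 1)
    (n S : ℤ) (hS : S = ((Finset.univ.filter sing).card : ℤ))
    (h1 : ∑ g, c g = 0) (h2 : ∑ g, c g ^ 2 = n) (s1 : ℤ) (hs1 : 0 ≤ s1)
    (h3 : ∑ g, c g ^ 3 = n * s1)
    (hSn : 2 * p * S = (p - 1) * n) (hnpos : 0 < n)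
    (K : Finset α) (hK : ∀ g, g ∈ K ↔ c g = p - 1) :
    n = p * (p - 1) * (p - 2) * (K.card : ℤ) := by
  classical
  set R : Finset α := Finset.univ.filter (fun g => ¬ sing g) with hR
  set Sg : Finset α := Finset.univ.filter sing with hSg
  have hsplit : ∀ f : ℤ → ℤ, ∑ g, f (c g) = S * f (-1) + ∑ g ∈ R, f (c g) := by
    intro f
    rw [← Finset.sum_filter_add_sum_filter_not Finset.univ sing (fun g => f (c g))]
    congr 1
    rw [hS, ← nsmul_eq_mul, ← Finset.sum_const]
    apply Finset.sum_congr rfl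
    intro g hg
    rw [hcs g (Finset.mem_filter.mp hg).2]
  have hA1 : ∑ g ∈ R, c g = S := by
    have : ∑ g, c g = S * (-1) + ∑ g ∈ R, c g := hsplit (fun x => x)
    rw [h1] at this
    linarith
  have hA2 : ∑ g ∈ R, c g ^ 2 = n - S := by
    have : ∑ g, c g ^ 2 = S * (-1) ^ 2 + ∑ g ∈ R, c g ^ 2 := hsplit (fun x => x ^ 2)
    rw [h2] at this
    linarith
  have hA3 : ∑ g ∈ R, c g ^ 3 = n * s1 + S := by
    have : ∑ g, c g ^ 3 = S * (-1) ^ 3 + ∑ g ∈ R, c g ^ 3 := hsplit (fun x => x ^ 3)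
    rw [h3] at this
    linarith
  -- first inequality
  have hT1 : ∑ g ∈ R, c g * (c g - 1) * (c g - 2) = n * s1 - 3 * n + 6 * S := by
    have : ∀ g ∈ R, c g * (c g - 1) * (c g - 2) = c g ^ 3 - 3 * c g ^ 2 + 2 * c g := by
      intro g _; ring
    rw [Finset.sum_congr rfl this, Finset.sum_add_distrib, Finset.sum_sub_distrib,
      ← Finset.mul_sum, ← Finset.mul_sum, hA1, hA2, hA3]
    ring
  have hT1nn : 0 ≤ ∑ g ∈ R, c g * (c g - 1) * (c g - 2) :=
    Finset.sum_nonneg (fun g hg => prod_three_nonneg _ (hcr g (Finset.mem_filter.mp hg).2))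
  have hs1ge : 1 ≤ s1 := by
    by_contra hlt
    have h0 : s1 = 0 := by omega
    rw [hT1, h0] at hT1nn
    -- n * 0 - 3 n + 6 S ≥ 0, times p: -3 p n + 3 (p-1) n ≥ 0
    have : 0 ≤ p * (n * 0 - 3 * n + 6 * S) := mul_nonneg (by omega) hT1nn
    have e : p * (n * 0 - 3 * n + 6 * S) = -3 * n := by
      have : p * (n * 0 - 3 * n + 6 * S) = -3 * p * n + 3 * (2 * p * S) := by ring
      rw [this, hSn]; ring
    rw [e] at this
    omega
  -- second inequality
  have hT2 : ∑ g ∈ R, c g * (c g - 1) * (p - 1 - c g) = n * (1 - s1) := by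
    have : ∀ g ∈ R, c g * (c g - 1) * (p - 1 - c g)
        = -(c g ^ 3) + p * c g ^ 2 - (p - 1) * c g := by
      intro g _; ring
    rw [Finset.sum_congr rfl this, Finset.sum_sub_distrib, Finset.sum_add_distrib,
      Finset.sum_neg_distrib, ← Finset.mul_sum, ← Finset.mul_sum, hA1, hA2, hA3]
    have : -(n * s1 + S) + p * (n - S) - (p - 1) * S = -(n * s1) + p * n - 2 * p * S := by ring
    rw [this, hSn]; ring
  have hterm : ∀ g ∈ R, 0 ≤ c g * (c g - 1) * (p - 1 - c g) := fun g _ =>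
    mul_nonneg (prod_two_nonneg _) (by have := hcle g; omega)
  have hT2nn : 0 ≤ ∑ g ∈ R, c g * (c g - 1) * (p - 1 - c g) := Finset.sum_nonneg hterm
  have hs1le : s1 ≤ 1 := by
    by_contra hgt
    have : n * (1 - s1) < 0 := mul_neg_of_pos_of_neg hnpos (by omega)
    rw [hT2] at hT2nn
    omega
  have hs1eq : s1 = 1 := le_antisymm hs1le hs1ge
  have hzero : ∀ g ∈ R, c g * (c g - 1) * (p - 1 - c g) = 0 := by
    have h0 : ∑ g ∈ R, c g * (c g - 1) * (p - 1 - c g) = 0 := by rw [hT2, hs1eq]; ring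
    exact (Finset.sum_eq_zero_iff_of_nonneg hterm).mp h0
  have hcases : ∀ g ∈ R, c g = 0 ∨ c g = 1 ∨ c g = p - 1 := by
    intro g hg
    rcases mul_eq_zero.mp (hzero g hg) with h | h
    · rcases mul_eq_zero.mp h with h | h
      · exact Or.inl h
      · exact Or.inr (Or.inl (by omega))
    · exact Or.inr (Or.inr (by omega))
  -- the sum of `c (c - 1)`
  have hT3 : ∑ g ∈ R, c g * (c g - 1) = n - 2 * S := by
    have : ∀ g ∈ R, c g * (c g - 1) = c g ^ 2 - c g := by intro g _; ring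
    rw [Finset.sum_congr rfl this, Finset.sum_sub_distrib, hA1, hA2]; ring
  have hKR : K ⊆ R := by
    intro g hg
    rw [hR, Finset.mem_filter]
    refine ⟨Finset.mem_univ _, fun hs => ?_⟩
    have h1 := hcs g hs
    have h2 := (hK g).mp hg
    omega
  have hT3' : ∑ g ∈ R, c g * (c g - 1) = (p - 1) * (p - 2) * (K.card : ℤ) := by
    have h1 : ∑ g ∈ R, c g * (c g - 1) = ∑ g ∈ R, if g ∈ K then (p - 1) * (p - 2) else 0 := by
      apply Finset.sum_congr rfl
      intro g hg
      by_cases hgK : g ∈ K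
      · rw [if_pos hgK, (hK g).mp hgK]; ring
      · rw [if_neg hgK]
        rcases hcases g hg with h | h | h
        · rw [h]; ring
        · rw [h]; ring
        · exact absurd ((hK g).mpr h) hgK
    rw [h1, ← Finset.sum_filter, Finset.sum_const, nsmul_eq_mul]
    have : R.filter (fun g => g ∈ K) = K := by
      ext g
      rw [Finset.mem_filter]
      exact ⟨fun h => h.2, fun h => ⟨hKR h, h⟩⟩
    rw [this]; ring
  have hfin : n - 2 * S = (p - 1) * (p - 2) * (K.card : ℤ) := by rw [← hT3, hT3']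
  have : p * (n - 2 * S) = n := by
    have : p * (n - 2 * S) = p * n - 2 * p * S := by ring
    rw [this, hSn]; ring
  rw [← this, hfin]; ring

end Cfsg.Agent.Helper20.B66
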