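import Cfsg.Agent.Helper57.BP.PartI
import Cfsg.Agent.Helper20.B66P27core

/-!
# Piece (P27) for S4705: the order of `G` from the first three moments of `χ₁`
-/

set_option autoImplicit false

namespace Cfsg.Agent.Helper20.B66

open Cfsg Cfsg.Agent.Helper16 Cfsg.Agent.Helper16.DefOne Cfsg.Agent.Helper82.DefOne
  Cfsg.Agent.Helper77.DefOne Cfsg.Agent.Helper57.BH Cfsg.Agent.Helper57.BP
open scoped ComplexConjugate

universe u

variable {G : Type u} [Group G] [Fintype G] {p : ℕ} [Fact p.Prime]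

open Classical in
/-- (P27) the order of `G` from the first three moments of `χ₁` -/
theorem card_of_moments (hp5 : 5 < p) (χ1 : IrrCharacter G) (hne : χ1 ≠ oneIrrG G)
    (hdeg : charDegree (χ1 : G → ℂ) = p - 1)
    (hsing : ∀ g : G, p ∣ orderOf g → (χ1 : G → ℂ) g = -1)
    (hint : ∀ g : G, ¬ p ∣ orderOf g → ∃ n : ℕ, (χ1 : G → ℂ) g = (n : ℂ))
    (hS : 2 * p * (Finset.univ.filter (fun g : G => p ∣ orderOf g)).card =
      (p - 1) * Nat.card G)
    (z : ℕ)
    (hker : (Finset.univ.filter (fun g : G => (χ1 : G → ℂ) g = (χ1 : G → ℂ) 1)).card = z) :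
    Nat.card G = p * (p - 1) * (p - 2) * z := by
  have hval : ∀ g : G, ∃ m : ℤ, (χ1 : G → ℂ) g = (m : ℂ) := by
    intro g
    by_cases h : p ∣ orderOf g
    · exact ⟨-1, by rw [hsing g h]; simp⟩
    · obtain ⟨n, hn⟩ := hint g h
      exact ⟨n, by rw [hn]; simp⟩
  choose c hc using hval
  have hcs : ∀ g, p ∣ orderOf g → c g = -1 := by
    intro g h
    have := hsing g h
    rw [hc g] at this
    exact_mod_cast this
  have hcr : ∀ g, ¬ p ∣ orderOf g → 0 ≤ c g := by
    intro g h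
    obtain ⟨n, hn⟩ := hint g h
    rw [hc g] at hn
    have : c g = (n : ℤ) := by exact_mod_cast hn
    rw [this]; exact Int.natCast_nonneg n
  have hχ := Cfsg.Agent.Helper74.irr_isCharacter χ1
  have hp1 : 1 ≤ p := by omega
  have hp2 : 2 ≤ p := by omega
  have hcle : ∀ g, c g ≤ (p : ℤ) - 1 := by
    intro g
    have h := Cfsg.Agent.Helper74.norm_le_charDegree hχ g
    rw [hc g, hdeg, Complex.norm_intCast] at h
    have h2 : ((c g : ℤ) : ℝ) ≤ ((p - 1 : ℕ) : ℝ) := le_trans (le_abs_self _) h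
    have h3 : ((c g : ℤ) : ℝ) ≤ (((p : ℤ) - 1 : ℤ) : ℝ) := by
      rw [Nat.cast_sub hp1] at h2
      push_cast
      simpa using h2
    exact_mod_cast h3
  -- the three moments
  have hcard : (Nat.card G : ℂ) ≠ 0 := by exact_mod_cast Nat.card_pos.ne'
  have hconj : ∀ g, conj ((χ1 : G → ℂ) g) = (c g : ℂ) := by
    intro g
    rw [hc g, map_intCast]
  have h1 : ∑ g, c g = 0 := by
    have := Cfsg.Agent.Helper74.irr_orthonormal χ1 (oneIrrG G)
    rw [if_neg hne] at this
    unfold classInner at this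
    have h0 : ∑ g : G, (χ1 : G → ℂ) g * conj (((oneIrrG G : IrrCharacter G) : G → ℂ) g) = 0 := by
      rcases mul_eq_zero.mp this with h | h
      · exact absurd (inv_eq_zero.mp h) hcard
      · exact h
    have h0' : ∑ g : G, ((c g : ℤ) : ℂ) = 0 := by
      rw [← h0]
      apply Finset.sum_congr rfl
      intro g _
      rw [hc g]
      show _ = _ * conj (1 : ℂ)
      simp
    exact_mod_cast h0'
  have h2 : ∑ g, c g ^ 2 = (Nat.card G : ℤ) := by
    have := Cfsg.Agent.Helper74.irr_orthonormal χ1 χ1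
    rw [if_pos rfl] at this
    unfold classInner at this
    have h0 : ∑ g : G, (χ1 : G → ℂ) g * conj ((χ1 : G → ℂ) g) = (Nat.card G : ℂ) := by
      have := (inv_mul_eq_iff_eq_mul₀ hcard).mp this
      rw [this, mul_one]
    have h0' : ∑ g : G, (((c g : ℤ) : ℂ)) ^ 2 = (Nat.card G : ℂ) := by
      rw [← h0]
      apply Finset.sum_congr rfl
      intro g _
      rw [hconj g, hc g]
      ring
    exact_mod_cast h0'
  obtain ⟨s1, hs1⟩ := Cfsg.Agent.Helper74.isCharacter_inner_irr_nat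
    (Cfsg.Agent.Helper74.isCharacter_mul hχ hχ) χ1
  have h3 : ∑ g, c g ^ 3 = (Nat.card G : ℤ) * (s1 : ℤ) := by
    unfold classInner at hs1
    have h0 : ∑ g : G, ((χ1 : G → ℂ) * (χ1 : G → ℂ)) g * conj ((χ1 : G → ℂ) g)
        = (Nat.card G : ℂ) * (s1 : ℂ) := (inv_mul_eq_iff_eq_mul₀ hcard).mp hs1
    have h0' : ∑ g : G, (((c g : ℤ) : ℂ)) ^ 3 = (Nat.card G : ℂ) * (s1 : ℂ) := by
      rw [← h0]
      apply Finset.sum_congr rfl
      intro g _
      rw [hconj g, Pi.mul_apply, hc g]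
      ring
    exact_mod_cast h0'
  -- the set where `χ₁` takes its degree
  set K : Finset G := Finset.univ.filter (fun g : G => (χ1 : G → ℂ) g = (χ1 : G → ℂ) 1) with hKdef
  have hχ11 : (χ1 : G → ℂ) 1 = (((p : ℤ) - 1 : ℤ) : ℂ) := by
    rw [← Cfsg.Agent.Helper74.charDegree_cast hχ, hdeg, Nat.cast_sub hp1]
    push_cast
    ring
  have hK : ∀ g, g ∈ K ↔ c g = (p : ℤ) - 1 := by
    intro g
    rw [hKdef, Finset.mem_filter, hχ11, hc g]
    constructor
    · rintro ⟨-, h⟩
      exact_mod_cast h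
    · intro h
      exact ⟨Finset.mem_univ _, by rw [h]⟩
  have hSn : 2 * (p : ℤ) * ((Finset.univ.filter (fun g : G => p ∣ orderOf g)).card : ℤ)
      = ((p : ℤ) - 1) * (Nat.card G : ℤ) := by
    have := congrArg (Nat.cast : ℕ → ℤ) hS
    push_cast [Nat.cast_sub hp1] at this
    linarith
  have hmain := moments_core (p : ℤ) (by exact_mod_cast hp5) c (fun g => p ∣ orderOf g)
    hcs hcr hcle (Nat.card G : ℤ) _ rfl h1 h2 (s1 : ℤ) (Int.natCast_nonneg s1) h3 hSn
    (by exact_mod_cast Nat.card_pos) K hK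
  rw [hker] at hmain
  have : ((Nat.card G : ℕ) : ℤ) = ((p * (p - 1) * (p - 2) * z : ℕ) : ℤ) := by
    push_cast [Nat.cast_sub hp1, Nat.cast_sub hp2]
    rw [hmain]
  exact_mod_cast this

end Cfsg.Agent.Helper20.B66
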