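import Mathlib.GroupTheory.OrderOfElement
import Mathlib.GroupTheory.Index
import Mathlib.GroupTheory.SpecificGroups.Cyclic
import Cfsg.Prelude.Def_CaseTheorems

set_option autoImplicit false

/-!
Normal form calculus in a quasi-dihedral (semidihedral) group `⟨x, y⟩` of order `2^(n+1)`, `n = k + 3`.
We write `P = 2^k`, so `|x| = 8P`, and `y x y⁻¹ = x^(4P - 1)`.
-/

namespace Cfsg.Agent.Helper20

/-- The data of a quasi-dihedral group of order `2^(k+4)`. -/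
structure QDData (S : Type*) [Group S] (k : ℕ) (x y : S) : Prop where
  card : Nat.card S = 2 ^ (k + 4)
  ox : orderOf x = 2 ^ (k + 3)
  oy : orderOf y = 2
  rel : y * x * y⁻¹ = x ^ ((4 * 2 ^ k - 1 : ℤ))

theorem exists_qdData {S : Type*} [Group S] (hS : Cfsg.IsQuasiDihedral S) :
    ∃ (k : ℕ) (x y : S), QDData S k x y := by
  obtain ⟨n, hn, hcard, x, y, hx, hy, hrel⟩ := hS
  obtain ⟨k, rfl⟩ : ∃ k, n = k + 3 := ⟨n - 3, by omega⟩
  refine ⟨k, x, y, hcard, hx, hy, ?_⟩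
  rw [hrel, ← zpow_natCast]
  congr 1
  have h1 : 1 ≤ 2 ^ (k + 3 - 1) := Nat.one_le_two_pow
  rw [Nat.cast_sub h1]
  have : k + 3 - 1 = k + 2 := by omega
  rw [this]
  push_cast
  ring

namespace QDData

variable {S : Type*} [Group S] {k : ℕ} {x y : S}

theorem y_sq (h : QDData S k x y) : y * y = 1 := by
  have := pow_orderOf_eq_one y
  rwa [h.oy, pow_two] at this

theorem y_inv (h : QDData S k x y) : y⁻¹ = y := inv_eq_of_mul_eq_one_right h.y_sq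

theorem y_ne_one (h : QDData S k x y) : y ≠ 1 := by
  intro h1
  have := h.oy
  rw [h1, orderOf_one] at this
  omega

/-- `x^i = x^j ↔ 8P ∣ i - j` -/
theorem xpow_eq_iff (h : QDData S k x y) (i j : ℤ) :
    x ^ i = x ^ j ↔ (8 * 2 ^ k : ℤ) ∣ i - j := by
  rw [zpow_eq_zpow_iff_modEq, h.ox, Int.modEq_iff_dvd]
  have : ((2 ^ (k + 3) : ℕ) : ℤ) = 8 * 2 ^ k := by push_cast; ring
  rw [this, ← dvd_neg, neg_sub]

theorem xpow_eq_one_iff (h : QDData S k x y) (i : ℤ) :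
    x ^ i = 1 ↔ (8 * 2 ^ k : ℤ) ∣ i := by
  have := h.xpow_eq_iff i 0
  rwa [zpow_zero, sub_zero] at this

theorem conj_xpow (h : QDData S k x y) (i : ℤ) :
    y * x ^ i * y⁻¹ = x ^ ((4 * 2 ^ k - 1) * i) := by
  rw [← conj_zpow, h.rel, ← zpow_mul]

/-- the basic commutation rule -/
theorem y_mul_xpow (h : QDData S k x y) (i : ℤ) :
    y * x ^ i = x ^ ((4 * 2 ^ k - 1) * i) * y := by
  rw [← h.conj_xpow i]; group

theorem xpow_mul_y_mul_xpow (h : QDData S k x y) (i j : ℤ) :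
    x ^ i * y * x ^ j = x ^ (i + (4 * 2 ^ k - 1) * j) * y := by
  rw [mul_assoc, h.y_mul_xpow j, ← mul_assoc, ← zpow_add]

theorem xpow_y_mul_xpow_y (h : QDData S k x y) (i j : ℤ) :
    (x ^ i * y) * (x ^ j * y) = x ^ (i + (4 * 2 ^ k - 1) * j) := by
  rw [← mul_assoc, h.xpow_mul_y_mul_xpow, mul_assoc, h.y_sq, mul_one]

theorem xpow_mul_xpow_y (i j : ℤ) :
    x ^ i * (x ^ j * y) = x ^ (i + j) * y := by
  rw [← mul_assoc, ← zpow_add]

/-- `y ∉ ⟨x⟩` -/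
theorem y_not_mem (h : QDData S k x y) : y ∉ Subgroup.zpowers x := by
  intro hy
  obtain ⟨i, hi⟩ := Subgroup.mem_zpowers_iff.mp hy
  have h1 := h.rel
  rw [← hi] at h1
  have h2 : x ^ i * x * (x ^ i)⁻¹ = x ^ (1 : ℤ) := by rw [zpow_one]; group
  rw [h2, h.xpow_eq_iff] at h1
  obtain ⟨c, hc⟩ := h1
  have h3 : (2 : ℤ) = 2 ^ k * (4 + 8 * c) := by
    have : 2 ^ k * (4 + 8 * c) = 4 * 2 ^ k + 8 * 2 ^ k * c := by ring
    rw [this, ← hc]; ring
  have h4 : (4 : ℤ) ∣ 2 ^ k * (4 + 8 * c) := Dvd.dvd.mul_left ⟨1 + 2 * c, by ring⟩ _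
  rw [← h3] at h4
  omega

theorem index_zpowers (h : QDData S k x y) : (Subgroup.zpowers x).index = 2 := by
  have h1 := Subgroup.index_mul_card (Subgroup.zpowers x)
  rw [Nat.card_zpowers, h.ox, h.card] at h1
  have : 2 ^ (k + 4) = 2 * 2 ^ (k + 3) := by ring
  rw [this] at h1
  exact Nat.eq_of_mul_eq_mul_right (by positivity) h1

/-- normal form: every element is `x^i` or `x^i * y` -/
theorem cases (h : QDData S k x y) (s : S) : (∃ i : ℤ, s = x ^ i) ∨ (∃ i : ℤ, s = x ^ i * y) := by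
  by_cases hs : s ∈ Subgroup.zpowers x
  · left
    obtain ⟨i, hi⟩ := Subgroup.mem_zpowers_iff.mp hs
    exact ⟨i, hi.symm⟩
  · right
    have hc : s * y⁻¹ ∈ Subgroup.zpowers x := by
      rw [Subgroup.mul_mem_iff_of_index_two h.index_zpowers, inv_mem_iff]
      exact ⟨fun h' => absurd h' hs, fun h' => absurd h' h.y_not_mem⟩
    obtain ⟨i, hi⟩ := Subgroup.mem_zpowers_iff.mp hc
    exact ⟨i, by rw [hi]; group⟩

theorem xpow_ne_xpow_y (h : QDData S k x y) (i j : ℤ) : x ^ i ≠ x ^ j * y := by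
  intro he
  apply h.y_not_mem
  have : y = x ^ (i - j) := by
    rw [sub_eq_neg_add, zpow_add, he]; group
  rw [this]
  exact Subgroup.zpow_mem_zpowers x _

theorem xpow_y_eq_iff (h : QDData S k x y) (i j : ℤ) :
    x ^ i * y = x ^ j * y ↔ (8 * 2 ^ k : ℤ) ∣ i - j := by
  rw [mul_left_inj, h.xpow_eq_iff]

theorem xpow_y_ne_one (h : QDData S k x y) (i : ℤ) : x ^ i * y ≠ 1 := by
  intro he
  exact h.xpow_ne_xpow_y 0 i (by rw [zpow_zero, he])

/-- `(x^i y)^2 = x^(4P i)` -/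
theorem xpow_y_sq (h : QDData S k x y) (i : ℤ) :
    (x ^ i * y) * (x ^ i * y) = x ^ (4 * 2 ^ k * i) := by
  rw [h.xpow_y_mul_xpow_y]
  congr 1
  ring

theorem xpow_y_inv (h : QDData S k x y) (i : ℤ) :
    (x ^ i * y)⁻¹ = x ^ (-(4 * 2 ^ k - 1) * i) * y := by
  apply inv_eq_of_mul_eq_one_right
  rw [h.xpow_y_mul_xpow_y, h.xpow_eq_one_iff]
  -- i + (4P-1) * (-(4P-1) i) = i (1 - (4P-1)^2) = i * (-16P^2 + 8P) = 8P * i * (1 - 2P)
  exact ⟨i * (1 - 2 * 2 ^ k), by ring⟩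

/-- the central involution `x^(4P)` -/
theorem xpow_y_sq_eq_one_iff (h : QDData S k x y) (i : ℤ) :
    (x ^ i * y) * (x ^ i * y) = 1 ↔ (2 : ℤ) ∣ i := by
  rw [h.xpow_y_sq, h.xpow_eq_one_iff]
  have hP : (0 : ℤ) < 2 ^ k := by positivity
  constructor
  · rintro ⟨c, hc⟩
    have : 4 * 2 ^ k * i = 4 * 2 ^ k * (2 * c) := by rw [hc]; ring
    have := mul_left_cancel₀ (by positivity : (4 * 2 ^ k : ℤ) ≠ 0) this
    exact ⟨c, this⟩
  · rintro ⟨c, rfl⟩
    exact ⟨c, by ring⟩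

end QDData

end Cfsg.Agent.Helper20
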