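-- helper20: the centralizer of a double transposition in the alternating group of degree 6 is
-- dihedral of order 8.
import Mathlib

set_option autoImplicit false

namespace Cfsg.Agent.Helper20.A6Cent

open Equiv DihedralGroup

/-- the reference double transposition `(0 1)(2 3)`. -/
def alpha0 : alternatingGroup (Fin 6) :=
  ⟨swap 0 1 * swap 2 3, Equiv.Perm.mem_alternatingGroup.mpr (by decide)⟩

/-- `(0 2 1 3)(4 5)` -/
def a0 : alternatingGroup (Fin 6) :=
  ⟨swap 0 2 * swap 2 1 * swap 1 3 * swap 4 5, Equiv.Perm.mem_alternatingGroup.mpr (by decide)⟩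

/-- `(0 1)(4 5)` -/
def b0 : alternatingGroup (Fin 6) :=
  ⟨swap 0 1 * swap 4 5, Equiv.Perm.mem_alternatingGroup.mpr (by decide)⟩

/-- the embedding of the dihedral group. -/
def f0 : DihedralGroup 4 → alternatingGroup (Fin 6)
  | r i => a0 ^ i.val
  | sr i => b0 * a0 ^ i.val

theorem f0_mul (p q : DihedralGroup 4) : f0 (p * q) = f0 p * f0 q := by
  revert p q; decide +kernel

theorem f0_inj (p q : DihedralGroup 4) (h : f0 p = f0 q) : p = q := by
  revert p q; decide +kernel

theorem f0_comm (p : DihedralGroup 4) : f0 p * alpha0 = alpha0 * f0 p := by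
  revert p; decide +kernel

theorem f0_surj (c : alternatingGroup (Fin 6)) (h : c * alpha0 = alpha0 * c) :
    ∃ p : DihedralGroup 4, f0 p = c := by
  revert c; decide +kernel

theorem nonempty_cent_alpha0 :
    Nonempty (Subgroup.centralizer ({alpha0} : Set (alternatingGroup (Fin 6))) ≃*
      DihedralGroup 4) := by
  let F : DihedralGroup 4 →* alternatingGroup (Fin 6) := MonoidHom.mk' f0 f0_mul
  have hmem : ∀ p, F p ∈ Subgroup.centralizer ({alpha0} : Set (alternatingGroup (Fin 6))) := by
    intro p
    rw [Subgroup.mem_centralizer_singleton_iff]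
    exact f0_comm p
  let F' : DihedralGroup 4 →* Subgroup.centralizer ({alpha0} : Set (alternatingGroup (Fin 6))) :=
    F.codRestrict _ hmem
  have hbij : Function.Bijective F' := by
    refine ⟨fun p q h => f0_inj p q (congrArg Subtype.val h), fun c => ?_⟩
    obtain ⟨p, hp⟩ := f0_surj c.1 (Subgroup.mem_centralizer_singleton_iff.mp c.2)
    exact ⟨p, Subtype.ext hp⟩
  exact ⟨(MulEquiv.ofBijective F' hbij).symm⟩

/-- an isomorphism carries centralizers of elements to centralizers. -/
noncomputable def centralizerCongr {H H' : Type*} [Group H] [Group H'] (φ : H ≃* H') (x : H)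
    (y : H') (hxy : φ x = y) :
    Subgroup.centralizer ({x} : Set H) ≃* Subgroup.centralizer ({y} : Set H') where
  toFun c := ⟨φ c, by
    rw [Subgroup.mem_centralizer_singleton_iff, ← hxy, ← map_mul, ← map_mul]
    exact congrArg φ (Subgroup.mem_centralizer_singleton_iff.mp c.2)⟩
  invFun c := ⟨φ.symm c, by
    have hx : x = φ.symm y := by rw [← hxy, MulEquiv.symm_apply_apply]
    rw [Subgroup.mem_centralizer_singleton_iff, hx, ← map_mul, ← map_mul]
    exact congrArg φ.symm (Subgroup.mem_centralizer_singleton_iff.mp c.2)⟩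
  left_inv c := Subtype.ext (φ.symm_apply_apply (c : H))
  right_inv c := Subtype.ext (φ.apply_symm_apply (c : H'))
  map_mul' a b := Subtype.ext (map_mul φ (a : H) (b : H))

theorem cycleType_of_order_two_support_four (σ : Equiv.Perm (Fin 6)) (h2 : orderOf σ = 2)
    (h4 : σ.support.card = 4) : σ.cycleType = Multiset.replicate 2 2 := by
  have hall : ∀ n ∈ σ.cycleType, n = 2 := by
    intro n hn
    have h1 := Equiv.Perm.two_le_of_mem_cycleType hn
    have h3 := Equiv.Perm.dvd_of_mem_cycleType hn
    rw [h2] at h3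
    have := Nat.le_of_dvd (by norm_num) h3
    omega
  have hrep := Multiset.eq_replicate_card.mpr hall
  have hsum := Equiv.Perm.sum_cycleType σ
  rw [hrep, Multiset.sum_replicate, h4, smul_eq_mul] at hsum
  have hc : Multiset.card σ.cycleType = 2 := by omega
  rw [hrep, hc]

/-- the centralizer in `A₆` of any double transposition is dihedral of order `8`. -/
theorem nonempty_cent (αt : alternatingGroup (Fin 6)) (hαt : orderOf αt = 2)
    (hsupp : (αt : Equiv.Perm (Fin 6)).support.card = 4) :
    Nonempty (Subgroup.centralizer ({αt} : Set (alternatingGroup (Fin 6))) ≃*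
      DihedralGroup 4) := by
  haveI : Fact (Nat.Prime 2) := ⟨Nat.prime_two⟩
  have ho0 : orderOf (alpha0 : Equiv.Perm (Fin 6)) = 2 :=
    orderOf_eq_prime (by decide) (by decide)
  have hs0 : (alpha0 : Equiv.Perm (Fin 6)).support.card = 4 := by decide
  have h0 := cycleType_of_order_two_support_four _ ho0 hs0
  have h1 := cycleType_of_order_two_support_four (αt : Equiv.Perm (Fin 6))
    (by rw [Subgroup.orderOf_coe]; exact hαt) hsupp
  obtain ⟨σ, hσ⟩ := isConj_iff.mp (Equiv.Perm.isConj_iff_cycleType_eq.mpr (h0.trans h1.symm))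
  let φ : alternatingGroup (Fin 6) ≃* alternatingGroup (Fin 6) := MulAut.conjNormal σ
  have hφ : φ alpha0 = αt := Subtype.ext (by rw [MulAut.conjNormal_apply]; exact hσ)
  obtain ⟨e0⟩ := nonempty_cent_alpha0
  exact ⟨(centralizerCongr φ alpha0 αt hφ).symm.trans e0⟩

end Cfsg.Agent.Helper20.A6Cent
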