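-- helper20: piece (T1a) of helper38's S2272 design: a non-scalar matrix has a non-eigenvector.
import Mathlib

set_option autoImplicit false

namespace Cfsg.Agent.Helper20.CP

open Matrix

variable {F : Type*} [Field F] {d : ℕ}

local notation "SL" => Matrix.SpecialLinearGroup (Fin d) F
local notation "PSL" => Matrix.ProjectiveSpecialLinearGroup (Fin d) F

/-- (T1a) a matrix for which every vector is an eigenvector is scalar; contrapositive form. -/
theorem exists_not_eigen (A : Matrix (Fin d) (Fin d) F) (hA : ∀ r : F, Matrix.scalar (Fin d) r ≠ A) :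
    ∃ x : Fin d → F, ∀ c : F, A *ᵥ x ≠ c • x := by
  by_contra hcon
  push Not at hcon
  choose lam hlam using fun i : Fin d => hcon (Pi.single i 1)
  have hcol : ∀ k i, A k i = if k = i then lam i else 0 := by
    intro k i
    have h := congrFun (hlam i) k
    rw [Matrix.mulVec_single_one] at h
    rw [show A k i = A.col i k from rfl, h, Pi.smul_apply, Pi.single_apply, smul_eq_mul]
    split_ifs <;> simp
  have heq : ∀ i j, lam i = lam j := by
    intro i j
    by_cases hij : i = j
    · rw [hij]
    obtain ⟨μ, hμ⟩ := hcon (Pi.single i 1 + Pi.single j 1)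
    rw [Matrix.mulVec_add, hlam i, hlam j] at hμ
    have hi := congrFun hμ i
    have hj := congrFun hμ j
    simp [Pi.single_apply, hij, Ne.symm hij] at hi hj
    rw [hi, hj]
  rcases Nat.eq_zero_or_pos d with hd | hd
  · subst hd
    exact hA 0 (by ext i; exact i.elim0)
  · refine hA (lam ⟨0, hd⟩) ?_
    ext k i
    rw [hcol, Matrix.scalar_apply, Matrix.diagonal_apply]
    by_cases hki : k = i
    · simp [hki, heq i ⟨0, hd⟩]
    · simp [hki]

end Cfsg.Agent.Helper20.CP
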