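-- helper20: piece (T2) of helper38's S2272 design: the trace formula for the transvection conjugate.
import Mathlib

set_option autoImplicit false

namespace Cfsg.Agent.Helper20.CP

open Matrix

variable {F : Type*} [Field F] {d : ℕ}

local notation "SL" => Matrix.SpecialLinearGroup (Fin d) F
local notation "PSL" => Matrix.ProjectiveSpecialLinearGroup (Fin d) F

theorem mul_apply_col (X Y : Matrix (Fin d) (Fin d) F) (i₀ t : Fin d)
    (hY : ∀ k, Y k i₀ = if k = t then 1 else 0) (b : Fin d) : (X * Y) b i₀ = X b t := by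
  rw [Matrix.mul_apply]
  simp [hY]

/-- (T2) the trace formula for the transvection `T = 1 + c₁ E_{i₀ i₁} + c₂ E_{i₀ i₂}`. -/
theorem exists_trace_conj (A B : SL) (i₀ i₁ i₂ : Fin d) (h01 : i₀ ≠ i₁) (h02 : i₀ ≠ i₂) (h12 : i₁ ≠ i₂)
    (hA : ∀ i, A.1 i i₀ = if i = i₁ then 1 else 0) (hB : ∀ i, B.1 i i₀ = if i = i₂ then 1 else 0)
    (c₁ c₂ : F) :
    ∃ T : SL, (A * (T * B * T⁻¹)).1.trace =
      (A * B).1.trace + (c₁ * B.1 i₁ i₁ + c₂ * B.1 i₂ i₁ - c₁ * A.1 i₁ i₂ - c₂ * A.1 i₂ i₂) - c₁ * c₂ := by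
  set E : Matrix (Fin d) (Fin d) F := Matrix.single i₀ i₁ c₁ + Matrix.single i₀ i₂ c₂ with hE
  have hEE : E * E = 0 := by
    rw [hE, Matrix.add_mul, Matrix.mul_add, Matrix.mul_add,
      Matrix.single_mul_single_of_ne c₁ i₀ i₁ i₀ h01.symm, Matrix.single_mul_single_of_ne c₁ i₀ i₁ i₀ h01.symm,
      Matrix.single_mul_single_of_ne c₂ i₀ i₂ i₀ h02.symm, Matrix.single_mul_single_of_ne c₂ i₀ i₂ i₀ h02.symm]
    simp
  set T : SL := SpecialLinearGroup.transvection h01 c₁ * SpecialLinearGroup.transvection h02 c₂ with hTdef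
  set T' : SL := SpecialLinearGroup.transvection h02 (-c₂) * SpecialLinearGroup.transvection h01 (-c₁)
    with hT'def
  have hT : T.1 = 1 + E := by
    have h0 : T.1 = (1 + Matrix.single i₀ i₁ c₁) * (1 + Matrix.single i₀ i₂ c₂) := rfl
    rw [h0, hE, Matrix.add_mul, Matrix.mul_add, Matrix.mul_add,
      Matrix.single_mul_single_of_ne c₁ i₀ i₁ i₀ h01.symm]
    simp only [Matrix.one_mul, Matrix.mul_one, add_zero]
    abel
  have hT' : T'.1 = 1 - E := by
    have h0 : T'.1 = (1 + Matrix.single i₀ i₂ (-c₂)) * (1 + Matrix.single i₀ i₁ (-c₁)) := rfl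
    rw [h0, hE, Matrix.add_mul, Matrix.mul_add, Matrix.mul_add,
      Matrix.single_mul_single_of_ne (-c₂) i₀ i₂ i₀ h02.symm]
    have hneg : ∀ (i j : Fin d) (a : F),
        Matrix.single i j (-a) = -(Matrix.single i j a : Matrix (Fin d) (Fin d) F) := by
      intro i j a
      rw [← neg_one_smul F (Matrix.single i j a), Matrix.smul_single]
      simp
    simp only [Matrix.one_mul, Matrix.mul_one, add_zero, hneg]
    abel
  have hTT' : T * T' = 1 := by
    apply Subtype.ext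
    show T.1 * T'.1 = 1
    rw [hT, hT']
    have : (1 + E) * (1 - E) = 1 - E * E := by noncomm_ring
    rw [this, hEE, sub_zero]
  have hinv : T⁻¹ = T' := inv_eq_of_mul_eq_one_right hTT'
  refine ⟨T, ?_⟩
  rw [hinv]
  have hcoe : (A * (T * B * T')).1 = A.1 * ((1 + E) * B.1 * (1 - E)) := by
    show A.1 * (T.1 * B.1 * T'.1) = _
    rw [hT, hT']
  have hexp : A.1 * ((1 + E) * B.1 * (1 - E)) =
      A.1 * B.1 + A.1 * E * B.1 - A.1 * B.1 * E - A.1 * E * B.1 * E := by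
    noncomm_ring
  have trE : ∀ X : Matrix (Fin d) (Fin d) F, (X * E).trace = c₁ * X i₁ i₀ + c₂ * X i₂ i₀ := by
    intro X
    rw [hE, Matrix.mul_add, Matrix.trace_add, Matrix.trace_mul_single, Matrix.trace_mul_single]
    simp [mul_comm]
  have t1 : (A.1 * E * B.1).trace = c₁ * B.1 i₁ i₁ + c₂ * B.1 i₂ i₁ := by
    rw [Matrix.trace_mul_cycle, trE, mul_apply_col _ _ i₀ i₁ hA, mul_apply_col _ _ i₀ i₁ hA]
  have t2 : (A.1 * B.1 * E).trace = c₁ * A.1 i₁ i₂ + c₂ * A.1 i₂ i₂ := by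
    rw [trE, mul_apply_col _ _ i₀ i₂ hB, mul_apply_col _ _ i₀ i₂ hB]
  have hAE : ∀ b, (A.1 * E) b i₂ = (if b = i₁ then 1 else 0) * c₂ := by
    intro b
    rw [hE, Matrix.mul_add, Matrix.add_apply, Matrix.mul_single_apply_of_ne c₁ i₀ i₁ b i₂ h12.symm,
      Matrix.mul_single_apply_same, hA, zero_add]
  have t3 : (A.1 * E * B.1 * E).trace = c₁ * c₂ := by
    rw [trE, mul_apply_col _ _ i₀ i₂ hB, mul_apply_col _ _ i₀ i₂ hB, hAE, hAE, if_pos rfl,
      if_neg h12.symm]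
    ring
  have hAB : (A * B).1 = A.1 * B.1 := rfl
  rw [hcoe, hexp, Matrix.trace_sub, Matrix.trace_sub, Matrix.trace_add, t1, t2, t3, hAB]
  ring

end Cfsg.Agent.Helper20.CP
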