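-- helper20: the Diophantine core for the involution column of a simple group of order 7920.
import Mathlib

set_option autoImplicit false

namespace Cfsg.Agent.Helper20.M11

/-- The integers `-n, …, n`. -/
def rng (n : ℕ) : List ℤ := List.map (fun k : ℕ => (k : ℤ) - (n : ℤ)) (List.range (2 * n + 1))

theorem mem_rng {n : ℕ} {z : ℤ} (h1 : -(n : ℤ) ≤ z) (h2 : z ≤ n) : z ∈ rng n := by
  unfold rng
  rw [List.mem_map]
  refine ⟨(z + n).toNat, ?_, ?_⟩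
  · rw [List.mem_range]
    omega
  · have : ((z + n).toNat : ℤ) = z + n := Int.toNat_of_nonneg (by omega)
    omega

set_option maxRecDepth 100000 in
theorem inv_core : ∀ A ∈ rng 11, ∀ c ∈ rng 8, (16 * A ^ 2 + 720 - 45 * c ^ 2) % 72 = 0 →
    ∀ b1 ∈ rng 11, ∀ b2 ∈ rng 11,
    720 + 16 * A ^ 2 - 72 * (b1 ^ 2 + b2 ^ 2 + (1 + A - c - b1 - b2) ^ 2) - 45 * c ^ 2 = 0 →
    ∀ e ∈ rng 11, ∀ g ∈ rng 11,
      1 + 45 * A + 10 * (1 + A - c) + 32 * c + 11 * e + 44 * (1 + e + 2 * c) + 55 * g = 0 →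
      ∀ N ∈ Nat.divisors 144,
        1 + A ^ 2 + b1 ^ 2 + b2 ^ 2 + (1 + A - c - b1 - b2) ^ 2 + 2 * c ^ 2 + e ^ 2
          + (1 + e + 2 * c) ^ 2 + g ^ 2 = (N : ℤ) → N = 48 := by
  decide +kernel

theorem inv_arith {A b1 b2 b3 c e f g : ℤ} {N : ℕ}
    (h1 : 1 + A - b1 - b2 - b3 - c = 0) (h2 : 1 + e + 2 * c - f = 0)
    (h3 : 1 + 45 * A + 10 * (b1 + b2 + b3) + 32 * c + 11 * e + 44 * f + 55 * g = 0)
    (h4 : 1 + A ^ 2 + b1 ^ 2 + b2 ^ 2 + b3 ^ 2 + 2 * c ^ 2 + e ^ 2 + f ^ 2 + g ^ 2 = (N : ℤ))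
    (h8 : 720 + 16 * A ^ 2 - 72 * (b1 ^ 2 + b2 ^ 2 + b3 ^ 2) - 45 * c ^ 2 = 0)
    (hN : N ∣ 144) : N = 48 := by
  have hN144 : (N : ℤ) ≤ 144 := by exact_mod_cast Nat.le_of_dvd (by norm_num) hN
  have hb3 : b3 = 1 + A - c - b1 - b2 := by linarith
  have hf : f = 1 + e + 2 * c := by linarith
  subst hb3 hf
  have q1 := sq_nonneg A
  have q2 := sq_nonneg b1
  have q3 := sq_nonneg b2
  have q4 := sq_nonneg (1 + A - c - b1 - b2)
  have q5 := sq_nonneg c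
  have q6 := sq_nonneg e
  have q7 := sq_nonneg (1 + e + 2 * c)
  have q8 := sq_nonneg g
  have hA : A ^ 2 ≤ 143 := by linarith
  have hc : 2 * c ^ 2 ≤ 143 := by linarith
  have hb1 : b1 ^ 2 ≤ 143 := by linarith
  have hb2 : b2 ^ 2 ≤ 143 := by linarith
  have he : e ^ 2 ≤ 143 := by linarith
  have hg : g ^ 2 ≤ 143 := by linarith
  have bd : ∀ z : ℤ, z ^ 2 ≤ 143 → -11 ≤ z ∧ z ≤ 11 := by
    intro z hz
    constructor <;> nlinarith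
  have bc : -8 ≤ c ∧ c ≤ 8 := by constructor <;> nlinarith
  refine inv_core A (mem_rng (bd A hA).1 (bd A hA).2) c (mem_rng bc.1 bc.2) ?_
    b1 (mem_rng (bd b1 hb1).1 (bd b1 hb1).2) b2 (mem_rng (bd b2 hb2).1 (bd b2 hb2).2) h8
    e (mem_rng (bd e he).1 (bd e he).2) g (mem_rng (bd g hg).1 (bd g hg).2) ?_
    N (Nat.mem_divisors.mpr ⟨hN, by norm_num⟩) h4
  · have : 16 * A ^ 2 + 720 - 45 * c ^ 2
        = 72 * (b1 ^ 2 + b2 ^ 2 + (1 + A - c - b1 - b2) ^ 2) := by linarith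
    rw [this]
    exact Int.mul_emod_right _ _
  · linarith

end Cfsg.Agent.Helper20.M11
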