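-- helper20: Sylow 11-subgroups of a simple group of order 7920 (n_11 = 144).
import Mathlib
import Cfsg.Agent.Helper39.SimpOrd.Kit
import Cfsg.Agent.Helper17.KSk
import Cfsg.Agent.Helper17.LemmaR
import Cfsg.Agent.Helper17.Parity

set_option autoImplicit false
set_option linter.style.haveILetI false

namespace Cfsg.Agent.Helper20.M11

open Subgroup Cfsg.Agent.Helper17 Cfsg.Agent.Helper39.SimpOrd

variable {G : Type*} [Group G] [Finite G] [IsSimpleGroup G]

theorem not_comm7920 (h : Nat.card G = 7920) : ¬ IsMulCommutative G :=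
  not_comm_of_simple_of_not_prime (by rw [h]; norm_num)

theorem card_sylow11_sub (h : Nat.card G = 7920) [Fact (Nat.Prime 11)] (P : Sylow 11 G) :
    Nat.card (P : Subgroup G) = 11 := by
  have := card_sylow_subgroup_of_card_eq (p := 11) (k := 1) (m := 720) (by rw [h]; norm_num) (by norm_num) P
  simpa using this

theorem card_sylow5_sub (h : Nat.card G = 7920) [Fact (Nat.Prime 5)] (P : Sylow 5 G) :
    Nat.card (P : Subgroup G) = 5 := by
  have := card_sylow_subgroup_of_card_eq (p := 5) (k := 1) (m := 1584) (by rw [h]; norm_num) (by norm_num) P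
  simpa using this

/-- `n_11 = 12` is impossible. -/
theorem n11_ne_12 (h : Nat.card G = 7920) [Fact (Nat.Prime 11)] :
    Nat.card (Sylow 11 G) ≠ 12 := by
  intro hn
  obtain ⟨P⟩ : Nonempty (Sylow 11 G) := inferInstance
  have hP := card_sylow11_sub h P
  have hC := card_centralizer_dvd_mul_factorial_of_simple P hP 1 (by rw [hn]) (by norm_num)
  have hN := card_normalizer_mul_card_sylow P
  rw [hn, h] at hN
  obtain ⟨h1, -⟩ := relIndex_dvd_of_card_sylow_prime P hP
  have h3 := card_centralizer_mul_relIndex (P : Subgroup G)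
  generalize Nat.card (centralizer ((P : Subgroup G) : Set G)) = cc at hC h3
  generalize (centralizer ((P : Subgroup G) : Set G)).relIndex
    (normalizer ((P : Subgroup G) : Set G)) = r at h1 h3
  generalize Nat.card (normalizer ((P : Subgroup G) : Set G)) = nn at hN h3
  have hcc : cc ≤ 11 := Nat.le_of_dvd (by norm_num) (by simpa using hC)
  have hr : r ≤ 10 := Nat.le_of_dvd (by norm_num) (by simpa using h1)
  have : cc * r ≤ 11 * 10 := Nat.mul_le_mul hcc hr
  omega

set_option maxHeartbeats 800000 in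
/-- `n_11 = 45` is impossible. -/
theorem n11_ne_45 (h : Nat.card G = 7920) [Fact (Nat.Prime 11)] :
    Nat.card (Sylow 11 G) ≠ 45 := by
  intro hn
  classical
  obtain ⟨P⟩ : Nonempty (Sylow 11 G) := inferInstance
  have hP := card_sylow11_sub h P
  have hN := card_normalizer_mul_card_sylow P
  rw [hn, h] at hN
  have hNc : Nat.card (normalizer ((P : Subgroup G) : Set G)) = 176 := by omega
  obtain ⟨h1, -⟩ := relIndex_dvd_of_card_sylow_prime P hP
  have h3 := card_centralizer_mul_relIndex (P : Subgroup G)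
  rw [hNc] at h3
  have hne : ¬ (normalizer ((P : Subgroup G) : Set G) ≤ centralizer ((P : Subgroup G) : Set G)) :=
    not_normalizer_le_centralizer_of_simple P (by rw [hP]; norm_num) (by rw [hP, h]; norm_num)
  have hr1 : (centralizer ((P : Subgroup G) : Set G)).relIndex
      (normalizer ((P : Subgroup G) : Set G)) ≠ 1 := fun h' => hne (Subgroup.relIndex_eq_one.mp h')
  have hC : Nat.card (centralizer ((P : Subgroup G) : Set G)) = 88 := by
    generalize Nat.card (centralizer ((P : Subgroup G) : Set G)) = cc at h3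
    generalize (centralizer ((P : Subgroup G) : Set G)).relIndex
      (normalizer ((P : Subgroup G) : Set G)) = r at h1 h3 hr1
    have hr : r ≤ 10 := Nat.le_of_dvd (by norm_num) (by simpa using h1)
    have h10 : r ∣ 10 := by simpa using h1
    interval_cases r <;> omega
  -- a subgroup of order 8 of C(P)
  obtain ⟨K', hK'⟩ := Sylow.exists_subgroup_card_pow_prime
    (G := ↥(centralizer ((P : Subgroup G) : Set G))) 2 (n := 3) (by rw [hC]; norm_num)
  obtain ⟨K2, hK2def⟩ : ∃ K2 : Subgroup G,
    K2 = K'.map (centralizer ((P : Subgroup G) : Set G)).subtype := ⟨_, rfl⟩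
  have hK2card : Nat.card K2 = 8 := by
    rw [hK2def, Subgroup.card_map_of_injective (Subgroup.subtype_injective _), hK']
    norm_num
  have hK2C : K2 ≤ centralizer ((P : Subgroup G) : Set G) := by
    rw [hK2def]
    rintro _ ⟨x, -, rfl⟩
    exact x.2
  have hPfix : P ∈ MulAction.fixedPoints K2 (Sylow 11 G) := by
    intro w
    rw [Subgroup.smul_def, Sylow.smul_eq_iff_mem_normalizer]
    exact Subgroup.centralizer_le_normalizer _ (hK2C w.2)
  have hex : ∃ w ∈ K2, w ≠ 1 ∧ ∃ R : Sylow 11 G, R ≠ P ∧ w • R = R := by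
    by_contra hcon
    push_neg at hcon
    have hstab : ∀ (w : K2) (R : Sylow 11 G), w • R = R → R ≠ P → w = 1 := by
      intro w R hwR hRP
      by_contra hw1
      exact hcon (w : G) w.2 (fun h' => hw1 (Subtype.ext h')) R hRP hwR
    have hK21 : Nat.card K2 ≠ 1 := by rw [hK2card]; norm_num
    have hfixed : ∀ R : Sylow 11 G, R ∈ MulAction.fixedPoints K2 (Sylow 11 G) → R = P := by
      intro R hR
      by_contra hRP
      apply hK21
      have : ∀ w : K2, w = 1 := fun w => hstab w R (hR w) hRP
      haveI : Subsingleton K2 := ⟨fun a b => by rw [this a, this b]⟩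
      exact Nat.card_unique
    have hcong := card_modEq_card_fixedPoints_of_dvd_orbit (P := K2) (X := Sylow 11 G)
      (Nat.card K2) hK21 (by
        intro R hR
        have hRP : R ≠ P := fun h' => hR (h' ▸ hPfix)
        have hst : MulAction.stabilizer K2 R = ⊥ := by
          rw [Subgroup.eq_bot_iff_forall]
          intro w hw
          exact hstab w R hw hRP
        have := MulAction.index_stabilizer K2 R
        rw [hst, Subgroup.index_bot] at this
        rw [Nat.card_coe_set_eq, ← this])
    have hfp : Nat.card (MulAction.fixedPoints K2 (Sylow 11 G)) = 1 := by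
      rw [Nat.card_eq_one_iff_unique]
      refine ⟨⟨fun a b => Subtype.ext ?_⟩, ⟨⟨P, hPfix⟩⟩⟩
      rw [hfixed a.1 a.2, hfixed b.1 b.2]
    rw [hfp, hn, hK2card] at hcong
    exact absurd hcong (by decide)
  obtain ⟨w, hwK, hw1, R, hRP, hwR⟩ := hex
  have hword : orderOf w ∣ 2 ^ 3 := by
    have := orderOf_dvd_natCard (⟨w, hwK⟩ : K2)
    rw [hK2card, Subgroup.orderOf_mk] at this
    simpa using this
  obtain ⟨c, hc2, hcC, hcR⟩ : ∃ c : G, orderOf c = 2 ∧
      c ∈ centralizer ((P : Subgroup G) : Set G) ∧ c • R = R := by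
    obtain ⟨j, hj, hjo⟩ := (Nat.dvd_prime_pow Nat.prime_two).mp hword
    have hwC : w ∈ centralizer ((P : Subgroup G) : Set G) := hK2C hwK
    interval_cases j
    · rw [pow_zero, orderOf_eq_one_iff] at hjo
      exact absurd hjo hw1
    · exact ⟨w, by simpa using hjo, hwC, hwR⟩
    · refine ⟨w ^ 2, ?_, Subgroup.pow_mem _ hwC 2, smul_pow_eq' w R hwR 2⟩
      rw [orderOf_pow' w (by norm_num), hjo]
      norm_num
    · refine ⟨w ^ 4, ?_, Subgroup.pow_mem _ hwC 4, smul_pow_eq' w R hwR 4⟩
      rw [orderOf_pow' w (by norm_num), hjo]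
      norm_num
  have hc1 : c ≠ 1 := by
    rintro rfl
    rw [orderOf_one] at hc2
    omega
  have hF1 := card_fixSyl_modEq_one P c hcC
  haveI : Fact (Nat.Prime 2) := ⟨Nat.prime_two⟩
  have hF2 := card_fixSyl_modEq_card (p := 11) c hc2
  have hF3 := card_fixSyl_le (p := 11) c
  have hF4 : (fixSyl 11 c).card ≠ 45 := fun h' =>
    hc1 (eq_one_of_card_fixSyl (p := 11) (by rw [hn]; norm_num) c (by rw [h', hn]))
  have hF5 : 1 < (fixSyl 11 c).card :=
    Finset.one_lt_card.mpr ⟨P, self_mem_fixSyl P c hcC, R, mem_fixSyl.mpr hcR, hRP.symm⟩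
  have hF : (fixSyl 11 c).card = 23 := by
    rw [hn] at hF2 hF3
    unfold Nat.ModEq at hF1 hF2
    omega
  letI : Fintype (Sylow 11 G) := Fintype.ofFinite _
  obtain ⟨σ, hσdef⟩ : ∃ σ : Equiv.Perm (Sylow 11 G),
    σ = MulAction.toPermHom G (Sylow 11 G) c := ⟨_, rfl⟩
  have hsign := sign_toPerm_eq_one' (by rw [h]; norm_num) (Ω := Sylow 11 G) c
  rw [← hσdef] at hsign
  have hσapp : ∀ Q : Sylow 11 G, σ Q = c • Q := fun Q => by rw [hσdef]; rfl
  have hsuppeq : σ.support = Finset.univ \ fixSyl 11 c := by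
    ext Q
    rw [Equiv.Perm.mem_support, hσapp, Finset.mem_sdiff, mem_fixSyl]
    simp
  have hsupp : σ.support.card = 2 * 11 := by
    rw [hsuppeq, Finset.card_sdiff_of_subset (Finset.subset_univ _), Finset.card_univ,
      ← Nat.card_eq_fintype_card, hn, hF]
  have hσ2 : orderOf σ = 2 := by
    apply orderOf_eq_prime
    · rw [hσdef, ← map_pow]
      have : c ^ 2 = 1 := by rw [← hc2]; exact pow_orderOf_eq_one c
      rw [this, map_one]
    · intro h1
      have : σ.support.card = 0 := by rw [h1]; simp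
      omega
  have := sign_of_involution' σ hσ2 11 hsupp
  rw [hsign] at this
  norm_num at this

/-- `n_11 = 144`. -/
theorem card_sylow11 (h : Nat.card G = 7920) [Fact (Nat.Prime 11)] :
    Nat.card (Sylow 11 G) = 144 := by
  have hmem := card_sylow_mem_npList (not_comm7920 h) 11 1 720 (by norm_num) (by rw [h]; norm_num)
    (by norm_num) (by norm_num) (by norm_num)
  have hL : npList 11 1 720 = [12, 45, 144] := by decide +kernel
  rw [hL] at hmem
  simp only [List.mem_cons, List.mem_nil_iff, or_false] at hmem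
  rcases hmem with h' | h' | h'
  · exact absurd h' (n11_ne_12 h)
  · exact absurd h' (n11_ne_45 h)
  · exact h'

/-- `n_5 ∈ {11, 36, 66, 396}`. -/
theorem card_sylow5_mem (h : Nat.card G = 7920) [Fact (Nat.Prime 5)] :
    Nat.card (Sylow 5 G) = 11 ∨ Nat.card (Sylow 5 G) = 36 ∨ Nat.card (Sylow 5 G) = 66 ∨
      Nat.card (Sylow 5 G) = 396 := by
  have hmem := card_sylow_mem_npList (not_comm7920 h) 5 1 1584 (by norm_num) (by rw [h]; norm_num)
    (by norm_num) (by norm_num) (by norm_num)
  have hL : npList 5 1 1584 = [11, 36, 66, 396] := by decide +kernel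
  rw [hL] at hmem
  simpa using hmem

end Cfsg.Agent.Helper20.M11
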