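-- helper20: the characters of a simple group of order 7920 that do not vanish on elements of
-- order 11 (exceptional character theory for the Sylow 11-subgroup, N = 11:5).
import Mathlib
import Cfsg.Agent.Helper20.M11Syl
import Cfsg.Agent.Helper17.ExcChar5
import Cfsg.Agent.Helper17.ExcApply

set_option autoImplicit false
set_option linter.style.haveILetI false

namespace Cfsg.Agent.Helper20.M11

open Cfsg Subgroup Cfsg.Agent.Helper17 Cfsg.Agent.Helper17.Exc
open scoped ComplexConjugate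

universe u

/-- The data of the "principal 11-block". -/
structure B11 (G : Type u) [Group G] [Fintype G] [Fintype (IrrCharacter G)] (x : G) where
  a : IrrCharacter G → ℤ
  Λ1 : IrrCharacter G
  Λ2 : IrrCharacter G
  hne : Λ1 ≠ Λ2
  σ : ℤ
  hσ : σ = 1 ∨ σ = -1
  d : ℕ
  hd1 : charDegree (Λ1 : G → ℂ) = d
  hd2 : charDegree (Λ2 : G → ℂ) = d
  hdmod : (d : ℤ) ≡ 5 * σ [ZMOD 11]
  ha1 : a (Helper79.principalIrr G) = 1
  haΛ1 : a Λ1 = 0
  haΛ2 : a Λ2 = 0
  hval : ∀ ψ : IrrCharacter G, ψ ≠ Λ1 → ψ ≠ Λ2 → (ψ : G → ℂ) x = (a ψ : ℂ)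
  hmod : ∀ ψ : IrrCharacter G, ψ ≠ Λ1 → ψ ≠ Λ2 →
    (charDegree (ψ : G → ℂ) : ℤ) ≡ a ψ [ZMOD 11]
  hsq : ∑ ψ : IrrCharacter G, a ψ ^ 2 = 5
  hdeg : ∑ ψ : IrrCharacter G, a ψ * (charDegree (ψ : G → ℂ) : ℤ) = σ * d
  hsumx : (Λ1 : G → ℂ) x + (Λ2 : G → ℂ) x = -(σ : ℂ)
  hoff : ∀ t : G, (∀ g : G, g * t * g⁻¹ ∉ Subgroup.zpowers x) →
    (Λ1 : G → ℂ) t = (Λ2 : G → ℂ) t

set_option maxHeartbeats 1600000 in
theorem exists_B11 {G : Type u} [Group G] [Fintype G] [Fintype (IrrCharacter G)]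
    [IsSimpleGroup G] (h : Nat.card G = 7920) :
    ∃ x : G, orderOf x = 11 ∧ Nonempty (B11 G x) := by
  classical
  haveI : Fact (Nat.Prime 11) := ⟨by norm_num⟩
  obtain ⟨P⟩ : Nonempty (Sylow 11 G) := inferInstance
  have hP := card_sylow11_sub h P
  have hn := card_sylow11 h
  have hN : Nat.card (normalizer ((P : Subgroup G) : Set G)) = 11 * 5 := by
    have := card_normalizer_mul_card_sylow P
    rw [hn, h] at this
    omega
  have hCself := self_centralizing_setup P hP (by rw [h]; norm_num) hN (by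
    intro d hd1 _ hd5
    rcases (Nat.dvd_prime (by norm_num : Nat.Prime 5)).mp hd5 with h' | h'
    · omega
    · exact h')
  let _ : Fintype ↥(Subgroup.normalizer ((P : Subgroup G) : Set G)) := Fintype.ofFinite _
  let _ := Helper74.irrFintype ↥(Subgroup.normalizer ((P : Subgroup G) : Set G))
  obtain ⟨D, hidx, hcount⟩ := exists_excData (P : Subgroup G) (p := 11) (e := 5)
    (by norm_num) hP hCself hN (by norm_num) (by norm_num)
  have hr2 : Nat.card (Rel (P : Subgroup G)) = 2 := by omega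
  obtain ⟨c, d, a, s, h1, h2, h3, h4, h5, h6, h7, h8, hs, hd, hval, hnonval⟩ :=
    D.main' (by omega)
  rw [hidx] at h6 h2
  rw [hP] at h5 h2
  rw [hr2] at h6 h7
  push_cast at h6 h7 h2
  -- a generator of P
  obtain ⟨x', hx'⟩ := exists_prime_orderOf_dvd_card' (G := ↥(P : Subgroup G)) 11 (by rw [hP])
  obtain ⟨x, hxdef⟩ : ∃ x : G, x = (x' : G) := ⟨_, rfl⟩
  have hx11 : orderOf x = 11 := by rw [hxdef, Subgroup.orderOf_coe, hx']
  have hxP : x ∈ (P : Subgroup G) := by rw [hxdef]; exact x'.2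
  have hx1 : x ≠ 1 := by
    intro h1'
    rw [h1', orderOf_one] at hx11
    norm_num at hx11
  have hPz : (P : Subgroup G) = zpowers x := by
    symm
    apply Subgroup.eq_of_le_of_card_ge (zpowers_le.mpr hxP)
    rw [Nat.card_zpowers, hx11, hP]
  obtain ⟨xN, hxN⟩ : ∃ xN : ↥(Subgroup.normalizer ((P : Subgroup G) : Set G)), (xN : G) = x :=
    ⟨⟨x, Subgroup.le_normalizer hxP⟩, rfl⟩
  have hxNP : (xN : G) ∈ (P : Subgroup G) := by rw [hxN]; exact hxP
  have hxN1 : xN ≠ 1 := fun h' => hx1 (by rw [← hxN, h']; rfl)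
  -- the two relevant characters
  obtain ⟨χ₁, χ₂, hχne, hχuniv⟩ : ∃ χ₁ χ₂ : Rel (P : Subgroup G), χ₁ ≠ χ₂ ∧
      (Finset.univ : Finset (Rel (P : Subgroup G))) = {χ₁, χ₂} := by
    have : (Finset.univ : Finset (Rel (P : Subgroup G))).card = 2 := by
      rw [Finset.card_univ, ← Nat.card_eq_fintype_card, hr2]
    obtain ⟨a, b, hab, hu⟩ := Finset.card_eq_two.mp this
    exact ⟨a, b, hab, hu⟩
  have hχcases : ∀ χ : Rel (P : Subgroup G), χ = χ₁ ∨ χ = χ₂ := by
    intro χ
    have : χ ∈ (Finset.univ : Finset (Rel (P : Subgroup G))) := Finset.mem_univ χ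
    rw [hχuniv] at this
    simpa using this
  have hNsum := (nside_sums D.hC D.hab xN hxNP hxN1).1
  rw [hχuniv, Finset.sum_pair hχne] at hNsum
  -- arithmetic of c
  have hsq := Finset.add_sum_erase s (fun ψ => a ψ ^ 2) h3
  rw [h6, h4] at hsq
  have hnonneg : 0 ≤ ∑ ψ ∈ s.erase (Helper79.principalIrr G), a ψ ^ 2 :=
    Finset.sum_nonneg (fun j _ => sq_nonneg _)
  have hdeg := Finset.add_sum_erase s (fun ψ => a ψ * (charDegree (ψ : G → ℂ) : ℤ)) h3
  rw [h7, h4, charDegree_principal] at hdeg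
  have hzero : ∑ ψ ∈ s.erase (Helper79.principalIrr G), a ψ ^ 2 = 0 →
      (1 : ℤ) * ((1 : ℕ) : ℤ) = (d : ℤ) * (D.ε - 2 * c) := by
    intro h0
    have hall : ∀ ψ ∈ s.erase (Helper79.principalIrr G), a ψ = 0 := by
      intro ψ hψ
      have := (Finset.sum_eq_zero_iff_of_nonneg (fun j _ => sq_nonneg (a j))).mp h0 ψ hψ
      exact pow_eq_zero_iff (by norm_num) |>.mp this
    rw [Finset.sum_eq_zero (fun ψ hψ => by rw [hall ψ hψ, zero_mul])] at hdeg
    linarith
  have hcore : (D.ε - 2 * c = 1 ∨ D.ε - 2 * c = -1) ∧ ∑ ψ ∈ s, a ψ ^ 2 = 5 ∧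
      ((d : ℤ) ≡ 5 * (D.ε - 2 * c) [ZMOD 11]) := by
    rcases D.hε with hε | hε
    · rw [hε] at hsq hzero h2 h6 ⊢
      have hc1 : -1 ≤ c := by nlinarith
      have hc2 : c ≤ 2 := by nlinarith
      interval_cases c
      · exfalso
        have := hzero (by linarith)
        omega
      · exact ⟨Or.inl (by norm_num), by rw [h6]; norm_num, by simpa using h2⟩
      · refine ⟨Or.inr (by norm_num), by rw [h6]; norm_num, ?_⟩
        have : (5 : ℤ) * (1 - 2 * 1) = -5 := by norm_num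
        rw [this]
        exact h2.trans (by decide)
      · exfalso
        have := hzero (by linarith)
        omega
    · rw [hε] at hsq hzero h2 h6 ⊢
      have hc1 : -2 ≤ c := by nlinarith
      have hc2 : c ≤ 1 := by nlinarith
      interval_cases c
      · exfalso
        have := hzero (by linarith)
        omega
      · refine ⟨Or.inl (by norm_num), by rw [h6]; norm_num, ?_⟩
        have : (5 : ℤ) * (-1 - 2 * -1) = 5 := by norm_num
        rw [this]
        exact h2.trans (by decide)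
      · refine ⟨Or.inr (by norm_num), by rw [h6]; norm_num, ?_⟩
        have : (5 : ℤ) * (-1 - 2 * 0) = -5 := by norm_num
        rw [this]
        exact h2.trans (by decide)
      · exfalso
        have := hzero (by linarith)
        omega
  obtain ⟨hσ, hS5, hdmod⟩ := hcore
  -- membership in s
  have hmem_s : ∀ ψ : IrrCharacter G, ψ ≠ D.f χ₁ → ψ ≠ D.f χ₂ → ψ ∈ s := by
    intro ψ h1' h2'
    rw [hs]
    intro χ
    rcases hχcases χ with rfl | rfl
    · exact fun h' => h1' h'.symm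
    · exact fun h' => h2' h'.symm
  have hnot_s : ∀ χ : Rel (P : Subgroup G), D.f χ ∉ s := by
    intro χ hχ
    exact (hs _).mp hχ χ rfl
  have hdeg_exc : ∀ χ : Rel (P : Subgroup G), charDegree (D.f χ : G → ℂ) = d := by
    intro χ
    have h2' := hd χ
    rw [Helper78.irrChar_one_eq_charDegree (D.f χ).2] at h2'
    exact_mod_cast h2'
  refine ⟨x, hx11, ⟨{
    a := fun ψ => if ψ ∈ s then a ψ else 0
    Λ1 := D.f χ₁
    Λ2 := D.f χ₂
    hne := fun h' => hχne (D.hinj h')
    σ := D.ε - 2 * c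
    hσ := hσ
    d := d
    hd1 := hdeg_exc χ₁
    hd2 := hdeg_exc χ₂
    hdmod := hdmod
    ha1 := by rw [if_pos h3, h4]
    haΛ1 := if_neg (hnot_s χ₁)
    haΛ2 := if_neg (hnot_s χ₂)
    hval := ?_
    hmod := ?_
    hsq := ?_
    hdeg := ?_
    hsumx := ?_
    hoff := ?_ }⟩⟩
  · intro ψ h1' h2'
    have hψs := hmem_s ψ h1' h2'
    rw [if_pos hψs, ← hxN]
    exact hnonval ψ hψs xN hxNP hxN1
  · intro ψ h1' h2'
    have hψs := hmem_s ψ h1' h2'
    rw [if_pos hψs]
    exact h5 ψ hψs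
  · rw [← hS5]
    symm
    rw [← Finset.sum_subset (Finset.subset_univ s)]
    · exact Finset.sum_congr rfl (fun ψ hψ => by rw [if_pos hψ])
    · intro ψ _ hψ
      rw [if_neg hψ]
      norm_num
  · have : ∑ ψ : IrrCharacter G, (if ψ ∈ s then a ψ else 0) * (charDegree (ψ : G → ℂ) : ℤ)
        = ∑ ψ ∈ s, a ψ * (charDegree (ψ : G → ℂ) : ℤ) := by
      symm
      rw [← Finset.sum_subset (Finset.subset_univ s)]
      · exact Finset.sum_congr rfl (fun ψ hψ => by rw [if_pos hψ])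
      · intro ψ _ hψ
        rw [if_neg hψ]
        norm_num
    rw [this, h7]
    ring
  · have e1 := hval χ₁ xN hxNP hxN1
    have e2 := hval χ₂ xN hxNP hxN1
    rw [hxN] at e1 e2
    rw [e1, e2]
    push_cast
    linear_combination (D.ε : ℂ) * hNsum
  · intro t ht
    apply D.exc_eq_off χ₁ χ₂ t
    intro g
    rw [hPz]
    exact ht g

end Cfsg.Agent.Helper20.M11
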