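-- helper20: arithmetic of the principal 11-block of a simple group of order 7920.
import Mathlib
import Cfsg.Agent.Helper20.M11Blk
import Cfsg.Agent.Helper17.G4320d
import Cfsg.Agent.Helper74.CharCenter

set_option autoImplicit false
set_option linter.style.haveILetI false

namespace Cfsg.Agent.Helper20.M11

open Cfsg Subgroup Cfsg.Agent.Helper17 Cfsg.Agent.Helper17.Exc Cfsg.Agent.Helper17.G4320
open scoped ComplexConjugate

universe u

/-- In a simple group, a non-linear irreducible character takes a value of absolute value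
equal to its degree only at the identity. -/
theorem eq_one_of_norm_eq_charDegree {G : Type u} [Group G] [Fintype G] [IsSimpleGroup G]
    (ψ : IrrCharacter G) (hd : 1 < charDegree (ψ : G → ℂ)) (g : G)
    (hg : ‖(ψ : G → ℂ) g‖ = (charDegree (ψ : G → ℂ) : ℝ)) : g = 1 := by
  have hmem := (Helper74.mem_charCenter_iff ψ g).mpr hg
  rcases (Helper74.charCenter_normal ψ).eq_bot_or_eq_top with hb | ht
  · rw [hb] at hmem
    exact Subgroup.mem_bot.mp hmem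
  · exfalso
    have := Helper74.charDegree_sq_mul_card_charCenter_le ψ
    rw [ht, Subgroup.card_top] at this
    have hpos : 0 < Nat.card G := Nat.card_pos
    have h4 : 4 ≤ charDegree (ψ : G → ℂ) ^ 2 := by nlinarith
    nlinarith

section Arith

def L11 : List ℤ := [12, 45, -10]

def E11 : List ℤ := [5, 16, 60, -6]

set_option maxRecDepth 100000 in
theorem key_deg11 : ∀ d ∈ Nat.divisors 7920, d ≤ 88 → d ≠ 1 →
    (d % 11 = 1 → d = 12 ∨ d = 45) ∧ (d % 11 = 10 → d = 10) ∧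
    (d % 11 = 2 → d = 2 ∨ d = 24) ∧ (d % 11 = 9 → d = 9 ∨ d = 20) ∧
    (d ≤ 62 → d % 11 = 5 → d = 5 ∨ d = 16 ∨ d = 60) ∧ (d ≤ 62 → d % 11 = 6 → d = 6) := by
  decide

theorem mem_L11 (a : ℤ) (ha : a = 1 ∨ a = -1) (d : ℕ) (hd : d ∣ 7920) (h1 : 1 < d)
    (h88 : d ≤ 88) (hmod : (d : ℤ) ≡ a [ZMOD 11]) : a * d ∈ L11 := by
  have hkey := key_deg11 d (Nat.mem_divisors.mpr ⟨hd, by norm_num⟩) h88 (by omega)
  rcases ha with rfl | rfl
  · have hm : d % 11 = 1 := by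
      have := hmod
      rw [Int.ModEq] at this
      omega
    rcases hkey.1 hm with rfl | rfl <;> simp [L11]
  · have hm : d % 11 = 10 := by
      have := hmod
      rw [Int.ModEq] at this
      omega
    rcases hkey.2.1 hm with rfl
    simp [L11]

theorem mem_E11 (σ : ℤ) (hσ : σ = 1 ∨ σ = -1) (d : ℕ) (hd : d ∣ 7920)
    (h62 : d ≤ 62) (hmod : (d : ℤ) ≡ 5 * σ [ZMOD 11]) : σ * d ∈ E11 := by
  have hd1 : d ≠ 1 := by
    rintro rfl
    rcases hσ with rfl | rfl <;> · rw [Int.ModEq] at hmod; omega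
  have hkey := key_deg11 d (Nat.mem_divisors.mpr ⟨hd, by norm_num⟩) (by omega) hd1
  rcases hσ with rfl | rfl
  · have hm : d % 11 = 5 := by
      have := hmod
      rw [Int.ModEq] at this
      omega
    rcases hkey.2.2.2.2.1 h62 hm with rfl | rfl | rfl <;> simp [E11]
  · have hm : d % 11 = 6 := by
      have := hmod
      rw [Int.ModEq] at this
      omega
    rcases hkey.2.2.2.2.2 h62 hm with rfl
    simp [E11]

set_option synthInstance.maxSize 2000 in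
set_option synthInstance.maxHeartbeats 400000 in
set_option maxRecDepth 100000 in
theorem core11 : ∀ D₁ ∈ L11, ∀ D₂ ∈ L11, ∀ D₃ ∈ L11, ∀ D₄ ∈ L11, ∀ e ∈ E11,
    1 + D₁ + D₂ + D₃ + D₄ = e →
    D₁ ^ 2 + 2 * e ^ 2 ≤ 7920 → D₂ ^ 2 + 2 * e ^ 2 ≤ 7920 → D₃ ^ 2 + 2 * e ^ 2 ≤ 7920 →
    D₄ ^ 2 + 2 * e ^ 2 ≤ 7920 →
    (e = 16 ∧ ((D₁ = 45 ∧ D₂ = -10 ∧ D₃ = -10 ∧ D₄ = -10) ∨
      (D₁ = -10 ∧ D₂ = 45 ∧ D₃ = -10 ∧ D₄ = -10) ∨
      (D₁ = -10 ∧ D₂ = -10 ∧ D₃ = 45 ∧ D₄ = -10) ∨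
      (D₁ = -10 ∧ D₂ = -10 ∧ D₃ = -10 ∧ D₄ = 45))) ∨
    (e = 5 ∧ ((D₁ = 12 ∧ D₂ = 12) ∨ (D₁ = 12 ∧ D₃ = 12) ∨ (D₁ = 12 ∧ D₄ = 12) ∨
      (D₂ = 12 ∧ D₃ = 12) ∨ (D₂ = 12 ∧ D₄ = 12) ∨ (D₃ = 12 ∧ D₄ = 12))) := by
  decide +kernel

end Arith

end Cfsg.Agent.Helper20.M11
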