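-- helper20: the two possible shapes of the principal 11-block of a simple group of order 7920.
import Mathlib
import Cfsg.Agent.Helper20.M11Blk2

set_option autoImplicit false
set_option linter.style.haveILetI false

namespace Cfsg.Agent.Helper20.M11

open Cfsg Subgroup Cfsg.Agent.Helper17 Cfsg.Agent.Helper17.Exc Cfsg.Agent.Helper17.G4320
open scoped ComplexConjugate

universe u

set_option maxHeartbeats 1600000 in
theorem B11.cases {G : Type u} [Group G] [Fintype G] [Fintype (IrrCharacter G)]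
    [IsSimpleGroup G] (h : Nat.card G = 7920) {x : G} (hx : orderOf x = 11) (B : B11 G x) :
    (B.d = 16 ∧ B.σ = 1 ∧ ∃ ψ45 ψa ψb ψc : IrrCharacter G,
      ψ45 ≠ ψa ∧ ψ45 ≠ ψb ∧ ψ45 ≠ ψc ∧ ψa ≠ ψb ∧ ψa ≠ ψc ∧ ψb ≠ ψc ∧
      ψ45 ≠ Helper79.principalIrr G ∧ ψa ≠ Helper79.principalIrr G ∧
      ψb ≠ Helper79.principalIrr G ∧ ψc ≠ Helper79.principalIrr G ∧
      B.a ψ45 = 1 ∧ charDegree (ψ45 : G → ℂ) = 45 ∧
      B.a ψa = -1 ∧ charDegree (ψa : G → ℂ) = 10 ∧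
      B.a ψb = -1 ∧ charDegree (ψb : G → ℂ) = 10 ∧
      B.a ψc = -1 ∧ charDegree (ψc : G → ℂ) = 10 ∧
      ∀ ψ : IrrCharacter G, ψ ≠ Helper79.principalIrr G → ψ ≠ ψ45 → ψ ≠ ψa → ψ ≠ ψb → ψ ≠ ψc →
        B.a ψ = 0) ∨
    (B.d = 5 ∧ ∃ ψ ψ' : IrrCharacter G, ψ ≠ ψ' ∧ charDegree (ψ : G → ℂ) = 12 ∧
      charDegree (ψ' : G → ℂ) = 12) := by
  classical
  have hperf : commutator G = ⊤ := commutator_eq_top_of_simple (by rw [h]; norm_num)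
  obtain ⟨s, hsdef⟩ : ∃ s : Finset (IrrCharacter G),
    s = Finset.univ.erase (Helper79.principalIrr G) := ⟨_, rfl⟩
  have hs4 : ∑ ψ ∈ s, B.a ψ ^ 2 = 4 := by
    have := Finset.add_sum_erase Finset.univ (fun ψ => B.a ψ ^ 2)
      (Finset.mem_univ (Helper79.principalIrr G))
    rw [B.hsq, B.ha1, ← hsdef] at this
    linarith
  have hmem_s : ∀ ψ : IrrCharacter G, ψ ∈ s ↔ ψ ≠ Helper79.principalIrr G := by
    intro ψ
    rw [hsdef]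
    simp
  have hdvd : ∀ ψ : IrrCharacter G, charDegree (ψ : G → ℂ) ∣ 7920 := fun ψ => by
    rw [← h]; exact Helper80.IsIrrCharacter.charDegree_dvd_card ψ.2
  have hsumsq := Helper79.sum_charDegree_sq (G := G)
  rw [h] at hsumsq
  have hnotΛ : ∀ ψ : IrrCharacter G, B.a ψ ≠ 0 → ψ ≠ B.Λ1 ∧ ψ ≠ B.Λ2 := fun ψ hψ =>
    ⟨fun h' => hψ (h' ▸ B.haΛ1), fun h' => hψ (h' ▸ B.haΛ2)⟩
  have hbound : ∀ ψ : IrrCharacter G, ψ ≠ B.Λ1 → ψ ≠ B.Λ2 →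
      charDegree (ψ : G → ℂ) ^ 2 + 2 * B.d ^ 2 ≤ 7920 := by
    intro ψ h1 h2
    have hsub : ({ψ, B.Λ1, B.Λ2} : Finset (IrrCharacter G)) ⊆ Finset.univ :=
      Finset.subset_univ _
    have := Finset.sum_le_sum_of_subset
      (f := fun χ : IrrCharacter G => charDegree (χ : G → ℂ) ^ 2) hsub
    rw [hsumsq, Finset.sum_insert (by simp [h1, h2]), Finset.sum_pair B.hne, B.hd1, B.hd2] at this
    linarith
  have hp1 : Helper79.principalIrr G ≠ B.Λ1 ∧ Helper79.principalIrr G ≠ B.Λ2 :=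
    hnotΛ _ (by rw [B.ha1]; norm_num)
  have hd62 : B.d ≤ 62 := by
    have := hbound _ hp1.1 hp1.2
    nlinarith
  have hddvd : B.d ∣ 7920 := by rw [← B.hd1]; exact hdvd _
  have hE := mem_E11 B.σ B.hσ B.d hddvd hd62 B.hdmod
  have hdprop : ∀ ψ : IrrCharacter G, ψ ≠ Helper79.principalIrr G → B.a ψ ≠ 0 →
      1 < charDegree (ψ : G → ℂ) ∧ charDegree (ψ : G → ℂ) ≤ 88 ∧
      ((charDegree (ψ : G → ℂ) : ℤ) ≡ B.a ψ [ZMOD 11]) ∧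
      charDegree (ψ : G → ℂ) ^ 2 + 2 * B.d ^ 2 ≤ 7920 := by
    intro ψ hψ1 hψa
    obtain ⟨h1, h2⟩ := hnotΛ ψ hψa
    have hb := hbound ψ h1 h2
    refine ⟨one_lt_charDegree_of_perfect hperf ψ hψ1, by nlinarith, B.hmod ψ h1 h2, hb⟩
  have hdegsplit := Finset.add_sum_erase Finset.univ
    (fun ψ : IrrCharacter G => B.a ψ * (charDegree (ψ : G → ℂ) : ℤ))
    (Finset.mem_univ (Helper79.principalIrr G))
  rw [B.hdeg, ← hsdef, B.ha1, charDegree_principal] at hdegsplit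
  rcases sq_sum_four s B.a hs4 with ⟨ψ, hψs, hψ2, hrest⟩ |
    ⟨ψ₁, hψ₁s, ψ₂, hψ₂s, ψ₃, hψ₃s, ψ₄, hψ₄s, h12, h13, h14, h23, h24, h34, ha₁, ha₂, ha₃, ha₄,
      hrest⟩
  · -- a single character with value ±2
    exfalso
    have hψ1 := (hmem_s ψ).mp hψs
    have hψa : B.a ψ ≠ 0 := by rcases hψ2 with h' | h' <;> rw [h'] <;> norm_num
    obtain ⟨hd1, hd88, hdm, -⟩ := hdprop ψ hψ1 hψa
    rw [sum_eq_of_support_one s B.a (fun χ => (charDegree (χ : G → ℂ) : ℤ)) hψs hrest]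
      at hdegsplit
    have hkey := key_deg11 _ (Nat.mem_divisors.mpr ⟨hdvd ψ, by norm_num⟩) hd88 (by omega)
    have hdeg2 : B.a ψ = 2 ∧ charDegree (ψ : G → ℂ) = 2 := by
      simp only [E11, List.mem_cons, List.mem_nil_iff, or_false] at hE
      rcases hψ2 with h' | h'
      · rw [h'] at hdm hdegsplit
        have hm : charDegree (ψ : G → ℂ) % 11 = 2 := by
          rw [Int.ModEq] at hdm
          omega
        rcases hkey.2.2.1 hm with h'' | h'' <;> rw [h''] at hdegsplit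
        · exact ⟨h', h''⟩
        · exfalso; rcases hE with hE | hE | hE | hE <;> omega
      · exfalso
        rw [h'] at hdm hdegsplit
        have hm : charDegree (ψ : G → ℂ) % 11 = 9 := by
          rw [Int.ModEq] at hdm
          omega
        rcases hkey.2.2.2.1 hm with h'' | h'' <;> rw [h''] at hdegsplit <;>
          rcases hE with hE | hE | hE | hE <;> omega
    obtain ⟨h1, h2⟩ := hnotΛ ψ hψa
    have hv := B.hval ψ h1 h2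
    rw [hdeg2.1] at hv
    have hnorm : ‖(ψ : G → ℂ) x‖ = (charDegree (ψ : G → ℂ) : ℝ) := by
      rw [hv, hdeg2.2]
      norm_num
    have := eq_one_of_norm_eq_charDegree ψ hd1 x hnorm
    rw [this, orderOf_one] at hx
    norm_num at hx
  · -- four characters with values ±1
    have hψ₁1 := (hmem_s ψ₁).mp hψ₁s
    have hψ₂1 := (hmem_s ψ₂).mp hψ₂s
    have hψ₃1 := (hmem_s ψ₃).mp hψ₃s
    have hψ₄1 := (hmem_s ψ₄).mp hψ₄s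
    have hne0 : ∀ ψ : IrrCharacter G, (B.a ψ = 1 ∨ B.a ψ = -1) → B.a ψ ≠ 0 := by
      intro ψ hψ
      rcases hψ with h' | h' <;> rw [h'] <;> norm_num
    obtain ⟨hd₁1, hd₁88, hd₁m, hd₁b⟩ := hdprop ψ₁ hψ₁1 (hne0 ψ₁ ha₁)
    obtain ⟨hd₂1, hd₂88, hd₂m, hd₂b⟩ := hdprop ψ₂ hψ₂1 (hne0 ψ₂ ha₂)
    obtain ⟨hd₃1, hd₃88, hd₃m, hd₃b⟩ := hdprop ψ₃ hψ₃1 (hne0 ψ₃ ha₃)
    obtain ⟨hd₄1, hd₄88, hd₄m, hd₄b⟩ := hdprop ψ₄ hψ₄1 (hne0 ψ₄ ha₄)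
    have hsum4 : ∑ χ ∈ s, B.a χ * (charDegree (χ : G → ℂ) : ℤ)
        = B.a ψ₁ * (charDegree (ψ₁ : G → ℂ) : ℤ) + B.a ψ₂ * (charDegree (ψ₂ : G → ℂ) : ℤ)
          + B.a ψ₃ * (charDegree (ψ₃ : G → ℂ) : ℤ) + B.a ψ₄ * (charDegree (ψ₄ : G → ℂ) : ℤ) := by
      have hT : ∑ χ ∈ ({ψ₁, ψ₂, ψ₃, ψ₄} : Finset (IrrCharacter G)),
          B.a χ * (charDegree (χ : G → ℂ) : ℤ)
          = B.a ψ₁ * (charDegree (ψ₁ : G → ℂ) : ℤ) + B.a ψ₂ * (charDegree (ψ₂ : G → ℂ) : ℤ)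
          + B.a ψ₃ * (charDegree (ψ₃ : G → ℂ) : ℤ) + B.a ψ₄ * (charDegree (ψ₄ : G → ℂ) : ℤ) := by
        rw [Finset.sum_insert, Finset.sum_insert, Finset.sum_pair h34]
        · ring
        · simp only [Finset.mem_insert, Finset.mem_singleton, not_or]
          exact ⟨h23, h24⟩
        · simp only [Finset.mem_insert, Finset.mem_singleton, not_or]
          exact ⟨h12, h13, h14⟩
      rw [← hT]
      symm
      apply Finset.sum_subset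
      · intro χ hχ
        simp only [Finset.mem_insert, Finset.mem_singleton] at hχ
        rcases hχ with rfl | rfl | rfl | rfl <;> assumption
      · intro χ hχs hχ
        simp only [Finset.mem_insert, Finset.mem_singleton, not_or] at hχ
        rw [hrest χ hχs hχ.1 hχ.2.1 hχ.2.2.1 hχ.2.2.2, zero_mul]
    rw [hsum4] at hdegsplit
    have hsq1 : ∀ ψ : IrrCharacter G, (B.a ψ = 1 ∨ B.a ψ = -1) →
        (B.a ψ * (charDegree (ψ : G → ℂ) : ℤ)) ^ 2 = ((charDegree (ψ : G → ℂ) : ℤ)) ^ 2 := by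
      intro ψ hψ
      rcases hψ with h' | h' <;> rw [h'] <;> ring
    have hσsq : (B.σ * (B.d : ℤ)) ^ 2 = (B.d : ℤ) ^ 2 := by
      rcases B.hσ with h' | h' <;> rw [h'] <;> ring
    have hcore := core11 _ (mem_L11 _ ha₁ _ (hdvd ψ₁) hd₁1 hd₁88 hd₁m)
      _ (mem_L11 _ ha₂ _ (hdvd ψ₂) hd₂1 hd₂88 hd₂m)
      _ (mem_L11 _ ha₃ _ (hdvd ψ₃) hd₃1 hd₃88 hd₃m)
      _ (mem_L11 _ ha₄ _ (hdvd ψ₄) hd₄1 hd₄88 hd₄m) _ hE (by push_cast at hdegsplit; linarith)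
      (by rw [hsq1 ψ₁ ha₁, hσsq]; exact_mod_cast hd₁b)
      (by rw [hsq1 ψ₂ ha₂, hσsq]; exact_mod_cast hd₂b)
      (by rw [hsq1 ψ₃ ha₃, hσsq]; exact_mod_cast hd₃b)
      (by rw [hsq1 ψ₄ ha₄, hσsq]; exact_mod_cast hd₄b)
    have hP45 : ∀ (a : ℤ) (d : ℕ), (a = 1 ∨ a = -1) → a * (d : ℤ) = 45 → a = 1 ∧ d = 45 := by
      intro a d ha hh
      rcases ha with rfl | rfl
      · exact ⟨rfl, by omega⟩
      · omega
    have hP10 : ∀ (a : ℤ) (d : ℕ), (a = 1 ∨ a = -1) → a * (d : ℤ) = -10 → a = -1 ∧ d = 10 := by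
      intro a d ha hh
      rcases ha with rfl | rfl
      · omega
      · exact ⟨rfl, by omega⟩
    have hP12 : ∀ (a : ℤ) (d : ℕ), (a = 1 ∨ a = -1) → a * (d : ℤ) = 12 → d = 12 := by
      intro a d ha hh
      rcases ha with rfl | rfl <;> omega
    have hσd : ∀ e : ℤ, 0 < e → B.σ * (B.d : ℤ) = e → B.σ = 1 ∧ (B.d : ℤ) = e := by
      intro e he hh
      rcases B.hσ with h' | h'
      · rw [h'] at hh ⊢
        exact ⟨rfl, by linarith⟩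
      · rw [h'] at hh
        have : (0 : ℤ) ≤ (B.d : ℤ) := Int.natCast_nonneg _
        linarith
    rcases hcore with ⟨he, hperm⟩ | ⟨he, hpair⟩
    · left
      obtain ⟨hσ1, hd16⟩ := hσd 16 (by norm_num) he
      refine ⟨by exact_mod_cast hd16, hσ1, ?_⟩
      rcases hperm with ⟨e1, e2, e3, e4⟩ | ⟨e1, e2, e3, e4⟩ | ⟨e1, e2, e3, e4⟩ | ⟨e1, e2, e3, e4⟩
      · obtain ⟨f1, g1⟩ := hP45 _ _ ha₁ e1
        obtain ⟨f2, g2⟩ := hP10 _ _ ha₂ e2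
        obtain ⟨f3, g3⟩ := hP10 _ _ ha₃ e3
        obtain ⟨f4, g4⟩ := hP10 _ _ ha₄ e4
        exact ⟨ψ₁, ψ₂, ψ₃, ψ₄, h12, h13, h14, h23, h24, h34, hψ₁1, hψ₂1, hψ₃1, hψ₄1,
          f1, g1, f2, g2, f3, g3, f4, g4,
          fun ψ hψ n1 n2 n3 n4 => hrest ψ ((hmem_s ψ).mpr hψ) n1 n2 n3 n4⟩
      · obtain ⟨f1, g1⟩ := hP10 _ _ ha₁ e1
        obtain ⟨f2, g2⟩ := hP45 _ _ ha₂ e2
        obtain ⟨f3, g3⟩ := hP10 _ _ ha₃ e3
        obtain ⟨f4, g4⟩ := hP10 _ _ ha₄ e4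
        exact ⟨ψ₂, ψ₁, ψ₃, ψ₄, h12.symm, h23, h24, h13, h14, h34, hψ₂1, hψ₁1, hψ₃1, hψ₄1,
          f2, g2, f1, g1, f3, g3, f4, g4,
          fun ψ hψ n2 n1 n3 n4 => hrest ψ ((hmem_s ψ).mpr hψ) n1 n2 n3 n4⟩
      · obtain ⟨f1, g1⟩ := hP10 _ _ ha₁ e1
        obtain ⟨f2, g2⟩ := hP10 _ _ ha₂ e2
        obtain ⟨f3, g3⟩ := hP45 _ _ ha₃ e3
        obtain ⟨f4, g4⟩ := hP10 _ _ ha₄ e4
        exact ⟨ψ₃, ψ₁, ψ₂, ψ₄, h13.symm, h23.symm, h34, h12, h14, h24, hψ₃1, hψ₁1, hψ₂1, hψ₄1,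
          f3, g3, f1, g1, f2, g2, f4, g4,
          fun ψ hψ n3 n1 n2 n4 => hrest ψ ((hmem_s ψ).mpr hψ) n1 n2 n3 n4⟩
      · obtain ⟨f1, g1⟩ := hP10 _ _ ha₁ e1
        obtain ⟨f2, g2⟩ := hP10 _ _ ha₂ e2
        obtain ⟨f3, g3⟩ := hP10 _ _ ha₃ e3
        obtain ⟨f4, g4⟩ := hP45 _ _ ha₄ e4
        exact ⟨ψ₄, ψ₁, ψ₂, ψ₃, h14.symm, h24.symm, h34.symm, h12, h13, h23, hψ₄1, hψ₁1, hψ₂1,
          hψ₃1, f4, g4, f1, g1, f2, g2, f3, g3,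
          fun ψ hψ n4 n1 n2 n3 => hrest ψ ((hmem_s ψ).mpr hψ) n1 n2 n3 n4⟩
    · right
      obtain ⟨-, hd5⟩ := hσd 5 (by norm_num) he
      refine ⟨by exact_mod_cast hd5, ?_⟩
      rcases hpair with ⟨e1, e2⟩ | ⟨e1, e2⟩ | ⟨e1, e2⟩ | ⟨e1, e2⟩ | ⟨e1, e2⟩ | ⟨e1, e2⟩
      · exact ⟨ψ₁, ψ₂, h12, hP12 _ _ ha₁ e1, hP12 _ _ ha₂ e2⟩
      · exact ⟨ψ₁, ψ₃, h13, hP12 _ _ ha₁ e1, hP12 _ _ ha₃ e2⟩
      · exact ⟨ψ₁, ψ₄, h14, hP12 _ _ ha₁ e1, hP12 _ _ ha₄ e2⟩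
      · exact ⟨ψ₂, ψ₃, h23, hP12 _ _ ha₂ e1, hP12 _ _ ha₃ e2⟩
      · exact ⟨ψ₂, ψ₄, h24, hP12 _ _ ha₂ e1, hP12 _ _ ha₄ e2⟩
      · exact ⟨ψ₃, ψ₄, h34, hP12 _ _ ha₃ e1, hP12 _ _ ha₄ e2⟩

end Cfsg.Agent.Helper20.M11
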