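-- helper20: characters of p-defect zero and of degree p have self-centralizing elements of order p.
import Mathlib
import Cfsg.Agent.Helper20.M11Blk2
import Cfsg.Agent.Helper74.FSCount
import Cfsg.Agent.Helper80.TwoClassesInertia

set_option autoImplicit false
set_option linter.style.haveILetI false

namespace Cfsg.Agent.Helper20.M11

open Cfsg
open scoped ComplexConjugate

universe u

/-- For a character `A` of a commutative group, `|B| A(1) ≤ ∑ |A(b)|²`. -/
theorem card_mul_degree_le_sum_norm_sq {B : Type u} [Group B] [Fintype B]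
    (hcomm : ∀ a b : B, a * b = b * a) {A : B → ℂ} (hA : IsCharacter B A) :
    (Nat.card B : ℝ) * (charDegree A : ℝ) ≤ ∑ b : B, ‖A b‖ ^ 2 := by
  classical
  let _ := Helper74.irrFintype B
  haveI : IsMulCommutative B := ⟨⟨hcomm⟩⟩
  choose m hm using fun ψ : IrrCharacter B => Helper74.isCharacter_inner_irr_nat hA ψ
  have hψ1 : ∀ ψ : IrrCharacter B, (ψ : B → ℂ) 1 = 1 := by
    intro ψ
    rw [Helper78.irrChar_one_eq_charDegree ψ.2,
      Helper80.IsIrrCharacter.charDegree_eq_one_of_comm ψ.2]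
    norm_num
  have h1 : (charDegree A : ℂ) = ∑ ψ : IrrCharacter B, (m ψ : ℂ) := by
    rw [Helper74.charDegree_cast hA]
    have := congrFun (Helper74.isCharacter_eq_sum_irr hA) 1
    simp only [Finset.sum_apply, Pi.smul_apply, smul_eq_mul, hψ1, mul_one, hm] at this
    exact this
  have h2 : classInner A A = ∑ ψ : IrrCharacter B, (m ψ : ℂ) * (m ψ : ℂ) := by
    rw [Helper74.classInner_self_eq_sum_sq hA]
    exact Finset.sum_congr rfl (fun ψ _ => by rw [hm ψ])
  have h3 := Helper74.sum_norm_sq_eq A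
  rw [h2] at h3
  have hnat : ∑ ψ : IrrCharacter B, m ψ ≤ ∑ ψ : IrrCharacter B, m ψ * m ψ :=
    Finset.sum_le_sum (fun ψ _ => Nat.le_mul_self (m ψ))
  have h1' : (charDegree A : ℝ) = ((∑ ψ : IrrCharacter B, m ψ : ℕ) : ℝ) := by
    have : ((charDegree A : ℕ) : ℂ) = ((∑ ψ : IrrCharacter B, m ψ : ℕ) : ℂ) := by
      rw [h1]; push_cast; rfl
    exact_mod_cast this
  have h3' : (∑ b : B, ‖A b‖ ^ 2 : ℝ)
      = (Nat.card B : ℝ) * ((∑ ψ : IrrCharacter B, m ψ * m ψ : ℕ) : ℝ) := by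
    have : ((∑ b : B, ‖A b‖ ^ 2 : ℝ) : ℂ)
        = (((Nat.card B : ℝ) * ((∑ ψ : IrrCharacter B, m ψ * m ψ : ℕ) : ℝ) : ℝ) : ℂ) := by
      rw [h3]; push_cast; rfl
    exact_mod_cast this
  rw [h1', h3']
  apply mul_le_mul_of_nonneg_left _ (Nat.cast_nonneg _)
  exact_mod_cast hnat

set_option maxHeartbeats 1600000 in
/-- Let `Λ` be an irreducible character of degree `p` of a simple group vanishing on all elements
of order divisible by `p`.  Then an element of order `p` commutes with no non-trivial element of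
order prime to `p`. -/
theorem eq_one_of_commute_of_vanishing {G : Type u} [Group G] [Fintype G] [IsSimpleGroup G]
    (Λ : IrrCharacter G) {p : ℕ} (hp : p.Prime) (hdeg : charDegree (Λ : G → ℂ) = p)
    (hvan : ∀ y : G, p ∣ orderOf y → (Λ : G → ℂ) y = 0)
    {v k : G} (hv : orderOf v = p) (hcomm : Commute v k) (hk : (orderOf k).Coprime p) :
    k = 1 := by
  classical
  obtain ⟨q, hq⟩ : ∃ q : ℕ, q = orderOf k := ⟨_, rfl⟩
  rw [← hq] at hk
  have hq0 : 0 < q := by rw [hq]; exact orderOf_pos k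
  obtain ⟨y, hy⟩ : ∃ y : G, y = v * k := ⟨_, rfl⟩
  have hyord : orderOf y = p * q := by
    rw [hy, hcomm.orderOf_mul_eq_mul_orderOf_of_coprime (by rw [hv, ← hq]; exact hk.symm), hv, hq]
  obtain ⟨B, hBdef⟩ : ∃ B : Subgroup G, B = Subgroup.zpowers y := ⟨_, rfl⟩
  let _ : Fintype B := Fintype.ofFinite B
  have hBcard : Nat.card B = p * q := by rw [hBdef, Nat.card_zpowers, hyord]
  have hBcomm : ∀ a b : B, a * b = b * a := by
    subst hBdef
    intro a b
    exact (inferInstance : IsMulCommutative (Subgroup.zpowers y)).is_comm.comm a b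
  haveI hBcyc : IsCyclic B := by
    subst hBdef
    infer_instance
  have hA : IsCharacter B (fun b : B => (Λ : G → ℂ) b) :=
    Helper74.isCharacter_restrict B (Helper74.irr_isCharacter Λ)
  have hdegA : charDegree (fun b : B => (Λ : G → ℂ) b) = p := by
    have : charDegree (fun b : B => (Λ : G → ℂ) b) = charDegree (Λ : G → ℂ) := by
      simp [charDegree]
    rw [this, hdeg]
  have hge := card_mul_degree_le_sum_norm_sq hBcomm hA
  rw [hBcard, hdegA] at hge
  obtain ⟨S, hSdef⟩ : ∃ S : Finset B,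
    S = Finset.univ.filter (fun b : B => ¬ p ∣ orderOf (b : G)) := ⟨_, rfl⟩
  have hmemS : ∀ b : B, b ∈ S ↔ ¬ p ∣ orderOf (b : G) := by
    intro b
    rw [hSdef]
    simp
  have hsumS : ∑ b : B, ‖(Λ : G → ℂ) b‖ ^ 2 = ∑ b ∈ S, ‖(Λ : G → ℂ) b‖ ^ 2 := by
    symm
    apply Finset.sum_subset (Finset.subset_univ _)
    intro b _ hb
    have : p ∣ orderOf (b : G) := by
      by_contra h'
      exact hb ((hmemS b).mpr h')
    rw [hvan _ this]
    simp
  have hScard : S.card ≤ q := by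
    refine le_trans (Finset.card_le_card ?_) (IsCyclic.card_pow_eq_one_le (α := B) hq0)
    intro b hb
    rw [hmemS] at hb
    rw [Finset.mem_filter]
    refine ⟨Finset.mem_univ _, ?_⟩
    have h1 : orderOf (b : G) ∣ p * q := by
      have := orderOf_dvd_natCard b
      rw [hBcard] at this
      rwa [Subgroup.orderOf_coe]
    have h2 : (orderOf (b : G)).Coprime p :=
      Nat.Coprime.symm ((Nat.Prime.coprime_iff_not_dvd hp).mpr hb)
    have h3 : orderOf (b : G) ∣ q := h2.dvd_of_dvd_mul_left h1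
    apply Subtype.ext
    rw [Subgroup.coe_pow, Subgroup.coe_one]
    exact orderOf_dvd_iff_pow_eq_one.mp h3
  have hyB : y ∈ B := by rw [hBdef]; exact Subgroup.mem_zpowers y
  obtain ⟨b0, hb0⟩ : ∃ b0 : B, (b0 : G) = y ^ p := ⟨⟨y ^ p, Subgroup.pow_mem _ hyB p⟩, rfl⟩
  have hyp : y ^ p = k ^ p := by
    rw [hy, hcomm.mul_pow, ← hv, pow_orderOf_eq_one, one_mul]
  have hb0S : b0 ∈ S := by
    rw [hmemS, hb0, hyp]
    intro hdiv
    have h1 : orderOf (k ^ p) ∣ orderOf k := orderOf_pow_dvd p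
    have h2 := hdiv.trans h1
    rw [← hq] at h2
    exact hp.one_lt.ne' (hk.symm.eq_one_of_dvd h2)
  have hterm : ∀ g : G, ‖(Λ : G → ℂ) g‖ ^ 2 ≤ (p : ℝ) ^ 2 := by
    intro g
    have := Helper74.norm_le_charDegree (Helper74.irr_isCharacter Λ) g
    rw [hdeg] at this
    exact pow_le_pow_left₀ (norm_nonneg _) this 2
  have hsum_le : ∑ b ∈ S, ‖(Λ : G → ℂ) b‖ ^ 2
      ≤ ‖(Λ : G → ℂ) b0‖ ^ 2 + ((q : ℝ) - 1) * (p : ℝ) ^ 2 := by
    rw [← Finset.add_sum_erase S _ hb0S]
    refine add_le_add le_rfl ?_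
    calc ∑ b ∈ S.erase b0, ‖(Λ : G → ℂ) b‖ ^ 2
        ≤ ∑ _b ∈ S.erase b0, (p : ℝ) ^ 2 := Finset.sum_le_sum (fun b _ => hterm b)
      _ = ((S.erase b0).card : ℝ) * (p : ℝ) ^ 2 := by rw [Finset.sum_const, nsmul_eq_mul]
      _ ≤ ((q : ℝ) - 1) * (p : ℝ) ^ 2 := by
          apply mul_le_mul_of_nonneg_right _ (sq_nonneg _)
          rw [Finset.card_erase_of_mem hb0S]
          have h1 : 1 ≤ S.card := Finset.card_pos.mpr ⟨b0, hb0S⟩
          rw [Nat.cast_sub h1]
          push_cast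
          have : (S.card : ℝ) ≤ (q : ℝ) := by exact_mod_cast hScard
          linarith
  have hge' : ((p * q : ℕ) : ℝ) * (p : ℝ) ≤ ∑ b : B, ‖(Λ : G → ℂ) b‖ ^ 2 := hge
  rw [hsumS] at hge'
  push_cast at hge'
  have hnorm : (p : ℝ) ^ 2 ≤ ‖(Λ : G → ℂ) b0‖ ^ 2 := by nlinarith
  have hnorm' : ‖(Λ : G → ℂ) (k ^ p)‖ = (charDegree (Λ : G → ℂ) : ℝ) := by
    rw [hdeg, ← hyp, ← hb0]
    apply le_antisymm
    · have := Helper74.norm_le_charDegree (Helper74.irr_isCharacter Λ) (b0 : G)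
      rwa [hdeg] at this
    · by_contra h'
      push Not at h'
      have h0 : 0 ≤ ‖(Λ : G → ℂ) b0‖ := norm_nonneg _
      nlinarith
  have hkp : k ^ p = 1 :=
    eq_one_of_norm_eq_charDegree Λ (by rw [hdeg]; exact hp.one_lt) _ hnorm'
  have h1 : orderOf k ∣ p := orderOf_dvd_of_pow_eq_one hkp
  rw [← hq] at h1
  have h2 : q = 1 := Nat.Coprime.eq_one_of_dvd hk h1
  rw [hq] at h2
  exact orderOf_eq_one_iff.mp h2

end Cfsg.Agent.Helper20.M11
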