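-- helper20: elements of order 5 in a simple group of order 7920 (rational, self-centralizing case)
import Mathlib
import Cfsg.Agent.Helper20.M11Util
import Cfsg.Agent.Helper20.M11Syl
import Cfsg.Agent.Helper74.DefectZero
import Cfsg.Agent.Helper17.G4320d

set_option autoImplicit false
set_option linter.style.haveILetI false

namespace Cfsg.Agent.Helper20.M11

open Cfsg Subgroup Cfsg.Agent.Helper17 Cfsg.Agent.Helper17.G4320
open scoped ComplexConjugate

universe u

/-- If `n_5 = 396` and `|C(v)| = 5`, all elements of order 5 are conjugate to `v`. -/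
theorem conj_of_order_five7920 {G : Type u} [Group G] [Finite G] (h : Nat.card G = 7920)
    [Fact (Nat.Prime 5)] (hn5 : Nat.card (Sylow 5 G) = 396) {v : G} (hv5 : orderOf v = 5)
    (hCv : Nat.card (centralizer ({v} : Set G)) = 5) (y : G) (hy : orderOf y = 5) :
    IsConj y v := by
  classical
  have hP5 : ∀ P' : Sylow 5 G, Nat.card (P' : Subgroup G) = 5 := fun P' => by
    have := card_sylow_subgroup_of_card_eq (p := 5) (k := 1) (m := 1584)
      (by rw [h]; norm_num) (by norm_num) P'
    simpa using this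
  have hcount := card_orderOf_eq_prime (G := G) (p := 5) hP5
  rw [hn5] at hcount
  have hcl := Helper74.card_isConj_mul_card_centralizer v
  rw [hCv, h] at hcl
  have hA : ({g : G | IsConj g v} : Set G) = {g : G | orderOf g = 5} := by
    apply Set.eq_of_subset_of_ncard_le
    · intro g hg
      obtain ⟨c, hc⟩ := isConj_iff.mp hg
      show orderOf g = 5
      have := orderOf_conj' c g
      rw [hc, hv5] at this
      exact this.symm
    · have e1 : ({g : G | orderOf g = 5} : Set G).ncard = 1584 := by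
        have : ({g : G | orderOf g = 5} : Set G).ncard = Nat.card {g : G // orderOf g = 5} := by
          rw [← Nat.card_coe_set_eq]; rfl
        rw [this, hcount]
      have e2 : ({g : G | IsConj g v} : Set G).ncard = 1584 := by
        have : ({g : G | IsConj g v} : Set G).ncard = Nat.card {g : G // IsConj g v} := by
          rw [← Nat.card_coe_set_eq]; rfl
        rw [this]
        omega
      rw [e1, e2]
    · exact Set.toFinite _
  have : y ∈ ({g : G | IsConj g v} : Set G) := by rw [hA]; exact hy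
  exact this

set_option maxHeartbeats 1600000 in
/-- A self-centralizing element of order 5 is rational: values and congruences. -/
theorem rational5 {G : Type u} [Group G] [Fintype G] [Fintype (IrrCharacter G)]
    [IsSimpleGroup G] (h : Nat.card G = 7920) {v : G} (hv5 : orderOf v = 5)
    (hCv : Nat.card (centralizer ({v} : Set G)) = 5) :
    ∃ a5 : IrrCharacter G → ℤ, (∀ χ : IrrCharacter G, (χ : G → ℂ) v = a5 χ) ∧
      (∀ χ : IrrCharacter G, (charDegree (χ : G → ℂ) : ℤ) ≡ a5 χ [ZMOD 5]) ∧
      ∑ χ : IrrCharacter G, a5 χ ^ 2 = 5 ∧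
      ∑ χ : IrrCharacter G, (charDegree (χ : G → ℂ) : ℤ) * a5 χ = 0 ∧
      a5 (Helper79.principalIrr G) = 1 := by
  classical
  haveI : Fact (Nat.Prime 5) := ⟨by norm_num⟩
  have hP5 : ∀ P' : Sylow 5 G, Nat.card (P' : Subgroup G) = 5 := fun P' => card_sylow5_sub h P'
  obtain ⟨P, hPz⟩ := exists_sylow_eq_zpowers hP5 v hv5
  have hP := hP5 P
  have hCP : Nat.card (centralizer ((P : Subgroup G) : Set G)) = 5 := by
    rw [← centralizer_singleton_eq_of_zpowers hPz, hCv]
  have hn5 : Nat.card (Sylow 5 G) = 396 := by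
    have hN := card_normalizer_mul_card_sylow P
    rw [h] at hN
    obtain ⟨h1, -⟩ := relIndex_dvd_of_card_sylow_prime P hP
    have h3 := card_centralizer_mul_relIndex (P : Subgroup G)
    rw [hCP] at h3
    generalize (centralizer ((P : Subgroup G) : Set G)).relIndex
      (normalizer ((P : Subgroup G) : Set G)) = r at h1 h3
    generalize Nat.card (normalizer ((P : Subgroup G) : Set G)) = nn at hN h3
    have hr : r ≤ 4 := Nat.le_of_dvd (by norm_num) (by simpa using h1)
    rcases card_sylow5_mem h with h' | h' | h' | h' <;> rw [h'] at hN ⊢ <;> omega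
  have hvP : v ∈ (P : Subgroup G) := by rw [hPz]; exact Subgroup.mem_zpowers v
  have hv1 : v ≠ 1 := by
    intro h1
    rw [h1, orderOf_one] at hv5
    norm_num at hv5
  have hord5 : ∀ k ∈ (P : Subgroup G), k ≠ 1 → orderOf k = 5 := by
    intro k hk hk1
    have h1 : orderOf k ∣ 5 := by
      have := orderOf_dvd_natCard (⟨k, hk⟩ : (P : Subgroup G))
      rwa [hP, Subgroup.orderOf_mk] at this
    rcases (Nat.dvd_prime (by norm_num : Nat.Prime 5)).mp h1 with h' | h'
    · exact absurd (orderOf_eq_one_iff.mp h') hk1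
    · exact h'
  have hconjv : ∀ y ∈ (P : Subgroup G), y ≠ 1 → IsConj y v := fun y hy hy1 =>
    conj_of_order_five7920 h hn5 hv5 hCv y (hord5 y hy hy1)
  have key : ∀ χ : IrrCharacter G, ∃ a : ℤ, (χ : G → ℂ) v = a ∧
      ((charDegree (χ : G → ℂ) : ℤ) ≡ a [ZMOD 5]) := by
    intro χ
    have hχ := Helper74.irr_isCharacter χ
    have hcf := Helper74.irr_isClassFunction χ
    have hone : (χ : G → ℂ) 1 = (charDegree (χ : G → ℂ) : ℂ) :=
      Helper78.irrChar_one_eq_charDegree χ.2
    have hconst : ∀ y ∈ (P : Subgroup G), y ≠ 1 → (χ : G → ℂ) y = (χ : G → ℂ) v := by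
      intro y hy hy1
      obtain ⟨g, hg⟩ := isConj_iff.mp (hconjv y hy hy1)
      rw [← hg]
      exact (hcf y g).symm
    let _ : Fintype (P : Subgroup G) := Fintype.ofFinite _
    have hnt : Nontrivial (P : Subgroup G) :=
      ⟨⟨⟨v, hvP⟩, 1, fun h' => hv1 (congrArg Subtype.val h')⟩⟩
    have hA : IsCharacter (P : Subgroup G) (fun y : (P : Subgroup G) => (χ : G → ℂ) (y : G)) :=
      Helper74.isCharacter_restrict (P : Subgroup G) hχ
    obtain ⟨a, a', b, hTa, ha', _, hcong⟩ := Exc.const_congr hnt hA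
      (Helper74.isCharacter_zero (G := (P : Subgroup G))) 0 (T := (χ : G → ℂ) v) (by
        intro y hy
        have hy1 : (y : G) ≠ 1 := fun h' => hy (Subtype.ext h')
        simp only [Int.cast_zero, zero_mul, sub_zero]
        exact hconst y y.2 hy1)
    have ha'' : a' = charDegree (χ : G → ℂ) := by
      have h1 : (χ : G → ℂ) 1 = a' := ha'
      rw [hone] at h1
      exact_mod_cast h1.symm
    rw [hP, ha''] at hcong
    exact ⟨a, hTa, by simpa using hcong⟩
  choose a hax hmod using key
  have hprinc : ∀ g : G, ((Helper79.principalIrr G : IrrCharacter G) : G → ℂ) g = 1 :=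
    fun _ => rfl
  have ha1 : a (Helper79.principalIrr G) = 1 := by
    have := hax (Helper79.principalIrr G)
    rw [hprinc] at this
    exact_mod_cast this.symm
  have hdeg : ∀ χ : IrrCharacter G, (χ : G → ℂ) 1 = (charDegree (χ : G → ℂ) : ℂ) :=
    fun χ => Helper78.irrChar_one_eq_charDegree χ.2
  have hso := Helper74.second_orthogonality (G := G) v v
  rw [if_pos (IsConj.refl v), hCv] at hso
  have hsumsq : ∑ χ : IrrCharacter G, a χ ^ 2 = 5 := by
    have : ∑ χ : IrrCharacter G, ((a χ ^ 2 : ℤ) : ℂ) = 5 := by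
      have h5 : ((5 : ℕ) : ℂ) = 5 := by norm_num
      rw [← h5, ← hso]
      apply Finset.sum_congr rfl
      intro χ _
      rw [hax χ]
      simp only [Int.cast_pow, map_intCast]
      ring
    exact_mod_cast this
  have hnc1 : ¬ IsConj (1 : G) v := by
    intro hc
    exact hv1 (isConj_one_left.mp hc.symm)
  have hE1 : ∑ χ : IrrCharacter G, (charDegree (χ : G → ℂ) : ℤ) * a χ = 0 := by
    have hso1 := Helper74.second_orthogonality (G := G) 1 v
    rw [if_neg hnc1] at hso1
    have : ∑ χ : IrrCharacter G, (((charDegree (χ : G → ℂ) : ℤ) * a χ : ℤ) : ℂ) = 0 := by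
      rw [← hso1]
      apply Finset.sum_congr rfl
      intro χ _
      rw [hax χ, hdeg χ]
      simp
    exact_mod_cast this
  exact ⟨a, hax, hmod, hsumsq, hE1, ha1⟩

/-- The full power of 5 dividing 7920 divides every multiple of 5. -/
theorem pow_factorization_five_dvd {n d : ℕ} (h : n = 7920) (hd : 5 ∣ d) :
    5 ^ n.factorization 5 ∣ d := by
  have hle : n.factorization 5 ≤ 1 := by
    by_contra hh
    push Not at hh
    have h1 : 5 ^ 2 ∣ 5 ^ n.factorization 5 := pow_dvd_pow 5 hh
    have h2 := h1.trans (Nat.ordProj_dvd n 5)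
    rw [h] at h2
    norm_num at h2
  exact (pow_dvd_pow 5 hle).trans (by simpa using hd)

set_option maxHeartbeats 1600000 in
/-- An irreducible character of degree 5 forces elements of order 5 to be self-centralizing. -/
theorem card_centralizer_eq_five {G : Type u} [Group G] [Fintype G] [IsSimpleGroup G]
    (h : Nat.card G = 7920) (Λ : IrrCharacter G) (hΛ : charDegree (Λ : G → ℂ) = 5)
    {v : G} (hv5 : orderOf v = 5) : Nat.card (centralizer ({v} : Set G)) = 5 := by
  classical
  have hvan : ∀ y : G, 5 ∣ orderOf y → (Λ : G → ℂ) y = 0 := fun y hy =>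
    Helper74.irr_eq_zero_of_defect_zero Λ (by norm_num)
      (pow_factorization_five_dvd h (by rw [hΛ])) y hy
  obtain ⟨C, hCdef⟩ : ∃ C : Subgroup G, C = centralizer ({v} : Set G) := ⟨_, rfl⟩
  rw [← hCdef]
  have hvC : v ∈ C := by
    rw [hCdef, Subgroup.mem_centralizer_singleton_iff]
  have h5C : 5 ∣ Nat.card C := by
    have := orderOf_dvd_natCard (⟨v, hvC⟩ : C)
    rwa [Subgroup.orderOf_mk, hv5] at this
  have hCG : Nat.card C ∣ 7920 := by rw [← h]; exact Subgroup.card_subgroup_dvd_card C
  by_contra hne5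
  obtain ⟨m, hm⟩ := h5C
  have hm1 : m ≠ 1 := by
    rintro rfl
    exact hne5 (by rw [hm])
  have hm1584 : m ∣ 1584 := by
    rw [hm] at hCG
    exact (Nat.mul_dvd_mul_iff_left (by norm_num : 0 < 5)).mp (by simpa using hCG)
  have hq : (m.minFac).Prime := Nat.minFac_prime hm1
  have hqm : m.minFac ∣ m := Nat.minFac_dvd m
  have hq5 : m.minFac ≠ 5 := by
    intro h'
    have := (h' ▸ hqm).trans hm1584
    norm_num at this
  haveI : Fact (m.minFac).Prime := ⟨hq⟩
  obtain ⟨k', hk'⟩ := exists_prime_orderOf_dvd_card' (G := ↥C) m.minFac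
    (by rw [hm]; exact Dvd.dvd.mul_left hqm 5)
  have hkord : orderOf (k' : G) = m.minFac := by rw [Subgroup.orderOf_coe, hk']
  have hcomm : Commute v (k' : G) := by
    have hmemC : ∀ z : G, z ∈ C → z * v = v * z := by
      intro z hz
      rw [hCdef, Subgroup.mem_centralizer_singleton_iff] at hz
      exact hz
    exact (hmemC _ k'.2).symm
  have hcop : (orderOf (k' : G)).Coprime 5 := by
    rw [hkord]
    exact (Nat.coprime_primes hq (by norm_num)).mpr hq5
  have hk1 := eq_one_of_commute_of_vanishing Λ (p := 5) (by norm_num) hΛ hvan hv5 hcomm hcop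
  rw [hk1, orderOf_one] at hkord
  exact hq.one_lt.ne hkord

set_option maxHeartbeats 800000 in
/-- The PSL(2,11)-like 11-block is impossible. -/
theorem case_II_false {G : Type u} [Group G] [Fintype G] [Fintype (IrrCharacter G)]
    [IsSimpleGroup G] (h : Nat.card G = 7920) (Λ ψ ψ' : IrrCharacter G)
    (hΛ : charDegree (Λ : G → ℂ) = 5) (hne : ψ ≠ ψ') (hψ : charDegree (ψ : G → ℂ) = 12)
    (hψ' : charDegree (ψ' : G → ℂ) = 12) : False := by
  classical
  haveI : Fact (Nat.Prime 5) := ⟨by norm_num⟩
  obtain ⟨v, hv5⟩ := exists_prime_orderOf_dvd_card' (G := G) 5 (by rw [h]; norm_num)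
  have hCv := card_centralizer_eq_five h Λ hΛ hv5
  obtain ⟨a5, -, hmod, hsq, -, ha1⟩ := rational5 h hv5 hCv
  have hp1 : ψ ≠ Helper79.principalIrr G := by
    rintro rfl
    rw [Exc.charDegree_principal] at hψ
    norm_num at hψ
  have hp2 : ψ' ≠ Helper79.principalIrr G := by
    rintro rfl
    rw [Exc.charDegree_principal] at hψ'
    norm_num at hψ'
  have hsub : ({Helper79.principalIrr G, ψ, ψ'} : Finset (IrrCharacter G)) ⊆ Finset.univ :=
    Finset.subset_univ _
  have hle := Finset.sum_le_sum_of_subset_of_nonneg hsub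
    (f := fun χ : IrrCharacter G => a5 χ ^ 2) (fun χ _ _ => sq_nonneg (a5 χ))
  rw [hsq, Finset.sum_insert (by simp [hp1.symm, hp2.symm]), Finset.sum_pair hne, ha1] at hle
  have h1 := hmod ψ
  have h2 := hmod ψ'
  rw [hψ] at h1
  rw [hψ'] at h2
  have hb1 : a5 ψ ^ 2 ≤ 4 := by nlinarith [sq_nonneg (a5 ψ')]
  have hb2 : a5 ψ' ^ 2 ≤ 4 := by nlinarith [sq_nonneg (a5 ψ)]
  have hu1 : a5 ψ ≤ 2 := by nlinarith
  have hl1 : -2 ≤ a5 ψ := by nlinarith
  have hu2 : a5 ψ' ≤ 2 := by nlinarith
  have hl2 : -2 ≤ a5 ψ' := by nlinarith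
  have e1 : a5 ψ = 2 := by
    rw [Int.ModEq] at h1
    omega
  have e2 : a5 ψ' = 2 := by
    rw [Int.ModEq] at h2
    omega
  rw [e1, e2] at hle
  norm_num at hle

end Cfsg.Agent.Helper20.M11
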