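-- helper20: the character degrees of a simple group of order 7920 (M11-like 11-block).
import Mathlib
import Cfsg.Agent.Helper20.M11Blk3
import Cfsg.Agent.Helper20.M11P5
import Cfsg.Agent.S0840

set_option autoImplicit false
set_option linter.style.haveILetI false

namespace Cfsg.Agent.Helper20.M11

open Cfsg Subgroup Cfsg.Agent.Helper17 Cfsg.Agent.Helper17.Exc Cfsg.Agent.Helper17.G4320
open scoped ComplexConjugate

universe u

/-- Sylow arithmetic for an element of order 5. -/
theorem sylow5_arith {G : Type u} [Group G] [Finite G] [IsSimpleGroup G]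
    (h : Nat.card G = 7920) {v : G} (hv5 : orderOf v = 5) :
    ∃ r nn n5 : ℕ, r ≤ 4 ∧ Nat.card (centralizer ({v} : Set G)) * r = nn ∧ nn * n5 = 7920 ∧
      (n5 = 11 ∨ n5 = 36 ∨ n5 = 66 ∨ n5 = 396) := by
  haveI : Fact (Nat.Prime 5) := ⟨by norm_num⟩
  have hP5 : ∀ P' : Sylow 5 G, Nat.card (P' : Subgroup G) = 5 := fun P' => card_sylow5_sub h P'
  obtain ⟨P, hPz⟩ := exists_sylow_eq_zpowers hP5 v hv5
  have hP := hP5 P
  have hN := card_normalizer_mul_card_sylow P
  rw [h] at hN
  obtain ⟨h1, -⟩ := relIndex_dvd_of_card_sylow_prime P hP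
  have h3 := card_centralizer_mul_relIndex (P : Subgroup G)
  have hc : Nat.card (centralizer ({v} : Set G))
      = Nat.card (centralizer ((P : Subgroup G) : Set G)) := by
    rw [centralizer_singleton_eq_of_zpowers hPz]
  rw [← hc] at h3
  exact ⟨_, _, _, Nat.le_of_dvd (by norm_num) (by simpa using h1), h3, hN, card_sylow5_mem h⟩

set_option maxRecDepth 100000 in
theorem key_deg55 : ∀ d ∈ Nat.divisors 7920, d ≤ 88 → 11 ∣ d →
    (d % 5 = 1 → d = 11 ∨ d = 66) ∧ (d % 5 = 4 → d = 44) ∧ (d % 5 = 0 → d = 55) := by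
  decide

theorem sum_eq_of_list {ι : Type*} [Fintype ι] [DecidableEq ι] {M : Type*} [AddCommMonoid M]
    (L : List ι) (hnd : L.Nodup) (hcov : ∀ i, i ∈ L) (F : ι → M) :
    ∑ i, F i = (L.map F).sum := by
  have : (Finset.univ : Finset ι) = L.toFinset := by
    ext i
    simp [hcov i]
  rw [this, List.sum_toFinset _ hnd]

end Cfsg.Agent.Helper20.M11
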