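-- helper20: case (I): the centralizer of an element of order 5 has order 5.
import Mathlib
import Cfsg.Agent.Helper20.M11Deg

set_option autoImplicit false
set_option linter.style.haveILetI false

namespace Cfsg.Agent.Helper20.M11

open Cfsg Subgroup Cfsg.Agent.Helper17 Cfsg.Agent.Helper17.Exc Cfsg.Agent.Helper17.G4320
open scoped ComplexConjugate

universe u

set_option maxHeartbeats 3200000 in
/-- In the M11-like case, an element `v` of order 5 is self-centralizing, and the exceptional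
characters take the value 1 on it. -/
theorem case_I_p5 {G : Type u} [Group G] [Fintype G] [Fintype (IrrCharacter G)]
    [IsSimpleGroup G] (h : Nat.card G = 7920) {x : G} (hx : orderOf x = 11) (B : B11 G x)
    (hd16 : B.d = 16) (hσ1 : B.σ = 1) (ψ45 ψa ψb ψc : IrrCharacter G)
    (hd45 : charDegree (ψ45 : G → ℂ) = 45) (hda : charDegree (ψa : G → ℂ) = 10)
    (hdb : charDegree (ψb : G → ℂ) = 10) (hdc : charDegree (ψc : G → ℂ) = 10)
    (hrest : ∀ ψ : IrrCharacter G, ψ ≠ Helper79.principalIrr G → ψ ≠ ψ45 → ψ ≠ ψa → ψ ≠ ψb →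
      ψ ≠ ψc → B.a ψ = 0)
    {v : G} (hv5 : orderOf v = 5) :
    Nat.card (centralizer ({v} : Set G)) = 5 ∧ (B.Λ1 : G → ℂ) v = 1 ∧ (B.Λ2 : G → ℂ) v = 1 := by
  classical
  have hx1 : x ≠ 1 := by
    intro h1
    rw [h1, orderOf_one] at hx
    norm_num at hx
  have hncvx : ¬ IsConj v x := by
    intro hc
    obtain ⟨g, hg⟩ := isConj_iff.mp hc
    have := orderOf_conj' g v
    rw [hg, hx, hv5] at this
    norm_num at this
  have hoffv : (B.Λ1 : G → ℂ) v = (B.Λ2 : G → ℂ) v := by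
    apply B.hoff v
    intro g hmem
    have h1 := orderOf_dvd_natCard (⟨_, hmem⟩ : Subgroup.zpowers x)
    rw [Subgroup.orderOf_mk, Nat.card_zpowers, hx, orderOf_conj', hv5] at h1
    norm_num at h1
  have hp1 : Helper79.principalIrr G ≠ B.Λ1 := fun h' => by
    have := B.ha1
    rw [h', B.haΛ1] at this
    norm_num at this
  have hp2 : Helper79.principalIrr G ≠ B.Λ2 := fun h' => by
    have := B.ha1
    rw [h', B.haΛ2] at this
    norm_num at this
  have hvan5 : ∀ χ : IrrCharacter G, 5 ∣ charDegree (χ : G → ℂ) → (χ : G → ℂ) v = 0 :=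
    fun χ hχ => Helper74.irr_eq_zero_of_defect_zero χ (by norm_num)
      (pow_factorization_five_dvd h hχ) v (by rw [hv5])
  have hv45 := hvan5 ψ45 (by rw [hd45]; norm_num)
  have hva := hvan5 ψa (by rw [hda]; norm_num)
  have hvb := hvan5 ψb (by rw [hdb]; norm_num)
  have hvc := hvan5 ψc (by rw [hdc]; norm_num)
  -- characters other than 1, Λ1, Λ2 vanish at `v` or at `x`
  have hzero : ∀ χ : IrrCharacter G, χ ≠ Helper79.principalIrr G → χ ≠ B.Λ1 → χ ≠ B.Λ2 →
      (χ : G → ℂ) v = 0 ∨ (χ : G → ℂ) x = 0 := by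
    intro χ h1 h2 h3
    by_cases ha : B.a χ = 0
    · right
      rw [B.hval χ h2 h3, ha]
      norm_num
    · left
      by_contra hne
      apply ha
      apply hrest χ h1
      · rintro rfl; exact hne hv45
      · rintro rfl; exact hne hva
      · rintro rfl; exact hne hvb
      · rintro rfl; exact hne hvc
  have hsum3 : ∀ F : IrrCharacter G → ℂ,
      (∀ χ : IrrCharacter G, χ ≠ Helper79.principalIrr G → χ ≠ B.Λ1 → χ ≠ B.Λ2 → F χ = 0) →
      ∑ χ, F χ = F (Helper79.principalIrr G) + F B.Λ1 + F B.Λ2 := by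
    intro F hF
    have hT : ∑ χ ∈ ({Helper79.principalIrr G, B.Λ1, B.Λ2} : Finset (IrrCharacter G)), F χ
        = F (Helper79.principalIrr G) + F B.Λ1 + F B.Λ2 := by
      rw [Finset.sum_insert (by simp [hp1, hp2]), Finset.sum_pair B.hne]
      ring
    rw [← hT]
    symm
    apply Finset.sum_subset (Finset.subset_univ _)
    intro χ _ hχ
    simp only [Finset.mem_insert, Finset.mem_singleton, not_or] at hχ
    exact hF χ hχ.1 hχ.2.1 hχ.2.2
  have hprinc : ∀ g : G, ((Helper79.principalIrr G : IrrCharacter G) : G → ℂ) g = 1 :=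
    fun _ => rfl
  have hconjsum : conj ((B.Λ1 : G → ℂ) x) + conj ((B.Λ2 : G → ℂ) x) = -1 := by
    rw [← map_add, B.hsumx, hσ1]
    simp
  -- Λ(v) = 1
  have hΛv : (B.Λ1 : G → ℂ) v = 1 := by
    have hso := Helper74.second_orthogonality (G := G) v x
    rw [if_neg hncvx, hsum3 _ (by
      intro χ h1 h2 h3
      rcases hzero χ h1 h2 h3 with h' | h' <;> rw [h'] <;> simp)] at hso
    rw [hprinc, hprinc, ← hoffv] at hso
    have : (1 : ℂ) * conj 1 = 1 := by simp
    rw [this] at hso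
    linear_combination -hso + ((B.Λ1 : G → ℂ) v) * hconjsum
  have hΛ2v : (B.Λ2 : G → ℂ) v = 1 := by rw [← hoffv, hΛv]
  refine ⟨?_, hΛv, hΛ2v⟩
  -- class multiplication
  have hΛ1one : (B.Λ1 : G → ℂ) 1 = 16 := by
    rw [Helper78.irrChar_one_eq_charDegree B.Λ1.2, B.hd1, hd16]
    norm_num
  have hΛ2one : (B.Λ2 : G → ℂ) 1 = 16 := by
    rw [Helper78.irrChar_one_eq_charDegree B.Λ2.2, B.hd2, hd16]
    norm_num
  obtain ⟨Np, hNp⟩ : ∃ Np : ℕ, Np = Nat.card {p : G × G // IsConj v p.1 ∧ IsConj v p.2 ∧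
    p.1 * p.2 = x} := ⟨_, rfl⟩
  obtain ⟨cl, hcldef⟩ : ∃ cl : ℕ, cl = Nat.card {y : G // IsConj v y} := ⟨_, rfl⟩
  obtain ⟨Ct, hCt⟩ : ∃ Ct : ℕ, Ct = Nat.card (centralizer ({v} : Set G)) := ⟨_, rfl⟩
  have hclC : cl * Ct = 7920 := by
    have h1 := Helper74.card_isConj_mul_card_centralizer v
    have h2 : Nat.card {y : G // IsConj y v} = cl := by
      rw [hcldef]
      exact Nat.card_congr (Equiv.subtypeEquivRight (fun y => isConj_comm))
    rw [h2, h, ← hCt] at h1
    exact h1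
  have hm := Cfsg.Agent.S0840.result v v x
  rw [← hNp, ← hcldef, finsum_eq_sum_of_fintype, hsum3 _ (by
    intro χ h1 h2 h3
    rcases hzero χ h1 h2 h3 with h' | h' <;> rw [h'] <;> simp), h] at hm
  rw [hprinc, hprinc, hprinc, hΛv, hΛ2v, hΛ1one, hΛ2one] at hm
  have hm2 : (Np : ℂ) * 7920 * 16 = (cl : ℂ) * (cl : ℂ) * 15 := by
    have e : (1 : ℂ) * 1 * conj 1 / 1 + 1 * 1 * conj ((B.Λ1 : G → ℂ) x) / 16
        + 1 * 1 * conj ((B.Λ2 : G → ℂ) x) / 16 = 15 / 16 := by
      have : conj (1 : ℂ) = 1 := by simp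
      rw [this]
      linear_combination (1 / 16 : ℂ) * hconjsum
    rw [e] at hm
    rw [hm]
    push_cast
    field_simp
  have hm3 : Np * 7920 * 16 = cl * cl * 15 := by exact_mod_cast hm2
  have hkey : Np * Ct ^ 2 = 7425 := by
    have e1 : (Np * Ct ^ 2) * 126720 = 15 * (cl * Ct) ^ 2 := by
      have : (Np * Ct ^ 2) * 126720 = (Np * 7920 * 16) * Ct ^ 2 := by ring
      rw [this, hm3]
      ring
    rw [hclC] at e1
    omega
  rw [← hCt]
  -- 5 divides Ct
  have h5 : 5 ∣ Ct := by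
    have hvC : v ∈ centralizer ({v} : Set G) := by
      rw [Subgroup.mem_centralizer_singleton_iff]
    have := orderOf_dvd_natCard (⟨v, hvC⟩ : centralizer ({v} : Set G))
    rwa [Subgroup.orderOf_mk, hv5, ← hCt] at this
  obtain ⟨m, rfl⟩ := h5
  have hm17 : m ≤ 17 := by
    by_contra hh
    push Not at hh
    have h18 : 18 ≤ m := hh
    have : (5 * 18) ^ 2 ≤ (5 * m) ^ 2 := Nat.pow_le_pow_left (by omega) 2
    have hNp1 : 1 ≤ Np := by
      rcases Nat.eq_zero_or_pos Np with h0 | h0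
      · rw [h0] at hkey; omega
      · exact h0
    nlinarith
  obtain ⟨r, nn, n5, hr, hCr, hnn, hn5⟩ := sylow5_arith h hv5
  rw [← hCt] at hCr
  interval_cases m <;> first | omega | (exfalso; rcases hn5 with rfl | rfl | rfl | rfl <;> omega)

end Cfsg.Agent.Helper20.M11
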