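-- helper20: case (I): the full list of character degrees.
import Mathlib
import Cfsg.Agent.Helper20.M11Deg2

set_option autoImplicit false
set_option linter.style.haveILetI false

namespace Cfsg.Agent.Helper20.M11

open Cfsg Subgroup Cfsg.Agent.Helper17 Cfsg.Agent.Helper17.Exc Cfsg.Agent.Helper17.G4320
open scoped ComplexConjugate

universe u

set_option maxHeartbeats 6400000 in
theorem case_I_degrees {G : Type u} [Group G] [Fintype G] [Fintype (IrrCharacter G)]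
    [IsSimpleGroup G] (h : Nat.card G = 7920) {x : G} (hx : orderOf x = 11) (B : B11 G x)
    (hd16 : B.d = 16) (hσ1 : B.σ = 1) (ψ45 ψa ψb ψc : IrrCharacter G)
    (h45a : ψ45 ≠ ψa) (h45b : ψ45 ≠ ψb) (h45c : ψ45 ≠ ψc) (hab : ψa ≠ ψb) (hac : ψa ≠ ψc)
    (hbc : ψb ≠ ψc) (h451 : ψ45 ≠ Helper79.principalIrr G) (ha1 : ψa ≠ Helper79.principalIrr G)
    (hb1 : ψb ≠ Helper79.principalIrr G) (hc1 : ψc ≠ Helper79.principalIrr G)
    (hA45 : B.a ψ45 = 1) (hd45 : charDegree (ψ45 : G → ℂ) = 45)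
    (hAa : B.a ψa = -1) (hda : charDegree (ψa : G → ℂ) = 10)
    (hAb : B.a ψb = -1) (hdb : charDegree (ψb : G → ℂ) = 10)
    (hAc : B.a ψc = -1) (hdc : charDegree (ψc : G → ℂ) = 10)
    (hrest : ∀ ψ : IrrCharacter G, ψ ≠ Helper79.principalIrr G → ψ ≠ ψ45 → ψ ≠ ψa → ψ ≠ ψb →
      ψ ≠ ψc → B.a ψ = 0) :
    ∀ F : ℕ → ℕ, ∑ χ : IrrCharacter G, F (charDegree (χ : G → ℂ))
      = F 1 + F 45 + 3 * F 10 + 2 * F 16 + F 11 + F 44 + F 55 := by
  classical
  haveI : Fact (Nat.Prime 5) := ⟨by norm_num⟩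
  obtain ⟨v, hv5⟩ := exists_prime_orderOf_dvd_card' (G := G) 5 (by rw [h]; norm_num)
  obtain ⟨hCv, hΛ1v, hΛ2v⟩ := case_I_p5 h hx B hd16 hσ1 ψ45 ψa ψb ψc hd45 hda hdb hdc hrest hv5
  obtain ⟨a5, hax, hmod5, hsq5, hE5, ha15⟩ := rational5 h hv5 hCv
  have hperf : commutator G = ⊤ := commutator_eq_top_of_simple (by rw [h]; norm_num)
  have hdvd : ∀ ψ : IrrCharacter G, charDegree (ψ : G → ℂ) ∣ 7920 := fun ψ => by
    rw [← h]; exact Helper80.IsIrrCharacter.charDegree_dvd_card ψ.2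
  have hsumsq := Helper79.sum_charDegree_sq (G := G)
  rw [h] at hsumsq
  have hd88 : ∀ ψ : IrrCharacter G, charDegree (ψ : G → ℂ) ≤ 88 := by
    intro ψ
    have := Finset.single_le_sum (f := fun χ : IrrCharacter G => charDegree (χ : G → ℂ) ^ 2)
      (fun _ _ => Nat.zero_le _) (Finset.mem_univ ψ)
    rw [hsumsq] at this
    have this' : charDegree (ψ : G → ℂ) ^ 2 ≤ 7920 := this
    nlinarith
  have hdpos : ∀ ψ : IrrCharacter G, 0 < charDegree (ψ : G → ℂ) := fun ψ =>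
    Nat.pos_of_ne_zero (fun h0 => by have := hdvd ψ; rw [h0] at this; norm_num at this)
  have hp1 : Helper79.principalIrr G ≠ B.Λ1 := fun h' => by
    have := B.ha1
    rw [h', B.haΛ1] at this
    norm_num at this
  have hp2 : Helper79.principalIrr G ≠ B.Λ2 := fun h' => by
    have := B.ha1
    rw [h', B.haΛ2] at this
    norm_num at this
  have hdΛ1 : charDegree (B.Λ1 : G → ℂ) = 16 := by rw [B.hd1, hd16]
  have hdΛ2 : charDegree (B.Λ2 : G → ℂ) = 16 := by rw [B.hd2, hd16]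
  have hd1 : charDegree ((Helper79.principalIrr G : IrrCharacter G) : G → ℂ) = 1 :=
    charDegree_principal
  have hvan5 : ∀ χ : IrrCharacter G, 5 ∣ charDegree (χ : G → ℂ) → a5 χ = 0 := by
    intro χ hχ
    have h0 := Helper74.irr_eq_zero_of_defect_zero χ (by norm_num)
      (pow_factorization_five_dvd h hχ) v (by rw [hv5])
    rw [hax χ] at h0
    exact_mod_cast h0
  have e45 := hvan5 ψ45 (by rw [hd45]; norm_num)
  have ea := hvan5 ψa (by rw [hda]; norm_num)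
  have eb := hvan5 ψb (by rw [hdb]; norm_num)
  have ec := hvan5 ψc (by rw [hdc]; norm_num)
  have eΛ1 : a5 B.Λ1 = 1 := by
    have := hax B.Λ1
    rw [hΛ1v] at this
    exact_mod_cast this.symm
  have eΛ2 : a5 B.Λ2 = 1 := by
    have := hax B.Λ2
    rw [hΛ2v] at this
    exact_mod_cast this.symm
  -- the characters outside {1, Λ1, Λ2}
  obtain ⟨T3, hT3⟩ : ∃ T3 : Finset (IrrCharacter G),
    T3 = {Helper79.principalIrr G, B.Λ1, B.Λ2} := ⟨_, rfl⟩
  obtain ⟨R3, hR3⟩ : ∃ R3 : Finset (IrrCharacter G), R3 = Finset.univ \ T3 := ⟨_, rfl⟩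
  have hR3mem : ∀ χ : IrrCharacter G, χ ∈ R3 ↔
      χ ≠ Helper79.principalIrr G ∧ χ ≠ B.Λ1 ∧ χ ≠ B.Λ2 := by
    intro χ
    rw [hR3, hT3]
    simp
  have hT3sum : ∀ f : IrrCharacter G → ℤ, ∑ χ ∈ T3, f χ
      = f (Helper79.principalIrr G) + f B.Λ1 + f B.Λ2 := by
    intro f
    rw [hT3, Finset.sum_insert (by simp [hp1, hp2]), Finset.sum_pair B.hne]
    ring
  have hsplit3 : ∀ f : IrrCharacter G → ℤ, ∑ χ ∈ R3, f χ + ∑ χ ∈ T3, f χ = ∑ χ, f χ := by
    intro f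
    rw [hR3]
    exact Finset.sum_sdiff (Finset.subset_univ T3)
  have hR3sq : ∑ χ ∈ R3, a5 χ ^ 2 = 2 := by
    have := hsplit3 (fun χ => a5 χ ^ 2)
    rw [hT3sum, hsq5, ha15, eΛ1, eΛ2] at this
    linarith
  obtain ⟨ψ3, hψ3R, ψ4, hψ4R, h34, ha3, ha4, hrest5⟩ := sq_sum_two R3 a5 hR3sq
  have hdegeq : a5 ψ3 * (charDegree (ψ3 : G → ℂ) : ℤ) + a5 ψ4 * (charDegree (ψ4 : G → ℂ) : ℤ)
      = -33 := by
    have h1 := hsplit3 (fun χ => (charDegree (χ : G → ℂ) : ℤ) * a5 χ)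
    rw [hT3sum, hE5, ha15, eΛ1, eΛ2, hd1, hdΛ1, hdΛ2] at h1
    have h2 := sum_eq_of_support_two R3 a5 (fun χ => (charDegree (χ : G → ℂ) : ℤ))
      hψ3R hψ4R h34 hrest5
    have h3 : ∑ χ ∈ R3, (charDegree (χ : G → ℂ) : ℤ) * a5 χ
        = ∑ χ ∈ R3, a5 χ * (charDegree (χ : G → ℂ) : ℤ) :=
      Finset.sum_congr rfl (fun χ _ => mul_comm _ _)
    rw [h3, h2] at h1
    push_cast at h1
    linarith
  -- facts on a character of R3 with a5 = ±1
  have hfact : ∀ ψ : IrrCharacter G, ψ ∈ R3 → (a5 ψ = 1 ∨ a5 ψ = -1) →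
      B.a ψ = 0 ∧ (a5 ψ = 1 → charDegree (ψ : G → ℂ) = 11 ∨ charDegree (ψ : G → ℂ) = 66) ∧
        (a5 ψ = -1 → charDegree (ψ : G → ℂ) = 44) := by
    intro ψ hψR hψa
    obtain ⟨n1, n2, n3⟩ := (hR3mem ψ).mp hψR
    have hne0 : a5 ψ ≠ 0 := by rcases hψa with h' | h' <;> rw [h'] <;> norm_num
    have hBa : B.a ψ = 0 := by
      apply hrest ψ n1
      · rintro rfl; exact hne0 e45
      · rintro rfl; exact hne0 ea
      · rintro rfl; exact hne0 eb
      · rintro rfl; exact hne0 ec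
    have h11 : 11 ∣ charDegree (ψ : G → ℂ) := by
      have := B.hmod ψ n2 n3
      rw [hBa] at this
      have h' : (11 : ℤ) ∣ (charDegree (ψ : G → ℂ) : ℤ) := Int.modEq_zero_iff_dvd.mp this
      exact_mod_cast h'
    have hkey := key_deg55 _ (Nat.mem_divisors.mpr ⟨hdvd ψ, by norm_num⟩) (hd88 ψ) h11
    have hm := hmod5 ψ
    refine ⟨hBa, ?_, ?_⟩
    · intro h'
      rw [h', Int.ModEq] at hm
      exact hkey.1 (by omega)
    · intro h'
      rw [h', Int.ModEq] at hm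
      exact hkey.2.1 (by omega)
  obtain ⟨ψ11, ψ44, hne1144, h11R, h44R, ha11, hd11, ha44, hd44, hrest5'⟩ :
      ∃ ψ11 ψ44 : IrrCharacter G, ψ11 ≠ ψ44 ∧ ψ11 ∈ R3 ∧ ψ44 ∈ R3 ∧ a5 ψ11 = 1 ∧
        charDegree (ψ11 : G → ℂ) = 11 ∧ a5 ψ44 = -1 ∧ charDegree (ψ44 : G → ℂ) = 44 ∧
        ∀ l ∈ R3, l ≠ ψ11 → l ≠ ψ44 → a5 l = 0 := by
    obtain ⟨-, f3a, f3b⟩ := hfact ψ3 hψ3R ha3
    obtain ⟨-, f4a, f4b⟩ := hfact ψ4 hψ4R ha4
    rcases ha3 with h3 | h3 <;> rcases ha4 with h4 | h4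
    · exfalso
      rw [h3, h4] at hdegeq
      have := hdpos ψ3
      have := hdpos ψ4
      omega
    · have e4 := f4b h4
      rw [h3, h4, e4] at hdegeq
      have e3 : charDegree (ψ3 : G → ℂ) = 11 := by omega
      exact ⟨ψ3, ψ4, h34, hψ3R, hψ4R, h3, e3, h4, e4, hrest5⟩
    · have e3 := f3b h3
      rw [h3, h4, e3] at hdegeq
      have e4 : charDegree (ψ4 : G → ℂ) = 11 := by omega
      exact ⟨ψ4, ψ3, h34.symm, hψ4R, hψ3R, h4, e4, h3, e3,
        fun l hl n1 n2 => hrest5 l hl n2 n1⟩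
    · exfalso
      rw [h3, h4, f3b h3, f4b h4] at hdegeq
      omega
  obtain ⟨hB11, -, -⟩ := hfact ψ11 h11R (Or.inl ha11)
  obtain ⟨hB44, -, -⟩ := hfact ψ44 h44R (Or.inr ha44)
  -- the list of nine characters
  obtain ⟨L9, hL9⟩ : ∃ L9 : List (IrrCharacter G),
    L9 = [Helper79.principalIrr G, ψ45, ψa, ψb, ψc, B.Λ1, B.Λ2, ψ11, ψ44] := ⟨_, rfl⟩
  have hdne : ∀ χ χ' : IrrCharacter G,
      charDegree (χ : G → ℂ) ≠ charDegree (χ' : G → ℂ) → χ ≠ χ' := by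
    intro χ χ' hd hh
    exact hd (by rw [hh])
  have hnd : L9.Nodup := by
    rw [hL9]
    simp only [List.nodup_cons, List.mem_cons, List.not_mem_nil, or_false, not_or,
      List.nodup_nil, and_true, not_false_eq_true]
    have hΛ12 := B.hne
    split_ands <;>
      first
        | assumption
        | exact Ne.symm ‹_›
        | (apply hdne; simp only [hd1, hd45, hda, hdb, hdc, hdΛ1, hdΛ2, hd11, hd44]; norm_num)
  have hL9sum : ∀ f : IrrCharacter G → ℕ, ∑ χ ∈ L9.toFinset, f χ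
      = f (Helper79.principalIrr G) + f ψ45 + f ψa + f ψb + f ψc + f B.Λ1 + f B.Λ2 + f ψ11
        + f ψ44 := by
    intro f
    rw [List.sum_toFinset _ hnd, hL9]
    simp only [List.map_cons, List.map_nil, List.sum_cons, List.sum_nil]
    ring
  obtain ⟨R9, hR9⟩ : ∃ R9 : Finset (IrrCharacter G), R9 = Finset.univ \ L9.toFinset := ⟨_, rfl⟩
  have hsplit9 : ∀ f : IrrCharacter G → ℕ,
      ∑ χ ∈ R9, f χ + ∑ χ ∈ L9.toFinset, f χ = ∑ χ, f χ := by
    intro f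
    rw [hR9]
    exact Finset.sum_sdiff (Finset.subset_univ _)
  have hR9prop : ∀ χ ∈ R9, 55 ∣ charDegree (χ : G → ℂ) := by
    intro χ hχ
    rw [hR9, Finset.mem_sdiff, List.mem_toFinset, hL9] at hχ
    have hχ' := hχ.2
    simp only [List.mem_cons, List.not_mem_nil, or_false, not_or] at hχ'
    obtain ⟨n1, n2, n3, n4, n5, n6, n7, n8, n9⟩ := hχ'
    have hBa : B.a χ = 0 := hrest χ n1 n2 n3 n4 n5
    have h5a : a5 χ = 0 := hrest5' χ ((hR3mem χ).mpr ⟨n1, n6, n7⟩) n8 n9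
    have h11 : 11 ∣ charDegree (χ : G → ℂ) := by
      have := B.hmod χ n6 n7
      rw [hBa] at this
      have h' : (11 : ℤ) ∣ (charDegree (χ : G → ℂ) : ℤ) := Int.modEq_zero_iff_dvd.mp this
      exact_mod_cast h'
    have h5 : 5 ∣ charDegree (χ : G → ℂ) := by
      have := hmod5 χ
      rw [h5a] at this
      have h' : (5 : ℤ) ∣ (charDegree (χ : G → ℂ) : ℤ) := Int.modEq_zero_iff_dvd.mp this
      exact_mod_cast h'
    exact Nat.Coprime.mul_dvd_of_dvd_of_dvd (by norm_num) h5 h11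
  have hR9sq : ∑ χ ∈ R9, charDegree (χ : G → ℂ) ^ 2 = 3025 := by
    have := hsplit9 (fun χ => charDegree (χ : G → ℂ) ^ 2)
    rw [hL9sum, hsumsq, hd1, hd45, hda, hdb, hdc, hdΛ1, hdΛ2, hd11, hd44] at this
    omega
  have hR9ne : R9.Nonempty := by
    by_contra hh
    rw [Finset.not_nonempty_iff_eq_empty] at hh
    rw [hh, Finset.sum_empty] at hR9sq
    norm_num at hR9sq
  obtain ⟨ψ55, h55R⟩ := hR9ne
  have hsplit55 := Finset.add_sum_erase R9 (fun χ => charDegree (χ : G → ℂ) ^ 2) h55R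
  rw [hR9sq] at hsplit55
  have hd55 : charDegree (ψ55 : G → ℂ) = 55 := by
    obtain ⟨k, hk⟩ := hR9prop ψ55 h55R
    have hpos := hdpos ψ55
    have hle : charDegree (ψ55 : G → ℂ) ^ 2 ≤ 3025 := by
      have : charDegree (ψ55 : G → ℂ) ^ 2 ≤ charDegree (ψ55 : G → ℂ) ^ 2
          + ∑ χ ∈ R9.erase ψ55, charDegree (χ : G → ℂ) ^ 2 := Nat.le_add_right _ _
      linarith
    have hk1 : k = 1 := by
      rw [hk] at hle hpos
      have : k ≤ 1 := by nlinarith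
      omega
    rw [hk, hk1]
  have hR9single : R9 = {ψ55} := by
    rw [Finset.eq_singleton_iff_unique_mem]
    refine ⟨h55R, ?_⟩
    intro χ hχ
    by_contra hne
    have hmem : χ ∈ R9.erase ψ55 := Finset.mem_erase.mpr ⟨hne, hχ⟩
    have hle := Finset.single_le_sum (f := fun χ : IrrCharacter G => charDegree (χ : G → ℂ) ^ 2)
      (fun _ _ => Nat.zero_le _) hmem
    have hzero : ∑ χ ∈ R9.erase ψ55, charDegree (χ : G → ℂ) ^ 2 = 0 := by
      rw [hd55] at hsplit55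
      omega
    rw [hzero] at hle
    have := hdpos χ
    have h2 : charDegree (χ : G → ℂ) ^ 2 = 0 := Nat.le_zero.mp hle
    have h3 : charDegree (χ : G → ℂ) = 0 := by
      rcases Nat.eq_zero_or_pos (charDegree (χ : G → ℂ)) with h0 | h0
      · exact h0
      · have : 0 < charDegree (χ : G → ℂ) ^ 2 := pow_pos h0 2
        omega
    omega
  intro F
  have hfin := hsplit9 (fun χ => F (charDegree (χ : G → ℂ)))
  rw [hL9sum, hR9single, Finset.sum_singleton, hd1, hd45, hda, hdb, hdc, hdΛ1, hdΛ2, hd11, hd44,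
    hd55] at hfin
  rw [← hfin]
  ring

end Cfsg.Agent.Helper20.M11
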