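-- helper20: a simple group of order 7920: the ten irreducible characters, with their values on
-- the elements of order 11 and 5.
import Mathlib
import Cfsg.Agent.Helper20.M11Deg3

set_option autoImplicit false
set_option linter.style.haveILetI false
set_option maxHeartbeats 1600000

namespace Cfsg.Agent.Helper20.M11

open Cfsg Subgroup Cfsg.Agent.Helper17 Cfsg.Agent.Helper17.Exc
open scoped ComplexConjugate

universe u

/-- The irreducible characters of a simple group of order 7920 and their values on an element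
`x` of order 11 and an element `v` of order 5. -/
structure Tab (G : Type u) [Group G] [Fintype G] [Fintype (IrrCharacter G)] where
  x : G
  hx : orderOf x = 11
  v : G
  hv : orderOf v = 5
  hCv : Nat.card (centralizer ({v} : Set G)) = 5
  hC5 : ∀ w : G, orderOf w = 5 → Nat.card (centralizer ({w} : Set G)) = 5
  ψ45 : IrrCharacter G
  ψa : IrrCharacter G
  ψb : IrrCharacter G
  ψc : IrrCharacter G
  Λ1 : IrrCharacter G
  Λ2 : IrrCharacter G
  χ11 : IrrCharacter G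
  χ44 : IrrCharacter G
  χ55 : IrrCharacter G
  hd45 : charDegree (ψ45 : G → ℂ) = 45
  hda : charDegree (ψa : G → ℂ) = 10
  hdb : charDegree (ψb : G → ℂ) = 10
  hdc : charDegree (ψc : G → ℂ) = 10
  hdΛ1 : charDegree (Λ1 : G → ℂ) = 16
  hdΛ2 : charDegree (Λ2 : G → ℂ) = 16
  hd11 : charDegree (χ11 : G → ℂ) = 11
  hd44 : charDegree (χ44 : G → ℂ) = 44
  hd55 : charDegree (χ55 : G → ℂ) = 55
  hsum : ∀ f : IrrCharacter G → ℂ, ∑ χ, f χ = f (Helper79.principalIrr G) + f ψ45 + f ψa + f ψb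
    + f ψc + f Λ1 + f Λ2 + f χ11 + f χ44 + f χ55
  hx45 : (ψ45 : G → ℂ) x = 1
  hxa : (ψa : G → ℂ) x = -1
  hxb : (ψb : G → ℂ) x = -1
  hxc : (ψc : G → ℂ) x = -1
  hx11 : (χ11 : G → ℂ) x = 0
  hx44 : (χ44 : G → ℂ) x = 0
  hx55 : (χ55 : G → ℂ) x = 0
  hxΛ : (Λ1 : G → ℂ) x + (Λ2 : G → ℂ) x = -1
  hoff : ∀ t : G, (∀ g : G, g * t * g⁻¹ ∉ Subgroup.zpowers x) →
    (Λ1 : G → ℂ) t = (Λ2 : G → ℂ) t
  hv45 : (ψ45 : G → ℂ) v = 0
  hva : (ψa : G → ℂ) v = 0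
  hvb : (ψb : G → ℂ) v = 0
  hvc : (ψc : G → ℂ) v = 0
  hvΛ1 : (Λ1 : G → ℂ) v = 1
  hvΛ2 : (Λ2 : G → ℂ) v = 1
  hv11 : (χ11 : G → ℂ) v = 1
  hv44 : (χ44 : G → ℂ) v = -1
  hv55 : (χ55 : G → ℂ) v = 0

theorem exists_tab {G : Type u} [Group G] [Fintype G] [Fintype (IrrCharacter G)]
    [IsSimpleGroup G] (h : Nat.card G = 7920) : Nonempty (Tab G) := by
  classical
  obtain ⟨x, hx, ⟨B⟩⟩ := exists_B11 h
  rcases B.cases h hx with
    ⟨hd16, hσ1, ψ45, ψa, ψb, ψc, h45a, h45b, h45c, hab, hac, hbc, h451, ha1, hb1, hc1,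
      hA45, hd45, hAa, hda, hAb, hdb, hAc, hdc, hrest⟩ | ⟨hd5, ψ, ψ', hne, h12, h12'⟩
  swap
  · exact (case_II_false h B.Λ1 ψ ψ' (by rw [B.hd1, hd5]) hne h12 h12').elim
  have key := case_I_degrees h hx B hd16 hσ1 ψ45 ψa ψb ψc
    h45a h45b h45c hab hac hbc h451 ha1 hb1 hc1 hA45 hd45 hAa hda hAb hdb hAc hdc hrest
  haveI : Fact (Nat.Prime 5) := ⟨by norm_num⟩
  obtain ⟨v, hv5⟩ := exists_prime_orderOf_dvd_card' (G := G) 5 (by rw [h]; norm_num)
  obtain ⟨hCv, hΛ1v, hΛ2v⟩ := case_I_p5 h hx B hd16 hσ1 ψ45 ψa ψb ψc hd45 hda hdb hdc hrest hv5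
  obtain ⟨a5, hax, hmod5, hsq5, hE5, ha15⟩ := rational5 h hv5 hCv
  have hdΛ1 : charDegree (B.Λ1 : G → ℂ) = 16 := by rw [B.hd1, hd16]
  have hdΛ2 : charDegree (B.Λ2 : G → ℂ) = 16 := by rw [B.hd2, hd16]
  have hd1 : charDegree ((Helper79.principalIrr G : IrrCharacter G) : G → ℂ) = 1 :=
    charDegree_principal
  have hex : ∀ n : ℕ, n = 11 ∨ n = 44 ∨ n = 55 →
      ∃ χ : IrrCharacter G, charDegree (χ : G → ℂ) = n := by
    intro n hn
    by_contra hcon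
    push Not at hcon
    have := key (fun m => if m = n then 1 else 0)
    rw [Finset.sum_eq_zero (fun χ _ => if_neg (hcon χ))] at this
    rcases hn with rfl | rfl | rfl <;> norm_num at this
  obtain ⟨χ11, hd11⟩ := hex 11 (Or.inl rfl)
  obtain ⟨χ44, hd44⟩ := hex 44 (Or.inr (Or.inl rfl))
  obtain ⟨χ55, hd55⟩ := hex 55 (Or.inr (Or.inr rfl))
  have hcard : Fintype.card (IrrCharacter G) = 10 := by
    rw [← Finset.card_univ, Finset.card_eq_sum_ones]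
    have := key (fun _ => 1)
    simpa using this
  obtain ⟨L, hL⟩ : ∃ L : List (IrrCharacter G),
    L = [Helper79.principalIrr G, ψ45, ψa, ψb, ψc, B.Λ1, B.Λ2, χ11, χ44, χ55] := ⟨_, rfl⟩
  have hdne : ∀ χ χ' : IrrCharacter G,
      charDegree (χ : G → ℂ) ≠ charDegree (χ' : G → ℂ) → χ ≠ χ' := by
    intro χ χ' hd hh
    exact hd (by rw [hh])
  have hnd : L.Nodup := by
    rw [hL]
    simp only [List.nodup_cons, List.mem_cons, List.not_mem_nil, or_false, not_or,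
      List.nodup_nil, and_true, not_false_eq_true]
    have hΛ12 := B.hne
    split_ands <;>
      first
        | assumption
        | exact Ne.symm ‹_›
        | (apply hdne
           simp only [hd1, hd45, hda, hdb, hdc, hdΛ1, hdΛ2, hd11, hd44, hd55]
           norm_num)
  have hLuniv : L.toFinset = Finset.univ := by
    apply Finset.eq_univ_of_card
    rw [List.toFinset_card_of_nodup hnd, hcard, hL]
    rfl
  have hsumC : ∀ f : IrrCharacter G → ℂ, ∑ χ, f χ = f (Helper79.principalIrr G) + f ψ45 + f ψa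
      + f ψb + f ψc + f B.Λ1 + f B.Λ2 + f χ11 + f χ44 + f χ55 := by
    intro f
    rw [← hLuniv, List.sum_toFinset _ hnd, hL]
    simp only [List.map_cons, List.map_nil, List.sum_cons, List.sum_nil]
    ring
  have hsumZ : ∀ f : IrrCharacter G → ℤ, ∑ χ, f χ = f (Helper79.principalIrr G) + f ψ45 + f ψa
      + f ψb + f ψc + f B.Λ1 + f B.Λ2 + f χ11 + f χ44 + f χ55 := by
    intro f
    rw [← hLuniv, List.sum_toFinset _ hnd, hL]
    simp only [List.map_cons, List.map_nil, List.sum_cons, List.sum_nil]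
    ring
  -- distinctness facts
  have n45Λ1 : ψ45 ≠ B.Λ1 := hdne _ _ (by rw [hd45, hdΛ1]; norm_num)
  have n45Λ2 : ψ45 ≠ B.Λ2 := hdne _ _ (by rw [hd45, hdΛ2]; norm_num)
  have naΛ1 : ψa ≠ B.Λ1 := hdne _ _ (by rw [hda, hdΛ1]; norm_num)
  have naΛ2 : ψa ≠ B.Λ2 := hdne _ _ (by rw [hda, hdΛ2]; norm_num)
  have nbΛ1 : ψb ≠ B.Λ1 := hdne _ _ (by rw [hdb, hdΛ1]; norm_num)
  have nbΛ2 : ψb ≠ B.Λ2 := hdne _ _ (by rw [hdb, hdΛ2]; norm_num)
  have ncΛ1 : ψc ≠ B.Λ1 := hdne _ _ (by rw [hdc, hdΛ1]; norm_num)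
  have ncΛ2 : ψc ≠ B.Λ2 := hdne _ _ (by rw [hdc, hdΛ2]; norm_num)
  have n11Λ1 : χ11 ≠ B.Λ1 := hdne _ _ (by rw [hd11, hdΛ1]; norm_num)
  have n11Λ2 : χ11 ≠ B.Λ2 := hdne _ _ (by rw [hd11, hdΛ2]; norm_num)
  have n44Λ1 : χ44 ≠ B.Λ1 := hdne _ _ (by rw [hd44, hdΛ1]; norm_num)
  have n44Λ2 : χ44 ≠ B.Λ2 := hdne _ _ (by rw [hd44, hdΛ2]; norm_num)
  have n55Λ1 : χ55 ≠ B.Λ1 := hdne _ _ (by rw [hd55, hdΛ1]; norm_num)
  have n55Λ2 : χ55 ≠ B.Λ2 := hdne _ _ (by rw [hd55, hdΛ2]; norm_num)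
  have hB0 : ∀ χ : IrrCharacter G, charDegree (χ : G → ℂ) = 11 ∨ charDegree (χ : G → ℂ) = 44 ∨
      charDegree (χ : G → ℂ) = 55 → B.a χ = 0 := by
    intro χ hχ
    apply hrest χ
    · apply hdne; rw [hd1]; omega
    · apply hdne; rw [hd45]; omega
    · apply hdne; rw [hda]; omega
    · apply hdne; rw [hdb]; omega
    · apply hdne; rw [hdc]; omega
  -- values at v
  have hvan5 : ∀ χ : IrrCharacter G, 5 ∣ charDegree (χ : G → ℂ) → a5 χ = 0 := by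
    intro χ hχ
    have h0 := Helper74.irr_eq_zero_of_defect_zero χ (by norm_num)
      (pow_factorization_five_dvd h hχ) v (by rw [hv5])
    rw [hax χ] at h0
    exact_mod_cast h0
  have e45 := hvan5 ψ45 (by rw [hd45]; norm_num)
  have ea := hvan5 ψa (by rw [hda]; norm_num)
  have eb := hvan5 ψb (by rw [hdb]; norm_num)
  have ec := hvan5 ψc (by rw [hdc]; norm_num)
  have e55 := hvan5 χ55 (by rw [hd55]; norm_num)
  have eΛ1 : a5 B.Λ1 = 1 := by
    have := hax B.Λ1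
    rw [hΛ1v] at this
    exact_mod_cast this.symm
  have eΛ2 : a5 B.Λ2 = 1 := by
    have := hax B.Λ2
    rw [hΛ2v] at this
    exact_mod_cast this.symm
  have hq1 := hsumZ (fun χ => a5 χ ^ 2)
  have hq2 := hsumZ (fun χ => (charDegree (χ : G → ℂ) : ℤ) * a5 χ)
  rw [hsq5, ha15, e45, ea, eb, ec, eΛ1, eΛ2, e55] at hq1
  rw [hE5, ha15, e45, ea, eb, ec, eΛ1, eΛ2, e55, hd1, hdΛ1, hdΛ2, hd11, hd44] at hq2
  obtain ⟨z11, hz11⟩ : ∃ z : ℤ, a5 χ11 = z := ⟨_, rfl⟩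
  obtain ⟨z44, hz44⟩ : ∃ z : ℤ, a5 χ44 = z := ⟨_, rfl⟩
  rw [hz11, hz44] at hq1 hq2
  push_cast at hq2
  have hz : z11 = 1 ∧ z44 = -1 := by
    have h1 : z44 ≤ 1 := by nlinarith
    have h2 : -1 ≤ z44 := by nlinarith
    interval_cases z44
    · exact ⟨by linarith, rfl⟩
    · exfalso
      have : z11 = -3 := by linarith
      rw [this] at hq1
      norm_num at hq1
    · exfalso
      have : z11 = -7 := by linarith
      rw [this] at hq1
      norm_num at hq1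
  obtain ⟨rfl, rfl⟩ := hz
  have cz : ((0 : ℤ) : ℂ) = 0 := by norm_num
  exact ⟨{
    x := x, hx := hx, v := v, hv := hv5, hCv := hCv
    hC5 := fun w hw =>
      (case_I_p5 h hx B hd16 hσ1 ψ45 ψa ψb ψc hd45 hda hdb hdc hrest hw).1
    ψ45 := ψ45, ψa := ψa, ψb := ψb, ψc := ψc, Λ1 := B.Λ1, Λ2 := B.Λ2
    χ11 := χ11, χ44 := χ44, χ55 := χ55
    hd45 := hd45, hda := hda, hdb := hdb, hdc := hdc, hdΛ1 := hdΛ1, hdΛ2 := hdΛ2
    hd11 := hd11, hd44 := hd44, hd55 := hd55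
    hsum := hsumC
    hx45 := by rw [B.hval ψ45 n45Λ1 n45Λ2, hA45]; norm_num
    hxa := by rw [B.hval ψa naΛ1 naΛ2, hAa]; norm_num
    hxb := by rw [B.hval ψb nbΛ1 nbΛ2, hAb]; norm_num
    hxc := by rw [B.hval ψc ncΛ1 ncΛ2, hAc]; norm_num
    hx11 := by rw [B.hval χ11 n11Λ1 n11Λ2, hB0 χ11 (Or.inl hd11)]; norm_num
    hx44 := by rw [B.hval χ44 n44Λ1 n44Λ2, hB0 χ44 (Or.inr (Or.inl hd44))]; norm_num
    hx55 := by rw [B.hval χ55 n55Λ1 n55Λ2, hB0 χ55 (Or.inr (Or.inr hd55))]; norm_num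
    hxΛ := by rw [B.hsumx, hσ1]; norm_num
    hoff := B.hoff
    hv45 := by rw [hax, e45]; norm_num
    hva := by rw [hax, ea]; norm_num
    hvb := by rw [hax, eb]; norm_num
    hvc := by rw [hax, ec]; norm_num
    hvΛ1 := hΛ1v
    hvΛ2 := hΛ2v
    hv11 := by rw [hax, hz11]; norm_num
    hv44 := by rw [hax, hz44]; norm_num
    hv55 := by rw [hax, e55]; norm_num }⟩

end Cfsg.Agent.Helper20.M11
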