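-- helper20: a finite group with the commuting graph of a simple group of order 7920 is simple
-- of order 7920.
import Mathlib
import Cfsg.Agent.Helper17.SylowKit
import Cfsg.Agent.Helper17.CountOrder
import Cfsg.Agent.Helper20.U11.Basic
import Cfsg.Agent.Helper80.Ord7920N11

set_option autoImplicit false

namespace Cfsg.Agent.Helper20.CommGraph

open Cfsg Subgroup

universe u v

variable {H : Type u} {M : Type v} [Group H] [Group M]

open Classical in
/-- Extend a bijection of the non-identity elements to all elements. -/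
noncomputable def extEquiv (f : {h : H // h ≠ 1} ≃ {g : M // g ≠ 1}) : H ≃ M :=
  (Equiv.optionSubtypeNe 1).symm.trans ((Equiv.optionCongr f).trans (Equiv.optionSubtypeNe 1))

open Classical in
theorem extEquiv_one (f : {h : H // h ≠ 1} ≃ {g : M // g ≠ 1}) : extEquiv f 1 = 1 := by
  simp [extEquiv]

open Classical in
theorem extEquiv_of_ne (f : {h : H // h ≠ 1} ≃ {g : M // g ≠ 1}) {h : H} (hh : h ≠ 1) :
    extEquiv f h = (f ⟨h, hh⟩ : M) := by
  simp [extEquiv, Equiv.optionSubtypeNe_symm_of_ne hh]

theorem extEquiv_comm (f : {h : H // h ≠ 1} ≃ {g : M // g ≠ 1})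
    (hf : ∀ x y : {h : H // h ≠ 1}, (x : H) * y = y * x ↔ ((f x) : M) * (f y) = (f y) * (f x))
    (x y : H) : x * y = y * x ↔ extEquiv f x * extEquiv f y = extEquiv f y * extEquiv f x := by
  by_cases hx : x = 1
  · subst hx
    simp [extEquiv_one]
  by_cases hy : y = 1
  · subst hy
    simp [extEquiv_one]
  rw [extEquiv_of_ne f hx, extEquiv_of_ne f hy]
  exact hf ⟨x, hx⟩ ⟨y, hy⟩

theorem card_centralizer_eq (f : {h : H // h ≠ 1} ≃ {g : M // g ≠ 1})
    (hf : ∀ x y : {h : H // h ≠ 1}, (x : H) * y = y * x ↔ ((f x) : M) * (f y) = (f y) * (f x))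
    (x : H) : Nat.card (centralizer ({x} : Set H)) =
      Nat.card (centralizer ({extEquiv f x} : Set M)) := by
  refine Nat.card_congr (Equiv.subtypeEquiv (extEquiv f) (fun y => ?_))
  show y ∈ centralizer ({x} : Set H) ↔ extEquiv f y ∈ centralizer ({extEquiv f x} : Set M)
  rw [Subgroup.mem_centralizer_singleton_iff, Subgroup.mem_centralizer_singleton_iff]
  exact extEquiv_comm f hf y x

/-- The centralizer of a cyclic group is the centralizer of its generator. -/
theorem centralizer_zpowers (h : H) :
    centralizer ((zpowers h : Subgroup H) : Set H) = centralizer ({h} : Set H) := by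
  ext y
  rw [Subgroup.mem_centralizer_singleton_iff, Subgroup.mem_centralizer_iff]
  constructor
  · intro hy
    exact (hy h (Subgroup.mem_zpowers h)).symm
  · intro hy z hz
    obtain ⟨n, rfl⟩ := Subgroup.mem_zpowers_iff.mp hz
    have : Commute y h := hy
    exact (this.zpow_right n).eq.symm

/-- A finite group with the commuting graph of a simple group of order 7920 is itself simple of
order 7920. -/
theorem simple_of_commGraph [Finite H] [Finite M] [IsSimpleGroup M] (hM : Nat.card M = 7920)
    (f : {h : H // h ≠ 1} ≃ {g : M // g ≠ 1})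
    (hf : ∀ x y : {h : H // h ≠ 1}, (x : H) * y = y * x ↔ ((f x) : M) * (f y) = (f y) * (f x)) :
    IsSimpleGroup H ∧ Nat.card H = 7920 := by
  have : Fact (Nat.Prime 11) := ⟨by norm_num⟩
  have hH : Nat.card H = 7920 := (Nat.card_congr (extEquiv f)).trans hM
  -- an element of order 11 of `M`
  obtain ⟨g, hg⟩ := exists_prime_orderOf_dvd_card' (G := M) 11 (by rw [hM]; norm_num)
  have hCg : Nat.card (centralizer ({g} : Set M)) = 11 := by
    have heq : centralizer ({g} : Set M) = zpowers g := by
      apply le_antisymm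
      · intro y hy
        rw [Subgroup.mem_centralizer_singleton_iff] at hy
        exact Cfsg.Agent.Helper20.U11.mem_zpowers_of_commute11 hM hg hy
      · rw [Subgroup.zpowers_le, Subgroup.mem_centralizer_singleton_iff]
    rw [heq, Nat.card_zpowers, hg]
  -- the corresponding element of `H`
  set h := (extEquiv f).symm g with hh
  have hfh : extEquiv f h = g := (extEquiv f).apply_symm_apply g
  have hCh : Nat.card (centralizer ({h} : Set H)) = 11 := by
    rw [card_centralizer_eq f hf h, hfh, hCg]
  have hne : h ≠ 1 := by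
    intro h1
    rw [h1, extEquiv_one] at hfh
    rw [← hfh, orderOf_one] at hg
    norm_num at hg
  have ho : orderOf h = 11 := by
    have hmem : h ∈ centralizer ({h} : Set H) := by
      rw [Subgroup.mem_centralizer_singleton_iff]
    have hd := orderOf_dvd_natCard (⟨h, hmem⟩ : ↥(centralizer ({h} : Set H)))
    rw [Subgroup.orderOf_mk, hCh] at hd
    rcases (Nat.dvd_prime (by norm_num : Nat.Prime 11)).mp hd with h1 | h1
    · exact absurd (orderOf_eq_one_iff.mp h1) hne
    · exact h1
  -- Sylow 11-subgroups
  have hP : ∀ P : Sylow 11 H, Nat.card (P : Subgroup H) = 11 := by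
    intro P
    have := Cfsg.Agent.Helper17.card_sylow_subgroup_of_card_eq (p := 11) (k := 1) (m := 720)
      (by rw [hH]; norm_num) (by norm_num) P
    simpa using this
  obtain ⟨Q, hQ⟩ := Cfsg.Agent.Helper17.exists_sylow_eq_zpowers hP h ho
  have hCQ : Nat.card (centralizer ((Q : Subgroup H) : Set H)) = 11 := by
    rw [hQ, centralizer_zpowers, hCh]
  obtain ⟨hd, -⟩ := Cfsg.Agent.Helper17.relIndex_dvd_of_card_sylow_prime Q (hP Q)
  have h1 := Cfsg.Agent.Helper17.card_centralizer_mul_relIndex (Q : Subgroup H)
  have h2 := Cfsg.Agent.Helper17.card_normalizer_mul_card_sylow Q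
  have h3 := card_sylow_modEq_one 11 H
  rw [hCQ] at h1
  rw [← h1, hH] at h2
  set d := (centralizer ((Q : Subgroup H) : Set H)).relIndex
    (normalizer ((Q : Subgroup H) : Set H)) with hd'
  set n := Nat.card (Sylow 11 H) with hn
  have h144 : n = 144 := by
    have hd10 : d ∣ 10 := hd
    have hdle : d ≤ 10 := Nat.le_of_dvd (by norm_num) hd10
    have hmod : n % 11 = 1 := h3
    interval_cases d <;> omega
  exact ⟨Cfsg.Agent.Helper80.Ord7920N11.simple_of_card_sylow11 hH h144, hH⟩

end Cfsg.Agent.Helper20.CommGraph
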