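import Cfsg.Agent.Helper43.Cov2.P7Defs

/-!
# S2500 part 7, leaf (C) of helper24's sub-farm (#12447) of helper43's piece (A1)

`cubic_piece`: a self-adjoint matrix `ℓ ∈ M₆(F)` with irreducible cubic minimal polynomial spans a
self-adjoint cubic field `K = F[ℓ]`, centralised by every `g` commuting with `ℓ`.

`K` is realised as the range of the evaluation `F[X]/(minpoly ℓ) → M₆(F)`.
-/

set_option autoImplicit false

namespace Cfsg.Agent.Helper20.Cov2.P7

open Matrix Polynomial Cfsg.Agent.Helper43.Cov2.P7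

variable {F : Type*} [Field F]

/-- the evaluation homomorphism `F[X]/(minpoly ℓ) → M₆(F)` -/
noncomputable def evalHom (ℓ : M6 F) : AdjoinRoot (minpoly F ℓ) →ₐ[F] M6 F :=
  Ideal.Quotient.liftₐ (Ideal.span {minpoly F ℓ}) (Polynomial.aeval ℓ) (by
    intro a ha
    rw [Ideal.mem_span_singleton] at ha
    obtain ⟨c, rfl⟩ := ha
    rw [map_mul, minpoly.aeval, zero_mul])

theorem evalHom_mk (ℓ : M6 F) (f : F[X]) : evalHom ℓ (AdjoinRoot.mk _ f) = aeval ℓ f := rfl

/-- polynomials in a self-adjoint matrix are self-adjoint -/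
theorem aeval_selfAdjoint (ℓ : M6 F)
    (hsa : ∀ u v : V6 F, Cfsg.sympForm 3 F (ℓ *ᵥ u) v = Cfsg.sympForm 3 F u (ℓ *ᵥ v)) (p : F[X])
    (u v : V6 F) :
    Cfsg.sympForm 3 F (aeval ℓ p *ᵥ u) v = Cfsg.sympForm 3 F u (aeval ℓ p *ᵥ v) := by
  have hpow : ∀ n : ℕ, ∀ u v : V6 F,
      Cfsg.sympForm 3 F ((ℓ ^ n) *ᵥ u) v = Cfsg.sympForm 3 F u ((ℓ ^ n) *ᵥ v) := by
    intro n
    induction n with
    | zero => intro u v; simp
    | succ n ih =>
      intro u v
      have e1 : (ℓ ^ (n + 1)) *ᵥ u = (ℓ ^ n) *ᵥ (ℓ *ᵥ u) := by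
        rw [pow_succ, Matrix.mulVec_mulVec]
      have e2 : (ℓ ^ (n + 1)) *ᵥ v = ℓ *ᵥ ((ℓ ^ n) *ᵥ v) := by
        rw [pow_succ', Matrix.mulVec_mulVec]
      rw [e1, e2, ih, hsa]
  induction p using Polynomial.induction_on' generalizing u v with
  | add p q hp hq =>
    rw [map_add, Matrix.add_mulVec, Matrix.add_mulVec, Helper13.sympForm_add_left,
      Helper13.sympForm_add_right, hp, hq]
  | monomial n a =>
    rw [aeval_monomial, Algebra.algebraMap_eq_smul_one, smul_mul_assoc, one_mul,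
      Matrix.smul_mulVec, Matrix.smul_mulVec, Helper13.sympForm_smul_left,
      Helper13.sympForm_smul_right, hpow]

/-- polynomials in `ℓ` commute with everything commuting with `ℓ` -/
theorem mul_aeval_comm_aux (ℓ g : M6 F) (hcomm : g * ℓ = ℓ * g) (p : F[X]) :
    g * aeval ℓ p = aeval ℓ p * g := by
  induction p using Polynomial.induction_on' with
  | add p q hp hq => rw [map_add, mul_add, add_mul, hp, hq]
  | monomial n a =>
    have h1 : Commute g (ℓ ^ n) := Commute.pow_right hcomm n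
    rw [aeval_monomial, Algebra.algebraMap_eq_smul_one, smul_mul_assoc, one_mul, mul_smul_comm,
      smul_mul_assoc, h1.eq]

/-- (C) an irreducible cubic minimal polynomial gives a self-adjoint cubic field normalised
(centralised) by `g`. -/
theorem cubic_piece (ℓ g : M6 F) (hirr : Irreducible (minpoly F ℓ)) (hdeg : (minpoly F ℓ).natDegree = 3)
    (hsa : ∀ u v : V6 F, Cfsg.sympForm 3 F (ℓ *ᵥ u) v = Cfsg.sympForm 3 F u (ℓ *ᵥ v))
    (hcomm : g * ℓ = ℓ * g) : NormCubic g := by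
  have : Fact (Irreducible (minpoly F ℓ)) := ⟨hirr⟩
  have hμ0 : minpoly F ℓ ≠ 0 := hirr.ne_zero
  set φ := evalHom ℓ with hφ
  have hinj : Function.Injective φ := (φ : AdjoinRoot (minpoly F ℓ) →+* M6 F).injective
  refine ⟨φ.range, ⟨⟨?_, ?_, ?_⟩, ?_⟩, ?_⟩
  · -- commutative
    intro x hx y hy
    obtain ⟨a, rfl⟩ := (AlgHom.mem_range φ).1 hx
    obtain ⟨b, rfl⟩ := (AlgHom.mem_range φ).1 hy
    rw [← map_mul, ← map_mul, mul_comm]
  · -- inverses
    intro x hxK hx
    obtain ⟨a, rfl⟩ := (AlgHom.mem_range φ).1 hxK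
    have ha : a ≠ 0 := by
      rintro rfl
      exact hx (map_zero _)
    refine ⟨φ a⁻¹, (AlgHom.mem_range φ).2 ⟨a⁻¹, rfl⟩, ?_⟩
    rw [← map_mul, mul_inv_cancel₀ ha, map_one]
  · -- dimension
    have e := (AlgEquiv.ofInjective φ hinj).toLinearEquiv.finrank_eq
    rw [← e, (AdjoinRoot.powerBasis hμ0).finrank, AdjoinRoot.powerBasis_dim, hdeg]
  · -- self-adjoint
    intro k hk u v
    obtain ⟨a, rfl⟩ := (AlgHom.mem_range φ).1 hk
    induction a using AdjoinRoot.induction_on with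
    | ih p =>
      rw [hφ, evalHom_mk]
      exact aeval_selfAdjoint ℓ hsa p u v
  · -- normalised
    intro k hk
    obtain ⟨a, rfl⟩ := (AlgHom.mem_range φ).1 hk
    refine ⟨φ a, (AlgHom.mem_range φ).2 ⟨a, rfl⟩, ?_⟩
    induction a using AdjoinRoot.induction_on with
    | ih p =>
      rw [hφ, evalHom_mk]
      exact mul_aeval_comm_aux ℓ g hcomm p

end Cfsg.Agent.Helper20.Cov2.P7
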