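import Cfsg.Agent.Helper43.Cov2.P7Defs

/-!
# S2500 part 7, leaf (Q1a) of helper43's sub-farm #12613

`fixesPlane_of_ker`: a vector `x` of `ker (u - 1)` with `B(x, s x) ≠ 0` spans with `s x` a
non-degenerate plane invariant under `s u`.
-/

set_option autoImplicit false

namespace Cfsg.Agent.Helper20.Cov2.P7

open Matrix Cfsg.Agent.Helper43.Cov2.P7

variable {F : Type*} [Field F]

/-- (Q1a) a vector of `ker N` with `B(x, s x) ≠ 0` spans with `s x` an invariant non-degenerate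
plane. -/
theorem fixesPlane_of_ker (s u : Sp6 F) (hcomm : Commute s u) (γ : F)
    (hs : (s : M6 F) * (s : M6 F) - γ • (s : M6 F) + 1 = 0) (x : V6 F)
    (hx : ((u : M6 F) - 1) *ᵥ x = 0)
    (hB : Cfsg.sympForm 3 F x ((s : M6 F) *ᵥ x) ≠ 0) :
    FixesPlane ((s * u : Sp6 F) : M6 F) := by
  have hux : (u : M6 F) *ᵥ x = x := by
    rw [Matrix.sub_mulVec, Matrix.one_mulVec] at hx
    exact sub_eq_zero.1 hx
  have hSU : (s : M6 F) * (u : M6 F) = (u : M6 F) * (s : M6 F) := by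
    rw [← coe_mul_Sp6, ← coe_mul_Sp6, hcomm.eq]
  have hSS : (s : M6 F) * (s : M6 F) = γ • (s : M6 F) - 1 := by
    have h1 : (s : M6 F) * (s : M6 F) - (γ • (s : M6 F) - 1) = 0 := by
      rw [← hs]; abel
    exact sub_eq_zero.1 h1
  refine ⟨x, (s : M6 F) *ᵥ x, hB, ⟨0, 1, ?_⟩, ⟨-1, γ, ?_⟩⟩
  · rw [coe_mul_Sp6, ← Matrix.mulVec_mulVec, hux, zero_smul, one_smul, zero_add]
  · rw [coe_mul_Sp6, Matrix.mulVec_mulVec, mul_assoc, ← hSU, ← mul_assoc, hSS,
      ← Matrix.mulVec_mulVec, hux, Matrix.sub_mulVec, Matrix.smul_mulVec, Matrix.one_mulVec,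
      neg_smul, one_smul]
    abel

end Cfsg.Agent.Helper20.Cov2.P7
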