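import Cfsg.Agent.Helper43.Cov2.P7Defs
import Cfsg.Agent.Helper97.Cov2P7U4
import Cfsg.Agent.Helper13.SympTrans

/-!
# S2500 part 7, leaf (Q1b) of helper43's sub-farm #12613

`ker_le_range`: if `B(x, s x) = 0` on `ker N` (`N = u - 1`, `s² - γ s + 1 = 0`, `γ² ≠ 4`, `s`, `u`
commuting elements of `Sp₆`) then `ker N ⊆ Im N`.

`ker N` is totally isotropic (polarisation of `x ↦ B(x, s x)` and `s`-invariance of `ker N`), and
`Im N = (ker N)^⊥` (inclusion + dimension count).
-/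

set_option autoImplicit false

namespace Cfsg.Agent.Helper20.Cov2.P7

open Matrix Cfsg.Agent.Helper43.Cov2.P7 Cfsg.Agent.Helper13
open Cfsg.Agent.Helper97.Cov2.P7 (sympBilin sympBilin_apply sympBilin_isRefl sp_preserves)

variable {F : Type*} [Field F]

theorem sympBilin_nondegenerate : (sympBilin F).Nondegenerate := by
  constructor
  · intro x hx
    by_contra hx0
    obtain ⟨w, hw⟩ := sympForm_nondeg_left (m := 3) hx0
    apply hw
    have := hx w
    rw [sympBilin_apply] at this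
    rw [sympForm_swap, this, neg_zero]
  · intro y hy
    by_contra hy0
    obtain ⟨w, hw⟩ := sympForm_nondeg_left (m := 3) hy0
    exact hw (hy w)

/-- (Q1b) if `B(x, s x) = 0` on `ker N` then `ker N ⊆ Im N`. -/
theorem ker_le_range (h2 : (2 : F) ≠ 0) (s u : Sp6 F) (hcomm : Commute s u) (γ : F)
    (hγ : γ ^ 2 ≠ 4) (hs : (s : M6 F) * (s : M6 F) - γ • (s : M6 F) + 1 = 0)
    (hno : ∀ x : V6 F, ((u : M6 F) - 1) *ᵥ x = 0 → Cfsg.sympForm 3 F x ((s : M6 F) *ᵥ x) = 0) :
    ∀ x : V6 F, ((u : M6 F) - 1) *ᵥ x = 0 → ∃ z : V6 F, x = ((u : M6 F) - 1) *ᵥ z := by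
  set S : M6 F := (s : M6 F) with hS
  set U : M6 F := (u : M6 F) with hU
  have hSU : S * U = U * S := by
    rw [hS, hU, ← coe_mul_Sp6, ← coe_mul_Sp6, hcomm.eq]
  have hSSm : S * S = γ • S - 1 := by
    have h1 : S * S - (γ • S - 1) = 0 := by
      rw [← hs]; abel
    exact sub_eq_zero.1 h1
  have hSS : ∀ y : V6 F, S *ᵥ (S *ᵥ y) = γ • (S *ᵥ y) - y := by
    intro y
    rw [Matrix.mulVec_mulVec, hSSm, Matrix.sub_mulVec, Matrix.smul_mulVec, Matrix.one_mulVec]
  have hux : ∀ x : V6 F, (U - 1) *ᵥ x = 0 → U *ᵥ x = x := by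
    intro x hx
    rw [Matrix.sub_mulVec, Matrix.one_mulVec] at hx
    exact sub_eq_zero.1 hx
  -- the adjoint of `s`
  have hadj : ∀ x y : V6 F, Cfsg.sympForm 3 F (S *ᵥ x) y
      = γ * Cfsg.sympForm 3 F x y - Cfsg.sympForm 3 F x (S *ᵥ y) := by
    intro x y
    have e : y = S *ᵥ (γ • y - S *ᵥ y) := by
      rw [Matrix.mulVec_sub, Matrix.mulVec_smul, hSS]
      abel
    calc Cfsg.sympForm 3 F (S *ᵥ x) y
        = Cfsg.sympForm 3 F (S *ᵥ x) (S *ᵥ (γ • y - S *ᵥ y)) := by rw [← e]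
      _ = Cfsg.sympForm 3 F x (γ • y - S *ᵥ y) := sp_preserves s _ _
      _ = γ * Cfsg.sympForm 3 F x y - Cfsg.sympForm 3 F x (S *ᵥ y) := by
          rw [sympForm_sub_right, sympForm_smul_right]
  -- `ker N` is `s`-invariant
  have hKS : ∀ y : V6 F, (U - 1) *ᵥ y = 0 → (U - 1) *ᵥ (S *ᵥ y) = 0 := by
    intro y hy
    rw [Matrix.mulVec_mulVec, sub_mul, one_mul, ← hSU, Matrix.sub_mulVec, ← Matrix.mulVec_mulVec,
      hux y hy, sub_self]
  have hKadd : ∀ x y : V6 F, (U - 1) *ᵥ x = 0 → (U - 1) *ᵥ y = 0 → (U - 1) *ᵥ (x + y) = 0 := by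
    intro x y hx hy
    rw [Matrix.mulVec_add, hx, hy, add_zero]
  -- polarisation
  have hT : ∀ x y : V6 F, (U - 1) *ᵥ x = 0 → (U - 1) *ᵥ y = 0 →
      2 * Cfsg.sympForm 3 F x (S *ᵥ y) = γ * Cfsg.sympForm 3 F x y := by
    intro x y hx hy
    have a1 := hno x hx
    have a2 := hno y hy
    have a3 := hno (x + y) (hKadd x y hx hy)
    rw [Matrix.mulVec_add, sympForm_add_left, sympForm_add_right, sympForm_add_right, a1, a2] at a3
    have a4 : Cfsg.sympForm 3 F y (S *ᵥ x) = - Cfsg.sympForm 3 F (S *ᵥ x) y := sympForm_swap _ _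
    rw [hadj] at a4
    linear_combination a3 - a4
  -- `ker N` is totally isotropic
  have hiso : ∀ x y : V6 F, (U - 1) *ᵥ x = 0 → (U - 1) *ᵥ y = 0 → Cfsg.sympForm 3 F x y = 0 := by
    intro x y hx hy
    have b1 := hT x y hx hy
    have b2 := hT x (S *ᵥ y) hx (hKS y hy)
    rw [hSS, sympForm_sub_right, sympForm_smul_right] at b2
    have b3 : (γ ^ 2 - 4) * Cfsg.sympForm 3 F x y = 0 := by
      linear_combination (-γ) * b1 + (2 : F) * b2
    rcases mul_eq_zero.1 b3 with h | h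
    · exact absurd (sub_eq_zero.1 h) hγ
    · exact h
  -- dimension count: `Im N = (ker N)^⊥`
  set Nl : V6 F →ₗ[F] V6 F := Matrix.mulVecLin (U - 1) with hNl
  have hNl_apply : ∀ z : V6 F, Nl z = (U - 1) *ᵥ z := fun z => rfl
  have hle : LinearMap.range Nl ≤ (sympBilin F).orthogonal (LinearMap.ker Nl) := by
    rintro w ⟨z, rfl⟩
    rw [LinearMap.BilinForm.mem_orthogonal_iff]
    intro x hx
    have hx' : (U - 1) *ᵥ x = 0 := hx
    show Cfsg.sympForm 3 F x ((U - 1) *ᵥ z) = 0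
    rw [Matrix.sub_mulVec, Matrix.one_mulVec, sympForm_sub_right]
    have h1 : Cfsg.sympForm 3 F x (U *ᵥ z) = Cfsg.sympForm 3 F x z := by
      have := sp_preserves u x z
      rw [← hU, hux x hx'] at this
      exact this
    rw [h1, sub_self]
  have hfin : Module.finrank F (V6 F) = 6 := by
    rw [Module.finrank_fintype_fun_eq_card, Fintype.card_sum, Fintype.card_fin]
  have hdim : Module.finrank F (LinearMap.range Nl)
      = Module.finrank F ((sympBilin F).orthogonal (LinearMap.ker Nl)) := by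
    rw [LinearMap.BilinForm.finrank_orthogonal sympBilin_nondegenerate]
    have := LinearMap.finrank_range_add_finrank_ker Nl
    omega
  have heq : LinearMap.range Nl = (sympBilin F).orthogonal (LinearMap.ker Nl) :=
    Submodule.eq_of_le_of_finrank_eq hle hdim
  intro x hx
  have hxmem : x ∈ (sympBilin F).orthogonal (LinearMap.ker Nl) := by
    rw [LinearMap.BilinForm.mem_orthogonal_iff]
    intro y hy
    exact hiso y x hy hx
  rw [← heq] at hxmem
  obtain ⟨z, hz⟩ := hxmem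
  exact ⟨z, hz.symm⟩

end Cfsg.Agent.Helper20.Cov2.P7
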