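import Cfsg.Agent.Helper43.Cov2.P8Defs
import Cfsg.Agent.Helper43.G2Vec

/-!
# S2500 part 8, piece (8D) for helper43 (#11867)

`into_H0`: every element of trace `1` of the Zorn algebra can be moved into the quaternion
subalgebra `H₀` by an element of `G₂(F)` (`F` finite of characteristic `2`, `|F| ≥ 4`).  The pieces
(8C) `exists_sl3` and (8D1) `sl3_normal` are taken as explicit hypotheses.
-/

set_option autoImplicit false

namespace Cfsg.Agent.Helper20.Cov2.P8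

open Matrix Cfsg.Lie Cfsg.Agent.Helper43.G2S Cfsg.Agent.Helper43.Cov2.P8

variable {F : Type*} [Field F]

theorem dot_adj_aux (A : Matrix (Fin 3) (Fin 3) F) (a b : Fin 3 → F) :
    (A *ᵥ a) ⬝ᵥ (A.adjugateᵀ *ᵥ b) = A.det * (a ⬝ᵥ b) := by
  rw [Matrix.dotProduct_mulVec, Matrix.vecMul_transpose, Matrix.mulVec_mulVec,
    Matrix.adjugate_mul, Matrix.smul_mulVec, Matrix.one_mulVec, smul_dotProduct, smul_eq_mul]

theorem exists_ne_zero_one_aux [Fintype F] (hq : 4 ≤ Fintype.card F) : ∃ t : F, t ≠ 0 ∧ t ≠ 1 := by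
  classical
  by_contra h
  push Not at h
  have hsub : (Finset.univ : Finset F) ⊆ {0, 1} := by
    intro t _
    by_cases h0 : t = 0
    · simp [h0]
    · simp [h t h0]
  have h1 := Finset.card_le_card hsub
  have h2 : ({0, 1} : Finset F).card ≤ 2 := Finset.card_le_two
  rw [Finset.card_univ] at h1
  omega

/-- (8D) every element of trace 1 can be moved into the quaternion subalgebra `H₀`
((8C), (8D1) as hypotheses). -/
theorem into_H0 [Fintype F] [CharP F 2]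
    (H8C : ∀ A : Matrix (Fin 3) (Fin 3) F, A.det = 1 →
      ∃ g : G2 F, ∀ x : Fin 8 → F, act g x =
        ![x 0, (A *ᵥ ![x 1, x 2, x 3]) 0, (A *ᵥ ![x 1, x 2, x 3]) 1, (A *ᵥ ![x 1, x 2, x 3]) 2,
          (A.adjugateᵀ *ᵥ ![x 4, x 5, x 6]) 0, (A.adjugateᵀ *ᵥ ![x 4, x 5, x 6]) 1,
          (A.adjugateᵀ *ᵥ ![x 4, x 5, x 6]) 2, x 7])
    (H8D1 : ∀ a b : Fin 3 → F, ∃ A : Matrix (Fin 3) (Fin 3) F, A.det = 1 ∧
      (((A *ᵥ a) 1 = 0 ∧ (A *ᵥ a) 2 = 0 ∧ (A.adjugateᵀ *ᵥ b) 1 = 0 ∧ (A.adjugateᵀ *ᵥ b) 2 = 0) ∨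
        (A *ᵥ a = ![1, 0, 0] ∧ A.adjugateᵀ *ᵥ b = ![0, 1, 0])))
    (hq : 4 ≤ Fintype.card F) (e : Fin 8 → F) (he : tr8 e = 1) :
    ∃ g : G2 F, ∃ h : Matrix (Fin 2) (Fin 2) F, act g e = vecH h := by
  classical
  have h2 : (2 : F) = 0 := by exact_mod_cast CharP.cast_eq_zero F 2
  have first : ∀ (x : Fin 8 → F) (A : Matrix (Fin 3) (Fin 3) F), A.det = 1 →
      (A *ᵥ ![x 1, x 2, x 3]) 1 = 0 → (A *ᵥ ![x 1, x 2, x 3]) 2 = 0 →
      (A.adjugateᵀ *ᵥ ![x 4, x 5, x 6]) 1 = 0 → (A.adjugateᵀ *ᵥ ![x 4, x 5, x 6]) 2 = 0 →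
      ∃ g : G2 F, ∃ h : Matrix (Fin 2) (Fin 2) F, act g x = vecH h := by
    intro x A hA k1 k2 k3 k4
    obtain ⟨g, hg⟩ := H8C A hA
    refine ⟨g, !![x 0, (A *ᵥ ![x 1, x 2, x 3]) 0; (A.adjugateᵀ *ᵥ ![x 4, x 5, x 6]) 0, x 7], ?_⟩
    rw [hg x, k1, k2, k3, k4]
    simp [vecH]
  obtain ⟨A, hA, hcase⟩ := H8D1 ![e 1, e 2, e 3] ![e 4, e 5, e 6]
  rcases hcase with ⟨k1, k2, k3, k4⟩ | ⟨ha, hb⟩
  · exact first e A hA k1 k2 k3 k4
  · obtain ⟨g₁, hg₁⟩ := H8C A hA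
    have hx : act g₁ e = ![e 0, 1, 0, 0, 0, 1, 0, e 7] := by
      rw [hg₁ e, ha, hb]
      simp
    obtain ⟨t, ht0, ht1⟩ := exists_ne_zero_one_aux hq
    let p : SL2 F := ⟨!![1, 0; t, 1], by simp [Matrix.det_fin_two]⟩
    have hx' : act (psi p) (act g₁ e) =
        ![e 0 - t, 1, 0, t, t * e 0 - (t + e 7) * t, 1, 0, t + e 7] := by
      rw [hx]
      unfold act
      rw [coe_psi, PsiM_mulVec]
      simp [p]
    set x' := act (psi p) (act g₁ e) with hx'def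
    obtain ⟨A', hA', hcase'⟩ := H8D1 ![x' 1, x' 2, x' 3] ![x' 4, x' 5, x' 6]
    rcases hcase' with ⟨k1, k2, k3, k4⟩ | ⟨ka, kb⟩
    · obtain ⟨g₂, h, hg₂⟩ := first x' A' hA' k1 k2 k3 k4
      refine ⟨g₂ * psi p * g₁, h, ?_⟩
      rw [act_mul, act_mul]
      exact hg₂
    · exfalso
      have hdot := dot_adj_aux A' ![x' 1, x' 2, x' 3] ![x' 4, x' 5, x' 6]
      rw [ka, kb, hA', one_mul, hx'] at hdot
      simp [dotProduct, Fin.sum_univ_three] at hdot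
      have he' : e 0 + e 7 = 1 := he
      have h3 : t * (1 - t) = 0 := by
        linear_combination (-1 : F) * hdot + (-t) * he' + (t * e 7) * h2
      rcases mul_eq_zero.1 h3 with h4 | h4
      · exact ht0 h4
      · exact ht1 (sub_eq_zero.1 h4).symm

end Cfsg.Agent.Helper20.Cov2.P8
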