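-- helper20: the arithmetic endgame for groups with an involution whose centralizer is dihedral of
-- order eight, allowing linear characters that come in pairs.
import Cfsg.Agent.Helper20.D8Arith

set_option autoImplicit false

namespace Cfsg.Agent.Helper20.D8

/-- the finite check -/
theorem arith_finite' (N w₁ w₂ w₃ d₁ d₂ d₃ A₁ A₂ A₃ f₁ f₂ f₃ : ℤ)
    (hw₁ : w₁ = 1 ∨ w₁ = -1) (hw₂ : w₂ = 1 ∨ w₂ = -1) (hw₃ : w₃ = 1 ∨ w₃ = -1)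
    (hf₁ : f₁ = 1 ∨ f₁ = 3) (hf₂ : f₂ = 1 ∨ f₂ = 3) (hf₃ : f₃ = 1 ∨ f₃ = 3)
    (hA₁ : 0 ≤ A₁ ∧ A₁ ≤ 2) (hA₂ : 0 ≤ A₂ ∧ A₂ ≤ 2) (hA₃ : 0 ≤ A₃ ∧ A₃ ≤ 2)
    (hd₁ : d₁ = f₁ * w₁ + 8 * A₁) (hd₂ : d₂ = f₂ * w₂ + 8 * A₂) (hd₃ : d₃ = f₃ * w₃ + 8 * A₃)
    (hp₁ : 0 < d₁) (hp₂ : 0 < d₂) (hp₃ : 0 < d₃)
    (hne₁ : d₁ = 1 → d₂ = 1 ∨ d₃ = 1) (hne₂ : d₂ = 1 → d₁ = 1 ∨ d₃ = 1)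
    (hne₃ : d₃ = 1 → d₁ = 1 ∨ d₂ = 1)
    (hcount : f₁ + f₂ + f₃ = 7)
    (hR1 : 1 + w₁ * d₁ + w₂ * d₂ + w₃ * d₃ = 0)
    (hQ : N * (d₁ * d₂ * d₃ + w₁ * d₂ * d₃ + w₂ * d₁ * d₃ + w₃ * d₁ * d₂) = 256 * (d₁ * d₂ * d₃))
    (hsize : 1 + d₁ ^ 2 + d₂ ^ 2 + d₃ ^ 2 ≤ N) : N = 168 ∨ N = 360 := by
  obtain ⟨hA₁l, hA₁u⟩ := hA₁
  obtain ⟨hA₂l, hA₂u⟩ := hA₂
  obtain ⟨hA₃l, hA₃u⟩ := hA₃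
  rcases hw₁ with rfl | rfl <;> rcases hw₂ with rfl | rfl <;> rcases hw₃ with rfl | rfl <;>
  rcases hf₁ with rfl | rfl <;> rcases hf₂ with rfl | rfl <;> rcases hf₃ with rfl | rfl <;>
  first
  | (exfalso; omega)
  | (interval_cases A₁ <;> interval_cases A₂ <;> interval_cases A₃ <;>
      norm_num at hd₁ hd₂ hd₃ <;> subst hd₁ hd₂ hd₃ <;> omega)


/-- **The arithmetic endgame.** -/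
theorem d8_arith' (N w₁ w₂ w₃ d₁ d₂ d₃ m₁ m₂ m₃ A₁ A₂ A₃ τ₁ τ₂ τ₃ : ℤ)
    (hw₁ : w₁ = 1 ∨ w₁ = -1) (hw₂ : w₂ = 1 ∨ w₂ = -1) (hw₃ : w₃ = 1 ∨ w₃ = -1)
    (hA₁ : 0 ≤ A₁) (hA₂ : 0 ≤ A₂) (hA₃ : 0 ≤ A₃)
    (hp₁ : 0 < d₁) (hp₂ : 0 < d₂) (hp₃ : 0 < d₃)
    (hτ₁ : τ₁ = d₁ - 4 * m₁) (hτ₂ : τ₂ = d₂ - 4 * m₂) (hτ₃ : τ₃ = d₃ - 4 * m₃)
    (hc₁ : w₁ = d₁ - 2 * m₁ - 4 * A₁) (hc₂ : w₂ = d₂ - 2 * m₂ - 4 * A₂)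
    (hc₃ : w₃ = d₃ - 2 * m₃ - 4 * A₃)
    (hne₁ : d₁ = 1 → d₂ = 1 ∨ d₃ = 1) (hne₂ : d₂ = 1 → d₁ = 1 ∨ d₃ = 1)
    (hne₃ : d₃ = 1 → d₁ = 1 ∨ d₂ = 1)
    (hR1 : 1 + w₁ * d₁ + w₂ * d₂ + w₃ * d₃ = 0)
    (hR2 : 1 + w₁ * τ₁ + w₂ * τ₂ + w₃ * τ₃ = 0)
    (hR3 : N * (d₁ * d₂ * d₃ + w₁ * τ₁ ^ 2 * d₂ * d₃ + w₂ * τ₂ ^ 2 * d₁ * d₃ +
      w₃ * τ₃ ^ 2 * d₁ * d₂) = 256 * (d₁ * d₂ * d₃))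
    (hB4 : τ₁ ^ 2 + τ₂ ^ 2 + τ₃ ^ 2 ≤ 7)
    (hsize : 1 + d₁ ^ 2 + d₂ ^ 2 + d₃ ^ 2 ≤ N) : N = 168 ∨ N = 360 := by
  have ht₁ := arith_tau w₁ d₁ m₁ A₁ τ₁ hw₁ hτ₁ hc₁ (by nlinarith [sq_nonneg τ₂, sq_nonneg τ₃])
  have ht₂ := arith_tau w₂ d₂ m₂ A₂ τ₂ hw₂ hτ₂ hc₂ (by nlinarith [sq_nonneg τ₁, sq_nonneg τ₃])
  have ht₃ := arith_tau w₃ d₃ m₃ A₃ τ₃ hw₃ hτ₃ hc₃ (by nlinarith [sq_nonneg τ₁, sq_nonneg τ₂])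
  obtain ⟨f₁, hf₁, hd₁, hs₁⟩ := arith_form w₁ d₁ m₁ A₁ τ₁ hw₁ hτ₁ hc₁ ht₁
  obtain ⟨f₂, hf₂, hd₂, hs₂⟩ := arith_form w₂ d₂ m₂ A₂ τ₂ hw₂ hτ₂ hc₂ ht₂
  obtain ⟨f₃, hf₃, hd₃, hs₃⟩ := arith_form w₃ d₃ m₃ A₃ τ₃ hw₃ hτ₃ hc₃ ht₃
  have hcount : f₁ + f₂ + f₃ = 7 := by linarith
  have hsq₁ : τ₁ ^ 2 = 1 := by rcases ht₁ with h | h <;> rw [h] <;> norm_num
  have hsq₂ : τ₂ ^ 2 = 1 := by rcases ht₂ with h | h <;> rw [h] <;> norm_num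
  have hsq₃ : τ₃ ^ 2 = 1 := by rcases ht₃ with h | h <;> rw [h] <;> norm_num
  have hQ : N * (d₁ * d₂ * d₃ + w₁ * d₂ * d₃ + w₂ * d₁ * d₃ + w₃ * d₁ * d₂) =
      256 * (d₁ * d₂ * d₃) := by
    rw [hsq₁, hsq₂, hsq₃] at hR3
    linarith
  have h5₁ : w₁ = -1 → 5 ≤ d₁ := by
    intro h; rcases hf₁ with rfl | rfl <;> omega
  have h5₂ : w₂ = -1 → 5 ≤ d₂ := by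
    intro h; rcases hf₂ with rfl | rfl <;> omega
  have h5₃ : w₃ = -1 → 5 ≤ d₃ := by
    intro h; rcases hf₃ with rfl | rfl <;> omega
  have hN : 0 < N := by nlinarith [sq_nonneg d₁, sq_nonneg d₂, sq_nonneg d₃]
  have hNb := arith_bound N w₁ w₂ w₃ d₁ d₂ d₃ hw₁ hw₂ hw₃ hp₁ hp₂ hp₃ h5₁ h5₂ h5₃ hR1 hN hQ
  have hb₁ : d₁ ≤ 20 := by nlinarith [sq_nonneg d₂, sq_nonneg d₃]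
  have hb₂ : d₂ ≤ 20 := by nlinarith [sq_nonneg d₁, sq_nonneg d₃]
  have hb₃ : d₃ ≤ 20 := by nlinarith [sq_nonneg d₁, sq_nonneg d₂]
  have hA₁u : A₁ ≤ 2 := by
    rcases hw₁ with rfl | rfl <;> rcases hf₁ with rfl | rfl <;> omega
  have hA₂u : A₂ ≤ 2 := by
    rcases hw₂ with rfl | rfl <;> rcases hf₂ with rfl | rfl <;> omega
  have hA₃u : A₃ ≤ 2 := by
    rcases hw₃ with rfl | rfl <;> rcases hf₃ with rfl | rfl <;> omega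
  exact arith_finite' N w₁ w₂ w₃ d₁ d₂ d₃ A₁ A₂ A₃ f₁ f₂ f₃ hw₁ hw₂ hw₃ hf₁ hf₂ hf₃
    ⟨hA₁, hA₁u⟩ ⟨hA₂, hA₂u⟩ ⟨hA₃, hA₃u⟩ hd₁ hd₂ hd₃ hp₁ hp₂ hp₃ hne₁ hne₂ hne₃ hcount hR1 hQ hsize

end Cfsg.Agent.Helper20.D8
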