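import Mathlib
import Cfsg.Prelude.Def_Blocks
import Cfsg.Agent.Helper74.CharBasic
import Cfsg.Agent.Helper76.CharBasic
import Cfsg.Agent.Helper79.CharComplete

/-!
# Piece (C1) for S3716: a character value at a real element of order dividing 6 is a rational integer
-/

set_option autoImplicit false

namespace Cfsg.Agent.Helper20.D8

open Cfsg
open scoped ComplexConjugate

universe u

/-- a primitive cube root of unity -/
noncomputable def om : ℂ := ⟨-1 / 2, Real.sqrt 3 / 2⟩

theorem om_rel : om ^ 2 + om + 1 = 0 := by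
  have h3 : Real.sqrt 3 * Real.sqrt 3 = 3 := Real.mul_self_sqrt (by norm_num)
  apply Complex.ext
  · simp only [om, pow_two, Complex.add_re, Complex.mul_re, Complex.one_re, Complex.zero_re]
    nlinarith
  · simp only [om, pow_two, Complex.add_im, Complex.mul_im, Complex.one_im, Complex.zero_im]
    ring

theorem om_im_ne : om.im ≠ 0 := by
  have h : (0 : ℝ) < Real.sqrt 3 := Real.sqrt_pos.mpr (by norm_num)
  simp only [om]
  positivity

theorem cube_root_form (μ : ℂ) (h : μ ^ 3 = 1) : ∃ a b : ℤ, μ = a + b * om := by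
  have h1 : (μ - 1) * (μ ^ 2 + μ + 1) = 0 := by linear_combination h
  rcases mul_eq_zero.mp h1 with h | h
  · exact ⟨1, 0, by rw [sub_eq_zero.mp h]; simp⟩
  · have h2 : (μ - om) * (μ + 1 + om) = 0 := by linear_combination h - om_rel
    rcases mul_eq_zero.mp h2 with h | h
    · exact ⟨0, 1, by rw [sub_eq_zero.mp h]; simp⟩
    · exact ⟨-1, -1, by push_cast; linear_combination h⟩

theorem six_root_form (μ : ℂ) (h : μ ^ 6 = 1) : ∃ a b : ℤ, μ = a + b * om := by
  have h1 : (μ ^ 3 - 1) * (μ ^ 3 + 1) = 0 := by linear_combination h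
  rcases mul_eq_zero.mp h1 with h | h
  · exact cube_root_form μ (sub_eq_zero.mp h)
  · obtain ⟨a, b, hab⟩ := cube_root_form (-μ) (by linear_combination -h)
    exact ⟨-a, -b, by push_cast; linear_combination -hab⟩

theorem sum_form (s : Multiset ℂ) (hs : ∀ μ ∈ s, ∃ a b : ℤ, μ = a + b * om) :
    ∃ a b : ℤ, s.sum = a + b * om := by
  induction s using Multiset.induction_on with
  | empty => exact ⟨0, 0, by simp⟩
  | cons x s ih =>
    obtain ⟨a, b, hab⟩ := hs x (Multiset.mem_cons_self x s)
    obtain ⟨c, d, hcd⟩ := ih (fun μ hμ => hs μ (Multiset.mem_cons_of_mem hμ))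
    exact ⟨a + c, b + d, by rw [Multiset.sum_cons, hab, hcd]; push_cast; ring⟩

variable {G : Type u} [Group G] [Finite G]

/-- (C1) integrality at a real element of order dividing 6, and at an involution. -/
theorem irr_real_six_int (χ : G → ℂ) (hχ : IsCharacter G χ) (u : G) (hu : u ^ 6 = 1)
    (hc : IsConj u u⁻¹) : ∃ m : ℤ, χ u = (m : ℂ) := by
  have hreal : conj (χ u) = χ u := by
    rw [← Cfsg.Agent.Helper74.char_inv hχ u]
    exact ((Cfsg.Agent.Helper79.isClassFunction_iff_isConj.1
      (Cfsg.Agent.Helper79.isClassFunction_of_isCharacter hχ)) u u⁻¹ hc).symm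
  obtain ⟨n, ρ, rfl⟩ := hχ
  obtain ⟨a, b, hab⟩ := sum_form (LinearMap.charpoly (ρ u)).roots
    (fun μ hμ => six_root_form μ (Cfsg.Agent.Helper76.root_charpoly_pow_eq_one ρ u 6 hu μ hμ))
  rw [← Cfsg.Agent.Helper76.character_eq_sum_roots] at hab
  have him : (ρ.character u).im = 0 := by
    have := congrArg Complex.im hreal
    rw [Complex.conj_im] at this
    linarith
  rw [hab] at him
  have hb : (b : ℝ) * om.im = 0 := by
    simpa using him
  have hb0 : b = 0 := by
    rcases mul_eq_zero.mp hb with h | h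
    · exact_mod_cast h
    · exact absurd h om_im_ne
  refine ⟨a, ?_⟩
  rw [hab, hb0]
  simp

end Cfsg.Agent.Helper20.D8
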