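import Mathlib
import Cfsg.Prelude.Def_Blocks
import Cfsg.Agent.Helper80.CharLevel
import Cfsg.Agent.Helper89.TwoPH

/-!
# Piece (C3) for S3716: `χ(u)² ≡ χ(u²) mod 2` for rational integral character values
-/

set_option autoImplicit false

namespace Cfsg.Agent.Helper20.D8

open Cfsg

universe u

/-- an algebraic integer of the form `m / 2` with `m ∈ ℤ` has `m` even -/
theorem two_dvd_of_isIntegral_half (m : ℤ) (h : IsIntegral ℤ ((m : ℂ) / 2)) : (2 : ℤ) ∣ m := by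
  have h1 : ((m : ℂ) / 2) = algebraMap ℚ ℂ ((m : ℚ) / 2) := by simp
  rw [h1, isIntegral_algebraMap_iff (algebraMap ℚ ℂ).injective] at h
  obtain ⟨k, hk⟩ := IsIntegrallyClosed.algebraMap_eq_of_integral h
  have h2 : (m : ℚ) = 2 * (k : ℚ) := by
    have : (k : ℚ) = (m : ℚ) / 2 := by simpa using hk
    rw [this]; ring
  exact ⟨k, by exact_mod_cast h2⟩

variable {G : Type u} [Group G] [Finite G]

/-- (C3) `χ(u)² ≡ χ(u²) mod 2`. -/
theorem sq_parity (χ : G → ℂ) (hχ : IsCharacter G χ) (u : G) (p q : ℤ) (hp : χ u = (p : ℂ))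
    (hq : χ (u ^ 2) = (q : ℂ)) : (2 : ℤ) ∣ p - q := by
  have hψ := Cfsg.Agent.Helper89.TwoP.isCharacter_extSq hχ
  have hint : IsIntegral ℤ ((χ u ^ 2 - χ (u * u)) / 2) :=
    Cfsg.Agent.Helper80.IsCharacter.isIntegral hψ u
  rw [← pow_two, hp, hq] at hint
  have h2 : (2 : ℤ) ∣ p ^ 2 - q := two_dvd_of_isIntegral_half (p ^ 2 - q) (by push_cast; exact hint)
  have h3 : (2 : ℤ) ∣ p ^ 2 - p := by
    have : p ^ 2 - p = p * (p - 1) := by ring
    rw [this]
    exact (Int.even_mul_pred_self p).two_dvd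
  have : p - q = (p ^ 2 - q) - (p ^ 2 - p) := by ring
  rw [this]
  exact dvd_sub h2 h3

end Cfsg.Agent.Helper20.D8
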