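-- helper20: a group without subgroups of index two, with an involution whose centralizer is
-- dihedral of order 8, has order 168 or 360.
import Cfsg.Agent.Helper20.D8Main
import Cfsg.Agent.Helper20.D8Arith2
import Cfsg.Agent.Helper81.ConjIrr

set_option autoImplicit false

namespace Cfsg.Agent.Helper20.D8

open Cfsg DihedralGroup
open scoped ComplexConjugate

variable {G : Type*} [Group G]

/-- a real number which is a root of unity is `1` or `-1`. -/
theorem real_root_of_unity (r : ℝ) (n : ℕ) (hn : n ≠ 0) (h : r ^ n = 1) : r = 1 ∨ r = -1 := by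
  have h1 : |r| ^ n = 1 := by rw [← abs_pow, h, abs_one]
  have h2 : |r| = 1 := (pow_eq_one_iff_of_nonneg (abs_nonneg r) hn).mp h1
  exact (abs_eq zero_le_one).mp h2

/-- without subgroups of index two, a nonprincipal linear character is not real. -/
theorem irrConj_ne_self_of_linear [Finite G] (hno : ∀ H : Subgroup G, H.index ≠ 2)
    (χ : IrrCharacter G) (h1 : (χ : G → ℂ) 1 = 1) (hχ : χ ≠ Helper79.principalIrr G) :
    Helper81.irrConj G χ ≠ χ := by
  intro hself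
  rw [Helper81.irrConj_eq_self_iff] at hself
  have hχc : IsCharacter G (χ : G → ℂ) := Helper74.isCharacter_of_isIrr χ.2
  let φ : G →* ℂ :=
    { toFun := (χ : G → ℂ)
      map_one' := h1
      map_mul' := Helper79.isCharacter_linear_mul hχc h1 }
  have hφ : ∀ g, φ g = (χ : G → ℂ) g := fun g => rfl
  have hval : ∀ g, φ g = 1 ∨ φ g = -1 := by
    intro g
    have hpow : φ g ^ orderOf g = 1 := by rw [← map_pow, pow_orderOf_eq_one, map_one]
    have him : (φ g).im = 0 := hself g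
    have hz : φ g = (((φ g).re : ℝ) : ℂ) := by
      apply Complex.ext
      · simp
      · simp [him]
    rw [hz] at hpow
    have hre : (φ g).re ^ orderOf g = 1 := by exact_mod_cast hpow
    rcases real_root_of_unity _ _ (orderOf_pos g).ne' hre with h | h
    · left; rw [hz, h]; norm_num
    · right; rw [hz, h]; norm_num
  have hex : ∃ g₀, φ g₀ ≠ 1 := by
    by_contra hcon
    push Not at hcon
    apply hχ
    apply Subtype.ext
    funext g
    exact hcon g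
  obtain ⟨g₀, hg₀⟩ := hex
  have hg₀' : φ g₀ = -1 := by
    rcases hval g₀ with h | h
    · exact absurd h hg₀
    · exact h
  have hmem : ∀ g, g ∈ φ.toHomUnits.ker ↔ φ g = 1 := by
    intro g
    rw [MonoidHom.mem_ker]
    constructor
    · intro h
      have h2 := congrArg (fun u : ℂˣ => (u : ℂ)) h
      simpa only [MonoidHom.coe_toHomUnits, Units.val_one] using h2
    · intro h
      apply Units.ext
      rw [MonoidHom.coe_toHomUnits, Units.val_one]
      exact h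
  apply hno φ.toHomUnits.ker
  rw [Subgroup.index_eq_two_iff]
  refine ⟨g₀, fun b => ?_⟩
  rw [hmem, hmem, map_mul, hg₀']
  rcases hval b with h | h
  · right
    rw [h]
    refine ⟨rfl, ?_⟩
    norm_num
  · left
    rw [h]
    refine ⟨by norm_num, ?_⟩
    norm_num

theorem irrConj_ne_principal [Finite G] (χ : IrrCharacter G)
    (hχ : χ ≠ Helper79.principalIrr G) : Helper81.irrConj G χ ≠ Helper79.principalIrr G := by
  intro h
  apply hχ
  apply Subtype.ext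
  funext g
  have h2 := congrArg (fun ψ : IrrCharacter G => (ψ : G → ℂ) g) h
  simp only [Helper81.irrConj_apply] at h2
  have h3 : ((Helper79.principalIrr G : IrrCharacter G) : G → ℂ) g = 1 := rfl
  rw [h3] at h2 ⊢
  have h4 := congrArg (starRingEnd ℂ) h2
  simpa using h4

theorem card_eq_of_d8_of_no_index_two [Finite G] (hno : ∀ H : Subgroup G, H.index ≠ 2) (t : G)
    (ht : orderOf t = 2)
    (e : Subgroup.centralizer ({t} : Set G) ≃* DihedralGroup 4) :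
    Nat.card G = 168 ∨ Nat.card G = 360 := by
  classical
  haveI : Fintype G := Fintype.ofFinite G
  letI : Fintype (IrrCharacter G) := Helper74.irrFintype G
  have ht1 : t ≠ 1 := by
    intro h; rw [h, orderOf_one] at ht; omega
  obtain ⟨a, hadef⟩ : ∃ a : G, a = elA e := ⟨_, rfl⟩
  have hao : orderOf a = 4 := by rw [hadef]; exact orderOf_elA e
  have ha1 : a ≠ 1 := by
    intro h; rw [h, orderOf_one] at hao; omega
  -- character data
  choose D Mm A hDpos hD hT hU using fun χ : IrrCharacter G => d8_char_data e ht hno χ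
  simp only [← hadef] at hU
  obtain ⟨cZ, hcZdef⟩ : ∃ cZ : IrrCharacter G → ℤ,
      cZ = fun χ => (D χ : ℤ) - 2 * (Mm χ : ℤ) - 4 * (A χ : ℤ) := ⟨_, rfl⟩
  obtain ⟨tZ, htZdef⟩ : ∃ tZ : IrrCharacter G → ℤ,
      tZ = fun χ => (D χ : ℤ) - 4 * (Mm χ : ℤ) := ⟨_, rfl⟩
  have hcZ : ∀ χ : IrrCharacter G, (χ : G → ℂ) a = (cZ χ : ℂ) := by
    intro χ; rw [hU, hcZdef]; push_cast; ring
  have htZ : ∀ χ : IrrCharacter G, (χ : G → ℂ) t = (tZ χ : ℂ) := by
    intro χ; rw [hT, htZdef]; push_cast; ring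
  have hχ1 : ∀ χ : IrrCharacter G, (χ : G → ℂ) 1 = ((D χ : ℤ) : ℂ) := by
    intro χ; rw [hD]; push_cast; rfl
  -- norm sums
  have hsumc : ∑ χ, (cZ χ) ^ 2 = 4 := by
    have h := Helper3.column_orthogonality_self (G := G) a
    rw [hadef, card_centralizer_elA e ht1, ← hadef] at h
    have h1 : ((∑ χ, (cZ χ) ^ 2 : ℤ) : ℂ) = ((4 : ℕ) : ℂ) := by
      rw [← h]
      push_cast
      refine Finset.sum_congr rfl (fun χ _ => ?_)
      rw [hcZ, map_intCast, pow_two]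
    have h2 : ((∑ χ, (cZ χ) ^ 2 : ℤ) : ℂ) = ((4 : ℤ) : ℂ) := by
      rw [h1]; norm_num
    exact_mod_cast h2
  have hsumt : ∑ χ, (tZ χ) ^ 2 = 8 := by
    have h := Helper3.column_orthogonality_self (G := G) t
    rw [card_cent e] at h
    have h1 : ((∑ χ, (tZ χ) ^ 2 : ℤ) : ℂ) = ((8 : ℕ) : ℂ) := by
      rw [← h]
      push_cast
      refine Finset.sum_congr rfl (fun χ _ => ?_)
      rw [htZ, map_intCast, pow_two]
    have h2 : ((∑ χ, (tZ χ) ^ 2 : ℤ) : ℂ) = ((8 : ℤ) : ℂ) := by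
      rw [h1]; norm_num
    exact_mod_cast h2
  have hsumd : ∑ χ, ((D χ : ℤ)) ^ 2 = (Nat.card G : ℤ) := by
    have h := Helper3.column_orthogonality_self (G := G) 1
    have hc1 : Nat.card (Subgroup.centralizer ({(1 : G)} : Set G)) = Nat.card G := by
      have : Subgroup.centralizer ({(1 : G)} : Set G) = ⊤ := by
        rw [eq_top_iff]
        intro g _
        rw [Subgroup.mem_centralizer_singleton_iff]
        rw [one_mul, mul_one]
      rw [this, Subgroup.card_top]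
    rw [hc1] at h
    have h1 : ((∑ χ, ((D χ : ℤ)) ^ 2 : ℤ) : ℂ) = ((Nat.card G : ℤ) : ℂ) := by
      push_cast
      rw [← h]
      refine Finset.sum_congr rfl (fun χ _ => ?_)
      rw [hχ1]
      push_cast
      rw [Complex.conj_natCast, pow_two]
    exact_mod_cast h1
  have hc0 : cZ (Helper79.principalIrr G) = 1 := by
    have h := hcZ (Helper79.principalIrr G)
    have h' : ((Helper79.principalIrr G : IrrCharacter G) : G → ℂ) a = 1 := rfl
    rw [h'] at h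
    exact_mod_cast h.symm
  have ht0 : tZ (Helper79.principalIrr G) = 1 := by
    have h := htZ (Helper79.principalIrr G)
    have h' : ((Helper79.principalIrr G : IrrCharacter G) : G → ℂ) t = 1 := rfl
    rw [h'] at h
    exact_mod_cast h.symm
  obtain ⟨χ₁, χ₂, χ₃, h10, h20, h30, h12, h13, h23, hw1, hw2, hw3, hrest⟩ :=
    exists_three_of_sum_sq_eq_four cZ (Helper79.principalIrr G) hc0 hsumc
  -- orthogonality against `a`
  have hθ : ∀ g : G, ¬ IsConj g a →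
      1 + (χ₁ : G → ℂ) g * (cZ χ₁ : ℂ) + (χ₂ : G → ℂ) g * (cZ χ₂ : ℂ) +
        (χ₃ : G → ℂ) g * (cZ χ₃ : ℂ) = 0 := by
    intro g hne
    have hbo := Helper3.column_orthogonality (G := G) g a
    rw [if_neg hne] at hbo
    have hterm : ∀ χ : IrrCharacter G,
        (χ : G → ℂ) g * conj ((χ : G → ℂ) a) = (χ : G → ℂ) g * (cZ χ : ℂ) := by
      intro χ
      rw [hcZ, map_intCast]
    simp only [hterm] at hbo
    rw [sum_eq_four_terms (fun χ : IrrCharacter G => (χ : G → ℂ) g * (cZ χ : ℂ))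
      (Helper79.principalIrr G) χ₁ χ₂ χ₃ h10 h20 h30 h12 h13 h23] at hbo
    · simp only [hc0] at hbo
      have h' : ((Helper79.principalIrr G : IrrCharacter G) : G → ℂ) g = 1 := rfl
      rw [h'] at hbo
      push_cast at hbo
      linear_combination hbo
    · intro χ hx0 hx1 hx2 hx3
      show (χ : G → ℂ) g * (cZ χ : ℂ) = 0
      rw [hrest χ hx0 hx1 hx2 hx3]; simp
  have hnot1 : ¬ IsConj (1 : G) a := by
    intro h
    exact ha1 (isConj_one_right.mp h)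
  have hnott : ¬ IsConj t a := by
    intro h
    obtain ⟨c, hc⟩ := isConj_iff.mp h
    have h5 := (MulAut.conj c).orderOf_eq t
    rw [MulAut.conj_apply, hc, hao, ht] at h5
    omega
  have hR1 := hθ 1 hnot1
  have hR2 := hθ t hnott
  -- the class sum relation
  have hN : (Nat.card G : ℂ) ≠ 0 := by
    have : Nat.card G ≠ 0 := Nat.card_pos.ne'
    exact_mod_cast this
  have hcount : ∑ g : G, ∑ χ : IrrCharacter G,
      (χ : G → ℂ) (a * (g * t * g⁻¹)) * conj ((χ : G → ℂ) t) = 256 := by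
    have hinner : ∀ g : G, ∑ χ : IrrCharacter G,
        (χ : G → ℂ) (a * (g * t * g⁻¹)) * conj ((χ : G → ℂ) t) =
        if IsConj (a * (g * t * g⁻¹)) t then (8 : ℂ) else 0 := by
      intro g
      rw [Helper74.second_orthogonality, card_cent e]
      norm_num
    rw [Finset.sum_congr rfl (fun g _ => hinner g), Finset.sum_ite, Finset.sum_const_zero,
      add_zero, Finset.sum_const, nsmul_eq_mul]
    have hcard : (Finset.univ.filter (fun g : G => IsConj (a * (g * t * g⁻¹)) t)).card = 32 := by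
      have h := card_conj_set e ht hno
      rw [← hadef, Nat.card_eq_fintype_card, Fintype.card_subtype] at h
      exact h
    rw [hcard]; norm_num
  have hcount' : ∑ χ : IrrCharacter G, conj ((χ : G → ℂ) t) *
      ((Nat.card G : ℂ) * (χ : G → ℂ) t / (χ : G → ℂ) 1 * (χ : G → ℂ) a) = 256 := by
    rw [← hcount, Finset.sum_comm]
    refine Finset.sum_congr rfl (fun χ _ => ?_)
    rw [← sum_irr_class χ.2 a t, Finset.mul_sum]
    refine Finset.sum_congr rfl (fun g _ => ?_)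
    ring
  rw [sum_eq_four_terms (fun χ : IrrCharacter G => conj ((χ : G → ℂ) t) *
      ((Nat.card G : ℂ) * (χ : G → ℂ) t / (χ : G → ℂ) 1 * (χ : G → ℂ) a))
      (Helper79.principalIrr G) χ₁ χ₂ χ₃ h10 h20 h30 h12 h13 h23] at hcount'
  swap
  · intro χ hx0 hx1 hx2 hx3
    show conj ((χ : G → ℂ) t) *
      ((Nat.card G : ℂ) * (χ : G → ℂ) t / (χ : G → ℂ) 1 * (χ : G → ℂ) a) = 0
    rw [hcZ, hrest χ hx0 hx1 hx2 hx3]; simp
  -- integers
  obtain ⟨d₁, hd₁⟩ : ∃ d₁ : ℤ, d₁ = D χ₁ := ⟨_, rfl⟩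
  obtain ⟨d₂, hd₂⟩ : ∃ d₂ : ℤ, d₂ = D χ₂ := ⟨_, rfl⟩
  obtain ⟨d₃, hd₃⟩ : ∃ d₃ : ℤ, d₃ = D χ₃ := ⟨_, rfl⟩
  obtain ⟨m₁, hm₁⟩ : ∃ m₁ : ℤ, m₁ = Mm χ₁ := ⟨_, rfl⟩
  obtain ⟨m₂, hm₂⟩ : ∃ m₂ : ℤ, m₂ = Mm χ₂ := ⟨_, rfl⟩
  obtain ⟨m₃, hm₃⟩ : ∃ m₃ : ℤ, m₃ = Mm χ₃ := ⟨_, rfl⟩
  have hp₁ : 0 < d₁ := by rw [hd₁]; exact_mod_cast hDpos χ₁
  have hp₂ : 0 < d₂ := by rw [hd₂]; exact_mod_cast hDpos χ₂
  have hp₃ : 0 < d₃ := by rw [hd₃]; exact_mod_cast hDpos χ₃
  have hτ₁ : tZ χ₁ = d₁ - 4 * m₁ := by rw [htZdef, hd₁, hm₁]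
  have hτ₂ : tZ χ₂ = d₂ - 4 * m₂ := by rw [htZdef, hd₂, hm₂]
  have hτ₃ : tZ χ₃ = d₃ - 4 * m₃ := by rw [htZdef, hd₃, hm₃]
  have hc₁ : cZ χ₁ = d₁ - 2 * m₁ - 4 * (A χ₁ : ℤ) := by rw [hcZdef, hd₁, hm₁]
  have hc₂ : cZ χ₂ = d₂ - 2 * m₂ - 4 * (A χ₂ : ℤ) := by rw [hcZdef, hd₂, hm₂]
  have hc₃ : cZ χ₃ = d₃ - 2 * m₃ - 4 * (A χ₃ : ℤ) := by rw [hcZdef, hd₃, hm₃]
  have hpair : ∀ χ : IrrCharacter G, χ ≠ Helper79.principalIrr G → (D χ : ℤ) = 1 →
      ∃ χ' : IrrCharacter G, χ' ≠ χ ∧ χ' ≠ Helper79.principalIrr G ∧ cZ χ' = cZ χ ∧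
        (D χ' : ℤ) = 1 := by
    intro χ hχ h
    have hχ11 : (χ : G → ℂ) 1 = 1 := by
      rw [hD]
      have : D χ = 1 := by exact_mod_cast h
      rw [this]; norm_num
    refine ⟨Helper81.irrConj G χ, irrConj_ne_self_of_linear hno χ hχ11 hχ,
      irrConj_ne_principal χ hχ, ?_, ?_⟩
    · have h1 := hcZ (Helper81.irrConj G χ)
      rw [Helper81.irrConj_apply, hcZ χ, map_intCast] at h1
      exact_mod_cast h1.symm
    · have h1 := hχ1 (Helper81.irrConj G χ)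
      rw [Helper81.irrConj_apply, hχ1 χ, map_intCast] at h1
      have h2 : (D (Helper81.irrConj G χ) : ℤ) = (D χ : ℤ) := by exact_mod_cast h1.symm
      rw [h2]; exact h
  have hwne : ∀ w : ℤ, (w = 1 ∨ w = -1) → w ≠ 0 := by
    intro w hw; rcases hw with h | h <;> rw [h] <;> norm_num
  have hne₁ : d₁ = 1 → d₂ = 1 ∨ d₃ = 1 := by
    intro h
    rw [hd₁] at h
    obtain ⟨χ', hne', hne0, hcc, hdd⟩ := hpair χ₁ h10 h
    by_cases h2 : χ' = χ₂
    · left; rw [hd₂, ← h2]; exact hdd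
    · by_cases h3 : χ' = χ₃
      · right; rw [hd₃, ← h3]; exact hdd
      · exfalso
        have := hrest χ' hne0 hne' h2 h3
        rw [hcc] at this
        exact hwne _ hw1 this
  have hne₂ : d₂ = 1 → d₁ = 1 ∨ d₃ = 1 := by
    intro h
    rw [hd₂] at h
    obtain ⟨χ', hne', hne0, hcc, hdd⟩ := hpair χ₂ h20 h
    by_cases h2 : χ' = χ₁
    · left; rw [hd₁, ← h2]; exact hdd
    · by_cases h3 : χ' = χ₃
      · right; rw [hd₃, ← h3]; exact hdd
      · exfalso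
        have := hrest χ' hne0 h2 hne' h3
        rw [hcc] at this
        exact hwne _ hw2 this
  have hne₃ : d₃ = 1 → d₁ = 1 ∨ d₂ = 1 := by
    intro h
    rw [hd₃] at h
    obtain ⟨χ', hne', hne0, hcc, hdd⟩ := hpair χ₃ h30 h
    by_cases h2 : χ' = χ₁
    · left; rw [hd₁, ← h2]; exact hdd
    · by_cases h3 : χ' = χ₂
      · right; rw [hd₂, ← h3]; exact hdd
      · exfalso
        have := hrest χ' hne0 h2 h3 hne'
        rw [hcc] at this
        exact hwne _ hw3 this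
  have hI1 : 1 + cZ χ₁ * d₁ + cZ χ₂ * d₂ + cZ χ₃ * d₃ = 0 := by
    rw [hχ1 χ₁, hχ1 χ₂, hχ1 χ₃, ← hd₁, ← hd₂, ← hd₃] at hR1
    have : ((1 + cZ χ₁ * d₁ + cZ χ₂ * d₂ + cZ χ₃ * d₃ : ℤ) : ℂ) = 0 := by
      push_cast; linear_combination hR1
    exact_mod_cast this
  have hI2 : 1 + cZ χ₁ * tZ χ₁ + cZ χ₂ * tZ χ₂ + cZ χ₃ * tZ χ₃ = 0 := by
    rw [htZ χ₁, htZ χ₂, htZ χ₃] at hR2
    have : ((1 + cZ χ₁ * tZ χ₁ + cZ χ₂ * tZ χ₂ + cZ χ₃ * tZ χ₃ : ℤ) : ℂ) = 0 := by
      push_cast; linear_combination hR2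
    exact_mod_cast this
  have hI3 : (Nat.card G : ℤ) * (d₁ * d₂ * d₃ + cZ χ₁ * (tZ χ₁) ^ 2 * d₂ * d₃ +
      cZ χ₂ * (tZ χ₂) ^ 2 * d₁ * d₃ + cZ χ₃ * (tZ χ₃) ^ 2 * d₁ * d₂) = 256 * (d₁ * d₂ * d₃) := by
    have h0a : ((Helper79.principalIrr G : IrrCharacter G) : G → ℂ) a = 1 := rfl
    have h0t : ((Helper79.principalIrr G : IrrCharacter G) : G → ℂ) t = 1 := rfl
    have h01 : ((Helper79.principalIrr G : IrrCharacter G) : G → ℂ) 1 = 1 := rfl
    simp only [h0a, h0t, h01] at hcount'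
    rw [hχ1 χ₁, hχ1 χ₂, hχ1 χ₃, htZ χ₁, htZ χ₂, htZ χ₃, hcZ χ₁, hcZ χ₂, hcZ χ₃, ← hd₁, ← hd₂,
      ← hd₃] at hcount'
    simp only [map_intCast, map_one] at hcount'
    have hd₁0 : (d₁ : ℂ) ≠ 0 := by exact_mod_cast hp₁.ne'
    have hd₂0 : (d₂ : ℂ) ≠ 0 := by exact_mod_cast hp₂.ne'
    have hd₃0 : (d₃ : ℂ) ≠ 0 := by exact_mod_cast hp₃.ne'
    have : (((Nat.card G : ℤ) * (d₁ * d₂ * d₃ + cZ χ₁ * (tZ χ₁) ^ 2 * d₂ * d₃ +
      cZ χ₂ * (tZ χ₂) ^ 2 * d₁ * d₃ + cZ χ₃ * (tZ χ₃) ^ 2 * d₁ * d₂) : ℤ) : ℂ) =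
        ((256 * (d₁ * d₂ * d₃) : ℤ) : ℂ) := by
      push_cast
      rw [← hcount']
      field_simp
      ring
    exact_mod_cast this
  have hB4 : (tZ χ₁) ^ 2 + (tZ χ₂) ^ 2 + (tZ χ₃) ^ 2 ≤ 7 := by
    have hsub : ∑ χ ∈ ({Helper79.principalIrr G, χ₁, χ₂, χ₃} : Finset (IrrCharacter G)),
        (tZ χ) ^ 2 ≤ ∑ χ, (tZ χ) ^ 2 :=
      Finset.sum_le_sum_of_subset_of_nonneg (Finset.subset_univ _) (fun χ _ _ => sq_nonneg _)
    rw [hsumt, Finset.sum_insert, Finset.sum_insert, Finset.sum_insert, Finset.sum_singleton,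
      ht0] at hsub
    · linarith
    · simp only [Finset.mem_singleton]; exact h23
    · simp only [Finset.mem_insert, Finset.mem_singleton, not_or]; exact ⟨h12, h13⟩
    · simp only [Finset.mem_insert, Finset.mem_singleton, not_or]
      exact ⟨h10.symm, h20.symm, h30.symm⟩
  have hsize : 1 + d₁ ^ 2 + d₂ ^ 2 + d₃ ^ 2 ≤ (Nat.card G : ℤ) := by
    have hsub : ∑ χ ∈ ({Helper79.principalIrr G, χ₁, χ₂, χ₃} : Finset (IrrCharacter G)),
        ((D χ : ℤ)) ^ 2 ≤ ∑ χ, ((D χ : ℤ)) ^ 2 :=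
      Finset.sum_le_sum_of_subset_of_nonneg (Finset.subset_univ _) (fun χ _ _ => sq_nonneg _)
    have hD0 : (D (Helper79.principalIrr G) : ℤ) = 1 := by
      have h := hχ1 (Helper79.principalIrr G)
      have h' : ((Helper79.principalIrr G : IrrCharacter G) : G → ℂ) 1 = 1 := rfl
      rw [h'] at h
      exact_mod_cast h.symm
    rw [hsumd, Finset.sum_insert, Finset.sum_insert, Finset.sum_insert, Finset.sum_singleton,
      hD0, ← hd₁, ← hd₂, ← hd₃] at hsub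
    · linarith
    · simp only [Finset.mem_singleton]; exact h23
    · simp only [Finset.mem_insert, Finset.mem_singleton, not_or]; exact ⟨h12, h13⟩
    · simp only [Finset.mem_insert, Finset.mem_singleton, not_or]
      exact ⟨h10.symm, h20.symm, h30.symm⟩
  have hfin := d8_arith' (Nat.card G : ℤ) (cZ χ₁) (cZ χ₂) (cZ χ₃) d₁ d₂ d₃ m₁ m₂ m₃
    (A χ₁ : ℤ) (A χ₂ : ℤ) (A χ₃ : ℤ) (tZ χ₁) (tZ χ₂) (tZ χ₃) hw1 hw2 hw3
    (by positivity) (by positivity) (by positivity) hp₁ hp₂ hp₃ hτ₁ hτ₂ hτ₃ hc₁ hc₂ hc₃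
    hne₁ hne₂ hne₃ hI1 hI2 hI3 hB4 hsize
  rcases hfin with h | h
  · left; exact_mod_cast h
  · right; exact_mod_cast h

end Cfsg.Agent.Helper20.D8
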