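-- helper20: a group without subgroups of index two, with an involution whose centralizer is
-- dihedral of order 8, is simple.
import Cfsg.Agent.Helper20.D8Grp2
import Cfsg.Agent.Helper79.InvSylow

set_option autoImplicit false

namespace Cfsg.Agent.Helper20.D8

open DihedralGroup

theorem d4_prod_sr (q : DihedralGroup 4) :
    (∃ i : ZMod 4, q = sr i) ∨ ∃ i j : ZMod 4, q = sr i * sr j := by
  revert q; decide

theorem d4_r2_sr0 : (r 2 : DihedralGroup 4) * sr 0 = sr 2 := by decide

variable {G : Type*} [Group G]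

section
variable {t : G} (e : Subgroup.centralizer ({t} : Set G) ≃* DihedralGroup 4)
include e

/-- the centralizer is generated by its involutions. -/
theorem cent_le_of_involutions (N : Subgroup G) (hN : ∀ v : G, orderOf v = 2 → v ∈ N) :
    Subgroup.centralizer ({t} : Set G) ≤ N := by
  intro c hc
  have hB : ∀ i : ZMod 4, (e.symm (sr i) : G) ∈ N := fun i => hN _ (orderOf_elB e i)
  have hce : c = (e.symm (e ⟨c, hc⟩) : G) := by rw [MulEquiv.symm_apply_apply]
  rcases d4_prod_sr (e ⟨c, hc⟩) with ⟨i, hi⟩ | ⟨i, j, hij⟩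
  · rw [hce, hi]; exact hB i
  · rw [hce, hij, coe_mul_symm]; exact N.mul_mem (hB i) (hB j)

theorem t_mul_elB_zero (ht1 : t ≠ 1) : t * elB e 0 = elB e 2 := by
  have h1 : (e.symm (r 2) : G) * (e.symm (sr 0) : G) = (e.symm (sr 2) : G) := by
    rw [← coe_mul_symm, d4_r2_sr0]
  rw [← t_eq e ht1] at h1
  exact h1

/-- the centralizer is self-normalizing. -/
theorem normalizer_cent (ht1 : t ≠ 1) :
    Subgroup.normalizer ((Subgroup.centralizer ({t} : Set G) : Subgroup G) : Set G) =
      Subgroup.centralizer ({t} : Set G) := by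
  apply le_antisymm
  · intro g hg
    rw [Subgroup.mem_normalizer_iff] at hg
    have hz : g * t * g⁻¹ ∈ Subgroup.centralizer ({t} : Set G) := (hg t).1 t_mem
    have hcentral : ∀ c ∈ Subgroup.centralizer ({t} : Set G),
        c * (g * t * g⁻¹) = (g * t * g⁻¹) * c := by
      intro c hc
      have hc' : g⁻¹ * c * g ∈ Subgroup.centralizer ({t} : Set G) := by
        rw [hg]
        have : g * (g⁻¹ * c * g) * g⁻¹ = c := by group
        rw [this]; exact hc
      have h1 := (mem_cent_iff (g⁻¹ * c * g)).1 hc'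
      have h2 : c * (g * t * g⁻¹) = g * ((g⁻¹ * c * g) * t) * g⁻¹ := by group
      rw [h2, h1]; group
    rcases central_cases e _ hz hcentral with h | h
    · exfalso
      apply ht1
      have : t = g⁻¹ * (g * t * g⁻¹) * g := by group
      rw [this, h]; group
    · rw [← t_eq e ht1] at h
      rw [mem_cent_iff]
      have : g * t = (g * t * g⁻¹) * g := by group
      rw [this, h]
  · exact Subgroup.le_normalizer

theorem isSimpleGroup_of_d8 [Finite G] (hno : ∀ H : Subgroup G, H.index ≠ 2)
    (ht : orderOf t = 2) : IsSimpleGroup G := by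
  classical
  haveI : Fact (Nat.Prime 2) := ⟨Nat.prime_two⟩
  have ht1 : t ≠ 1 := by
    intro h; rw [h, orderOf_one] at ht; omega
  haveI : Nontrivial G := ⟨⟨t, 1, ht1⟩⟩
  refine ⟨fun N hN => ?_⟩
  have hconjmem : ∀ v : G, v ∈ N → ∀ w : G, IsConj v w → w ∈ N := by
    intro v hv w hvw
    obtain ⟨c, hc⟩ := isConj_iff.mp hvw
    rw [← hc]
    exact hN.conj_mem v hv c
  by_cases h2 : 2 ∣ Nat.card N
  · right
    obtain ⟨u, hu⟩ := exists_prime_orderOf_dvd_card' 2 h2
    have hu' : orderOf (u : G) = 2 := by rw [Subgroup.orderOf_coe]; exact hu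
    have htN : t ∈ N := hconjmem _ u.2 _ (isConj_of_involution e ht hno _ hu')
    have hall : ∀ v : G, orderOf v = 2 → v ∈ N := by
      intro v hv
      exact hconjmem _ htN _ (isConj_of_involution e ht hno v hv).symm
    have hle := cent_le_of_involutions e N hall
    obtain ⟨P, hP⟩ := exists_sylow_eq e ht1
    have hPN : (P : Subgroup G) ≤ N := by rw [hP]; exact hle
    have hfr := Sylow.normalizer_sup_eq_top' P hPN
    have hnorm : Subgroup.normalizer ((P : Subgroup G) : Set G) =
        Subgroup.centralizer ({t} : Set G) := by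
      rw [hP]; exact normalizer_cent e ht1
    have hfr' : Subgroup.normalizer ((P : Subgroup G) : Set G) ⊔ N = ⊤ := hfr
    rw [hnorm, sup_eq_right.mpr hle] at hfr'
    exact hfr'
  · left
    have hodd : Nat.Coprime 2 (Nat.card N) := (Nat.Prime.coprime_iff_not_dvd Nat.prime_two).mpr h2
    -- every involution acts without fixed points on `N`
    have hfix : ∀ v : G, orderOf v = 2 → ∀ k ∈ N, v * k * v⁻¹ = k → k = 1 := by
      intro v hv k hk hvk
      obtain ⟨g, hg⟩ := isConj_iff.mp (isConj_of_involution e ht hno v hv)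
      -- `g * v * g⁻¹ = t`
      have hk' : g * k * g⁻¹ ∈ Subgroup.centralizer ({t} : Set G) := by
        rw [mem_cent_iff, ← hg]
        have h1 : g * k * g⁻¹ * (g * v * g⁻¹) = g * (k * v) * g⁻¹ := by group
        have h2 : g * v * g⁻¹ * (g * k * g⁻¹) = g * (v * k * v⁻¹ * v) * g⁻¹ := by group
        rw [h1, h2, hvk]
      have hkN : g * k * g⁻¹ ∈ N := hN.conj_mem k hk g
      have ho1 : orderOf (g * k * g⁻¹) ∣ 8 := by
        have := Subgroup.orderOf_dvd_natCard _ hk'
        rwa [card_cent e] at this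
      have ho2 : orderOf (g * k * g⁻¹) ∣ Nat.card N := Subgroup.orderOf_dvd_natCard _ hkN
      have hcop : Nat.Coprime 8 (Nat.card N) := by
        have : (8 : ℕ) = 2 ^ 3 := by norm_num
        rw [this]
        exact Nat.Coprime.pow_left 3 hodd
      have ho : orderOf (g * k * g⁻¹) = 1 := Nat.eq_one_of_dvd_coprimes hcop ho1 ho2
      rw [orderOf_eq_one_iff] at ho
      have : k = g⁻¹ * (g * k * g⁻¹) * g := by group
      rw [this, ho]; group
    have hinv : ∀ v : G, orderOf v = 2 → ∀ k ∈ N, v * k * v⁻¹ = k⁻¹ := by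
      intro v hv
      have hvv : v * v = 1 := by rw [← pow_two, ← hv, pow_orderOf_eq_one]
      exact Helper79.inverts_of_fpf hvv (fun k hk => hN.conj_mem k hk v) (hfix v hv)
    rw [Subgroup.eq_bot_iff_forall]
    intro n hn
    have h1 := hinv t ht n hn
    have h2 := hinv (elB e 0) (orderOf_elB e 0) n hn
    have h3 := hinv (elB e 2) (orderOf_elB e 2) n hn
    rw [← t_mul_elB_zero e ht1] at h3
    have h4 : t * elB e 0 * n * (t * elB e 0)⁻¹ = t * (elB e 0 * n * (elB e 0)⁻¹) * t⁻¹ := by group
    rw [h4, h2] at h3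
    have h5 : t * n⁻¹ * t⁻¹ = (t * n * t⁻¹)⁻¹ := by group
    rw [h5, h1, inv_inv] at h3
    -- `n = n⁻¹`
    have hnn : n * n = 1 := by
      have : n * n = n * n⁻¹ := by rw [← h3]
      rw [this, mul_inv_cancel]
    have ho1 : orderOf n ∣ 2 := orderOf_dvd_of_pow_eq_one (by rw [pow_two]; exact hnn)
    have ho2 : orderOf n ∣ Nat.card N := Subgroup.orderOf_dvd_natCard _ hn
    have ho : orderOf n = 1 := Nat.eq_one_of_dvd_coprimes hodd ho1 ho2
    exact orderOf_eq_one_iff.mp ho

end

end Cfsg.Agent.Helper20.D8
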