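-- helper20: a fixed-point count for an element of order 5 whose centralizer has order 300 and
-- six Sylow 5-subgroups (Lemma II of board post #4150, for the orders 4200 and 5400 of S0983).
import Mathlib
import Cfsg.Agent.Helper17.VTrick
import Cfsg.Agent.Helper17.MaxInter
import Cfsg.Agent.Helper17.SylowKit

set_option autoImplicit false
set_option linter.style.haveILetI false

namespace Cfsg.Agent.Helper20.FixSix

open Subgroup Cfsg.Agent.Helper17

variable {G : Type*} [Group G]

theorem orderOf_conj_eq (g y : G) : orderOf (g * y * g⁻¹) = orderOf y := by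
  have := (MulAut.conj g).orderOf_eq y
  rwa [MulAut.conj_apply] at this

/-- If `x` of order 5 commutes with `d0` and is not a power of it, then a subgroup centralizing
both has order dividing `50`. -/
theorem stab_card_dvd [Finite G] (d0 : G) (hd : orderOf d0 = 5) (m : ℕ)
    (hcard : Nat.card G = 5 ^ 2 * m) (hm : ¬ 5 ∣ m)
    (hH : Nat.card (centralizer ({d0} : Set G)) = 300)
    (hn5 : Nat.card (Sylow 5 ↥(centralizer ({d0} : Set G))) = 6)
    (x : G) (hx5 : orderOf x = 5) (hxd : x * d0 = d0 * x) (hxn : x ∉ zpowers d0)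
    (Q : Subgroup G) (hQd : ∀ h ∈ Q, h * d0 = d0 * h) (hQx : ∀ h ∈ Q, h * x = x * h) :
    Nat.card Q ∣ 50 := by
  haveI : Fact (Nat.Prime 5) := ⟨by norm_num⟩
  set H := centralizer ({d0} : Set G) with hHdef
  have hZd : IsPGroup 5 (zpowers d0) :=
    IsPGroup.of_card (n := 1) (by rw [Nat.card_zpowers, hd, pow_one])
  have hZx : IsPGroup 5 (zpowers x) :=
    IsPGroup.of_card (n := 1) (by rw [Nat.card_zpowers, hx5, pow_one])
  have hnorm : zpowers x ≤ normalizer ((zpowers d0 : Subgroup G) : Set G) := by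
    rw [zpowers_le]
    apply Subgroup.centralizer_le_normalizer
    rw [Subgroup.mem_centralizer_iff]
    intro y hy
    obtain ⟨k, rfl⟩ := mem_zpowers_iff.mp hy
    exact (Commute.zpow_left (show Commute d0 x from hxd.symm) k).eq
  have hB : IsPGroup 5 (zpowers d0 ⊔ zpowers x : Subgroup G) :=
    hZd.to_sup_of_normal_left' hZx hnorm
  obtain ⟨A, hBA⟩ := hB.exists_le_sylow
  have hAcard : Nat.card (A : Subgroup G) = 5 ^ 2 := card_sylow_subgroup_of_card_eq hcard hm A
  have hdA : d0 ∈ (A : Subgroup G) := hBA (Subgroup.mem_sup_left (mem_zpowers d0))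
  have hlt : zpowers d0 < zpowers d0 ⊔ zpowers x := by
    refine lt_of_le_of_ne le_sup_left ?_
    intro heq
    apply hxn
    rw [heq]
    exact Subgroup.mem_sup_right (mem_zpowers x)
  have hBcard : Nat.card (zpowers d0 ⊔ zpowers x : Subgroup G) = 25 := by
    have h1 := card_lt_of_lt' hlt
    rw [Nat.card_zpowers, hd] at h1
    have h2 := Subgroup.card_dvd_of_le hBA
    rw [hAcard] at h2
    have h3 : Nat.card (zpowers d0 ⊔ zpowers x : Subgroup G) ≤ 25 :=
      Nat.le_of_dvd (by norm_num) h2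
    generalize Nat.card (zpowers d0 ⊔ zpowers x : Subgroup G) = b at h1 h2 h3
    interval_cases b <;> first | rfl | (exfalso; revert h2; norm_num)
  have hBeqA : zpowers d0 ⊔ zpowers x = (A : Subgroup G) :=
    Subgroup.eq_of_le_of_card_ge hBA (by rw [hAcard, hBcard]; norm_num)
  have hAc : IsMulCommutative (A : Subgroup G) :=
    IsPGroup.isMulCommutative_of_card_eq_prime_sq hAcard
  have hAH : (A : Subgroup G) ≤ H := by
    intro a ha
    rw [hHdef, mem_centralizer_singleton_iff]
    have := hAc.is_comm.comm (⟨a, ha⟩ : (A : Subgroup G)) ⟨d0, hdA⟩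
    exact congrArg Subtype.val this
  have hcount := card_sylow_of_le A H hAH
  rw [hn5, hH] at hcount
  have h50 : Nat.card (H ⊓ normalizer ((A : Subgroup G) : Set G) : Subgroup G) = 50 := by omega
  have hQle : Q ≤ H ⊓ normalizer ((A : Subgroup G) : Set G) := by
    intro h hh
    refine Subgroup.mem_inf.mpr ⟨?_, ?_⟩
    · rw [hHdef, mem_centralizer_singleton_iff]; exact hQd h hh
    · apply Subgroup.centralizer_le_normalizer
      rw [← hBeqA, Subgroup.mem_centralizer_iff]
      intro y hy
      have hle : zpowers d0 ⊔ zpowers x ≤ centralizer ({h} : Set G) := by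
        apply sup_le
        · rw [zpowers_le, mem_centralizer_singleton_iff]; exact (hQd h hh).symm
        · rw [zpowers_le, mem_centralizer_singleton_iff]; exact (hQx h hh).symm
      have := hle hy
      rw [mem_centralizer_singleton_iff] at this
      exact this
  have := Subgroup.card_dvd_of_le hQle
  rwa [h50] at this

set_option maxHeartbeats 1600000 in
/-- **Lemma II.** `d0` of order 5 with `|C(d0)| = 300`, six Sylow 5-subgroups in `C(d0)` and
`N(<d0>) = C(d0)`: the number of cosets of `C(d0)` fixed by `d0` is `≡ 1 mod 6` and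
`≡ |G : C(d0)| mod 5`. -/
theorem card_fixed_mod_six [Finite G] (d0 : G) (hd : orderOf d0 = 5) (m : ℕ)
    (hcard : Nat.card G = 5 ^ 2 * m) (hm : ¬ 5 ∣ m)
    (hH : Nat.card (centralizer ({d0} : Set G)) = 300)
    (hn5 : Nat.card (Sylow 5 ↥(centralizer ({d0} : Set G))) = 6)
    (hN : ∀ g : G, g * d0 * g⁻¹ ∈ zpowers d0 → g ∈ centralizer ({d0} : Set G)) :
    ∃ k : ℕ, Nat.card {q : G ⧸ centralizer ({d0} : Set G) // d0 • q = q} = 6 * k + 1 ∧
      6 * k + 1 ≡ (centralizer ({d0} : Set G)).index [MOD 5] := by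
  classical
  haveI h5 : Fact (Nat.Prime 5) := ⟨by norm_num⟩
  haveI h3 : Fact (Nat.Prime 3) := ⟨by norm_num⟩
  haveI h2 : Fact (Nat.Prime 2) := ⟨by norm_num⟩
  set H := centralizer ({d0} : Set G) with hHdef
  have memH : ∀ h : G, h ∈ H ↔ h * d0 = d0 * h := fun h => by
    rw [hHdef, mem_centralizer_singleton_iff]
  have hd0H : d0 ∈ H := (memH d0).mpr rfl
  -- the stabilizer bound
  have key : ∀ g : G, d0 • ((g : G) : G ⧸ H) = (g : G ⧸ H) →
      ((g : G) : G ⧸ H) ≠ ((1 : G) : G ⧸ H) →
      ∀ Q : Subgroup G, Q ≤ H → (∀ h ∈ Q, h • ((g : G) : G ⧸ H) = (g : G ⧸ H)) →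
        Nat.card Q ∣ 50 := by
    intro g hfix hne Q hQH hQfix
    have hw : g⁻¹ * d0 * g ∈ H := by
      rw [MulAction.Quotient.smul_mk, QuotientGroup.eq, smul_eq_mul] at hfix
      have := H.inv_mem hfix
      convert this using 1
      group
    rw [memH] at hw
    obtain ⟨x, hxdef⟩ : ∃ x : G, x = g * d0 * g⁻¹ := ⟨_, rfl⟩
    have hxd : x * d0 = d0 * x := by
      have e1 : x * d0 = g * (d0 * (g⁻¹ * d0 * g)) * g⁻¹ := by rw [hxdef]; group
      have e2 : d0 * x = g * (g⁻¹ * d0 * g * d0) * g⁻¹ := by rw [hxdef]; group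
      rw [e1, e2, hw]
    have hx5 : orderOf x = 5 := by rw [hxdef, orderOf_conj_eq, hd]
    have hxn : x ∉ zpowers d0 := by
      intro hmem
      apply hne
      rw [hxdef] at hmem
      have := hN g hmem
      rw [QuotientGroup.eq, mul_one]
      exact H.inv_mem this
    apply stab_card_dvd d0 hd m hcard hm hH hn5 x hx5 hxd hxn Q
    · intro h hh
      exact (memH h).mp (hQH hh)
    · intro h hh
      have hfixh := hQfix h hh
      rw [MulAction.Quotient.smul_mk, QuotientGroup.eq, smul_eq_mul] at hfixh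
      have h1 := H.inv_mem hfixh
      have h2 : g⁻¹ * h * g ∈ H := by
        convert h1 using 1
        group
      rw [memH] at h2
      have e1 : h * x = g * (g⁻¹ * h * g * d0) * g⁻¹ := by rw [hxdef]; group
      have e2 : x * h = g * (d0 * (g⁻¹ * h * g)) * g⁻¹ := by rw [hxdef]; group
      rw [e1, e2, h2]
  -- the congruences for `S = F \ {q0}`
  have cong : ∀ (p : ℕ) [Fact p.Prime] (Q : Subgroup G), Q ≤ H → IsPGroup p Q →
      ¬ (Nat.card Q ∣ 50) →
      Nat.card {q : G ⧸ H // d0 • q = q ∧ q ≠ ((1 : G) : G ⧸ H)} ≡ 0 [MOD p] := by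
    intro p _ Q hQH hQp hQ50
    let S : SubMulAction Q (G ⧸ H) :=
      { carrier := {q | d0 • q = q ∧ q ≠ ((1 : G) : G ⧸ H)}
        smul_mem' := by
          rintro ⟨h, hh⟩ q ⟨hq1, hq2⟩
          have hhH := (memH h).mp (hQH hh)
          refine ⟨?_, ?_⟩
          · change d0 • (h • q) = h • q
            rw [smul_smul, ← hhH, ← smul_smul, hq1]
          · intro heq
            apply hq2
            change h • q = ((1 : G) : G ⧸ H) at heq
            have : q = h⁻¹ • ((1 : G) : G ⧸ H) := by rw [← heq, smul_smul, inv_mul_cancel, one_smul]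
            rw [this, MulAction.Quotient.smul_mk, QuotientGroup.eq, mul_one, smul_eq_mul, mul_one,
              inv_inv]
            exact hQH hh }
    have hmod := hQp.card_modEq_card_fixedPoints (↥S)
    have hempty : IsEmpty (MulAction.fixedPoints Q ↥S) := by
      constructor
      rintro ⟨⟨q, hq1, hq2⟩, hfix⟩
      obtain ⟨g, rfl⟩ := QuotientGroup.mk_surjective q
      apply hQ50
      apply key g hq1 hq2 Q hQH
      intro h hh
      have := hfix ⟨h, hh⟩
      exact congrArg Subtype.val this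
    have h0 : Nat.card (MulAction.fixedPoints Q ↥S) = 0 := Nat.card_of_isEmpty
    rw [h0] at hmod
    exact hmod
  -- an element of order 3 in `H`
  have hS3 : Nat.card {q : G ⧸ H // d0 • q = q ∧ q ≠ ((1 : G) : G ⧸ H)} ≡ 0 [MOD 3] := by
    obtain ⟨y', hy'⟩ := exists_prime_orderOf_dvd_card' (G := ↥H) 3 (by rw [hH]; norm_num)
    have hy3 : orderOf (y' : G) = 3 := by rw [Subgroup.orderOf_coe, hy']
    apply cong 3 (zpowers (y' : G)) (zpowers_le.mpr y'.2)
      (IsPGroup.of_card (n := 1) (by rw [Nat.card_zpowers, hy3, pow_one]))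
    rw [Nat.card_zpowers, hy3]
    norm_num
  have hS2 : Nat.card {q : G ⧸ H // d0 • q = q ∧ q ≠ ((1 : G) : G ⧸ H)} ≡ 0 [MOD 2] := by
    obtain ⟨V⟩ : Nonempty (Sylow 2 ↥H) := inferInstance
    have hV : Nat.card (V : Subgroup ↥H) = 2 ^ 2 :=
      card_sylow_subgroup_of_card_eq (p := 2) (k := 2) (m := 75) (by rw [hH]; norm_num) (by norm_num) V
    have hVm : Nat.card ((V : Subgroup ↥H).map H.subtype) = 2 ^ 2 := by
      rw [Subgroup.card_map_of_injective H.subtype_injective, hV]
    apply cong 2 ((V : Subgroup ↥H).map H.subtype) (Subgroup.map_subtype_le _)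
      (IsPGroup.of_card (n := 2) hVm)
    rw [hVm]
    norm_num
  -- `|F| = |S| + 1`
  letI : Fintype (G ⧸ H) := Fintype.ofFinite _
  have hq0 : d0 • (((1 : G) : G ⧸ H)) = ((1 : G) : G ⧸ H) := by
    rw [MulAction.Quotient.smul_mk, QuotientGroup.eq, mul_one, smul_eq_mul, mul_one]
    exact H.inv_mem hd0H
  have hFS : Nat.card {q : G ⧸ H // d0 • q = q}
      = Nat.card {q : G ⧸ H // d0 • q = q ∧ q ≠ ((1 : G) : G ⧸ H)} + 1 := by
    rw [Nat.card_eq_fintype_card, Nat.card_eq_fintype_card, Fintype.card_subtype,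
      Fintype.card_subtype]
    have hins : Finset.univ.filter (fun q : G ⧸ H => d0 • q = q)
        = insert (((1 : G) : G ⧸ H))
          (Finset.univ.filter (fun q : G ⧸ H => d0 • q = q ∧ q ≠ ((1 : G) : G ⧸ H))) := by
      ext q
      simp only [Finset.mem_filter, Finset.mem_univ, true_and, Finset.mem_insert]
      constructor
      · intro hq
        by_cases h1 : q = ((1 : G) : G ⧸ H)
        · exact Or.inl h1
        · exact Or.inr ⟨hq, h1⟩
      · rintro (rfl | ⟨hq, -⟩)
        · exact hq0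
        · exact hq
    rw [hins, Finset.card_insert_of_notMem]
    simp
  -- the congruence mod 5
  have hF5 : Nat.card {q : G ⧸ H // d0 • q = q} ≡ H.index [MOD 5] := by
    have hZd : IsPGroup 5 (zpowers d0) :=
      IsPGroup.of_card (n := 1) (by rw [Nat.card_zpowers, hd, pow_one])
    have hmod := hZd.card_modEq_card_fixedPoints (G ⧸ H)
    rw [← Subgroup.index_eq_card] at hmod
    have heq : Nat.card (MulAction.fixedPoints (zpowers d0) (G ⧸ H))
        = Nat.card {q : G ⧸ H // d0 • q = q} := by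
      apply Nat.card_congr
      refine Equiv.subtypeEquivRight ?_
      intro q
      constructor
      · intro hq
        exact hq ⟨d0, mem_zpowers d0⟩
      · intro hq z
        have hle : zpowers d0 ≤ MulAction.stabilizer G q :=
          zpowers_le.mpr (MulAction.mem_stabilizer_iff.mpr hq)
        exact MulAction.mem_stabilizer_iff.mp (hle z.2)
    rw [heq] at hmod
    exact hmod.symm
  -- conclusion
  obtain ⟨k, hk⟩ : ∃ k : ℕ,
      Nat.card {q : G ⧸ H // d0 • q = q ∧ q ≠ ((1 : G) : G ⧸ H)} = 6 * k := by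
    have h3' := (Nat.modEq_zero_iff_dvd).mp hS3
    have h2' := (Nat.modEq_zero_iff_dvd).mp hS2
    have : 6 ∣ Nat.card {q : G ⧸ H // d0 • q = q ∧ q ≠ ((1 : G) : G ⧸ H)} :=
      Nat.Coprime.mul_dvd_of_dvd_of_dvd (by norm_num : Nat.Coprime 2 3) h2' h3'
    exact this
  refine ⟨k, by rw [hFS, hk], ?_⟩
  rw [hFS, hk] at hF5
  exact hF5

end Cfsg.Agent.Helper20.FixSix
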