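import Cfsg.Agent.Helper20.QD3

set_option autoImplicit false

/-!
The four-group generated by two commuting involutions.
-/

namespace Cfsg.Agent.Helper20

theorem card_subtype_eq_four {α : Type*} (p : α → Prop) (a b c d : α) (hab : a ≠ b) (hac : a ≠ c)
    (had : a ≠ d) (hbc : b ≠ c) (hbd : b ≠ d) (hcd : c ≠ d)
    (h : ∀ e, p e ↔ e = a ∨ e = b ∨ e = c ∨ e = d) : Nat.card {e // p e} = 4 := by
  have : {e | p e} = ({a, b, c, d} : Set α) := by
    ext e
    simp only [Set.mem_ofPred_eq, Set.mem_insert_iff, Set.mem_singleton_iff]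
    exact h e
  have h2 : Nat.card {e // p e} = Set.ncard {e | p e} := rfl
  rw [h2, this, Set.ncard_insert_of_notMem, Set.ncard_eq_three.mpr ⟨b, c, d, hbc, hbd, hcd, rfl⟩]
  simp only [Set.mem_insert_iff, Set.mem_singleton_iff, not_or]
  exact ⟨hab, hac, had⟩

theorem isKleinFour_of_card_four_of_sq {T : Type*} [Group T] (h4 : Nat.card T = 4)
    (hsq : ∀ t : T, t * t = 1) : IsKleinFour T := by
  refine ⟨h4, ?_⟩
  have hdvd : Monoid.exponent T ∣ 2 :=
    Monoid.exponent_dvd_of_forall_pow_eq_one (fun t => by rw [pow_two]; exact hsq t)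
  have hne1 : Monoid.exponent T ≠ 1 := by
    intro h
    have := Monoid.exp_eq_one_iff.mp h
    have : Nat.card T = 1 := Nat.card_eq_one_iff_unique.mpr ⟨this, ⟨1⟩⟩
    omega
  rcases (Nat.dvd_prime Nat.prime_two).mp hdvd with h | h
  · exact absurd h hne1
  · exact h

variable {G : Type*} [Group G]

/-- `{1, a, c, ac}` for commuting involutions `a`, `c`. -/
def fourSub (a c : G) (ha : a * a = 1) (hc : c * c = 1) (hac : a * c = c * a) : Subgroup G where
  carrier := {s | s = 1 ∨ s = a ∨ s = c ∨ s = a * c}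
  one_mem' := Or.inl rfl
  mul_mem' := by
    rintro s t (rfl | rfl | rfl | rfl) (rfl | rfl | rfl | rfl)
    · left; rw [one_mul]
    · right; left; rw [one_mul]
    · right; right; left; rw [one_mul]
    · right; right; right; rw [one_mul]
    · right; left; rw [mul_one]
    · left; exact ha
    · right; right; right; rfl
    · right; right; left; rw [← mul_assoc, ha, one_mul]
    · right; right; left; rw [mul_one]
    · right; right; right; exact hac.symm
    · left; exact hc
    · right; left; rw [← mul_assoc, ← hac, mul_assoc, hc, mul_one]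
    · right; right; right; rw [mul_one]
    · right; right; left; rw [hac, mul_assoc, ha, mul_one]
    · right; left; rw [mul_assoc, hc, mul_one]
    · left; rw [mul_assoc, ← mul_assoc c, ← hac, mul_assoc, hc, mul_one, ha]
  inv_mem' := by
    rintro s (rfl | rfl | rfl | rfl)
    · left; exact inv_one
    · right; left; exact inv_eq_of_mul_eq_one_right ha
    · right; right; left; exact inv_eq_of_mul_eq_one_right hc
    · right; right; right
      apply inv_eq_of_mul_eq_one_right
      rw [mul_assoc, ← mul_assoc c, ← hac, mul_assoc, hc, mul_one, ha]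

theorem mem_fourSub (a c : G) (ha : a * a = 1) (hc : c * c = 1) (hac : a * c = c * a) (s : G) :
    s ∈ fourSub a c ha hc hac ↔ s = 1 ∨ s = a ∨ s = c ∨ s = a * c := Iff.rfl

theorem card_fourSub (a c : G) (ha : a * a = 1) (hc : c * c = 1) (hac : a * c = c * a)
    (ha1 : a ≠ 1) (hc1 : c ≠ 1) (hne : a ≠ c) : Nat.card (fourSub a c ha hc hac) = 4 := by
  have hci : c⁻¹ = c := inv_eq_of_mul_eq_one_right hc
  apply card_subtype_eq_four (fun s => s ∈ fourSub a c ha hc hac) 1 a c (a * c) ha1.symm hc1.symm
  · intro h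
    apply hne
    rw [eq_inv_of_mul_eq_one_left h.symm, hci]
  · exact hne
  · intro h
    exact hc1 (mul_eq_left.mp h.symm)
  · intro h
    exact ha1 (mul_eq_right.mp h.symm)
  · intro s; rfl

theorem isKleinFour_fourSub (a c : G) (ha : a * a = 1) (hc : c * c = 1) (hac : a * c = c * a)
    (ha1 : a ≠ 1) (hc1 : c ≠ 1) (hne : a ≠ c) : IsKleinFour (fourSub a c ha hc hac) := by
  apply isKleinFour_of_card_four_of_sq (card_fourSub a c ha hc hac ha1 hc1 hne)
  rintro ⟨s, hs⟩
  apply Subtype.ext
  show s * s = 1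
  rcases hs with rfl | rfl | rfl | rfl
  · rw [one_mul]
  · exact ha
  · exact hc
  · rw [mul_assoc, ← mul_assoc c, ← hac, mul_assoc, hc, mul_one, ha]

/-- A subgroup of order four containing two distinct involutions `a`, `c` is `fourSub a c`. -/
theorem eq_fourSub (T : Subgroup G) (hcard : Nat.card T = 4) (a c : G) (ha : a * a = 1)
    (hc : c * c = 1) (hac : a * c = c * a) (ha1 : a ≠ 1) (hc1 : c ≠ 1) (hne : a ≠ c)
    (haT : a ∈ T) (hcT : c ∈ T) : T = fourSub a c ha hc hac := by
  ext t
  constructor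
  · intro ht
    exact four_group_elems T hcard haT hcT ha1 hc1 hne hc t ht
  · rintro (rfl | rfl | rfl | rfl)
    · exact T.one_mem
    · exact haT
    · exact hcT
    · exact T.mul_mem haT hcT

theorem map_conj_fourSub (a c : G) (ha : a * a = 1) (hc : c * c = 1) (hac : a * c = c * a)
    (g : G) (ha' : (g * a * g⁻¹) * (g * a * g⁻¹) = 1) (hc' : (g * c * g⁻¹) * (g * c * g⁻¹) = 1)
    (hac' : (g * a * g⁻¹) * (g * c * g⁻¹) = (g * c * g⁻¹) * (g * a * g⁻¹)) :
    (fourSub a c ha hc hac).map (MulAut.conj g).toMonoidHom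
      = fourSub (g * a * g⁻¹) (g * c * g⁻¹) ha' hc' hac' := by
  ext t
  simp only [Subgroup.mem_map, MulEquiv.coe_toMonoidHom, MulAut.conj_apply, mem_fourSub]
  constructor
  · rintro ⟨s, (rfl | rfl | rfl | rfl), rfl⟩
    · left; group
    · right; left; rfl
    · right; right; left; rfl
    · right; right; right; group
  · rintro (rfl | rfl | rfl | rfl)
    · exact ⟨1, Or.inl rfl, by group⟩
    · exact ⟨a, Or.inr (Or.inl rfl), rfl⟩
    · exact ⟨c, Or.inr (Or.inr (Or.inl rfl)), rfl⟩
    · exact ⟨a * c, Or.inr (Or.inr (Or.inr rfl)), by group⟩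

end Cfsg.Agent.Helper20
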