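import Mathlib

/-!
# Piece (F2a) for S4188: at most four square roots of `1` among the units of `ZMod (2 ^ m)`
-/

set_option autoImplicit false
set_option linter.style.haveILetI false

namespace Cfsg.Agent.Helper20.FratLin

/-- the square roots of `1` in `ZMod (2 ^ m)`, `m ≥ 2`, are `±1` and `2^(m-1) ± 1`. -/
theorem sq_eq_one_cases (m : ℕ) (hm : 2 ≤ m) (x : ZMod (2 ^ m)) (hx : x ^ 2 = 1) :
    x = 1 ∨ x = -1 ∨ x = 2 ^ (m - 1) + 1 ∨ x = 2 ^ (m - 1) - 1 := by
  haveI : NeZero (2 ^ m) := ⟨by positivity⟩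
  obtain ⟨a, rfl⟩ : ∃ a : ℤ, (a : ZMod (2 ^ m)) = x := ⟨(x.val : ℤ), by simp⟩
  have h1 : ((2 ^ m : ℕ) : ℤ) ∣ a ^ 2 - 1 := by
    rw [← ZMod.intCast_zmod_eq_zero_iff_dvd]
    push_cast
    rw [hx, sub_self]
  have hpow0 : ((2 : ZMod (2 ^ m)) ^ m) = 0 := by
    have := ZMod.natCast_self (2 ^ m)
    exact_mod_cast this
  have hsplit : (2 : ℤ) ^ m = 4 * 2 ^ (m - 2) := by
    have : m = (m - 2) + 2 := by omega
    conv_lhs => rw [this, pow_add]
    ring
  have hsplit1 : (2 : ZMod (2 ^ m)) ^ (m - 1) * 2 = 2 ^ m := by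
    rw [← pow_succ, Nat.sub_add_cancel (by omega : 1 ≤ m)]
  have hsplit2 : (2 : ℤ) ^ (m - 1) = 2 * 2 ^ (m - 2) := by
    have : m - 1 = (m - 2) + 1 := by omega
    rw [this, pow_succ]
    ring
  -- `a` is odd
  have hodd : Odd a := by
    rcases Int.even_or_odd a with he | ho
    · exfalso
      obtain ⟨c, hc⟩ := he
      have h2 : (2 : ℤ) ∣ a ^ 2 - 1 := by
        refine dvd_trans ?_ h1
        push_cast
        exact dvd_pow_self 2 (by omega)
      obtain ⟨k, hk⟩ := h2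
      rw [hc] at hk
      have : (c + c) ^ 2 - 1 = 2 * (2 * (c * c)) - 1 := by ring
      omega
    · exact ho
  obtain ⟨b, hb⟩ := hodd
  have h2 : (2 : ℤ) ^ (m - 2) ∣ b * (b + 1) := by
    have h3 : (4 : ℤ) * 2 ^ (m - 2) ∣ 4 * (b * (b + 1)) := by
      have : a ^ 2 - 1 = 4 * (b * (b + 1)) := by rw [hb]; ring
      rw [← this, ← hsplit]
      exact_mod_cast h1
    exact (mul_dvd_mul_iff_left (by norm_num : (4 : ℤ) ≠ 0)).1 h3
  rcases Int.even_or_odd b with he | ho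
  · -- `b` even: `2^(m-2) ∣ b`
    obtain ⟨c, hc⟩ := he
    have hcop : IsCoprime ((2 : ℤ) ^ (m - 2)) (b + 1) := by
      apply IsCoprime.pow_left
      exact ⟨-c, 1, by rw [hc]; ring⟩
    obtain ⟨e, he⟩ := hcop.dvd_of_dvd_mul_right h2
    have ha : a = 2 ^ (m - 1) * e + 1 := by
      rw [hb, he, hsplit2]; ring
    rcases Int.even_or_odd e with hee | heo
    · left
      obtain ⟨f, hf⟩ := hee
      rw [ha, hf]
      push_cast
      have : (2 : ZMod (2 ^ m)) ^ (m - 1) * ((f : ZMod (2 ^ m)) + f) + 1 =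
          (2 ^ (m - 1) * 2) * f + 1 := by ring
      rw [this, hsplit1, hpow0, zero_mul, zero_add]
    · right; right; left
      obtain ⟨f, hf⟩ := heo
      rw [ha, hf]
      push_cast
      have : (2 : ZMod (2 ^ m)) ^ (m - 1) * (2 * (f : ZMod (2 ^ m)) + 1) + 1 =
          (2 ^ (m - 1) * 2) * f + (2 ^ (m - 1) + 1) := by ring
      rw [this, hsplit1, hpow0, zero_mul, zero_add]
  · -- `b` odd: `2^(m-2) ∣ b + 1`
    obtain ⟨c, hc⟩ := ho
    have hcop : IsCoprime ((2 : ℤ) ^ (m - 2)) b := by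
      apply IsCoprime.pow_left
      exact ⟨-c, 1, by rw [hc]; ring⟩
    obtain ⟨e, he⟩ := hcop.dvd_of_dvd_mul_left h2
    have ha : a = 2 ^ (m - 1) * e - 1 := by
      have : a = 2 * (b + 1) - 1 := by rw [hb]; ring
      rw [this, he, hsplit2]; ring
    rcases Int.even_or_odd e with hee | heo
    · right; left
      obtain ⟨f, hf⟩ := hee
      rw [ha, hf]
      push_cast
      have : (2 : ZMod (2 ^ m)) ^ (m - 1) * ((f : ZMod (2 ^ m)) + f) - 1 =
          (2 ^ (m - 1) * 2) * f - 1 := by ring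
      rw [this, hsplit1, hpow0, zero_mul, zero_sub]
    · right; right; right
      obtain ⟨f, hf⟩ := heo
      rw [ha, hf]
      push_cast
      have : (2 : ZMod (2 ^ m)) ^ (m - 1) * (2 * (f : ZMod (2 ^ m)) + 1) - 1 =
          (2 ^ (m - 1) * 2) * f + (2 ^ (m - 1) - 1) := by ring
      rw [this, hsplit1, hpow0, zero_mul, zero_add]

/-- (F2a) at most `4` units `u` of `ZMod (2 ^ m)` satisfy `u ^ 2 = 1`. -/
theorem card_units_sq_eq_one_le (m : ℕ) :
    Nat.card {u : (ZMod (2 ^ m))ˣ // u ^ 2 = 1} ≤ 4 := by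
  haveI : NeZero (2 ^ m) := ⟨by positivity⟩
  classical
  by_cases hm : 2 ≤ m
  · let S : Finset (ZMod (2 ^ m)) := {1, -1, 2 ^ (m - 1) + 1, 2 ^ (m - 1) - 1}
    let f : {u : (ZMod (2 ^ m))ˣ // u ^ 2 = 1} → S := fun u =>
      ⟨((u : (ZMod (2 ^ m))ˣ) : ZMod (2 ^ m)), by
        have hu : (((u : (ZMod (2 ^ m))ˣ) : ZMod (2 ^ m))) ^ 2 = 1 := by
          have := congrArg (fun v : (ZMod (2 ^ m))ˣ => (v : ZMod (2 ^ m))) u.2
          simpa using this
        have := sq_eq_one_cases m hm _ hu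
        simp only [S, Finset.mem_insert, Finset.mem_singleton]
        exact this⟩
    have hf : Function.Injective f := by
      intro u v huv
      have : ((u : (ZMod (2 ^ m))ˣ) : ZMod (2 ^ m)) = ((v : (ZMod (2 ^ m))ˣ) : ZMod (2 ^ m)) :=
        congrArg Subtype.val huv
      exact Subtype.ext (Units.ext this)
    calc Nat.card {u : (ZMod (2 ^ m))ˣ // u ^ 2 = 1} ≤ Nat.card S :=
          Nat.card_le_card_of_injective f hf
      _ = S.card := by rw [Nat.card_eq_fintype_card, Fintype.card_coe]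
      _ ≤ 4 := Finset.card_le_four
  · have h1 : Nat.card {u : (ZMod (2 ^ m))ˣ // u ^ 2 = 1} ≤ Nat.card (ZMod (2 ^ m)) := by
      refine Nat.card_le_card_of_injective
        (fun u => ((u : (ZMod (2 ^ m))ˣ) : ZMod (2 ^ m))) ?_
      intro u v huv
      exact Subtype.ext (Units.ext huv)
    have h2 : Nat.card (ZMod (2 ^ m)) = 2 ^ m := by
      rw [Nat.card_eq_fintype_card, ZMod.card]
    have h3 : 2 ^ m ≤ 2 ^ 1 := Nat.pow_le_pow_right (by norm_num) (by omega)
    omega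

end Cfsg.Agent.Helper20.FratLin
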