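import Mathlib
import Cfsg.Agent.S4169
import Cfsg.Agent.Helper48.NoncyclicAbelian

/-!
# Piece (F3) for S4188: a noncentral involution with two conjugates in a `2`-group
with a noncyclic normal abelian subgroup and a unique central involution
-/

set_option autoImplicit false
set_option linter.style.haveILetI false

namespace Cfsg.Agent.Helper20.FratLin

/-- an abelian noncyclic `2`-subgroup has at least four solutions of `x ^ 2 = 1`. -/
theorem four_le_card_omega {Q : Type*} [Group Q] [Finite Q] (hQ : IsPGroup 2 Q)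
    (A : Subgroup Q) (hAc : IsMulCommutative A) (hAnc : ¬ IsCyclic A) :
    ∃ Ω : Subgroup Q, Ω ≤ A ∧ (∀ x ∈ Ω, x ^ 2 = 1) ∧ (∀ x ∈ A, x ^ 2 = 1 → x ∈ Ω) ∧
      4 ≤ Nat.card Ω := by
  letI : CommGroup A :=
    { (inferInstance : Group A) with mul_comm := fun a b => (isMulCommutative_iff.mp hAc) a b }
  obtain ⟨p, hp, hcard⟩ := Cfsg.Agent.Helper48.exists_prime_sq_le_card_torsion (α := A) hAnc
  have hA2 : IsPGroup 2 A := hQ.to_subgroup A
  -- `p = 2`
  have hp2 : p = 2 := by
    by_contra hne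
    have hbot : (powMonoidHom p : A →* A).ker = ⊥ := by
      rw [Subgroup.eq_bot_iff_forall]
      intro x hx
      rw [MonoidHom.mem_ker, powMonoidHom_apply] at hx
      obtain ⟨k, hk⟩ := hA2 x
      have h1 : orderOf x ∣ p := orderOf_dvd_of_pow_eq_one hx
      have h2 : orderOf x ∣ 2 ^ k := orderOf_dvd_of_pow_eq_one hk
      have hcop : Nat.Coprime p (2 ^ k) := by
        apply Nat.Coprime.pow_right
        rw [Nat.coprime_primes hp Nat.prime_two]
        exact hne
      have h3 : orderOf x ∣ 1 := by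
        have := Nat.dvd_gcd h1 h2
        rwa [hcop.gcd_eq_one] at this
      exact orderOf_eq_one_iff.mp (Nat.dvd_one.mp h3)
    rw [hbot, Subgroup.card_bot] at hcard
    have : 2 ≤ p := hp.two_le
    nlinarith
  subst hp2
  refine ⟨((powMonoidHom 2 : A →* A).ker).map A.subtype, ?_, ?_, ?_, ?_⟩
  · intro x hx
    obtain ⟨a, _, rfl⟩ := Subgroup.mem_map.mp hx
    exact a.2
  · intro x hx
    obtain ⟨a, ha, rfl⟩ := Subgroup.mem_map.mp hx
    rw [MonoidHom.mem_ker, powMonoidHom_apply] at ha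
    have := congrArg (fun y : A => (y : Q)) ha
    simpa using this
  · intro x hxA hx2
    refine Subgroup.mem_map.mpr ⟨⟨x, hxA⟩, ?_, rfl⟩
    rw [MonoidHom.mem_ker, powMonoidHom_apply]
    exact Subtype.ext (by simpa using hx2)
  · rw [Subgroup.card_map_of_injective A.subtype_injective]
    exact hcard

/-- (F3) -/
theorem exists_noncentral_involution {Q : Type*} [Group Q] [Finite Q] (hQ : IsPGroup 2 Q)
    (A : Subgroup Q) (hAn : A.Normal) (hAc : IsMulCommutative A) (hAnc : ¬ IsCyclic A)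
    (huniq : ∀ c c' : Q, c ∈ Subgroup.center Q → c' ∈ Subgroup.center Q → c ^ 2 = 1 → c' ^ 2 = 1 →
      c ≠ 1 → c' ≠ 1 → c = c') :
    ∃ a z x : Q, z ∈ Subgroup.center Q ∧ z ≠ 1 ∧ z ^ 2 = 1 ∧ a ^ 2 = 1 ∧
      x * a * x⁻¹ = a * z ∧ (Subgroup.centralizer ({a} : Set Q)).index = 2 := by
  haveI : Fact (Nat.Prime 2) := ⟨Nat.prime_two⟩
  obtain ⟨Ω, hΩA, hΩ2, hΩmem, hΩcard⟩ := four_le_card_omega hQ A hAc hAnc
  -- `Ω` is normal
  haveI hΩn : Ω.Normal := by
    refine ⟨fun n hn g => ?_⟩
    apply hΩmem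
    · exact hAn.conj_mem n (hΩA hn) g
    · rw [conj_pow, hΩ2 n hn, mul_one, mul_inv_cancel]
  have hΩne : Ω ≠ ⊥ := by
    intro h
    rw [h, Subgroup.card_bot] at hΩcard
    omega
  obtain ⟨z, hzΩ, hz1, hzc⟩ := Cfsg.Agent.S4169.exists_central_of_normal hQ Ω hΩne
  have hz2 : z ^ 2 = 1 := hΩ2 z hzΩ
  -- the quotient by `⟨z⟩`
  set Z : Subgroup Q := Subgroup.zpowers z with hZ
  haveI hZn : Z.Normal := by
    refine ⟨fun n hn g => ?_⟩
    obtain ⟨k, rfl⟩ := Subgroup.mem_zpowers_iff.mp hn
    have hc : g * z ^ k = z ^ k * g := by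
      have : z ^ k ∈ Subgroup.center Q := Subgroup.zpow_mem _ hzc k
      exact (Subgroup.mem_center_iff.mp this g)
    rw [hc, mul_assoc, mul_inv_cancel, mul_one]
    exact Subgroup.zpow_mem_zpowers z k
  have hZmem : ∀ y : Q, y ∈ Z → y = 1 ∨ y = z := by
    intro y hy
    obtain ⟨k, rfl⟩ := Subgroup.mem_zpowers_iff.mp hy
    rcases Int.even_or_odd k with ⟨j, hj⟩ | ⟨j, hj⟩
    · left
      rw [hj, ← two_mul, zpow_mul, zpow_ofNat, hz2, one_zpow]
    · right
      rw [hj, zpow_add, zpow_mul, zpow_ofNat, hz2, one_zpow, one_mul, zpow_one]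
  have hZcard : Nat.card Z ≤ 2 := by
    classical
    have hsub : (Z : Set Q) ⊆ ({1, z} : Set Q) := by
      intro y hy
      rcases hZmem y hy with h | h
      · left; exact h
      · right; exact h
    calc Nat.card Z = Nat.card (Z : Set Q) := rfl
      _ ≤ Nat.card ({1, z} : Set Q) := Nat.card_mono (Set.toFinite _) hsub
      _ ≤ 2 := by
        rw [Nat.card_coe_set_eq]
        exact (Set.ncard_insert_le 1 {z}).trans (by rw [Set.ncard_singleton])
  set π := QuotientGroup.mk' Z with hπ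
  have hQbar : IsPGroup 2 (Q ⧸ Z) := hQ.to_quotient Z
  haveI hΩbarn : (Ω.map π).Normal := hΩn.map π (QuotientGroup.mk'_surjective Z)
  have hΩbarne : Ω.map π ≠ ⊥ := by
    intro h
    have hle : Ω ≤ Z := by
      intro y hy
      have : π y ∈ Ω.map π := Subgroup.mem_map_of_mem π hy
      rw [h, Subgroup.mem_bot] at this
      have h2 : y ∈ π.ker := this
      rwa [hπ, QuotientGroup.ker_mk'] at h2
    have := Subgroup.card_le_of_le hle
    omega
  obtain ⟨abar, habarΩ, habar1, habarc⟩ :=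
    Cfsg.Agent.S4169.exists_central_of_normal hQbar (Ω.map π) hΩbarne
  obtain ⟨a, haΩ, rfl⟩ := Subgroup.mem_map.mp habarΩ
  have ha2 : a ^ 2 = 1 := hΩ2 a haΩ
  have haZ : a ∉ Z := by
    intro h
    apply habar1
    have : a ∈ π.ker := by rw [hπ, QuotientGroup.ker_mk']; exact h
    exact this
  have ha1 : a ≠ 1 := fun h => haZ (h ▸ Z.one_mem)
  -- every conjugate of `a` is `a` or `a * z`
  have hconj : ∀ x : Q, x * a * x⁻¹ = a ∨ x * a * x⁻¹ = a * z := by
    intro x
    have h1 : π x * π a = π a * π x := Subgroup.mem_center_iff.mp habarc (π x)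
    have h2 : π (x * a * x⁻¹ * a⁻¹) = 1 := by
      rw [map_mul, map_mul, map_mul, h1, map_inv, map_inv, mul_assoc (π a), mul_inv_cancel,
        mul_one, mul_inv_cancel]
    have h3 : x * a * x⁻¹ * a⁻¹ ∈ Z := by
      have : x * a * x⁻¹ * a⁻¹ ∈ π.ker := h2
      rwa [hπ, QuotientGroup.ker_mk'] at this
    rcases hZmem _ h3 with h | h
    · left
      have := congrArg (· * a) h
      simpa using this
    · right
      have := congrArg (· * a) h
      simp only [inv_mul_cancel_right] at this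
      rw [this]
      exact (Subgroup.mem_center_iff.mp hzc a).symm
  -- `a` is not central
  have hanc : a ∉ Subgroup.center Q := by
    intro hac
    have := huniq a z hac hzc ha2 hz2 ha1 hz1
    exact haZ (this ▸ Subgroup.mem_zpowers z)
  obtain ⟨x, hx⟩ : ∃ x : Q, x * a * x⁻¹ ≠ a := by
    by_contra hcon
    push Not at hcon
    apply hanc
    rw [Subgroup.mem_center_iff]
    intro g
    have := hcon g
    have h2 := congrArg (· * g) this
    simpa using h2
  have hxa : x * a * x⁻¹ = a * z := (hconj x).resolve_left hx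
  refine ⟨a, z, x, hzc, hz1, hz2, ha2, hxa, ?_⟩
  -- the centralizer has index two
  have hmemC : ∀ b : Q, b ∈ Subgroup.centralizer ({a} : Set Q) ↔ b * a * b⁻¹ = a := by
    intro b
    rw [Subgroup.mem_centralizer_iff]
    constructor
    · intro h
      have := h a (Set.mem_singleton a)
      rw [← this, mul_inv_cancel_right]
    · intro h c hc
      rw [Set.mem_singleton_iff] at hc
      subst hc
      have := congrArg (· * b) h
      simpa using this.symm
  have haz : a * z ≠ a := by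
    intro h
    apply hz1
    have := mul_left_cancel (h.trans (mul_one a).symm)
    exact this
  rw [Subgroup.index_eq_two_iff]
  refine ⟨x, fun b => ?_⟩
  have hbx : b * x * a * (b * x)⁻¹ = b * a * b⁻¹ * z := by
    have : b * x * a * (b * x)⁻¹ = b * (x * a * x⁻¹) * b⁻¹ := by
      rw [mul_inv_rev]; group
    rw [this, hxa]
    have hzb : z * b⁻¹ = b⁻¹ * z := (Subgroup.mem_center_iff.mp hzc b⁻¹).symm
    rw [mul_assoc b, mul_assoc b, mul_assoc a, hzb, ← mul_assoc a, ← mul_assoc b, ← mul_assoc b]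
  rw [hmemC, hmemC, hbx]
  rcases hconj b with hb | hb
  · right
    refine ⟨hb, ?_⟩
    rw [hb]
    exact haz
  · left
    refine ⟨?_, ?_⟩
    · rw [hb, mul_assoc, ← pow_two, hz2, mul_one]
    · rw [hb]
      exact haz

end Cfsg.Agent.Helper20.FratLin
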