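import Mathlib.GroupTheory.Sylow

set_option autoImplicit false

namespace Cfsg.Agent.Helper20

open scoped Pointwise

variable {G : Type*} [Group G]

theorem sylow_conj_mem {p : ℕ} (P : Sylow p G) (h x : G) (hx : x ∈ P) :
    h * x * h⁻¹ ∈ (h • P : Sylow p G) := by
  have := Subgroup.smul_mem_pointwise_smul x (MulAut.conj h) (P : Subgroup G) hx
  rwa [MulAut.smul_def, MulAut.conj_apply] at this

theorem mem_map_conj_iff (A : Subgroup G) (g x : G) :
    x ∈ A.map (MulAut.conj g).toMonoidHom ↔ g⁻¹ * x * g ∈ A := by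
  rw [Subgroup.mem_map]
  constructor
  · rintro ⟨a, ha, rfl⟩
    have : g⁻¹ * ((MulAut.conj g).toMonoidHom a) * g = a := by
      simp [MulAut.conj_apply, mul_assoc]
    rwa [this]
  · intro h
    exact ⟨g⁻¹ * x * g, h, by simp [MulAut.conj_apply, mul_assoc]⟩

theorem conj_mem_map_conj (A : Subgroup G) (g a : G) (ha : a ∈ A) :
    g * a * g⁻¹ ∈ A.map (MulAut.conj g).toMonoidHom :=
  Subgroup.mem_map.mpr ⟨a, ha, by simp [MulAut.conj_apply]⟩

theorem map_conj_map_conj (A : Subgroup G) (g h : G) :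
    (A.map (MulAut.conj g).toMonoidHom).map (MulAut.conj h).toMonoidHom
      = A.map (MulAut.conj (h * g)).toMonoidHom := by
  ext x
  simp only [mem_map_conj_iff]
  have : g⁻¹ * (h⁻¹ * x * h) * g = (h * g)⁻¹ * x * (h * g) := by group
  rw [this]

theorem map_conj_one (A : Subgroup G) : A.map (MulAut.conj (1 : G)).toMonoidHom = A := by
  ext x
  simp

/-- Any `p`-subgroup can be conjugated into a given Sylow `p`-subgroup of a finite group. -/
theorem exists_conj_le_sylow [Finite G] {p : ℕ} [Fact p.Prime] (S : Sylow p G) {H : Subgroup G}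
    (hH : IsPGroup p H) : ∃ h : G, H.map (MulAut.conj h).toMonoidHom ≤ S := by
  obtain ⟨Q, hQ⟩ := hH.exists_le_sylow
  obtain ⟨h, hh⟩ := MulAction.exists_smul_eq G Q S
  refine ⟨h, ?_⟩
  intro x hx
  rw [mem_map_conj_iff] at hx
  have h1 := sylow_conj_mem Q h _ (hQ hx)
  rw [hh] at h1
  have : h * (h⁻¹ * x * h) * h⁻¹ = x := by group
  rwa [this] at h1

end Cfsg.Agent.Helper20
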