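-- helper20: non-fusion of the central involution when a four-group has automizer of order two.
import Cfsg.Agent.Helper20.Fusion3
import Cfsg.Agent.Helper20.SylowConj
import Cfsg.Agent.Helper52.SylowLemmas
import Cfsg.Agent.S1190

set_option autoImplicit false

namespace Cfsg.Agent.Helper20

open Subgroup
open scoped Pointwise

variable {G : Type*} [Group G]

theorem mem_smul_sylow_iff {p : ℕ} (P : Sylow p G) (a x : G) :
    x ∈ (a • P : Sylow p G) ↔ a⁻¹ * x * a ∈ P := by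
  constructor
  · intro hx
    have h1 := sylow_conj_mem (a • P) a⁻¹ x hx
    rw [← mul_smul, inv_mul_cancel, one_smul, inv_inv] at h1
    exact h1
  · intro hx
    have h1 := sylow_conj_mem P a _ hx
    have : a * (a⁻¹ * x * a) * a⁻¹ = x := by group
    rwa [this] at h1

/-- In a quasi-dihedral Sylow 2-subgroup, every four-subgroup is normalized but not centralized by
some element of the Sylow subgroup. -/
theorem exists_swap_of_quasiDihedral [Finite G] (S : Sylow 2 G)
    (hS : Cfsg.IsQuasiDihedral (S : Subgroup G)) (T : Subgroup G) (hT : IsKleinFour T)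
    (hTS : T ≤ S) :
    ∃ s ∈ (S : Subgroup G), s ∈ normalizer (T : Set G) ∧ s ∉ centralizer (T : Set G) := by
  have hT' : IsKleinFour (T.subgroupOf (S : Subgroup G)) :=
    isKleinFour_of_equiv (Subgroup.subgroupOfEquivOfLe hTS) hT
  obtain ⟨hcent, hidx⟩ := (Cfsg.Agent.S1190.result hS).2 _ hT'
  have hex : ∃ s' : (S : Subgroup G),
      s' ∈ normalizer ((T.subgroupOf (S : Subgroup G) : Subgroup S) : Set S) ∧
      s' ∉ T.subgroupOf (S : Subgroup G) := by
    by_contra hcon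
    simp only [not_exists, not_and, not_not] at hcon
    have : (T.subgroupOf (S : Subgroup G)).relIndex
        (normalizer ((T.subgroupOf (S : Subgroup G) : Subgroup S) : Set S)) = 1 :=
      Subgroup.relIndex_eq_one.mpr hcon
    omega
  obtain ⟨s', hs'N, hs'T⟩ := hex
  refine ⟨s', s'.2, coe_mem_normalizer_of_subgroupOf hTS hs'N, ?_⟩
  intro hc
  apply hs'T
  rw [← hcent, mem_centralizer_iff]
  intro t ht
  rw [mem_centralizer_iff] at hc
  apply Subtype.ext
  have := hc (t : G) (by rw [SetLike.mem_coe, mem_subgroupOf] at ht; exact ht)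
  simpa using this

/-- If `|N(T) : C(T)| = 2` for a four-subgroup `T` of a Sylow 2-subgroup `S` in which all
four-subgroups have a swapping element, then an involution `z ∈ T` central in `S` is not conjugate
to another involution `t ∈ T`. -/
theorem not_isConj_of_relIndex_two [Finite G] (S : Sylow 2 G) (T : Subgroup G)
    (hT : IsKleinFour T) (hTS : T ≤ S)
    (h₁ : (centralizer (T : Set G)).relIndex (normalizer (T : Set G)) = 2)
    {z t : G} (hzT : z ∈ T) (htT : t ∈ T) (hz1 : z ≠ 1) (ht1 : t ≠ 1) (hzt : z ≠ t)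
    (hzc : ∀ s ∈ (S : Subgroup G), s * z = z * s)
    (hswap : ∀ T' : Subgroup G, IsKleinFour T' → T' ≤ S →
      ∃ s ∈ (S : Subgroup G), s ∈ normalizer (T' : Set G) ∧ s ∉ centralizer (T' : Set G)) :
    ¬ IsConj z t := by
  intro hconj
  obtain ⟨a, ha⟩ := isConj_iff.mp hconj
  haveI : Fact (Nat.Prime 2) := ⟨Nat.prime_two⟩
  -- the Sylow subgroup `a • S` centralizes `t`
  have hP₁C : ((a • S : Sylow 2 G) : Subgroup G) ≤ centralizer ({t} : Set G) := by
    intro p hp
    have hp' : a⁻¹ * p * a ∈ S := (mem_smul_sylow_iff S a p).mp hp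
    have h1 := hzc _ hp'
    rw [mem_centralizer_iff]
    intro u hu
    rw [Set.mem_singleton_iff] at hu
    rw [hu, ← ha]
    calc a * z * a⁻¹ * p = a * (z * (a⁻¹ * p * a)) * a⁻¹ := by group
      _ = a * ((a⁻¹ * p * a) * z) * a⁻¹ := by rw [h1]
      _ = p * (a * z * a⁻¹) := by group
  have hTC : T ≤ centralizer ({t} : Set G) := by
    intro u hu
    rw [mem_centralizer_iff]
    intro v hv
    rw [Set.mem_singleton_iff] at hv
    rw [hv]
    exact kleinFour_comm hT htT hu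
  have hTp : IsPGroup 2 T := IsPGroup.of_card (n := 2) (by rw [hT.card_four]; norm_num)
  obtain ⟨g, hgC, hg⟩ :=
    Cfsg.Agent.Helper52.exists_conj_le_sylow_of_le (a • S : Sylow 2 G) _ T hP₁C hTC hTp
  have hgt : g * t * g⁻¹ = t := by
    rw [mem_centralizer_iff] at hgC
    have := hgC t (Set.mem_singleton t)
    rw [← this]; group
  obtain ⟨b, hb⟩ : ∃ b : G, b = a⁻¹ * g := ⟨_, rfl⟩
  have hbS : ∀ u ∈ T, b * u * b⁻¹ ∈ (S : Subgroup G) := by
    intro u hu
    have h1 := (mem_smul_sylow_iff S a _).mp (hg u hu)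
    have : b * u * b⁻¹ = a⁻¹ * (g * u * g⁻¹) * a := by rw [hb]; group
    rwa [this]
  have hbt : b * t * b⁻¹ = z := by
    have : b * t * b⁻¹ = a⁻¹ * (g * t * g⁻¹) * a := by rw [hb]; group
    rw [this, hgt, ← ha]; group
  -- the conjugate four-group
  obtain ⟨T', hT'def⟩ : ∃ T' : Subgroup G, T' = T.map (MulAut.conj b).toMonoidHom := ⟨_, rfl⟩
  have hT'K : IsKleinFour T' := by
    rw [hT'def]
    exact isKleinFour_of_equiv
      (T.equivMapOfInjective (MulAut.conj b).toMonoidHom (MulAut.conj b).injective).symm hT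
  have hT'S : T' ≤ S := by
    rw [hT'def]
    rintro _ ⟨u, hu, rfl⟩
    exact hbS u hu
  have hmemT' : ∀ u : G, u ∈ T' ↔ b⁻¹ * u * b ∈ T := by
    intro u; rw [hT'def]; exact mem_map_conj_iff T b u
  obtain ⟨s, hsS, hsN, hsC⟩ := hswap T' hT'K hT'S
  obtain ⟨s₂, hs₂⟩ : ∃ s₂ : G, s₂ = b⁻¹ * s * b := ⟨_, rfl⟩
  have hs₂N : s₂ ∈ normalizer (T : Set G) := by
    rw [mem_normalizer_iff]
    intro u
    have h1 := (mem_normalizer_iff.mp hsN) (b * u * b⁻¹)
    rw [hmemT', hmemT'] at h1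
    have e1 : b⁻¹ * (b * u * b⁻¹) * b = u := by group
    have e2 : b⁻¹ * (s * (b * u * b⁻¹) * s⁻¹) * b = s₂ * u * s₂⁻¹ := by rw [hs₂]; group
    rw [e1, e2] at h1
    exact h1
  have hs₂C : s₂ ∉ centralizer (T : Set G) := by
    intro hc
    apply hsC
    rw [mem_centralizer_iff] at hc ⊢
    intro u hu
    have hu' : b⁻¹ * u * b ∈ T := (hmemT' u).mp hu
    have h1 := hc _ hu'
    rw [hs₂] at h1
    have h2 : b * (b⁻¹ * u * b * (b⁻¹ * s * b)) * b⁻¹ = b * (b⁻¹ * s * b * (b⁻¹ * u * b)) * b⁻¹ := by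
      rw [h1]
    have e1 : b * (b⁻¹ * u * b * (b⁻¹ * s * b)) * b⁻¹ = u * s := by group
    have e2 : b * (b⁻¹ * s * b * (b⁻¹ * u * b)) * b⁻¹ = s * u := by group
    rw [e1, e2] at h2
    exact h2
  have hs₂t : s₂ * t * s₂⁻¹ = t := by
    have h1 : s * z * s⁻¹ = z := by rw [hzc s hsS]; group
    have : s₂ * t * s₂⁻¹ = b⁻¹ * (s * (b * t * b⁻¹) * s⁻¹) * b := by rw [hs₂]; group
    rw [this, hbt, h1, ← hbt]; group
  obtain ⟨s₁, hs₁S, hs₁N, hs₁C⟩ := hswap T hT hTS
  have hs₁z : s₁ * z * s₁⁻¹ = z := by rw [hzc s₁ hs₁S]; group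
  -- index two
  have hidx : ((centralizer (T : Set G)).subgroupOf (normalizer (T : Set G))).index = 2 := h₁
  have hprod : s₁ * s₂ ∈ centralizer (T : Set G) := by
    have := (Subgroup.mul_mem_iff_of_index_two hidx (a := ⟨s₁, hs₁N⟩) (b := ⟨s₂, hs₂N⟩)).mpr
      (iff_of_false (fun h' => hs₁C (mem_subgroupOf.mp h')) (fun h' => hs₂C (mem_subgroupOf.mp h')))
    exact mem_subgroupOf.mp this
  have hs₁t : s₁ * t * s₁⁻¹ = t := by
    rw [mem_centralizer_iff] at hprod
    have h1 := hprod t htT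
    have h2 : s₁ * t * s₁⁻¹ = s₁ * (s₂ * t * s₂⁻¹) * s₁⁻¹ := by rw [hs₂t]
    rw [h2]
    calc s₁ * (s₂ * t * s₂⁻¹) * s₁⁻¹ = (s₁ * s₂ * t) * (s₁ * s₂)⁻¹ := by group
      _ = (t * (s₁ * s₂)) * (s₁ * s₂)⁻¹ := by rw [← h1]
      _ = t := by group
  apply hs₁C
  have hel := four_group_elems T hT.card_four hzT htT hz1 ht1 hzt (kleinFour_sq hT htT)
  rw [mem_centralizer_iff]
  intro u hu
  have hconj : s₁ * u * s₁⁻¹ = u := by
    rcases hel u hu with h | h | h | h
    · rw [h]; group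
    · rw [h]; exact hs₁z
    · rw [h]; exact hs₁t
    · rw [h]
      calc s₁ * (z * t) * s₁⁻¹ = (s₁ * z * s₁⁻¹) * (s₁ * t * s₁⁻¹) := by group
        _ = z * t := by rw [hs₁z, hs₁t]
  calc u * s₁ = (s₁ * u * s₁⁻¹) * s₁ := by rw [hconj]
    _ = s₁ * u := by group

end Cfsg.Agent.Helper20
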