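-- helper20: Sylow 2-subgroups of a subgroup of index two.
import Cfsg.Agent.Helper20.Fusion4

set_option autoImplicit false

namespace Cfsg.Agent.Helper20

open Subgroup

variable {G : Type*} [Group G]

/-- `A ∩ B` seen inside `B` and inside `A`. -/
def subgroupOfSwap (A B : Subgroup G) : ↥(A.subgroupOf B) ≃* ↥(B.subgroupOf A) where
  toFun s := ⟨⟨((s : B) : G), Subgroup.mem_subgroupOf.mp s.2⟩, Subgroup.mem_subgroupOf.mpr (s : B).2⟩
  invFun s := ⟨⟨((s : A) : G), Subgroup.mem_subgroupOf.mp s.2⟩, Subgroup.mem_subgroupOf.mpr (s : A).2⟩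
  left_inv _ := rfl
  right_inv _ := rfl
  map_mul' _ _ := rfl

theorem factorization_two_of_index_two [Finite G] (S : Sylow 2 G) (K : Subgroup G)
    (hK : K.index = 2) (n : ℕ) (hS : Nat.card (S : Subgroup G) = 2 ^ (n + 1)) :
    (Nat.card K).factorization 2 = n := by
  haveI : Fact (Nat.Prime 2) := ⟨Nat.prime_two⟩
  have h1 := S.card_eq_multiplicity
  rw [hS] at h1
  have h2 : n + 1 = (Nat.card G).factorization 2 := Nat.pow_right_injective (le_refl 2) h1
  have h3 := K.card_mul_index
  rw [hK] at h3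
  have h4 : (Nat.card K * 2).factorization 2 = (Nat.card K).factorization 2 + 1 := by
    rw [Nat.factorization_mul Nat.card_pos.ne' (by norm_num)]
    simp [Nat.Prime.factorization_self Nat.prime_two]
  rw [h3] at h4
  omega

/-- If `K` has index two in `G` and `S ∩ K` has half the order of the Sylow 2-subgroup `S`,
then `S ∩ K` is a Sylow 2-subgroup of `K`. -/
theorem exists_sylow_subgroupOf [Finite G] (S : Sylow 2 G) (K : Subgroup G)
    (hK : K.index = 2) (n : ℕ) (hS : Nat.card (S : Subgroup G) = 2 ^ (n + 1))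
    (hSK : Nat.card ((S : Subgroup G).subgroupOf K) = 2 ^ n) :
    ∃ P : Sylow 2 ↥K, (P : Subgroup ↥K) = (S : Subgroup G).subgroupOf K := by
  haveI : Fact (Nat.Prime 2) := ⟨Nat.prime_two⟩
  have h1 := factorization_two_of_index_two S K hK n hS
  refine ⟨Sylow.ofCard ((S : Subgroup G).subgroupOf K) (by rw [h1, hSK]), rfl⟩

end Cfsg.Agent.Helper20
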