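-- helper20: more element facts on subgroups isomorphic to Q₈ (order four elements, centralizers).
import Cfsg.Agent.Helper20.Quat8

set_option autoImplicit false

namespace Cfsg.Agent.Helper20

theorem q8_noncomm_sq (p q : QuaternionGroup 2) (h : p * q ≠ q * p) :
    p * p ≠ 1 ∧ q * q ≠ 1 ∧ (p * q) * (p * q) ≠ 1 := by
  revert p q; decide

theorem q8_centralizer_order4 (p r : QuaternionGroup 2) (hp : p * p ≠ 1) (h : p * r = r * p)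
    (hr : r * r ≠ 1) : r = p ∨ r = p⁻¹ := by
  revert p r; decide

variable {G : Type*} [Group G]

theorem quat_noncomm_sq (Q : Subgroup G) (eQ : Q ≃* QuaternionGroup 2) {p q : G} (hp : p ∈ Q)
    (hq : q ∈ Q) (h : p * q ≠ q * p) : p * p ≠ 1 ∧ q * q ≠ 1 ∧ (p * q) * (p * q) ≠ 1 := by
  have h' : eQ ⟨p, hp⟩ * eQ ⟨q, hq⟩ ≠ eQ ⟨q, hq⟩ * eQ ⟨p, hp⟩ := by
    intro hc
    apply h
    have : (⟨p, hp⟩ : Q) * ⟨q, hq⟩ = ⟨q, hq⟩ * ⟨p, hp⟩ := by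
      apply eQ.injective; rw [map_mul, map_mul]; exact hc
    exact congrArg Subtype.val this
  obtain ⟨h1, h2, h3⟩ := q8_noncomm_sq _ _ h'
  refine ⟨?_, ?_, ?_⟩
  · intro hc
    apply h1
    rw [← map_mul]
    have : (⟨p, hp⟩ : Q) * ⟨p, hp⟩ = 1 := Subtype.ext hc
    rw [this, map_one]
  · intro hc
    apply h2
    rw [← map_mul]
    have : (⟨q, hq⟩ : Q) * ⟨q, hq⟩ = 1 := Subtype.ext hc
    rw [this, map_one]
  · intro hc
    apply h3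
    rw [← map_mul, ← map_mul]
    have : ((⟨p, hp⟩ : Q) * ⟨q, hq⟩) * (⟨p, hp⟩ * ⟨q, hq⟩) = 1 := Subtype.ext hc
    rw [this, map_one]

theorem quat_centralizer_order4 (Q : Subgroup G) (eQ : Q ≃* QuaternionGroup 2) {p r : G}
    (hp : p ∈ Q) (hr : r ∈ Q) (hp2 : p * p ≠ 1) (h : p * r = r * p) (hr2 : r * r ≠ 1) :
    r = p ∨ r = p⁻¹ := by
  have h1 : eQ ⟨p, hp⟩ * eQ ⟨p, hp⟩ ≠ 1 := by
    intro hc
    apply hp2
    have : (⟨p, hp⟩ : Q) * ⟨p, hp⟩ = 1 := by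
      apply eQ.injective; rw [map_mul, map_one]; exact hc
    exact congrArg Subtype.val this
  have h2 : eQ ⟨r, hr⟩ * eQ ⟨r, hr⟩ ≠ 1 := by
    intro hc
    apply hr2
    have : (⟨r, hr⟩ : Q) * ⟨r, hr⟩ = 1 := by
      apply eQ.injective; rw [map_mul, map_one]; exact hc
    exact congrArg Subtype.val this
  have h3 : eQ ⟨p, hp⟩ * eQ ⟨r, hr⟩ = eQ ⟨r, hr⟩ * eQ ⟨p, hp⟩ := by
    rw [← map_mul, ← map_mul]
    congr 1
    exact Subtype.ext h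
  rcases q8_centralizer_order4 _ _ h1 h3 h2 with h4 | h4
  · left
    have : (⟨r, hr⟩ : Q) = ⟨p, hp⟩ := eQ.injective h4
    exact congrArg Subtype.val this
  · right
    have : (⟨r, hr⟩ : Q) = (⟨p, hp⟩ : Q)⁻¹ := by
      apply eQ.injective; rw [map_inv]; exact h4
    exact congrArg Subtype.val this

/-- A quaternion subgroup `Q` meets a commutative subgroup `A` "of index two" in a cyclic group of
order 4: there is `i ∈ Q ∩ A` of order 4 such that the elements of order 4 of `Q ∩ A` are `i, i⁻¹`. -/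
theorem exists_order_four_inter (Q : Subgroup G) (eQ : Q ≃* QuaternionGroup 2) (A : Subgroup G)
    (hA : ∀ a ∈ A, ∀ b ∈ A, a * b = b * a)
    (hidx : ∀ a ∈ Q, ∀ b ∈ Q, a ∉ A → b ∉ A → a * b ∈ A) :
    ∃ i ∈ Q, i ∈ A ∧ i * i ≠ 1 ∧ ∀ r ∈ Q, r ∈ A → r * r ≠ 1 → r = i ∨ r = i⁻¹ := by
  obtain ⟨p, hp, q, hq, hpq⟩ := exists_noncomm_q8 Q eQ
  obtain ⟨hp2, hq2, hpq2⟩ := quat_noncomm_sq Q eQ hp hq hpq
  have key : ∀ i ∈ Q, i ∈ A → i * i ≠ 1 →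
      ∃ i ∈ Q, i ∈ A ∧ i * i ≠ 1 ∧ ∀ r ∈ Q, r ∈ A → r * r ≠ 1 → r = i ∨ r = i⁻¹ :=
    fun i hiQ hiA hi2 => ⟨i, hiQ, hiA, hi2, fun r hrQ hrA hr2 =>
      quat_centralizer_order4 Q eQ hiQ hrQ hi2 (hA i hiA r hrA) hr2⟩
  by_cases hpA : p ∈ A
  · exact key p hp hpA hp2
  · by_cases hqA : q ∈ A
    · exact key q hq hqA hq2
    · exact key (p * q) (Q.mul_mem hp hq) (hidx p hp q hq hpA hqA) hpq2

end Cfsg.Agent.Helper20
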