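import Cfsg.Agent.Helper20.QD3

set_option autoImplicit false

namespace Cfsg.Agent.Helper20

open scoped commutatorElement

/-- A subgroup of index two is a maximal subgroup. -/
theorem isCoatom_of_index_two {G : Type*} [Group G] (H : Subgroup G) (hH : H.index = 2) :
    IsCoatom H := by
  constructor
  · intro h
    rw [h, Subgroup.index_top] at hH
    omega
  · intro K hK
    have hle : H ≤ K := hK.le
    have hd : K.index ∣ H.index := Subgroup.index_dvd_of_le hle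
    rw [hH] at hd
    have h12 : K.index = 1 ∨ K.index = 2 := by
      have := Nat.le_of_dvd (by norm_num) hd
      have h0 : K.index ≠ 0 := by
        intro h0; rw [h0] at hd; omega
      omega
    rcases h12 with h1 | h2
    · exact Subgroup.index_eq_one.mp h1
    · exfalso
      have h3 := Subgroup.relIndex_mul_index hle
      rw [hH, h2] at h3
      have h4 : H.relIndex K = 1 := by omega
      have := Subgroup.relIndex_eq_one.mp h4
      exact hK.not_ge this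

namespace QDData

variable {S : Type*} [Group S] {k : ℕ} {x y : S}

/-- The subgroups `⟨x², x^ε y⟩` of index two. -/
def maxSub (h : QDData S k x y) (ε : ℤ) : Subgroup S where
  carrier := {s | (∃ c : ℤ, s = x ^ (2 * c)) ∨ (∃ c : ℤ, s = x ^ (2 * c + ε) * y)}
  one_mem' := Or.inl ⟨0, by simp⟩
  mul_mem' := by
    rintro a b (⟨c, rfl⟩ | ⟨c, rfl⟩) (⟨d, rfl⟩ | ⟨d, rfl⟩)
    · left; exact ⟨c + d, by rw [← zpow_add]; congr 1; ring⟩
    · right; exact ⟨c + d, by rw [xpow_mul_xpow_y]; congr 2; ring⟩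
    · right
      refine ⟨c + (4 * 2 ^ k - 1) * d, ?_⟩
      rw [h.xpow_mul_y_mul_xpow]; congr 2; ring
    · left
      refine ⟨c + (4 * 2 ^ k - 1) * d + 2 * 2 ^ k * ε, ?_⟩
      rw [h.xpow_y_mul_xpow_y]; congr 1; ring
  inv_mem' := by
    rintro a (⟨c, rfl⟩ | ⟨c, rfl⟩)
    · left; exact ⟨-c, by rw [← zpow_neg]; congr 1; ring⟩
    · right
      refine ⟨-(4 * 2 ^ k - 1) * c - 2 * 2 ^ k * ε, ?_⟩
      rw [h.xpow_y_inv]; congr 2; ring

theorem xpow_mem_maxSub (h : QDData S k x y) (ε i : ℤ) :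
    x ^ i ∈ h.maxSub ε ↔ (2 : ℤ) ∣ i := by
  constructor
  · rintro (⟨c, hc⟩ | ⟨c, hc⟩)
    · rw [h.xpow_eq_iff] at hc
      obtain ⟨d, hd⟩ := hc
      exact ⟨c + 4 * 2 ^ k * d, by linarith⟩
    · exact absurd hc (h.xpow_ne_xpow_y _ _)
  · rintro ⟨c, rfl⟩
    exact Or.inl ⟨c, rfl⟩

theorem xpow_y_mem_maxSub (h : QDData S k x y) (ε i : ℤ) :
    x ^ i * y ∈ h.maxSub ε ↔ (2 : ℤ) ∣ i - ε := by
  constructor
  · rintro (⟨c, hc⟩ | ⟨c, hc⟩)
    · exact absurd hc.symm (h.xpow_ne_xpow_y _ _)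
    · rw [h.xpow_y_eq_iff] at hc
      obtain ⟨d, hd⟩ := hc
      exact ⟨c + 4 * 2 ^ k * d, by linarith⟩
  · rintro ⟨c, hc⟩
    exact Or.inr ⟨c, by congr 2; linarith⟩

theorem index_maxSub (h : QDData S k x y) (ε : ℤ) : (h.maxSub ε).index = 2 := by
  rw [Subgroup.index_eq_two_iff]
  refine ⟨x ^ (1 : ℤ), ?_⟩
  intro b
  rcases h.cases b with ⟨i, rfl⟩ | ⟨i, rfl⟩
  · rw [← zpow_add, xpow_mem_maxSub, xpow_mem_maxSub]
    rcases Int.even_or_odd' i with ⟨d, rfl | rfl⟩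
    · right; exact ⟨⟨d, rfl⟩, by omega⟩
    · left; exact ⟨⟨d + 1, by ring⟩, by omega⟩
  · rw [h.xpow_mul_y_mul_xpow, xpow_y_mem_maxSub, xpow_y_mem_maxSub]
    rcases Int.even_or_odd' (i - ε) with ⟨d, hd | hd⟩
    · right
      refine ⟨⟨d, hd⟩, ?_⟩
      rintro ⟨e, he⟩
      have : (2 : ℤ) ∣ 1 := ⟨2 * 2 ^ k + d - e, by linarith⟩
      omega
    · left
      refine ⟨⟨d + 2 * 2 ^ k, by linarith⟩, ?_⟩
      rintro ⟨e, he⟩
      omega

theorem isCoatom_maxSub (h : QDData S k x y) (ε : ℤ) : IsCoatom (h.maxSub ε) :=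
  isCoatom_of_index_two _ (h.index_maxSub ε)

theorem isCoatom_zpowers (h : QDData S k x y) : IsCoatom (Subgroup.zpowers x) :=
  isCoatom_of_index_two _ h.index_zpowers

theorem maxSub_ne (h : QDData S k x y) : h.maxSub 0 ≠ h.maxSub 1 := by
  intro he
  have h1 : x ^ (0 : ℤ) * y ∈ h.maxSub 0 := (h.xpow_y_mem_maxSub 0 0).mpr ⟨0, by ring⟩
  rw [he, xpow_y_mem_maxSub] at h1
  omega

theorem zpowers_ne_maxSub (h : QDData S k x y) (ε : ℤ) : Subgroup.zpowers x ≠ h.maxSub ε := by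
  intro he
  have h1 : x ^ (1 : ℤ) ∈ Subgroup.zpowers x := Subgroup.zpow_mem_zpowers x 1
  rw [he, xpow_mem_maxSub] at h1
  omega

/-- `x²` lies in the derived subgroup. -/
theorem xsq_mem_commutator (h : QDData S k x y) (c : ℤ) : x ^ (2 * c) ∈ commutator S := by
  -- ⁅x, y⁆ = x^(2 - 4P)
  have h1 : ⁅x ^ (1 : ℤ), y⁆ = x ^ (2 - 4 * 2 ^ k : ℤ) := by
    rw [commutatorElement_def]
    have : x ^ (1 : ℤ) * y * (x ^ (1 : ℤ))⁻¹ * y⁻¹ = x ^ (1 : ℤ) * (y * x ^ (-1 : ℤ) * y⁻¹) := by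
      rw [zpow_neg]; group
    rw [this, h.conj_xpow, ← zpow_add]
    congr 1; ring
  have h2 : x ^ (2 - 4 * 2 ^ k : ℤ) ∈ commutator S := by
    rw [← h1, commutator_def]
    exact Subgroup.commutator_mem_commutator (Subgroup.mem_top _) (Subgroup.mem_top _)
  have h3 : x ^ (2 * c) = (x ^ (2 - 4 * 2 ^ k : ℤ)) ^ (c * (1 + 2 * 2 ^ k + 4 * 2 ^ k * 2 ^ k)) := by
    rw [← zpow_mul, h.xpow_eq_iff]
    exact ⟨2 * c * 2 ^ k * 2 ^ k, by ring⟩
  rw [h3]
  exact Subgroup.zpow_mem _ h2 _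

/-- every commutator is an even power of `x` -/
theorem commutator_le_zpowers_sq (h : QDData S k x y) :
    commutator S ≤ Subgroup.zpowers (x ^ (2 : ℤ)) := by
  have hmem : ∀ i : ℤ, x ^ (2 * i) ∈ Subgroup.zpowers (x ^ (2 : ℤ)) := by
    intro i
    rw [zpow_mul]
    exact Subgroup.zpow_mem_zpowers _ _
  rw [commutator_def, Subgroup.commutator_le]
  intro a _ b _
  rw [commutatorElement_def]
  rcases h.cases a with ⟨i, rfl⟩ | ⟨i, rfl⟩ <;> rcases h.cases b with ⟨j, rfl⟩ | ⟨j, rfl⟩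
  · have : x ^ i * x ^ j * (x ^ i)⁻¹ * (x ^ j)⁻¹ = 1 := by
      rw [← zpow_neg, ← zpow_neg, ← zpow_add, ← zpow_add, ← zpow_add]
      have : i + j + -i + -j = 0 := by ring
      rw [this, zpow_zero]
    rw [this]; exact Subgroup.one_mem _
  · rw [h.conj_xpow_y_by_xpow, h.xpow_y_inv, h.xpow_y_mul_xpow_y]
    have : x ^ (j + i * (2 - 4 * 2 ^ k) + (4 * 2 ^ k - 1) * (-(4 * 2 ^ k - 1) * j))
        = x ^ (2 * (i * (1 - 2 * 2 ^ k))) := by
      rw [h.xpow_eq_iff]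
      exact ⟨j * (1 - 2 * 2 ^ k), by ring⟩
    rw [this]; exact hmem _
  · rw [h.xpow_mul_y_mul_xpow, h.xpow_y_inv, h.xpow_y_mul_xpow_y, ← zpow_neg, ← zpow_add]
    have : x ^ (i + (4 * 2 ^ k - 1) * j + (4 * 2 ^ k - 1) * (-(4 * 2 ^ k - 1) * i) + -j)
        = x ^ (2 * (j * (2 * 2 ^ k - 1))) := by
      rw [h.xpow_eq_iff]
      exact ⟨i * (1 - 2 * 2 ^ k), by ring⟩
    rw [this]; exact hmem _
  · rw [h.xpow_y_mul_xpow_y, mul_assoc, ← mul_inv_rev, h.xpow_y_mul_xpow_y, ← zpow_neg, ← zpow_add]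
    have : i + (4 * 2 ^ k - 1) * j + -(j + (4 * 2 ^ k - 1) * i) = 2 * ((i - j) * (1 - 2 * 2 ^ k)) := by
      ring
    rw [this]; exact hmem _

theorem commutator_eq (h : QDData S k x y) : commutator S = Subgroup.zpowers (x ^ (2 : ℤ)) := by
  apply le_antisymm h.commutator_le_zpowers_sq
  rw [Subgroup.zpowers_le]
  have := h.xsq_mem_commutator 1
  rwa [mul_one] at this

theorem mem_commutator_iff (h : QDData S k x y) (s : S) :
    s ∈ commutator S ↔ ∃ c : ℤ, s = x ^ (2 * c) := by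
  rw [h.commutator_eq, Subgroup.mem_zpowers_iff]
  constructor
  · rintro ⟨c, rfl⟩; exact ⟨c, by rw [zpow_mul]⟩
  · rintro ⟨c, rfl⟩; exact ⟨c, by rw [zpow_mul]⟩

end QDData

end Cfsg.Agent.Helper20
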