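-- helper20: elements of order four in groups with quasi-dihedral Sylow 2-subgroups:
-- non-fusion when |N(Q) : Q C(Q)| = 2, and an index-two transfer lemma.
import Cfsg.Agent.Helper20.Fusion5
import Cfsg.Agent.Helper20.Quat8b
import Cfsg.Agent.S1191

set_option autoImplicit false

namespace Cfsg.Agent.Helper20

open Subgroup

theorem q8_conj_cases (p q : QuaternionGroup 2) : q * p * q⁻¹ = p ∨ q * p * q⁻¹ = p⁻¹ := by
  revert p q; decide

variable {G : Type*} [Group G]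

theorem quat_conj_cases (Q : Subgroup G) (eQ : Q ≃* QuaternionGroup 2) {p q : G} (hp : p ∈ Q)
    (hq : q ∈ Q) : q * p * q⁻¹ = p ∨ q * p * q⁻¹ = p⁻¹ := by
  rcases q8_conj_cases (eQ ⟨p, hp⟩) (eQ ⟨q, hq⟩) with h | h
  · left
    have : (⟨q, hq⟩ : Q) * ⟨p, hp⟩ * (⟨q, hq⟩ : Q)⁻¹ = ⟨p, hp⟩ := by
      apply eQ.injective; rw [map_mul, map_mul, map_inv]; exact h
    exact congrArg Subtype.val this
  · right
    have : (⟨q, hq⟩ : Q) * ⟨p, hp⟩ * (⟨q, hq⟩ : Q)⁻¹ = (⟨p, hp⟩ : Q)⁻¹ := by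
      apply eQ.injective; rw [map_mul, map_mul, map_inv, map_inv]; exact h
    exact congrArg Subtype.val this

theorem card_of_quat_iso (Q : Subgroup G) (eQ : Q ≃* QuaternionGroup 2) : Nat.card Q = 8 := by
  rw [Nat.card_congr eQ.toEquiv, Nat.card_eq_fintype_card, QuaternionGroup.card]

theorem mem_normalizer_zpowers_of_conj_mem [Finite G] {g v : G}
    (h : g * v * g⁻¹ ∈ zpowers v) : g ∈ normalizer ((zpowers v : Subgroup G) : Set G) := by
  apply Subgroup.mem_normalizer_fintype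
  intro u hu
  obtain ⟨n, rfl⟩ := mem_zpowers_iff.mp hu
  have : g * v ^ n * g⁻¹ = (g * v * g⁻¹) ^ n := by rw [conj_zpow]
  rw [this]
  exact zpow_mem h n

/-- A quaternion subgroup of a quasi-dihedral Sylow 2-subgroup has an element of the Sylow
subgroup normalizing it and lying outside `Q C(Q)`. -/
theorem exists_quat_outer_of_quasiDihedral [Finite G] (S : Sylow 2 G)
    (hS : Cfsg.IsQuasiDihedral (S : Subgroup G)) (Q : Subgroup G) (hQS : Q ≤ S)
    (eQ : Q ≃* QuaternionGroup 2) :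
    ∃ s ∈ (S : Subgroup G), s ∈ normalizer (Q : Set G) ∧ s ∉ Q ⊔ centralizer (Q : Set G) := by
  have e' : Q.subgroupOf (S : Subgroup G) ≃* QuaternionGroup 2 :=
    (Subgroup.subgroupOfEquivOfLe hQS).trans eQ
  obtain ⟨hcent, hidx⟩ := (Cfsg.Agent.S1191.result hS).2 _ ⟨e'⟩
  have hex : ∃ s' : (S : Subgroup G),
      s' ∈ normalizer ((Q.subgroupOf (S : Subgroup G) : Subgroup S) : Set S) ∧
      s' ∉ Q.subgroupOf (S : Subgroup G) := by
    by_contra hcon
    simp only [not_exists, not_and, not_not] at hcon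
    have : (Q.subgroupOf (S : Subgroup G)).relIndex
        (normalizer ((Q.subgroupOf (S : Subgroup G) : Subgroup S) : Set S)) = 1 :=
      Subgroup.relIndex_eq_one.mpr hcon
    omega
  obtain ⟨s', hs'N, hs'Q⟩ := hex
  refine ⟨s', s'.2, coe_mem_normalizer_of_subgroupOf hQS hs'N, ?_⟩
  intro hc
  rw [← SetLike.mem_coe,
    coe_mul_of_left_le_normalizer_right _ _ (le_normalizer_centralizer_self Q)] at hc
  obtain ⟨q, hq, c, hc, hqc⟩ := hc
  have hcS : c ∈ (S : Subgroup G) := by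
    have : c = q⁻¹ * (s' : G) := by rw [← hqc]; group
    rw [this]
    exact Subgroup.mul_mem _ (Subgroup.inv_mem _ (hQS hq)) s'.2
  have hc' : (⟨c, hcS⟩ : (S : Subgroup G)) ∈
      centralizer ((Q.subgroupOf (S : Subgroup G) : Subgroup S) : Set S) := by
    rw [mem_centralizer_iff]
    intro t ht
    rw [SetLike.mem_coe, mem_centralizer_iff] at hc
    apply Subtype.ext
    have := hc (t : G) (by rw [SetLike.mem_coe, mem_subgroupOf] at ht; exact ht)
    simpa using this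
  rw [hcent] at hc'
  obtain ⟨z, -, hz⟩ := hc'
  have hcQ : c ∈ Q := by
    have h1 : ((z : (S : Subgroup G)) : G) ∈ Q := by
      have := z.2
      rwa [mem_subgroupOf] at this
    have h2 : ((z : (S : Subgroup G)) : G) = c := by
      have := congrArg Subtype.val hz
      simpa using this
    rwa [h2] at h1
  apply hs'Q
  rw [mem_subgroupOf, ← hqc]
  exact Subgroup.mul_mem _ hq hcQ

namespace QDData

variable {S : Type*} [Group S] {k : ℕ} {x y : S}

/-- every subgroup of `⟨x⟩` is normal in the quasi-dihedral group. -/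
theorem conj_xpow_mem_zpowers (h : QDData S k x y) (s : S) (i : ℤ) :
    s * x ^ i * s⁻¹ ∈ Subgroup.zpowers (x ^ i) := by
  rcases h.cases s with ⟨j, rfl⟩ | ⟨j, rfl⟩
  · have : x ^ j * x ^ i * (x ^ j)⁻¹ = x ^ i := by
      rw [← zpow_neg, ← zpow_add, ← zpow_add]; congr 1; ring
    rw [this]; exact Subgroup.mem_zpowers _
  · have : x ^ j * y * x ^ i * (x ^ j * y)⁻¹ = (x ^ i) ^ (4 * 2 ^ k - 1 : ℤ) := by
      rw [h.xpow_mul_y_mul_xpow, h.xpow_y_inv, h.xpow_y_mul_xpow_y, ← zpow_mul, h.xpow_eq_iff]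
      exact ⟨j * (1 - 2 * 2 ^ k), by ring⟩
    rw [this]; exact Subgroup.zpow_mem_zpowers _ _

end QDData

/-- If `|N(Q) : Q C(Q)| = 2` for a quaternion subgroup `Q` of a quasi-dihedral Sylow 2-subgroup `S`,
then an element of `Q` outside the cyclic maximal subgroup `X` of `S` is not conjugate to an element
of `Q ∩ X`. -/
theorem not_isConj_order_four [Finite G] (S : Sylow 2 G)
    (hS : Cfsg.IsQuasiDihedral (S : Subgroup G)) {k : ℕ} {x y : (S : Subgroup G)}
    (h : QDData (S : Subgroup G) k x y) (Q : Subgroup G) (hQS : Q ≤ S)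
    (eQ : Q ≃* QuaternionGroup 2)
    (h₂ : (Q ⊔ centralizer (Q : Set G)).relIndex (normalizer (Q : Set G)) = 2)
    {v w : G} (hvQ : v ∈ Q) (hwQ : w ∈ Q)
    (hvX : v ∈ (zpowers x).map (S : Subgroup G).subtype)
    (hwX : w ∉ (zpowers x).map (S : Subgroup G).subtype) : ¬ IsConj w v := by
  intro hconj
  obtain ⟨g, hg⟩ := isConj_iff.mp hconj
  haveI : Fact (Nat.Prime 2) := ⟨Nat.prime_two⟩
  obtain ⟨NV, hNV⟩ : ∃ NV : Subgroup G, NV = normalizer ((zpowers v : Subgroup G) : Set G) :=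
    ⟨_, rfl⟩
  have hVX : zpowers v ≤ (zpowers x).map (S : Subgroup G).subtype := by
    rw [zpowers_le]; exact hvX
  -- (1) `S ≤ N(V)`
  have hSNV : (S : Subgroup G) ≤ NV := by
    intro s hs
    rw [hNV]
    apply mem_normalizer_zpowers_of_conj_mem
    obtain ⟨v', hv', rfl⟩ := hvX
    obtain ⟨i, rfl⟩ := mem_zpowers_iff.mp hv'
    obtain ⟨n, hn⟩ := mem_zpowers_iff.mp (h.conj_xpow_mem_zpowers ⟨s, hs⟩ i)
    rw [mem_zpowers_iff]
    refine ⟨n, ?_⟩
    have := congrArg Subtype.val hn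
    simpa using this
  have hCNV : centralizer (Q : Set G) ≤ NV := by
    intro c hc
    rw [hNV]
    apply mem_normalizer_zpowers_of_conj_mem
    rw [mem_centralizer_iff] at hc
    have h1 := hc v hvQ
    have : c * v * c⁻¹ = v := by rw [← h1]; group
    rw [this]; exact mem_zpowers v
  obtain ⟨s₀, hs₀S, hs₀N, hs₀M⟩ := exists_quat_outer_of_quasiDihedral S hS Q hQS eQ
  have hMNV : Q ⊔ centralizer (Q : Set G) ≤ NV := sup_le (hQS.trans hSNV) hCNV
  have hidx : ((Q ⊔ centralizer (Q : Set G)).subgroupOf (normalizer (Q : Set G))).index = 2 := h₂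
  have hNQ : normalizer (Q : Set G) ≤ NV := by
    intro n hn
    by_cases hnM : n ∈ Q ⊔ centralizer (Q : Set G)
    · exact hMNV hnM
    · have h1 : s₀ * n ∈ Q ⊔ centralizer (Q : Set G) := by
        have := (Subgroup.mul_mem_iff_of_index_two hidx (a := ⟨s₀, hs₀N⟩) (b := ⟨n, hn⟩)).mpr
          (iff_of_false (fun h' => hs₀M (mem_subgroupOf.mp h'))
            (fun h' => hnM (mem_subgroupOf.mp h')))
        exact mem_subgroupOf.mp this
      have h2 : n = s₀⁻¹ * (s₀ * n) := by group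
      rw [h2]
      exact mul_mem (inv_mem (hSNV hs₀S)) (hMNV h1)
  -- (2) conjugating `Q` into `S`
  have hQ₀NV : Q.map (MulAut.conj g).toMonoidHom ≤ NV := by
    rintro _ ⟨q, hq, rfl⟩
    rw [hNV]
    apply mem_normalizer_zpowers_of_conj_mem
    show g * q * g⁻¹ * v * (g * q * g⁻¹)⁻¹ ∈ zpowers v
    rcases quat_conj_cases Q eQ hwQ hq with h' | h'
    · have : g * q * g⁻¹ * v * (g * q * g⁻¹)⁻¹ = v := by
        rw [← hg]
        calc g * q * g⁻¹ * (g * w * g⁻¹) * (g * q * g⁻¹)⁻¹ = g * (q * w * q⁻¹) * g⁻¹ := by group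
          _ = g * w * g⁻¹ := by rw [h']
      rw [this]; exact mem_zpowers v
    · have : g * q * g⁻¹ * v * (g * q * g⁻¹)⁻¹ = v⁻¹ := by
        rw [← hg]
        calc g * q * g⁻¹ * (g * w * g⁻¹) * (g * q * g⁻¹)⁻¹ = g * (q * w * q⁻¹) * g⁻¹ := by group
          _ = g * w⁻¹ * g⁻¹ := by rw [h']
          _ = (g * w * g⁻¹)⁻¹ := by group
      rw [this]; exact inv_mem (mem_zpowers v)
  have hQ₀p : IsPGroup 2 (Q.map (MulAut.conj g).toMonoidHom) := by
    apply IsPGroup.of_card (n := 3)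
    rw [Subgroup.card_map_of_injective (MulAut.conj g).injective, card_of_quat_iso Q eQ]
    norm_num
  obtain ⟨n, hnNV, hn⟩ :=
    Cfsg.Agent.Helper52.exists_conj_le_sylow_of_le S NV _ hSNV hQ₀NV hQ₀p
  obtain ⟨g', hg'def⟩ : ∃ g' : G, g' = n * g := ⟨_, rfl⟩
  have hg'S : ∀ q ∈ Q, g' * q * g'⁻¹ ∈ (S : Subgroup G) := by
    intro q hq
    have h1 := hn _ (conj_mem_map_conj Q g q hq)
    have : g' * q * g'⁻¹ = n * (g * q * g⁻¹) * n⁻¹ := by rw [hg'def]; group
    rwa [this]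
  have hg'w : g' * w * g'⁻¹ ∈ zpowers v := by
    have h1 : n * v * n⁻¹ ∈ zpowers v := by
      rw [hNV] at hnNV
      exact (mem_normalizer_iff.mp hnNV v).mp (mem_zpowers v)
    have : g' * w * g'⁻¹ = n * (g * w * g⁻¹) * n⁻¹ := by rw [hg'def]; group
    rw [this, hg]; exact h1
  obtain ⟨Q', hQ'def⟩ : ∃ Q' : Subgroup G, Q' = Q.map (MulAut.conj g').toMonoidHom := ⟨_, rfl⟩
  have hQ'S : Q' ≤ S := by
    rw [hQ'def]
    rintro _ ⟨q, hq, rfl⟩
    exact hg'S q hq
  have eQ' : Q' ≃* QuaternionGroup 2 := by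
    rw [hQ'def]
    exact (Q.equivMapOfInjective (MulAut.conj g').toMonoidHom
      (MulAut.conj g').injective).symm.trans eQ
  have e₁ : Q'.subgroupOf (S : Subgroup G) ≃* QuaternionGroup 2 :=
    (Subgroup.subgroupOfEquivOfLe hQ'S).trans eQ'
  have e₂ : Q.subgroupOf (S : Subgroup G) ≃* QuaternionGroup 2 :=
    (Subgroup.subgroupOfEquivOfLe hQS).trans eQ
  obtain ⟨s, hs⟩ := Cfsg.Agent.S1191.conj_quat h _ _ e₁ e₂
  obtain ⟨g'', hg''def⟩ : ∃ g'' : G, g'' = (s : G) * g' := ⟨_, rfl⟩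
  have hg''Q : ∀ q ∈ Q, g'' * q * g''⁻¹ ∈ Q := by
    intro q hq
    have h1 : (⟨g' * q * g'⁻¹, hg'S q hq⟩ : (S : Subgroup G)) ∈ Q'.subgroupOf (S : Subgroup G) := by
      rw [mem_subgroupOf, hQ'def]
      exact conj_mem_map_conj Q g' q hq
    have h2 := conj_mem_map_conj _ s _ h1
    rw [hs, mem_subgroupOf] at h2
    have : g'' * q * g''⁻¹ = (s : G) * (g' * q * g'⁻¹) * (s : G)⁻¹ := by rw [hg''def]; group
    rw [this]
    simpa using h2
  have hg''N : g'' ∈ normalizer (Q : Set G) := by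
    apply Subgroup.mem_normalizer_fintype
    intro q hq
    exact hg''Q q hq
  have hg''w : g'' * w * g''⁻¹ ∈ zpowers v := by
    have h1 := hSNV s.2
    rw [hNV] at h1
    have h2 := (mem_normalizer_iff.mp h1 _).mp hg'w
    have : g'' * w * g''⁻¹ = (s : G) * (g' * w * g'⁻¹) * (s : G)⁻¹ := by rw [hg''def]; group
    rwa [this]
  -- (3) contradiction
  have h3 : g''⁻¹ ∈ NV := hNQ (inv_mem hg''N)
  rw [hNV] at h3
  have h4 := (mem_normalizer_iff.mp h3 _).mp hg''w
  have h5 : g''⁻¹ * (g'' * w * g''⁻¹) * g''⁻¹⁻¹ = w := by group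
  rw [h5] at h4
  exact hwX (hVX h4)

end Cfsg.Agent.Helper20
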