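import Cfsg.Agent.S3224
import Mathlib.GroupTheory.SpecificGroups.Quaternion

set_option autoImplicit false

namespace Cfsg.Agent.Helper20

open Cfsg.Agent.S3224

variable {G : Type*} [Group G]

/-- The homomorphism from the generalized quaternion group `QuaternionGroup m` determined by
`α` with `α^(2m) = 1` and `β` with `β² = α^m`, `β α β⁻¹ = α⁻¹`. -/
noncomputable def quaternionHom (m : ℕ) (α β : G) (hα : α ^ (2 * m) = 1) (hβ : β * β = α ^ m)
    (hrel : β * α * β⁻¹ = α⁻¹) : QuaternionGroup m →* G where
  toFun
    | .a i => (powHom (2 * m) α hα i).toMul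
    | .xa i => β * (powHom (2 * m) α hα i).toMul
  map_one' := by
    show (powHom (2 * m) α hα 0).toMul = 1
    rw [map_zero, toMul_zero]
  map_mul' := by
    rintro (i | i) (j | j)
    · show (powHom (2 * m) α hα (i + j)).toMul = _
      rw [powHom_add]
    · show β * (powHom (2 * m) α hα (j - i)).toMul
        = (powHom (2 * m) α hα i).toMul * (β * (powHom (2 * m) α hα j).toMul)
      rw [powHom_sub, ← mul_assoc, ← mul_assoc, powHom_conj' (2 * m) α β hα hrel i]
    · show β * (powHom (2 * m) α hα (i + j)).toMul
        = β * (powHom (2 * m) α hα i).toMul * (powHom (2 * m) α hα j).toMul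
      rw [powHom_add, mul_assoc]
    · show (powHom (2 * m) α hα ((m : ZMod (2 * m)) + j - i)).toMul
        = β * (powHom (2 * m) α hα i).toMul * (β * (powHom (2 * m) α hα j).toMul)
      have hm : (powHom (2 * m) α hα (m : ZMod (2 * m))).toMul = α ^ m := by
        have := powHom_intCast (2 * m) α hα (m : ℤ)
        rw [Int.cast_natCast, zpow_natCast] at this
        exact this
      rw [add_sub_assoc, powHom_add, powHom_sub, hm,
        powHom_conj (2 * m) α β hα hrel i]
      have hc : α ^ m * ((powHom (2 * m) α hα i).toMul)⁻¹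
          = ((powHom (2 * m) α hα i).toMul)⁻¹ * α ^ m := by
        obtain ⟨k, rfl⟩ := ZMod.intCast_surjective i
        rw [powHom_intCast, ← zpow_natCast, ← zpow_neg, ← zpow_add, ← zpow_add, add_comm]
      calc α ^ m * (((powHom (2 * m) α hα i).toMul)⁻¹ * (powHom (2 * m) α hα j).toMul)
          = (α ^ m * ((powHom (2 * m) α hα i).toMul)⁻¹) * (powHom (2 * m) α hα j).toMul := by
            rw [mul_assoc]
        _ = ((powHom (2 * m) α hα i).toMul)⁻¹ * (β * β) * (powHom (2 * m) α hα j).toMul := by
            rw [hc, hβ]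
        _ = ((powHom (2 * m) α hα i).toMul)⁻¹ * β * (β * (powHom (2 * m) α hα j).toMul) := by
            group

theorem quaternion_iso [Finite G] (m : ℕ) [NeZero m] (α β : G) (hord : orderOf α = 2 * m)
    (hβ : β * β = α ^ m) (hrel : β * α * β⁻¹ = α⁻¹) (hβα : β ∉ Subgroup.zpowers α)
    (hcard : Nat.card G = 4 * m) : Nonempty (G ≃* QuaternionGroup m) := by
  have hα : α ^ (2 * m) = 1 := by rw [← hord]; exact pow_orderOf_eq_one α
  set f := quaternionHom m α β hα hβ hrel with hf
  have hinj : Function.Injective f := by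
    rw [injective_iff_map_eq_one]
    rintro (i | i) hy
    · have hy' : (powHom (2 * m) α hα i).toMul = 1 := hy
      obtain ⟨k, rfl⟩ := ZMod.intCast_surjective i
      rw [powHom_intCast, ← orderOf_dvd_iff_zpow_eq_one, hord] at hy'
      have : ((k : ℤ) : ZMod (2 * m)) = 0 := by
        rw [ZMod.intCast_zmod_eq_zero_iff_dvd]
        exact_mod_cast hy'
      rw [this]; rfl
    · exfalso
      have hy' : β * (powHom (2 * m) α hα i).toMul = 1 := hy
      apply hβα
      rw [eq_inv_of_mul_eq_one_left hy']
      exact Subgroup.inv_mem _ (powHom_mem _ _ _ _)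
  have hbij : Function.Bijective f := by
    apply hinj.bijective_of_nat_card_le
    rw [hcard, Nat.card_eq_fintype_card, QuaternionGroup.card]
  exact ⟨(MulEquiv.ofBijective f hbij).symm⟩

end Cfsg.Agent.Helper20
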