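-- helper20: centre of a quasi-dihedral group; normal subgroups containing an element x^(odd) y.
import Cfsg.Agent.Helper20.QD4

set_option autoImplicit false

namespace Cfsg.Agent.Helper20

namespace QDData

variable {S : Type*} [Group S] {k : ℕ} {x y : S}

theorem center_cases (h : QDData S k x y) (s : S) (hs : s ∈ Subgroup.center S) :
    s = 1 ∨ s = x ^ (4 * 2 ^ k : ℤ) := by
  rw [Subgroup.mem_center_iff] at hs
  rcases h.cases s with ⟨i, rfl⟩ | ⟨i, rfl⟩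
  · have h1 := hs (x ^ (0 : ℤ) * y)
    obtain ⟨d, rfl⟩ := (h.xpow_comm_xpow_y_iff i 0).mp h1.symm
    rcases Int.even_or_odd' d with ⟨e, rfl | rfl⟩
    · left
      rw [h.xpow_eq_one_iff]; exact ⟨e, by ring⟩
    · right
      rw [h.xpow_eq_iff]; exact ⟨e, by ring⟩
  · exfalso
    have h1 := hs (x ^ (1 : ℤ))
    obtain ⟨d, hd⟩ := (h.xpow_comm_xpow_y_iff 1 i).mp h1
    have hP : (0 : ℤ) < 2 ^ k := by positivity
    have h4 : (4 : ℤ) ∣ 1 := ⟨2 ^ k * d, by linarith⟩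
    omega

theorem center_mem (h : QDData S k x y) : x ^ (4 * 2 ^ k : ℤ) ∈ Subgroup.center S := by
  rw [Subgroup.mem_center_iff]
  intro s
  exact h.z_central s

/-- A normal subgroup containing some `x^(2a+1) y` contains the quaternion maximal subgroup. -/
theorem maxSub_one_le_of_normal (h : QDData S k x y) (N : Subgroup S) [hN : N.Normal] (a : ℤ)
    (ha : x ^ (2 * a + 1) * y ∈ N) : h.maxSub 1 ≤ N := by
  have h1 : x ^ (1 : ℤ) * (x ^ (2 * a + 1) * y) * (x ^ (1 : ℤ))⁻¹ ∈ N := hN.conj_mem _ ha _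
  rw [h.conj_xpow_y_by_xpow] at h1
  have h2 := N.mul_mem h1 (N.inv_mem ha)
  rw [h.xpow_y_inv, h.xpow_y_mul_xpow_y] at h2
  have h3 : x ^ (2 : ℤ) ∈ N := by
    have h4 := N.zpow_mem h2 (1 + 2 * 2 ^ k)
    rw [← zpow_mul] at h4
    have h5 : x ^ ((2 * a + 1 + 1 * (2 - 4 * 2 ^ k) + (4 * 2 ^ k - 1) * (-(4 * 2 ^ k - 1) * (2 * a + 1))) *
        (1 + 2 * 2 ^ k)) = x ^ (2 : ℤ) := by
      rw [h.xpow_eq_iff]
      exact ⟨-(2 ^ k + (2 * 2 ^ k - 1) * (2 * a + 1) * (1 + 2 * 2 ^ k)), by ring⟩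
    rwa [h5] at h4
  have hsq : ∀ c : ℤ, x ^ (2 * c) ∈ N := by
    intro c
    rw [zpow_mul]
    exact N.zpow_mem h3 c
  rintro s (⟨c, rfl⟩ | ⟨c, rfl⟩)
  · exact hsq c
  · have : x ^ (2 * c + 1) * y = x ^ (2 * (c - a)) * (x ^ (2 * a + 1) * y) := by
      rw [xpow_mul_xpow_y]; congr 2; ring
    rw [this]
    exact N.mul_mem (hsq _) ha

/-- the only involution of the quaternion maximal subgroup is the central one. -/
theorem involution_maxSub_one (h : QDData S k x y) (s : S) (hs : s ∈ h.maxSub 1)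
    (h2 : orderOf s = 2) : s = x ^ (4 * 2 ^ k : ℤ) := by
  rcases (h.involution_iff s).mp h2 with h' | ⟨c, h'⟩
  · exact h'
  · exfalso
    rw [h', h.xpow_y_mem_maxSub] at hs
    omega

end QDData

end Cfsg.Agent.Helper20
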