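-- helper20: normal subgroups of a quasi-dihedral group containing an involution x^(2a) y.
import Cfsg.Agent.Helper20.QD5

set_option autoImplicit false

namespace Cfsg.Agent.Helper20

namespace QDData

variable {S : Type*} [Group S] {k : ℕ} {x y : S}

/-- A normal subgroup containing some `x^i y` contains `x²`. -/
theorem xsq_mem_of_normal (h : QDData S k x y) (N : Subgroup S) [hN : N.Normal] (i : ℤ)
    (hi : x ^ i * y ∈ N) : x ^ (2 : ℤ) ∈ N := by
  have h1 : x ^ (1 : ℤ) * (x ^ i * y) * (x ^ (1 : ℤ))⁻¹ ∈ N := hN.conj_mem _ hi _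
  rw [h.conj_xpow_y_by_xpow] at h1
  have h2 := N.mul_mem h1 (N.inv_mem hi)
  rw [h.xpow_y_inv, h.xpow_y_mul_xpow_y] at h2
  have h4 := N.zpow_mem h2 (1 + 2 * 2 ^ k)
  rw [← zpow_mul] at h4
  have h5 : x ^ ((i + 1 * (2 - 4 * 2 ^ k) + (4 * 2 ^ k - 1) * (-(4 * 2 ^ k - 1) * i)) *
      (1 + 2 * 2 ^ k)) = x ^ (2 : ℤ) := by
    rw [h.xpow_eq_iff]
    exact ⟨-(2 ^ k + (2 * 2 ^ k - 1) * i * (1 + 2 * 2 ^ k)), by ring⟩
  rwa [h5] at h4

/-- A normal subgroup containing some `x^(2a) y` contains the dihedral maximal subgroup. -/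
theorem maxSub_zero_le_of_normal (h : QDData S k x y) (N : Subgroup S) [hN : N.Normal] (a : ℤ)
    (ha : x ^ (2 * a) * y ∈ N) : h.maxSub 0 ≤ N := by
  have h3 := h.xsq_mem_of_normal N _ ha
  have hsq : ∀ c : ℤ, x ^ (2 * c) ∈ N := by
    intro c
    rw [zpow_mul]
    exact N.zpow_mem h3 c
  rintro s (⟨c, rfl⟩ | ⟨c, rfl⟩)
  · exact hsq c
  · have : x ^ (2 * c + 0) * y = x ^ (2 * (c - a)) * (x ^ (2 * a) * y) := by
      rw [xpow_mul_xpow_y]; congr 2; ring
    rw [this]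
    exact N.mul_mem (hsq _) ha

end QDData

end Cfsg.Agent.Helper20
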