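-- helper20: preliminaries for centralizers of involutions in groups with quasi-dihedral Sylow 2-subgroups.
import Cfsg.Agent.S1203
import Cfsg.Agent.S1204
import Cfsg.Agent.S1205
import Cfsg.Agent.S1206
import Cfsg.Agent.S1207
import Cfsg.Agent.Lib.HW0
import Cfsg.Agent.Helper20.Four
import Cfsg.Agent.Helper20.QuatIso

set_option autoImplicit false

namespace Cfsg.Agent.Helper20

open Subgroup Cfsg.Agent.S3224

theorem isQuasiDihedral_of_equiv {A B : Type*} [Group A] [Group B] (e : A ≃* B)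
    (hB : Cfsg.IsQuasiDihedral B) : Cfsg.IsQuasiDihedral A := by
  obtain ⟨n, hn, hcard, x, y, hx, hy, hrel⟩ := hB
  refine ⟨n, hn, by rw [Nat.card_congr e.toEquiv]; exact hcard, e.symm x, e.symm y, ?_, ?_, ?_⟩
  · rw [MulEquiv.orderOf_eq]; exact hx
  · rw [MulEquiv.orderOf_eq]; exact hy
  · rw [← map_inv, ← map_mul, ← map_mul, hrel, map_pow]

variable {G : Type*} [Group G]

theorem quaternionHom_injective_of (m : ℕ) [NeZero m] (α β : G)
    (hord : orderOf α = 2 * m) (hα : α ^ (2 * m) = 1)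
    (hβ : β * β = α ^ m) (hrel : β * α * β⁻¹ = α⁻¹) (hβα : β ∉ Subgroup.zpowers α) :
    Function.Injective (quaternionHom m α β hα hβ hrel) := by
  rw [injective_iff_map_eq_one]
  rintro (i | i) hy
  · have hy' : (powHom (2 * m) α hα i).toMul = 1 := hy
    obtain ⟨k, rfl⟩ := ZMod.intCast_surjective i
    rw [powHom_intCast, ← orderOf_dvd_iff_zpow_eq_one, hord] at hy'
    have : ((k : ℤ) : ZMod (2 * m)) = 0 := by
      rw [ZMod.intCast_zmod_eq_zero_iff_dvd]
      exact_mod_cast hy'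
    rw [this]; rfl
  · exfalso
    have hy' : β * (powHom (2 * m) α hα i).toMul = 1 := hy
    apply hβα
    rw [eq_inv_of_mul_eq_one_left hy']
    exact Subgroup.inv_mem _ (powHom_mem _ _ _ _)

/-- A quasi-dihedral group contains a four-group and a quaternion group of order 8, both containing
the central involution. -/
theorem exists_kleinFour_quat_of_qdData {S : Type*} [Group S] {k : ℕ} {x y : S}
    (h : QDData S k x y) :
    ∃ T Q : Subgroup S, IsKleinFour T ∧ x ^ (4 * 2 ^ k : ℤ) ∈ T ∧ x ^ (4 * 2 ^ k : ℤ) ∈ Q ∧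
      Nonempty (Q ≃* QuaternionGroup 2) := by
  have hzy : x ^ (4 * 2 ^ k : ℤ) * y = y * x ^ (4 * 2 ^ k : ℤ) := (h.z_central y).symm
  have hne : x ^ (4 * 2 ^ k : ℤ) ≠ y := by
    intro hc
    apply h.xpow_ne_xpow_y (4 * 2 ^ k) 0
    rw [zpow_zero, one_mul]; exact hc
  -- the quaternion subgroup
  obtain ⟨α, hαdef⟩ : ∃ α : S, α = x ^ (2 * 2 ^ k : ℤ) := ⟨_, rfl⟩
  obtain ⟨β, hβdef⟩ : ∃ β : S, β = x ^ (1 : ℤ) * y := ⟨_, rfl⟩
  have hord : orderOf α = 2 * 2 := by
    rw [hαdef]; exact (h.order_four_iff _).mpr (Or.inl rfl)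
  have hα : α ^ (2 * 2) = 1 := by rw [← hord]; exact pow_orderOf_eq_one α
  have hα2 : α ^ 2 = x ^ (4 * 2 ^ k : ℤ) := by
    rw [hαdef, ← zpow_natCast, ← zpow_mul]
    congr 1
    push_cast
    ring
  have hβ : β * β = α ^ 2 := by
    rw [hα2, hβdef, h.xpow_y_sq]
    congr 1
    ring
  have hrel : β * α * β⁻¹ = α⁻¹ := by
    rw [hβdef, hαdef, h.xpow_mul_y_mul_xpow, h.xpow_y_inv, h.xpow_y_mul_xpow_y, ← zpow_neg,
      h.xpow_eq_iff]
    exact ⟨1 - 2 ^ k, by ring⟩
  have hβα : β ∉ Subgroup.zpowers α := by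
    intro hmem
    obtain ⟨j, hj⟩ := Subgroup.mem_zpowers_iff.mp hmem
    rw [hαdef, hβdef, ← zpow_mul] at hj
    exact h.xpow_ne_xpow_y _ _ hj
  have hinj := quaternionHom_injective_of 2 α β hord hα hβ hrel hβα
  refine ⟨fourSub (x ^ (4 * 2 ^ k : ℤ)) y h.z_sq h.y_sq hzy,
    (quaternionHom 2 α β hα hβ hrel).range,
    isKleinFour_fourSub _ _ h.z_sq h.y_sq hzy h.z_ne_one h.y_ne_one hne,
    Or.inr (Or.inl rfl), ?_, ⟨(MonoidHom.ofInjective hinj).symm⟩⟩
  rw [← hα2]
  refine Subgroup.pow_mem _ ?_ 2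
  refine ⟨QuaternionGroup.a 1, ?_⟩
  show (powHom (2 * 2) α hα 1).toMul = α
  have := powHom_intCast (2 * 2) α hα 1
  rw [Int.cast_one, zpow_one] at this
  exact this

/-- The same inside a Sylow 2-subgroup of `G`. -/
theorem exists_kleinFour_quat (S : Sylow 2 G) {k : ℕ} {x y : (S : Subgroup G)}
    (h : QDData (S : Subgroup G) k x y) :
    ∃ T Q : Subgroup G, IsKleinFour T ∧ T ≤ S ∧ ((x ^ (4 * 2 ^ k : ℤ) : (S : Subgroup G)) : G) ∈ T ∧
      Q ≤ S ∧ ((x ^ (4 * 2 ^ k : ℤ) : (S : Subgroup G)) : G) ∈ Q ∧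
      Nonempty (Q ≃* QuaternionGroup 2) := by
  obtain ⟨T, Q, hT, hzT, hzQ, ⟨eQ⟩⟩ := exists_kleinFour_quat_of_qdData h
  refine ⟨T.map (S : Subgroup G).subtype, Q.map (S : Subgroup G).subtype, ?_, ?_, ⟨_, hzT, rfl⟩,
    ?_, ⟨_, hzQ, rfl⟩, ⟨?_⟩⟩
  · exact isKleinFour_of_equiv
      (T.equivMapOfInjective _ (Subgroup.subtype_injective _)).symm hT
  · rintro _ ⟨s, -, rfl⟩; exact s.2
  · rintro _ ⟨s, -, rfl⟩; exact s.2
  · exact (Q.equivMapOfInjective _ (Subgroup.subtype_injective _)).symm.trans eQ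

/-- A group with a normal 2-complement and a nontrivial Sylow 2-subgroup has a subgroup of index
two. -/
theorem exists_index_two_of_hasNormalPComplement [Finite G] (S : Sylow 2 G)
    (hS1 : Nat.card (S : Subgroup G) ≠ 1) (hc : Cfsg.HasNormalPComplement 2 G) :
    ∃ H : Subgroup G, H.index = 2 := by
  haveI : Fact (Nat.Prime 2) := ⟨Nat.prime_two⟩
  obtain ⟨P, N, hN, hNP⟩ := hc
  haveI := hN
  have hidx : N.index = Nat.card (P : Subgroup G) := hNP.symm.index_eq_card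
  have hPS : Nat.card (P : Subgroup G) = Nat.card (S : Subgroup G) := by
    rw [P.card_eq_multiplicity, S.card_eq_multiplicity]
  have hcardq : Nat.card (G ⧸ N) = Nat.card (S : Subgroup G) := by
    rw [← Subgroup.index_eq_card, hidx, hPS]
  have hq : IsPGroup 2 (G ⧸ N) := by
    obtain ⟨m, hm⟩ := IsPGroup.iff_card.mp S.2
    exact IsPGroup.of_card (n := m) (by rw [hcardq, hm])
  have hne : (⊥ : Subgroup (G ⧸ N)) ≠ ⊤ := by
    intro hbt
    apply hS1
    rw [← hcardq, ← Subgroup.card_top (G := G ⧸ N), ← hbt, Subgroup.card_bot]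
  obtain ⟨M, -, hMi, -⟩ := Cfsg.Agent.Lib.HW.exists_normal_index_p hq ⊥ hne
  refine ⟨M.comap (QuotientGroup.mk' N), ?_⟩
  rw [Subgroup.index_comap_of_surjective _ (QuotientGroup.mk'_surjective N)]
  exact hMi

/-- In a group without subgroups of index two and with quasi-dihedral Sylow 2-subgroup, both
automizer indices are six. -/
theorem qd_indices_six [Finite G] (S : Sylow 2 G) (hS : Cfsg.IsQuasiDihedral (S : Subgroup G))
    (hG : ∀ H : Subgroup G, H.index ≠ 2) (T : Subgroup G) (hT : IsKleinFour T) (hTS : T ≤ S)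
    (Q : Subgroup G) (hQS : Q ≤ S) (eQ : Q ≃* QuaternionGroup 2) :
    (centralizer (T : Set G)).relIndex (normalizer (T : Set G)) = 6 ∧
      (Q ⊔ centralizer (Q : Set G)).relIndex (normalizer (Q : Set G)) = 6 := by
  obtain ⟨h₁ | h₁, h₂ | h₂⟩ := Cfsg.Agent.S1203.result S hS T hT hTS Q hQS eQ
  · exfalso
    have hc := (Cfsg.Agent.S1207.result S hS T hT hTS Q hQS eQ h₁ h₂).1
    have hS1 : Nat.card (S : Subgroup G) ≠ 1 := by
      obtain ⟨n, hn, hcard, -⟩ := hS
      rw [hcard]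
      have : 1 < 2 ^ (n + 1) := Nat.one_lt_two_pow (by omega)
      omega
    obtain ⟨H, hH⟩ := exists_index_two_of_hasNormalPComplement S hS1 hc
    exact hG H hH
  · exfalso
    obtain ⟨⟨K, -, hKi, -⟩, -⟩ := Cfsg.Agent.S1205.result S hS T hT hTS Q hQS eQ h₁ h₂
    exact hG K hKi
  · exfalso
    obtain ⟨⟨K, -, hKi, -⟩, -⟩ := Cfsg.Agent.S1206.result S hS T hT hTS Q hQS eQ h₁ h₂
    exact hG K hKi
  · exact ⟨h₁, h₂⟩

theorem isConj_of_card_classes_eq_one {n : ℕ}
    (h1 : Nat.card {C : ConjClasses G // ∃ t : G, orderOf t = n ∧ ConjClasses.mk t = C} = 1)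
    {a b : G} (ha : orderOf a = n) (hb : orderOf b = n) : IsConj a b := by
  haveI : Subsingleton {C : ConjClasses G // ∃ t : G, orderOf t = n ∧ ConjClasses.mk t = C} :=
    (Nat.card_eq_one_iff_unique.mp h1).1
  have := Subsingleton.elim
    (⟨ConjClasses.mk a, a, ha, rfl⟩ : {C : ConjClasses G // ∃ t : G, orderOf t = n ∧ ConjClasses.mk t = C})
    ⟨ConjClasses.mk b, b, hb, rfl⟩
  exact ConjClasses.mk_eq_mk_iff_isConj.mp (congrArg Subtype.val this)

theorem subgroupOf_centralizer_eq' {H N : Subgroup G} (h : H ≤ N) :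
    (centralizer (H : Set G)).subgroupOf N = centralizer ((H.subgroupOf N : Subgroup N) : Set N) := by
  ext c
  rw [mem_subgroupOf, mem_centralizer_iff, mem_centralizer_iff]
  constructor
  · intro hc t ht
    apply Subtype.ext
    have := hc (t : G) (by rw [SetLike.mem_coe, mem_subgroupOf] at ht; exact ht)
    simpa using this
  · intro hc t ht
    have := hc ⟨t, h ht⟩ (by rw [SetLike.mem_coe, mem_subgroupOf]; exact ht)
    exact congrArg Subtype.val this

theorem isWeaklyClosed_bot (P : Subgroup G) : Cfsg.IsWeaklyClosed (⊥ : Subgroup G) P :=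
  ⟨bot_le, fun g _ => Subgroup.map_bot _⟩

end Cfsg.Agent.Helper20
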