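-- helper20: centralizer of an involution in a group with quasi-dihedral Sylow 2-subgroups and no
-- subgroup of index two.
import Cfsg.Agent.Helper20.InvCent0

set_option autoImplicit false

namespace Cfsg.Agent.Helper20

open Subgroup
open scoped Pointwise

/-- The quasi-dihedral half of the statement on centralizers of involutions. -/
theorem involution_centralizer_qd {G : Type*} [Group G] [Finite G] (S : Sylow 2 G)
    (hS : Cfsg.IsQuasiDihedral (S : Subgroup G)) (hG : ∀ H : Subgroup G, H.index ≠ 2) (x : G)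
    (hx : orderOf x = 2) :
    ∃ R : Sylow 2 ↥(Subgroup.centralizer ({x} : Set G)), Nat.card R = Nat.card S ∧
      (∃ K : Subgroup ↥(Subgroup.centralizer ({x} : Set G)), K.Normal ∧ (∃ a : ℕ, K.index = 2 ^ a) ∧
        (∀ H : Subgroup ↥K, H.index ≠ 2) ∧
        (∀ P : Sylow 2 ↥K, ∃ m : ℕ, 1 ≤ m ∧ Nonempty ((P : Subgroup ↥K) ≃* QuaternionGroup (2 ^ m)))) ∧
      (∀ Z₀ : Subgroup ↥(Subgroup.centralizer ({x} : Set G)),
        Z₀ ≤ ((Subgroup.center (R : Subgroup ↥(Subgroup.centralizer ({x} : Set G)))).map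
          (R : Subgroup ↥(Subgroup.centralizer ({x} : Set G))).subtype) →
        Cfsg.IsWeaklyClosed Z₀ (R : Subgroup ↥(Subgroup.centralizer ({x} : Set G)))) := by
  haveI : Fact (Nat.Prime 2) := ⟨Nat.prime_two⟩
  have hx1 : x ≠ 1 := by
    intro h; rw [h, orderOf_one] at hx; omega
  have hxsq : x * x = 1 := ((Cfsg.Agent.Helper20.orderOf_eq_two_iff x).mp hx).1
  -- Step 1: `x` is conjugate to the central involution of `S`
  obtain ⟨k₀, x₀, y₀, h₀⟩ := exists_qdData hS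
  obtain ⟨T₀, Q₀, hT₀, hT₀S, -, hQ₀S, -, ⟨eQ₀⟩⟩ := exists_kleinFour_quat S h₀
  obtain ⟨h₁₀, h₂₀⟩ := qd_indices_six S hS hG T₀ hT₀ hT₀S Q₀ hQ₀S eQ₀
  have hone := (Cfsg.Agent.S1204.result S hS T₀ hT₀ hT₀S Q₀ hQ₀S eQ₀ h₁₀ h₂₀).2.1
  have hz₀o : orderOf ((x₀ ^ (4 * 2 ^ k₀ : ℤ) : (S : Subgroup G)) : G) = 2 := by
    rw [Subgroup.orderOf_coe]
    exact (h₀.involution_iff _).mpr (Or.inl rfl)
  obtain ⟨b, hb⟩ := isConj_iff.mp (isConj_of_card_classes_eq_one hone hz₀o hx)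
  -- Step 2: the Sylow subgroup `b • S`
  obtain ⟨S', hS'def⟩ : ∃ S' : Sylow 2 G, S' = b • S := ⟨_, rfl⟩
  have hS' : Cfsg.IsQuasiDihedral (S' : Subgroup G) := by
    rw [hS'def]
    exact isQuasiDihedral_of_equiv (S.equivSMul b).symm hS
  have hcardS' : Nat.card (S' : Subgroup G) = Nat.card (S : Subgroup G) := by
    rw [S'.card_eq_multiplicity, S.card_eq_multiplicity]
  have hS'C : (S' : Subgroup G) ≤ centralizer ({x} : Set G) := by
    intro p hp
    rw [hS'def] at hp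
    have hp' : b⁻¹ * p * b ∈ S := (mem_smul_sylow_iff S b p).mp hp
    have h1 := h₀.z_central ⟨b⁻¹ * p * b, hp'⟩
    have h1' : b⁻¹ * p * b * ((x₀ ^ (4 * 2 ^ k₀ : ℤ) : (S : Subgroup G)) : G) =
        ((x₀ ^ (4 * 2 ^ k₀ : ℤ) : (S : Subgroup G)) : G) * (b⁻¹ * p * b) :=
      congrArg Subtype.val h1
    rw [mem_centralizer_iff]
    intro u hu
    rw [Set.mem_singleton_iff] at hu
    rw [hu, ← hb]
    obtain ⟨z, hz⟩ : ∃ z : G, z = ((x₀ ^ (4 * 2 ^ k₀ : ℤ) : (S : Subgroup G)) : G) := ⟨_, rfl⟩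
    rw [← hz] at h1' ⊢
    calc b * z * b⁻¹ * p = b * (z * (b⁻¹ * p * b)) * b⁻¹ := by group
      _ = b * ((b⁻¹ * p * b) * z) * b⁻¹ := by rw [h1']
      _ = p * (b * z * b⁻¹) := by group
  have hxS' : x ∈ (S' : Subgroup G) := by
    rw [hS'def]
    apply (mem_smul_sylow_iff S b x).mpr
    rw [← hb]
    have : b⁻¹ * (b * ((x₀ ^ (4 * 2 ^ k₀ : ℤ) : (S : Subgroup G)) : G) * b⁻¹) * b =
        ((x₀ ^ (4 * 2 ^ k₀ : ℤ) : (S : Subgroup G)) : G) := by group
    rw [this]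
    exact (x₀ ^ (4 * 2 ^ k₀ : ℤ) : (S : Subgroup G)).2
  -- Step 3: `T`, `Q` inside `S'`
  obtain ⟨k, x', y', h⟩ := exists_qdData hS'
  obtain ⟨T, Q, hT, hTS, hzT, hQS, hzQ, ⟨eQ⟩⟩ := exists_kleinFour_quat S' h
  obtain ⟨h₁, h₂⟩ := qd_indices_six S' hS' hG T hT hTS Q hQS eQ
  have hxz : x = ((x' ^ (4 * 2 ^ k : ℤ) : (S' : Subgroup G)) : G) := by
    have hcen : (⟨x, hxS'⟩ : (S' : Subgroup G)) ∈ Subgroup.center (S' : Subgroup G) := by
      rw [Subgroup.mem_center_iff]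
      intro s
      apply Subtype.ext
      have := hS'C s.2
      rw [mem_centralizer_iff] at this
      have h2 := this x (Set.mem_singleton x)
      show (s : G) * x = x * (s : G)
      exact h2.symm
    rcases h.center_cases _ hcen with h' | h'
    · exact absurd (congrArg Subtype.val h') hx1
    · exact congrArg Subtype.val h'
  have hxT : x ∈ T := hxz ▸ hzT
  have hxQ : x ∈ Q := hxz ▸ hzQ
  -- Step 4: inside `C = C_G(x)`
  obtain ⟨C, hCdef⟩ : ∃ C : Subgroup G, C = centralizer ({x} : Set G) := ⟨_, rfl⟩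
  rw [← hCdef]
  rw [← hCdef] at hS'C
  have hmemC : ∀ c : G, c ∈ C ↔ c * x = x * c := by
    intro c
    rw [hCdef, mem_centralizer_iff]
    constructor
    · intro hc; exact (hc x (Set.mem_singleton x)).symm
    · intro hc u hu
      rw [Set.mem_singleton_iff] at hu
      rw [hu]; exact hc.symm
  have hTC : T ≤ C := hTS.trans hS'C
  have hQC : Q ≤ C := hQS.trans hS'C
  obtain ⟨R, hRdef⟩ : ∃ R : Sylow 2 ↥C, R = S'.subtype hS'C := ⟨_, rfl⟩
  have hRcoe : (R : Subgroup ↥C) = (S' : Subgroup G).subgroupOf C := by rw [hRdef]; rfl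
  have hR : Cfsg.IsQuasiDihedral (R : Subgroup ↥C) :=
    isQuasiDihedral_of_equiv
      ((MulEquiv.subgroupCongr hRcoe).trans (Subgroup.subgroupOfEquivOfLe hS'C)) hS'
  have hRcard : Nat.card (R : Subgroup ↥C) = Nat.card (S : Subgroup G) := by
    rw [← hcardS']
    exact Nat.card_congr
      ((MulEquiv.subgroupCongr hRcoe).trans (Subgroup.subgroupOfEquivOfLe hS'C)).toEquiv
  obtain ⟨TC, hTCdef⟩ : ∃ TC : Subgroup ↥C, TC = T.subgroupOf C := ⟨_, rfl⟩
  obtain ⟨QC, hQCdef⟩ : ∃ QC : Subgroup ↥C, QC = Q.subgroupOf C := ⟨_, rfl⟩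
  have hTCK : IsKleinFour TC := by
    rw [hTCdef]; exact isKleinFour_of_equiv (Subgroup.subgroupOfEquivOfLe hTC) hT
  have hTCR : TC ≤ R := by
    rw [hTCdef, hRcoe]
    intro t ht
    rw [mem_subgroupOf] at ht ⊢
    exact hTS ht
  have hQCR : QC ≤ R := by
    rw [hQCdef, hRcoe]
    intro t ht
    rw [mem_subgroupOf] at ht ⊢
    exact hQS ht
  have eQC : QC ≃* QuaternionGroup 2 := by
    rw [hQCdef]; exact (Subgroup.subgroupOfEquivOfLe hQC).trans eQ
  -- the normalizer and the centralizer of `Q` lie in `C`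
  obtain ⟨cq, -, hcqQ, -, hcq1, hcqsq, -, -, -, hqinv⟩ := exists_q8_data Q eQ
  have hxcq : x = cq := by
    rcases hqinv x hxQ hxsq with h' | h'
    · exact absurd h' hx1
    · exact h'
  have hNC : normalizer (Q : Set G) ≤ C := by
    intro g hg
    rw [hmemC]
    have h1 : g * x * g⁻¹ ∈ Q := (mem_normalizer_iff.mp hg x).mp hxQ
    have h2 : (g * x * g⁻¹) * (g * x * g⁻¹) = 1 := by
      have : (g * x * g⁻¹) * (g * x * g⁻¹) = g * (x * x) * g⁻¹ := by group
      rw [this, hxsq]; group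
    rcases hqinv _ h1 h2 with h' | h'
    · exact absurd (conj_eq_one_imp h') hx1
    · rw [← hxcq] at h'
      calc g * x = (g * x * g⁻¹) * g := by group
        _ = x * g := by rw [h']
  have hCQC : centralizer (Q : Set G) ≤ C := (centralizer_le_normalizer _).trans hNC
  have h₂C : (QC ⊔ centralizer (QC : Set ↥C)).relIndex (normalizer (QC : Set ↥C)) = 6 := by
    rw [hQCdef, ← subgroupOf_normalizer_eq hQC, ← subgroupOf_centralizer_eq' hQC,
      ← subgroupOf_sup hQC hCQC, relIndex_subgroupOf hNC]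
    exact h₂
  -- the four-group
  obtain ⟨h₁C | h₁C, -⟩ := Cfsg.Agent.S1203.result R hR TC hTCK hTCR QC hQCR eQC
  swap
  · exfalso
    have hone' := (Cfsg.Agent.S1204.result R hR TC hTCK hTCR QC hQCR eQC h₁C h₂C).2.1
    obtain ⟨a, b', ha, hb', ha1, hb1, hab⟩ := exists_two_of_card_four T hT.card_four
    obtain ⟨t, htT, ht1, htx⟩ : ∃ t ∈ T, t ≠ 1 ∧ t ≠ x := by
      by_cases hax : a = x
      · exact ⟨b', hb', hb1, fun hc => hab (hax.trans hc.symm)⟩
      · exact ⟨a, ha, ha1, hax⟩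
    have hto : orderOf (⟨t, hTC htT⟩ : ↥C) = 2 := by
      rw [Cfsg.Agent.Helper20.orderOf_eq_two_iff]
      exact ⟨Subtype.ext (kleinFour_sq hT htT), fun hc => ht1 (congrArg Subtype.val hc)⟩
    have hxo : orderOf (⟨x, hTC hxT⟩ : ↥C) = 2 := by
      rw [Cfsg.Agent.Helper20.orderOf_eq_two_iff]
      exact ⟨Subtype.ext hxsq, fun hc => hx1 (congrArg Subtype.val hc)⟩
    obtain ⟨c, hc⟩ := isConj_iff.mp (isConj_of_card_classes_eq_one hone' hxo hto)
    apply htx
    have h3 : (c : G) * x * (c : G)⁻¹ = t := by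
      have := congrArg Subtype.val hc
      simpa using this
    rw [← h3, (hmemC c).mp c.2]
    group
  obtain ⟨⟨K, hKn, hKi, hquat, hno2⟩, hWC, -, -⟩ :=
    Cfsg.Agent.S1205.result R hR TC hTCK hTCR QC hQCR eQC h₁C h₂C
  refine ⟨R, hRcard, ⟨K, hKn, ⟨1, by rw [hKi, pow_one]⟩, hno2, hquat⟩, ?_⟩
  -- weak closure of the subgroups of the centre
  intro Z₀ hZ₀
  obtain ⟨kR, xR, yR, hRd⟩ := exists_qdData hR
  by_cases hbot : Z₀ = ⊥
  · rw [hbot]; exact isWeaklyClosed_bot _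
  · have hex : ∃ w ∈ Z₀, w ≠ 1 := by
      by_contra hcon
      simp only [not_exists, not_and, not_not] at hcon
      exact hbot ((Subgroup.eq_bot_iff_forall _).mpr hcon)
    obtain ⟨w, hwZ, hw1⟩ := hex
    have hall : ∀ u ∈ (Subgroup.center (R : Subgroup ↥C)).map (R : Subgroup ↥C).subtype,
        u = 1 ∨ u = ((xR ^ (4 * 2 ^ kR : ℤ) : (R : Subgroup ↥C)) : ↥C) := by
      rintro _ ⟨s, hs, rfl⟩
      rcases hRd.center_cases s hs with h' | h'
      · left; rw [h']; rfl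
      · right; rw [h']; rfl
    have hwz : w = ((xR ^ (4 * 2 ^ kR : ℤ) : (R : Subgroup ↥C)) : ↥C) := by
      rcases hall w (hZ₀ hwZ) with h' | h'
      · exact absurd h' hw1
      · exact h'
    have heq : Z₀ = (Subgroup.center (R : Subgroup ↥C)).map (R : Subgroup ↥C).subtype := by
      apply le_antisymm hZ₀
      intro u hu
      rcases hall u hu with h' | h'
      · rw [h']; exact one_mem _
      · rw [h', ← hwz]; exact hwZ
    rw [heq]
    exact hWC

end Cfsg.Agent.Helper20
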