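-- helper20: global index computations |N_G(U):C_G(U)| and |N_G(V):V C_G(V)| for a Sylow 2-subgroup S,
-- with U a self-centralizing abelian subgroup of index 2 in S and V = Q * Z (Q quaternion of order 8, Z central cyclic).
import Cfsg.Agent.Helper20.NormIdx
import Cfsg.Agent.Helper20.Quat8
import Cfsg.Agent.Helper20.SylowConj

set_option autoImplicit false

namespace Cfsg.Agent.Helper20

open Subgroup

variable {G : Type*} [Group G]

/-- If `Aut H` is a 2-group, an element normalizing `H` with an odd power centralizing `H` centralizes `H`. -/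
theorem mem_centralizer_of_odd_pow_mem (H : Subgroup G) (hH : IsPGroup 2 (MulAut H)) (g : G)
    (hg : g ∈ normalizer (H : Set G)) (m : ℕ) (hm : Odd m)
    (hgm : g ^ m ∈ centralizer (H : Set G)) : g ∈ centralizer (H : Set G) := by
  obtain ⟨α, hα⟩ : ∃ α : MulAut H, α = H.normalizerMonoidHom ⟨g, hg⟩ := ⟨_, rfl⟩
  have h1 : α ^ m = 1 := by
    rw [hα, ← map_pow]
    have : (⟨g, hg⟩ : normalizer (H : Set G)) ^ m ∈ H.normalizerMonoidHom.ker := by
      rw [normalizerMonoidHom_ker, mem_subgroupOf]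
      simpa using hgm
    exact MonoidHom.mem_ker.mp this
  obtain ⟨a, ha⟩ := hH α
  have hco : Nat.Coprime m (2 ^ a) := by
    apply Nat.Coprime.pow_right
    exact (Nat.coprime_comm.mp ((Nat.Prime.coprime_iff_not_dvd Nat.prime_two).mpr
      (fun h => (Nat.not_even_iff_odd.mpr hm) (even_iff_two_dvd.mpr h))))
  have h2 : α = 1 := (pow_eq_one_iff_of_coprime hco).mp ⟨h1, ha⟩
  have h3 : (⟨g, hg⟩ : normalizer (H : Set G)) ∈ H.normalizerMonoidHom.ker := by
    rw [MonoidHom.mem_ker, ← hα, h2]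
  rw [normalizerMonoidHom_ker, mem_subgroupOf] at h3
  exact h3

theorem conj_cancel_comm {g a b : G} (h : g * a * g⁻¹ * (g * b * g⁻¹) = g * b * g⁻¹ * (g * a * g⁻¹)) :
    a * b = b * a := by
  have h1 : g * (a * b) * g⁻¹ = g * (b * a) * g⁻¹ := by
    calc g * (a * b) * g⁻¹ = g * a * g⁻¹ * (g * b * g⁻¹) := by group
      _ = g * b * g⁻¹ * (g * a * g⁻¹) := h
      _ = g * (b * a) * g⁻¹ := by group
  exact mul_left_cancel (mul_right_cancel h1)

/-- Part 1: `|N_G(U) : C_G(U)| ∈ {2, 6}`. -/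
theorem relIndex_two_or_six_of_self_centralizing [Finite G] (S : Sylow 2 G) (U : Subgroup G)
    (hUS : U ≤ S) (hSN : (S : Subgroup G) ≤ normalizer (U : Set G))
    (hcent : ∀ s ∈ (S : Subgroup G), (∀ u ∈ U, s * u = u * s) → s ∈ U)
    (hUcomm : ∀ a ∈ U, ∀ b ∈ U, a * b = b * a)
    (hidx : U.relIndex S = 2)
    (haut : ∃ k : ℕ, Nat.card (MulAut U) ∣ 2 ^ k * 6) :
    (centralizer (U : Set G)).relIndex (normalizer (U : Set G)) = 2 ∨
      (centralizer (U : Set G)).relIndex (normalizer (U : Set G)) = 6 := by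
  have hCN : centralizer (U : Set G) ≤ normalizer (U : Set G) := centralizer_le_normalizer _
  have hNC : normalizer (U : Set G) ≤ normalizer ((centralizer (U : Set G) : Subgroup G) : Set G) :=
    (normal_subgroupOf_iff_le_normalizer hCN).mp (centralizer_normal_in_normalizer U)
  have h1 := relIndex_mul_relIndex (centralizer (U : Set G)) ((S : Subgroup G) ⊔ centralizer (U : Set G))
    (normalizer (U : Set G)) le_sup_right (sup_le hSN hCN)
  have h2 : (centralizer (U : Set G)).relIndex ((S : Subgroup G) ⊔ centralizer (U : Set G)) =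
      (centralizer (U : Set G)).relIndex (S : Subgroup G) :=
    relIndex_sup_of_le_normalizer _ _ (hSN.trans hNC)
  have h4 : centralizer (U : Set G) ⊓ (S : Subgroup G) = U := by
    ext s
    constructor
    · rintro ⟨hc, hs⟩
      exact hcent s hs (fun u hu => (mem_centralizer_iff.mp hc u hu).symm)
    · intro hu
      exact ⟨mem_centralizer_iff.mpr (fun u' hu' => hUcomm u' hu' s hu), hUS hu⟩
  have h3 : (centralizer (U : Set G)).relIndex (S : Subgroup G) = 2 := by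
    rw [← inf_relIndex_right, h4, hidx]
  rw [h2, h3] at h1
  have h5 : ¬ 2 ∣ ((S : Subgroup G) ⊔ centralizer (U : Set G)).relIndex (normalizer (U : Set G)) := by
    intro hd
    have h6 : ((S : Subgroup G) ⊔ centralizer (U : Set G)).relIndex (normalizer (U : Set G)) ∣
        (S : Subgroup G).relIndex (normalizer (U : Set G)) :=
      relIndex_dvd_of_le_left _ le_sup_left
    have h7 : (S : Subgroup G).relIndex (normalizer (U : Set G)) ∣ (S : Subgroup G).index :=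
      Dvd.intro _ (relIndex_mul_index hSN)
    exact S.not_dvd_index (hd.trans (h6.trans h7))
  obtain ⟨k, hk⟩ := haut
  have h8 := (relIndex_centralizer_normalizer_dvd U).trans hk
  rw [← h1] at h8 ⊢
  obtain ⟨o, ho⟩ : ∃ o, o = ((S : Subgroup G) ⊔ centralizer (U : Set G)).relIndex (normalizer (U : Set G)) :=
    ⟨_, rfl⟩
  rw [← ho] at h5 h8 ⊢
  have h9 : o ∣ 2 ^ k * 3 := by
    have : 2 * o ∣ 2 * (2 ^ k * 3) := by
      have e : 2 * (2 ^ k * 3) = 2 ^ k * 6 := by ring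
      rw [e]; exact h8
    exact (Nat.mul_dvd_mul_iff_left (by norm_num)).mp this
  have hco : Nat.Coprime o (2 ^ k) := by
    apply Nat.Coprime.pow_right
    exact ((Nat.Prime.coprime_iff_not_dvd Nat.prime_two).mpr h5).symm
  have h10 : o ∣ 3 := hco.dvd_of_dvd_mul_left h9
  have h11 : o = 1 ∨ o = 3 := (Nat.dvd_prime Nat.prime_three).mp h10
  rcases h11 with h | h
  · left; rw [h]
  · right; rw [h]


/-- Structure of `N_G(V)` for `V = Q Z`: it normalizes `Q`, centralizes `Z`, and `C(V) = C(Q) ∩ N(V)`. -/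
theorem quat_central_facts [Finite G] (S : Sylow 2 G) (Q Z : Subgroup G)
    (hQS : Q ≤ S) (eQ : Q ≃* QuaternionGroup 2) (hZS : Z ≤ S)
    (H1 : ∀ ζ ∈ Z, ∀ s ∈ (S : Subgroup G), s * ζ = ζ * s)
    (H2 : IsPGroup 2 (MulAut Z))
    (H3 : ∀ X : Subgroup G, X ≤ S → (∃ p ∈ X, ∃ q ∈ X, p * q ≠ q * p) →
      ∀ c ∈ X, (∀ v ∈ X, c * v = v * c) → c ∈ Z)
    (H6 : ∀ ζ ∈ Z, ζ * ζ = 1 → ζ ∈ Q) :
    normalizer ((Q ⊔ Z : Subgroup G) : Set G) ≤ normalizer (Q : Set G) ∧
    normalizer ((Q ⊔ Z : Subgroup G) : Set G) ≤ centralizer (Z : Set G) ∧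
    (∀ g ∈ normalizer ((Q ⊔ Z : Subgroup G) : Set G),
      g ∈ centralizer ((Q ⊔ Z : Subgroup G) : Set G) ↔ g ∈ centralizer (Q : Set G)) ∧
    (∀ v ∈ Q ⊔ Z, ∃ q ∈ Q, ∃ ζ ∈ Z, v = q * ζ) ∧
    (∀ v ∈ Q ⊔ Z, (∀ w ∈ Q ⊔ Z, v * w = w * v) ↔ v ∈ Z) := by
  obtain ⟨V, hV⟩ : ∃ V : Subgroup G, V = Q ⊔ Z := ⟨_, rfl⟩
  rw [← hV]
  have hQV : Q ≤ V := hV ▸ le_sup_left
  have hZV : Z ≤ V := hV ▸ le_sup_right
  have hVS : V ≤ S := hV ▸ sup_le hQS hZS
  obtain ⟨c, i, hcQ, hiQ, hc1, hcsq, hccen, hii, hsq, hinv⟩ := exists_q8_data Q eQ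
  obtain ⟨p₀, hp₀, q₀, hq₀, hpq₀⟩ := exists_noncomm_q8 Q eQ
  have hQnc : ∃ p ∈ Q, ∃ q ∈ Q, p * q ≠ q * p := ⟨p₀, hp₀, q₀, hq₀, hpq₀⟩
  have hVnc : ∃ p ∈ V, ∃ q ∈ V, p * q ≠ q * p := ⟨p₀, hQV hp₀, q₀, hQV hq₀, hpq₀⟩
  -- `Q` centralizes `Z`
  have hQZc : ∀ q ∈ Q, ∀ ζ ∈ Z, q * ζ = ζ * q := fun q hq ζ hζ => H1 ζ hζ q (hQS hq)
  have hQZ : Q ≤ normalizer (Z : Set G) := by
    intro q hq
    rw [mem_normalizer_iff]
    intro ζ
    constructor
    · intro hζ
      rw [hQZc q hq ζ hζ, mul_inv_cancel_right]; exact hζ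
    · intro hζ
      have h1 := hQZc q hq _ hζ
      have h2 : q * ζ * q⁻¹ = ζ := by
        have : q * (q * ζ * q⁻¹) = q * ζ := by rw [h1]; group
        exact mul_left_cancel this
      rwa [h2] at hζ
  have hVset : ∀ v ∈ V, ∃ q ∈ Q, ∃ ζ ∈ Z, v = q * ζ := by
    intro v hv
    rw [hV, ← SetLike.mem_coe, coe_mul_of_left_le_normalizer_right _ _ hQZ] at hv
    obtain ⟨q, hq, ζ, hζ, rfl⟩ := hv
    exact ⟨q, hq, ζ, hζ, rfl⟩
  have hcZ : c ∈ Z := H3 Q hQS hQnc c hcQ (fun v hv => (hccen v hv).symm)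
  -- centre of `V`
  have hcenV : ∀ v ∈ V, (∀ w ∈ V, v * w = w * v) ↔ v ∈ Z := by
    intro v hv
    constructor
    · intro hcomm
      exact H3 V hVS hVnc v hv hcomm
    · intro hvZ w hw
      exact (H1 v hvZ w (hVS hw)).symm
  -- conjugation by normalizer elements preserves `Z`
  have hconjZ : ∀ g ∈ normalizer (V : Set G), ∀ ζ ∈ Z, g * ζ * g⁻¹ ∈ Z := by
    intro g hg ζ hζ
    have hgV : g * ζ * g⁻¹ ∈ V := (mem_normalizer_iff.mp hg ζ).mp (hZV hζ)
    apply (hcenV _ hgV).mp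
    intro w hw
    have hw' : g⁻¹ * w * g ∈ V := by
      have := (mem_normalizer_iff.mp hg (g⁻¹ * w * g)).mpr (by
        have e : g * (g⁻¹ * w * g) * g⁻¹ = w := by group
        rw [e]; exact hw)
      exact this
    have h1 := (hcenV ζ (hZV hζ)).mpr hζ _ hw'
    calc g * ζ * g⁻¹ * w = g * (ζ * (g⁻¹ * w * g)) * g⁻¹ := by group
      _ = g * ((g⁻¹ * w * g) * ζ) * g⁻¹ := by rw [h1]
      _ = w * (g * ζ * g⁻¹) := by group
  have hNZ : normalizer (V : Set G) ≤ normalizer (Z : Set G) := by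
    intro g hg
    rw [mem_normalizer_iff]
    intro ζ
    constructor
    · exact hconjZ g hg ζ
    · intro hζ
      have := hconjZ g⁻¹ (inv_mem hg) _ hζ
      have e : g⁻¹ * (g * ζ * g⁻¹) * g⁻¹⁻¹ = ζ := by group
      rwa [e] at this
  -- the normalizer of `V` centralizes `Z`
  have hNcZ : normalizer (V : Set G) ≤ centralizer (Z : Set G) := by
    intro g hg
    obtain ⟨a, m, hm, hom⟩ := Nat.exists_eq_two_pow_mul_odd (orderOf_pos g).ne'
    apply mem_centralizer_of_odd_pow_mem Z H2 g (hNZ hg) m hm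
    have hg₂N : g ^ m ∈ normalizer (V : Set G) := pow_mem hg m
    have hg₂o : (g ^ m) ^ (2 ^ a) = 1 := by
      rw [← pow_mul, mul_comm, ← hom, pow_orderOf_eq_one]
    have hpz : IsPGroup 2 (zpowers (g ^ m)) := by
      rintro ⟨k, hk⟩
      refine ⟨a, Subtype.ext ?_⟩
      obtain ⟨j, rfl⟩ := mem_zpowers_iff.mp hk
      show ((g ^ m) ^ j) ^ (2 ^ a) = 1
      rw [← zpow_natCast, ← zpow_mul, mul_comm, zpow_mul, zpow_natCast, hg₂o, one_zpow]
    have hpV : IsPGroup 2 V := S.2.to_le hVS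
    have hzN : zpowers (g ^ m) ≤ normalizer (V : Set G) := (zpowers_le).mpr hg₂N
    have hK : IsPGroup 2 (zpowers (g ^ m) ⊔ V : Subgroup G) := hpz.to_sup_of_normal_right' hpV hzN
    obtain ⟨b, hb⟩ := exists_conj_le_sylow S hK
    have hbS : ∀ k ∈ (zpowers (g ^ m) ⊔ V : Subgroup G), b * k * b⁻¹ ∈ (S : Subgroup G) :=
      fun k hk => hb (conj_mem_map_conj _ b k hk)
    rw [mem_centralizer_iff]
    intro ζ hζ
    -- the conjugate of `V` by `b`
    have hXS : V.map (MulAut.conj b).toMonoidHom ≤ S := by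
      intro w hw
      rw [mem_map_conj_iff] at hw
      have := hbS _ (le_sup_right (a := zpowers (g ^ m)) hw)
      have e : b * (b⁻¹ * w * b) * b⁻¹ = w := by group
      rwa [e] at this
    have hXnc : ∃ p ∈ V.map (MulAut.conj b).toMonoidHom, ∃ q ∈ V.map (MulAut.conj b).toMonoidHom,
        p * q ≠ q * p :=
      ⟨b * p₀ * b⁻¹, conj_mem_map_conj V b p₀ (hQV hp₀), b * q₀ * b⁻¹,
        conj_mem_map_conj V b q₀ (hQV hq₀), fun h => hpq₀ (conj_cancel_comm h)⟩
    have hζ' : b * ζ * b⁻¹ ∈ Z := by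
      apply H3 _ hXS hXnc _ (conj_mem_map_conj V b ζ (hZV hζ))
      intro w hw
      rw [mem_map_conj_iff] at hw
      have h1 := (hcenV ζ (hZV hζ)).mpr hζ _ hw
      calc b * ζ * b⁻¹ * w = b * (ζ * (b⁻¹ * w * b)) * b⁻¹ := by group
        _ = b * ((b⁻¹ * w * b) * ζ) * b⁻¹ := by rw [h1]
        _ = w * (b * ζ * b⁻¹) := by group
    have hg₂S : b * (g ^ m) * b⁻¹ ∈ (S : Subgroup G) :=
      hbS _ (le_sup_left (b := V) (mem_zpowers (g ^ m)))
    have h2 := H1 _ hζ' _ hg₂S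
    exact (conj_cancel_comm h2).symm
  -- order four elements of `V` outside `Z` lie in `Q`
  have hstar : ∀ v ∈ V, v ∉ Z → (v * v) * (v * v) = 1 → v * v ≠ 1 → v ∈ Q := by
    intro v hv hvZ h4 h2
    obtain ⟨q, hq, ζ, hζ, rfl⟩ := hVset v hv
    have hcomm := hQZc q hq ζ hζ
    have hvv : q * ζ * (q * ζ) = (q * q) * (ζ * ζ) := by
      calc q * ζ * (q * ζ) = q * (ζ * q) * ζ := by group
        _ = q * (q * ζ) * ζ := by rw [hcomm]
        _ = (q * q) * (ζ * ζ) := by group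
    rcases hsq q hq with hqq | hqq
    · exfalso
      apply hvZ
      rcases hinv q hq hqq with rfl | rfl
      · rw [one_mul]; exact hζ
      · exact Z.mul_mem hcZ hζ
    · rw [hvv, hqq] at h4 h2
      have hcζ : c * (ζ * ζ) = (ζ * ζ) * c := hQZc c hcQ _ (Z.mul_mem hζ hζ)
      have h5 : (ζ * ζ) * (ζ * ζ) = 1 := by
        calc (ζ * ζ) * (ζ * ζ) = (c * c) * ((ζ * ζ) * (ζ * ζ)) := by rw [hcsq, one_mul]
          _ = c * (c * (ζ * ζ)) * (ζ * ζ) := by group
          _ = c * ((ζ * ζ) * c) * (ζ * ζ) := by rw [hcζ]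
          _ = c * (ζ * ζ) * (c * (ζ * ζ)) := by group
          _ = 1 := h4
      have h6 : ζ * ζ ∈ Q := H6 _ (Z.mul_mem hζ hζ) h5
      rcases hinv _ h6 h5 with h7 | h7
      · exact Q.mul_mem hq (H6 ζ hζ h7)
      · exfalso; apply h2; rw [h7]; exact hcsq
  have hconjQ' : ∀ g ∈ normalizer (V : Set G), ∀ q ∈ Q, q * q = c → g * q * g⁻¹ ∈ Q := by
    intro g hg q hq hqq
    have hgV : g * q * g⁻¹ ∈ V := (mem_normalizer_iff.mp hg q).mp (hQV hq)
    have e1 : g * q * g⁻¹ * (g * q * g⁻¹) = g * c * g⁻¹ := by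
      rw [← hqq]; group
    apply hstar _ hgV
    · intro hZ'
      have h1 := hconjZ g⁻¹ (inv_mem hg) _ hZ'
      have e : g⁻¹ * (g * q * g⁻¹) * g⁻¹⁻¹ = q := by group
      rw [e] at h1
      have h2 : ∀ w : Q, w * ⟨q, hq⟩ = ⟨q, hq⟩ * w := fun w => Subtype.ext (H1 q h1 w (hQS w.2))
      have h3 := iso_center_sq (le_refl 2) eQ ⟨q, hq⟩ h2
      have h4 : q * q = 1 := congrArg Subtype.val h3
      rw [hqq] at h4
      exact hc1 h4
    · rw [e1]
      calc g * c * g⁻¹ * (g * c * g⁻¹) = g * (c * c) * g⁻¹ := by group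
        _ = 1 := by rw [hcsq]; group
    · rw [e1]
      intro h
      apply hc1
      have : c = g⁻¹ * (g * c * g⁻¹) * g := by group
      rw [this, h]; group
  have hconjQ : ∀ g ∈ normalizer (V : Set G), ∀ q ∈ Q, g * q * g⁻¹ ∈ Q := by
    intro g hg q hq
    rcases hsq q hq with hqq | hqq
    · rcases hinv q hq hqq with rfl | rfl
      · have : g * 1 * g⁻¹ = 1 := by group
        rw [this]; exact Q.one_mem
      · have : g * q * g⁻¹ = (g * i * g⁻¹) * (g * i * g⁻¹) := by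
          rw [← hii]; group
        rw [this]
        exact Q.mul_mem (hconjQ' g hg i hiQ hii) (hconjQ' g hg i hiQ hii)
    · exact hconjQ' g hg q hq hqq
  have hNQ : normalizer (V : Set G) ≤ normalizer (Q : Set G) := by
    intro g hg
    rw [mem_normalizer_iff]
    intro q
    constructor
    · exact hconjQ g hg q
    · intro hq
      have := hconjQ g⁻¹ (inv_mem hg) _ hq
      have e : g⁻¹ * (g * q * g⁻¹) * g⁻¹⁻¹ = q := by group
      rwa [e] at this
  -- centralizers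
  have hCiff : ∀ g ∈ normalizer (V : Set G),
      g ∈ centralizer (V : Set G) ↔ g ∈ centralizer (Q : Set G) := by
    intro g hg
    constructor
    · intro h
      rw [mem_centralizer_iff] at h ⊢
      exact fun q hq => h q (hQV hq)
    · intro h
      have hz := hNcZ hg
      rw [mem_centralizer_iff] at h hz ⊢
      intro v hv
      obtain ⟨q, hq, ζ, hζ, rfl⟩ := hVset v hv
      calc q * ζ * g = q * (ζ * g) := by group
        _ = q * (g * ζ) := by rw [hz ζ hζ]
        _ = (q * g) * ζ := by group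
        _ = (g * q) * ζ := by rw [h q hq]
        _ = g * (q * ζ) := by group
  exact ⟨hNQ, hNcZ, hCiff, hVset, hcenV⟩

/-- Part 2: `|N_G(V) : V C_G(V)| ∈ {2, 6}` for `V = Q Z`. -/
theorem relIndex_two_or_six_of_quat_central [Finite G] (S : Sylow 2 G) (Q Z : Subgroup G)
    (hQS : Q ≤ S) (eQ : Q ≃* QuaternionGroup 2) (hZS : Z ≤ S)
    (H1 : ∀ ζ ∈ Z, ∀ s ∈ (S : Subgroup G), s * ζ = ζ * s)
    (H2 : IsPGroup 2 (MulAut Z))
    (H3 : ∀ X : Subgroup G, X ≤ S → (∃ p ∈ X, ∃ q ∈ X, p * q ≠ q * p) →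
      ∀ c ∈ X, (∀ v ∈ X, c * v = v * c) → c ∈ Z)
    (H4 : ∀ s ∈ (S : Subgroup G), (∀ q ∈ Q, s * q = q * s) → s ∈ Z)
    (H5 : ∃ t ∈ (S : Subgroup G), t * t ∉ Z)
    (H6 : ∀ ζ ∈ Z, ζ * ζ = 1 → ζ ∈ Q) :
    ((Q ⊔ Z) ⊔ centralizer ((Q ⊔ Z : Subgroup G) : Set G)).relIndex
        (normalizer ((Q ⊔ Z : Subgroup G) : Set G)) = 2 ∨
      ((Q ⊔ Z) ⊔ centralizer ((Q ⊔ Z : Subgroup G) : Set G)).relIndex
        (normalizer ((Q ⊔ Z : Subgroup G) : Set G)) = 6 := by
  obtain ⟨hNQ', hNcZ', hCiff', hVset', hcenV'⟩ :=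
    quat_central_facts S Q Z hQS eQ hZS H1 H2 H3 H6
  obtain ⟨V, hV⟩ : ∃ V : Subgroup G, V = Q ⊔ Z := ⟨_, rfl⟩
  rw [← hV] at hNQ' hNcZ' hCiff' hVset' hcenV' ⊢
  have hNQ := hNQ'
  have hNcZ := hNcZ'
  have hCiff := hCiff'
  have hVset := hVset'
  have hcenV := hcenV'
  have hQV : Q ≤ V := hV ▸ le_sup_left
  have hZV : Z ≤ V := hV ▸ le_sup_right
  have hVS : V ≤ S := hV ▸ sup_le hQS hZS
  obtain ⟨c, i, hcQ, hiQ, hc1, hcsq, hccen, hii, hsq, hinv⟩ := exists_q8_data Q eQ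
  obtain ⟨p₀, hp₀, q₀, hq₀, hpq₀⟩ := exists_noncomm_q8 Q eQ
  have hQnc : ∃ p ∈ Q, ∃ q ∈ Q, p * q ≠ q * p := ⟨p₀, hp₀, q₀, hq₀, hpq₀⟩
  have hQZc : ∀ q ∈ Q, ∀ ζ ∈ Z, q * ζ = ζ * q := fun q hq ζ hζ => H1 ζ hζ q (hQS hq)
  have hQZ : Q ≤ normalizer (Z : Set G) := by
    intro q hq
    rw [mem_normalizer_iff]
    intro ζ
    constructor
    · intro hζ
      rw [hQZc q hq ζ hζ, mul_inv_cancel_right]; exact hζ
    · intro hζ
      have h1 := hQZc q hq _ hζ
      have h2 : q * ζ * q⁻¹ = ζ := by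
        have : q * (q * ζ * q⁻¹) = q * ζ := by rw [h1]; group
        exact mul_left_cancel this
      rwa [h2] at hζ
  have hcZ : c ∈ Z := H3 Q hQS hQnc c hcQ (fun v hv => (hccen v hv).symm)
  -- |N : C| divides 24
  have h24 : (centralizer (V : Set G)).relIndex (normalizer (V : Set G)) ∣ 24 := by
    obtain ⟨f, hf⟩ : ∃ f : normalizer (V : Set G) →* MulAut Q,
        f = Q.normalizerMonoidHom.comp (Subgroup.inclusion hNQ) := ⟨_, rfl⟩
    have hker : f.ker = (centralizer (V : Set G)).subgroupOf (normalizer (V : Set G)) := by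
      ext ⟨g, hg⟩
      rw [MonoidHom.mem_ker, hf, MonoidHom.comp_apply, ← MonoidHom.mem_ker,
        normalizerMonoidHom_ker, mem_subgroupOf, mem_subgroupOf]
      exact (hCiff g hg).symm
    have h1 : f.ker.index ∣ Nat.card (MulAut Q) := by
      rw [Subgroup.index_ker]
      exact Subgroup.card_subgroup_dvd_card f.range
    rw [hker, Nat.card_congr (MulAut.congr eQ).toEquiv, card_mulAut_quaternion8] at h1
    exact h1
  -- |VC : C| = 4
  have hCV : centralizer (V : Set G) ⊓ V = Z := by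
    ext v
    constructor
    · rintro ⟨hc, hv⟩
      exact (hcenV v hv).mp (fun w hw => (mem_centralizer_iff.mp hc w hw).symm)
    · intro hv
      refine ⟨mem_centralizer_iff.mpr (fun w hw => ((hcenV v (hZV hv)).mpr hv w hw).symm), hZV hv⟩
  have hZQ : Z ⊓ Q = centralizer (Q : Set G) ⊓ Q := by
    ext v
    constructor
    · rintro ⟨hz, hq⟩
      exact ⟨mem_centralizer_iff.mpr (fun w hw => hQZc w hw v hz), hq⟩
    · rintro ⟨hc, hq⟩
      exact ⟨H3 Q hQS hQnc v hq (fun w hw => (mem_centralizer_iff.mp hc w hw).symm), hq⟩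
  have h4 : (centralizer (V : Set G)).relIndex (V ⊔ centralizer (V : Set G)) = 4 := by
    rw [relIndex_centralizer_sup_self, ← inf_relIndex_right, hCV, hV,
      relIndex_sup_of_le_normalizer Q Z hQZ, ← inf_relIndex_right, hZQ, inf_relIndex_right,
      relIndex_centralizer_quaternion8 Q eQ]
  -- 2 divides |N : VC|
  have h2 : 2 ∣ (V ⊔ centralizer (V : Set G)).relIndex (normalizer (V : Set G)) := by
    -- a 2-element of `N_S(V)` outside `V`
    have hVtop : V.subgroupOf (S : Subgroup G) ≠ ⊤ := by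
      intro htop
      obtain ⟨t, htS, htt⟩ := H5
      have htV : t ∈ V := by
        have : (⟨t, htS⟩ : (S : Subgroup G)) ∈ V.subgroupOf (S : Subgroup G) := by
          rw [htop]; exact mem_top _
        exact mem_subgroupOf.mp this
      obtain ⟨q, hq, ζ, hζ, rfl⟩ := hVset t htV
      apply htt
      have hcomm := hQZc q hq ζ hζ
      have hvv : q * ζ * (q * ζ) = (q * q) * (ζ * ζ) := by
        calc q * ζ * (q * ζ) = q * (ζ * q) * ζ := by group
          _ = q * (q * ζ) * ζ := by rw [hcomm]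
          _ = (q * q) * (ζ * ζ) := by group
      rw [hvv]
      rcases hsq q hq with hqq | hqq
      · rw [hqq, one_mul]; exact Z.mul_mem hζ hζ
      · rw [hqq]; exact Z.mul_mem hcZ (Z.mul_mem hζ hζ)
    haveI : Fact (Nat.Prime 2) := ⟨Nat.prime_two⟩
    haveI : Group.IsNilpotent (S : Subgroup G) := S.2.isNilpotent
    have hnc := Group.normalizerCondition_of_isNilpotent (G := (S : Subgroup G))
      (V.subgroupOf (S : Subgroup G)) (lt_top_iff_ne_top.mpr hVtop)
    obtain ⟨s', hs'N, hs'V⟩ := SetLike.exists_of_lt hnc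
    have hsN : (s' : G) ∈ normalizer (V : Set G) := coe_mem_normalizer_of_subgroupOf hVS hs'N
    have hsV : (s' : G) ∉ V := fun h => hs'V (mem_subgroupOf.mpr h)
    obtain ⟨a, ha⟩ := S.2 s'
    have hsa : (s' : G) ^ (2 ^ a) = 1 := by
      have := congrArg Subtype.val ha
      simpa using this
    have hsM : (s' : G) ∉ V ⊔ centralizer (V : Set G) := by
      intro hc
      rw [← SetLike.mem_coe,
        coe_mul_of_left_le_normalizer_right _ _ (le_normalizer_centralizer_self V)] at hc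
      obtain ⟨v, hv, c', hc', hvc⟩ := hc
      have hc'S : c' ∈ (S : Subgroup G) := by
        have : c' = v⁻¹ * (s' : G) := by rw [← hvc]; group
        rw [this]
        exact Subgroup.mul_mem _ (Subgroup.inv_mem _ (hVS hv)) s'.2
      have hc'Z : c' ∈ Z := by
        apply H4 c' hc'S
        intro q hq
        exact (mem_centralizer_iff.mp hc' q (hQV hq)).symm
      apply hsV
      rw [← hvc]
      exact V.mul_mem hv (hZV hc'Z)
    exact two_dvd_relIndex_of_two_elt _ _ _ hsN hsM a hsa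
  have hVN : V ≤ normalizer (V : Set G) := le_normalizer
  have hCN : centralizer (V : Set G) ≤ normalizer (V : Set G) := centralizer_le_normalizer _
  have hmul := relIndex_mul_relIndex (centralizer (V : Set G)) (V ⊔ centralizer (V : Set G))
    (normalizer (V : Set G)) le_sup_right (sup_le hVN hCN)
  rw [h4] at hmul
  have h6 : (V ⊔ centralizer (V : Set G)).relIndex (normalizer (V : Set G)) ∣ 6 := by
    rw [← hmul] at h24
    have : (4 : ℕ) * (V ⊔ centralizer (V : Set G)).relIndex (normalizer (V : Set G)) ∣ 4 * 6 := h24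
    exact (Nat.mul_dvd_mul_iff_left (by norm_num)).mp this
  exact eq_two_or_six h6 h2

end Cfsg.Agent.Helper20
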