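import Cfsg.Agent.Helper20.Wr9

set_option autoImplicit false

/-!
Wreathed groups: automorphisms of odd order of `diffSub e r`, cases `e = n - 1` with `r` odd and
`e = n`.
-/

namespace Cfsg.Agent.Helper20

namespace WrData

variable {S : Type*} [Group S] {n : ℕ} {x y z : S}

/-- Case `e + 1 = n`, `r` odd (modular group). -/
theorem odd_aut_trivial_B [Finite S] (h : WrData S n x y z) {e : ℕ} (he : e + 1 = n) (r : ℤ)
    (hr : Odd r) (φ : MulAut (h.diffSub e r)) {k : ℕ} (hk : Odd k) (hφ : φ ^ k = 1) : φ = 1 := by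
  have he' : e ≤ n := by omega
  have he1 : 1 ≤ e := by have := h.hn; omega
  have hnc := h.not_comm_diffSub (by omega : e + 1 ≤ n) r
  apply h.odd_aut_trivial_of_inv he' r φ hk hφ (fun g hg => h.center_inv _ hnc φ g hg)
  intro g hg
  apply (h.diffSub_inf_U he' r _).mp
  refine ⟨(φ g).2, ?_⟩
  have hgp : g ^ (2 ^ n) = 1 := by
    apply Subtype.ext
    obtain ⟨k', l', -, -, hkl⟩ := hg
    rw [Subgroup.coe_pow, hkl, h.el_pow, Subgroup.coe_one, h.el_eq_one_iff]
    push_cast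
    exact ⟨Dvd.intro_left _ rfl, Dvd.intro_left _ rfl⟩
  have hφp : ((φ g : h.diffSub e r) : S) ^ (2 ^ n) = 1 := by
    have := congrArg (fun t => ((φ t : h.diffSub e r) : S)) hgp
    simpa using this
  by_contra hnot
  rcases h.cases ((φ g : h.diffSub e r) : S) with ⟨k', l', hkl⟩ | ⟨k', l', hkl⟩
  · exact hnot (hkl ▸ h.el_mem_U _ _)
  · have hmem := (φ g).2
    rw [hkl, h.elz_mem_diffSub he'] at hmem
    rw [hkl] at hφp
    have hpow : (x ^ k' * y ^ l' * z) ^ (2 ^ n)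
        = x ^ ((k' + l') * 2 ^ e) * y ^ ((k' + l') * 2 ^ e) := by
      rw [← he, pow_succ, mul_comm (2 ^ e) 2, pow_mul, pow_two, h.elz_sq, h.el_pow]
      push_cast
      rfl
    rw [hpow, h.el_eq_one_iff, and_self, ← he] at hφp
    have h2 : (2 : ℤ) ∣ k' + l' := by
      have : (2 ^ (e + 1) : ℤ) ∣ 2 ^ e * (k' + l') → (2 : ℤ) ∣ k' + l' := by
        intro hd
        rw [pow_succ] at hd
        exact (mul_dvd_mul_iff_left (by positivity)).mp hd
      apply this
      rwa [mul_comm] at hφp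
    have h3 : (2 : ℤ) ∣ k' - l' - r := (dvd_pow_self 2 (by omega : e ≠ 0)).trans hmem
    obtain ⟨m, hm⟩ := hr
    omega

/-- Case `e = n`, `r` odd: the group is cyclic. -/
theorem isCyclic_diffSub_n_odd (h : WrData S n x y z) (r : ℤ) (hr : Odd r) :
    IsCyclic (h.diffSub n r) := by
  have ha := h.r_mem_diffSub (le_refl n) r
  have hcop : IsCoprime r (2 ^ n : ℤ) := by
    apply IsCoprime.pow_right
    obtain ⟨m, hm⟩ := hr
    exact ⟨1, -m, by rw [hm]; ring⟩
  obtain ⟨α, β, hαβ⟩ := hcop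
  have key : ∀ g ∈ h.diffSub n r, g ∈ Subgroup.zpowers (x ^ r * y ^ (0 : ℤ) * z) := by
    have hsq : (x ^ r * y ^ (0 : ℤ) * z) ^ (2 : ℤ) = x ^ r * y ^ r := by
      rw [zpow_two, h.elz_sq]; simp
    have hU : ∀ k' l' : ℤ, (2 ^ n : ℤ) ∣ k' - l' →
        x ^ k' * y ^ l' ∈ Subgroup.zpowers (x ^ r * y ^ (0 : ℤ) * z) := by
      intro k' l' hd
      have : x ^ k' * y ^ l' = (x ^ r * y ^ (0 : ℤ) * z) ^ (2 * (α * k')) := by
        rw [zpow_mul, hsq, h.el_zpow, h.el_eq_iff]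
        refine ⟨⟨β * k', ?_⟩, ?_⟩
        · have : k' - r * (α * k') = k' * (1 - α * r) := by ring
          rw [this, ← hαβ]; ring
        · have : l' - r * (α * k') = -(k' - l') + k' * (1 - α * r) := by ring
          rw [this, ← hαβ]
          apply dvd_add (dvd_neg.mpr hd)
          exact ⟨β * k', by ring⟩
      rw [this]
      exact Subgroup.zpow_mem_zpowers _ _
    intro g hg
    rcases h.cases g with ⟨k', l', rfl⟩ | ⟨k', l', rfl⟩
    · exact hU k' l' ((h.el_mem_diffSub le_rfl r k' l').mp hg)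
    · have hd := (h.elz_mem_diffSub le_rfl r k' l').mp hg
      have : x ^ k' * y ^ l' * z = (x ^ (k' - r) * y ^ l') * (x ^ r * y ^ (0 : ℤ) * z) := by
        rw [h.el_mul_elz]; congr 3 <;> ring
      rw [this]
      apply Subgroup.mul_mem _ (hU _ _ ?_) (Subgroup.mem_zpowers _)
      have : k' - r - l' = k' - l' - r := by ring
      rwa [this]
  refine ⟨⟨⟨_, ha⟩, fun g => ?_⟩⟩
  obtain ⟨m, hm⟩ := Subgroup.mem_zpowers_iff.mp (key g g.2)
  exact Subgroup.mem_zpowers_iff.mpr ⟨m, Subtype.ext (by rw [Subgroup.coe_zpow]; exact hm)⟩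

theorem isPGroup_mulAut_of_isCyclic [Finite S] (h : WrData S n x y z) (X : Subgroup S)
    (hc : IsCyclic X) : IsPGroup 2 (MulAut X) := by
  have hdvd : Nat.card X ∣ 2 ^ (2 * n + 1) := by
    rw [← h.card]; exact Subgroup.card_subgroup_dvd_card X
  obtain ⟨c, -, hc'⟩ := (Nat.dvd_prime_pow Nat.prime_two).mp hdvd
  have hcard : Nat.card (MulAut X) = Nat.totient (2 ^ c) := by
    rw [IsCyclic.card_mulAut, hc']
  rcases Nat.eq_zero_or_pos c with rfl | hpos
  · apply IsPGroup.of_card (n := 0)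
    rw [hcard]; simp
  · apply IsPGroup.of_card (n := c - 1)
    rw [hcard, Nat.totient_prime_pow Nat.prime_two hpos]
    simp

/-- Case `e = n`, `r` even: `X ≅ Z_{2^n} × Z_2`. -/
theorem odd_aut_trivial_D [Finite S] (h : WrData S n x y z) (ρ : ℤ)
    (φ : MulAut (h.diffSub n (2 * ρ))) {k : ℕ} (hk : Odd k) (hφ : φ ^ k = 1) : φ = 1 := by
  have hn1 : 1 ≤ n := by have := h.hn; omega
  set F : Subgroup (h.diffSub n (2 * ρ)) :=
    MonoidHom.eqLocus φ.toMonoidHom (MonoidHom.id (h.diffSub n (2 * ρ))) with hF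
  have hFiff : ∀ g : h.diffSub n (2 * ρ), g ∈ F ↔ φ g = g := fun g => Iff.rfl
  have L1 : ∀ g : h.diffSub n (2 * ρ), g⁻¹ * φ g ∈ F → g ∈ F := fun g hg =>
    odd_aut_fix_of_coset φ hk hφ F (fun m hm => hm) (fun m _ => h.isPGroup.to_subgroup _ m) g hg
  -- powers
  have D1 : ∀ v : h.diffSub n (2 * ρ), ∀ f : ℕ, 1 ≤ f → f ≤ n →
      ((v ^ (2 ^ f) : h.diffSub n (2 * ρ)) : S) ∈ h.vSub n f := by
    intro v f hf1 hfn
    rw [Subgroup.coe_pow]
    rcases h.cases (v : S) with ⟨k', l', hkl⟩ | ⟨k', l', hkl⟩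
    · have hm := v.2
      rw [hkl, h.el_mem_diffSub le_rfl] at hm
      rw [hkl, h.el_pow, h.el_mem_vSub le_rfl hfn]
      push_cast
      refine ⟨?_, Dvd.intro_left _ rfl⟩
      have : k' * 2 ^ f - l' * 2 ^ f = (k' - l') * 2 ^ f := by ring
      rw [this]; exact Dvd.dvd.mul_right hm _
    · have hm := v.2
      rw [hkl, h.elz_mem_diffSub le_rfl] at hm
      obtain ⟨f', rfl⟩ : ∃ f', f = f' + 1 := ⟨f - 1, by omega⟩
      rw [hkl, pow_succ, mul_comm (2 ^ f') 2, pow_mul, pow_two, h.elz_sq, h.el_pow,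
        h.el_mem_vSub le_rfl hfn]
      push_cast
      refine ⟨by simp, ?_⟩
      have h2 : (2 : ℤ) ∣ k' + l' := by
        have h3 : (2 : ℤ) ∣ k' - l' - 2 * ρ := (dvd_pow_self 2 (by omega : n ≠ 0)).trans hm
        omega
      obtain ⟨c, hc⟩ := h2
      exact ⟨c, by rw [hc, pow_succ]; ring⟩
  have P1 : ∀ d f : ℕ, f + d = n → 1 ≤ f → ∀ g : h.diffSub n (2 * ρ),
      (g : S) ∈ h.vSub n f → φ g = g := by
    intro d
    induction d with
    | zero =>
      intro f hf _ g hg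
      have hfn : f = n := by omega
      subst hfn
      have h1 : (g : S) = 1 := h.vSub_n_n _ hg
      have h2 : g = 1 := Subtype.ext h1
      rw [h2, map_one]
    | succ d ih =>
      intro f hf hf1
      have hfn1 : f + 1 ≤ n := by omega
      have hf0 : f ≤ n := by omega
      apply h.step_lift _ φ hk hφ (h.vSub n (f + 1)) (h.vSub n f) (ih (f + 1) (by omega) (by omega))
      · intro g hg
        obtain ⟨w, hw, hgw⟩ := h.vSub_n_pow_decomp _ hg
        have hwX : w ∈ h.diffSub n (2 * ρ) := h.vSub_le_diffSub le_rfl le_rfl _ hw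
        have hgw' : g = (⟨w, hwX⟩ : h.diffSub n (2 * ρ)) ^ (2 ^ f) := Subtype.ext (by rw [hgw]; rfl)
        rw [hgw', map_pow]
        exact D1 _ f hf1 hf0
      · intro a b ha hb ha' hb'
        exact h.vSub_step_f le_rfl hfn1 a b ha hb ha' hb'
  have hZ2 : ∀ g : h.diffSub n (2 * ρ), (g : S) ∈ h.vSub n 1 → g ∈ F :=
    fun g hg => P1 (n - 1) 1 (by omega) le_rfl g hg
  -- the involution `a'`
  have ha'X : x ^ ρ * y ^ (-ρ) * z ∈ h.diffSub n (2 * ρ) :=
    (h.elz_mem_diffSub le_rfl _ _ _).mpr ⟨0, by ring⟩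
  set a' : h.diffSub n (2 * ρ) := ⟨_, ha'X⟩ with ha'
  have ha'sq : a' * a' = 1 := by
    apply Subtype.ext
    show (x ^ ρ * y ^ (-ρ) * z) * (x ^ ρ * y ^ (-ρ) * z) = 1
    rw [h.elz_sq_eq_one_iff]; simp
  have ha'F : a' ∈ F := by
    apply L1
    have hsq : ((φ a' : h.diffSub n (2 * ρ)) : S) * ((φ a' : h.diffSub n (2 * ρ)) : S) = 1 := by
      have := congrArg (fun t => ((φ t : h.diffSub n (2 * ρ)) : S)) ha'sq
      simpa using this
    rcases h.cases ((φ a' : h.diffSub n (2 * ρ)) : S) with ⟨k', l', hkl⟩ | ⟨k', l', hkl⟩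
    · have hmem := (φ a').2
      rw [hkl, h.el_mem_diffSub le_rfl] at hmem
      rw [hkl, h.el_sq_eq_one_iff] at hsq
      have h2 : (2 : ℤ) ∣ k' := h.two_dvd_P.trans hsq.1
      have h3 : φ a' ∈ F := hZ2 _ (by
        rw [hkl]; exact (h.el_mem_vSub le_rfl hn1 _ _).mpr ⟨hmem, by simpa using h2⟩)
      have h4 : φ a' = a' := φ.injective h3
      rw [h4, inv_mul_cancel]; exact F.one_mem
    · have hmem := (φ a').2
      rw [hkl, h.elz_mem_diffSub le_rfl] at hmem
      rw [hkl, h.elz_sq_eq_one_iff] at hsq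
      apply hZ2
      rw [Subgroup.coe_mul, Subgroup.coe_inv, hkl]
      show (x ^ ρ * y ^ (-ρ) * z)⁻¹ * (x ^ k' * y ^ l' * z) ∈ _
      rw [h.elz_inv, h.elz_mul_elz, h.el_mem_vSub le_rfl hn1]
      refine ⟨?_, ?_⟩
      · have : - -ρ + l' - (-ρ + k') = -(k' - l' - 2 * ρ) := by ring
        rw [this]; exact dvd_neg.mpr hmem
      · have h5 : (2 ^ n : ℤ) ∣ 2 * (l' + ρ) := by
          have := dvd_sub hsq hmem
          have e : k' + l' - (k' - l' - 2 * ρ) = 2 * (l' + ρ) := by ring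
          rwa [e] at this
        have h6 := (h.dvd_two_mul_iff _).mp h5
        have h7 := h.two_dvd_P.trans h6
        have : - -ρ + l' = l' + ρ := by ring
        rw [this, pow_one]; exact h7
  have hcoset : ∀ (g : h.diffSub n (2 * ρ)) (k' l' : ℤ), (g : S) = x ^ k' * y ^ l' * z →
      (2 : ℤ) ∣ k' - ρ → g ∈ F := by
    intro g k' l' hg h2
    have hm := g.2
    rw [hg, h.elz_mem_diffSub le_rfl] at hm
    have hel : x ^ (k' - ρ) * y ^ (l' + ρ) ∈ h.vSub n 1 := by
      rw [h.el_mem_vSub le_rfl hn1]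
      refine ⟨?_, by simpa using h2⟩
      have : k' - ρ - (l' + ρ) = k' - l' - 2 * ρ := by ring
      rwa [this]
    have helX : x ^ (k' - ρ) * y ^ (l' + ρ) ∈ h.diffSub n (2 * ρ) :=
      h.vSub_le_diffSub le_rfl le_rfl _ hel
    have : g = (⟨_, helX⟩ : h.diffSub n (2 * ρ)) * a' := by
      apply Subtype.ext
      rw [hg]
      show _ = (x ^ (k' - ρ) * y ^ (l' + ρ)) * (x ^ ρ * y ^ (-ρ) * z)
      rw [h.el_mul_elz]; congr 3 <;> ring
    rw [this]
    exact F.mul_mem (hZ2 _ hel) ha'F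
  -- the generator of the centre
  have hw₁X : x ^ (1 : ℤ) * y ^ (1 : ℤ) ∈ h.diffSub n (2 * ρ) :=
    (h.el_mem_diffSub le_rfl _ _ _).mpr (by simp)
  set w₁ : h.diffSub n (2 * ρ) := ⟨_, hw₁X⟩ with hw₁
  have hw₁F : w₁ ∈ F := by
    rcases h.cases ((φ w₁ : h.diffSub n (2 * ρ)) : S) with ⟨k', l', hkl⟩ | ⟨k', l', hkl⟩
    · have hmem := (φ w₁).2
      rw [hkl, h.el_mem_diffSub le_rfl] at hmem
      rcases Int.even_or_odd k' with hev | hodd
      · have h3 : φ w₁ ∈ F := hZ2 _ (by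
          rw [hkl]
          exact (h.el_mem_vSub le_rfl hn1 _ _).mpr ⟨hmem, by simpa using even_iff_two_dvd.mp hev⟩)
        exact φ.injective h3
      · apply L1
        apply hZ2
        rw [Subgroup.coe_mul, Subgroup.coe_inv, hkl]
        show (x ^ (1 : ℤ) * y ^ (1 : ℤ))⁻¹ * (x ^ k' * y ^ l') ∈ _
        rw [h.el_inv, h.el_mul_el, h.el_mem_vSub le_rfl hn1]
        refine ⟨?_, ?_⟩
        · have : -1 + k' - (-1 + l') = k' - l' := by ring
          rwa [this]
        · obtain ⟨m, hm⟩ := hodd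
          exact ⟨m, by rw [hm]; ring⟩
    · rcases Int.even_or_odd (k' - ρ) with hev | hodd
      · have h3 : φ w₁ ∈ F := hcoset _ k' l' hkl (even_iff_two_dvd.mp hev)
        exact φ.injective h3
      · apply L1
        apply hcoset _ (k' - 1) (l' - 1)
        · rw [Subgroup.coe_mul, Subgroup.coe_inv, hkl]
          show (x ^ (1 : ℤ) * y ^ (1 : ℤ))⁻¹ * (x ^ k' * y ^ l' * z) = _
          rw [h.el_inv, h.el_mul_elz]; congr 3 <;> ring
        · obtain ⟨m, hm⟩ := hodd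
          exact ⟨m, by linarith⟩
  have hall : ∀ g : h.diffSub n (2 * ρ), g ∈ F := by
    have hU : ∀ (g : h.diffSub n (2 * ρ)) (k' l' : ℤ), (g : S) = x ^ k' * y ^ l' → g ∈ F := by
      intro g k' l' hg
      have hm := g.2
      rw [hg, h.el_mem_diffSub le_rfl] at hm
      have : g = w₁ ^ k' := by
        apply Subtype.ext
        rw [hg, Subgroup.coe_zpow]
        show _ = (x ^ (1 : ℤ) * y ^ (1 : ℤ)) ^ k'
        rw [h.el_zpow, h.el_eq_iff]
        refine ⟨by simp, ?_⟩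
        have : l' - 1 * k' = -(k' - l') := by ring
        rw [this]; exact dvd_neg.mpr hm
      rw [this]
      exact F.zpow_mem hw₁F k'
    intro g
    rcases h.cases (g : S) with ⟨k', l', hkl⟩ | ⟨k', l', hkl⟩
    · exact hU g k' l' hkl
    · have hm := g.2
      rw [hkl, h.elz_mem_diffSub le_rfl] at hm
      have helX : x ^ (k' - ρ) * y ^ (l' + ρ) ∈ h.diffSub n (2 * ρ) := by
        rw [h.el_mem_diffSub le_rfl]
        have : k' - ρ - (l' + ρ) = k' - l' - 2 * ρ := by ring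
        rwa [this]
      have : g = (⟨_, helX⟩ : h.diffSub n (2 * ρ)) * a' := by
        apply Subtype.ext
        rw [hkl]
        show _ = (x ^ (k' - ρ) * y ^ (l' + ρ)) * (x ^ ρ * y ^ (-ρ) * z)
        rw [h.el_mul_elz]; congr 3 <;> ring
      rw [this]
      exact F.mul_mem (hU _ _ _ rfl) ha'F
  ext g
  rw [(hFiff g).mp (hall g)]
  rfl

end WrData

end Cfsg.Agent.Helper20
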