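-- helper20: wreathed groups: the abelian maximal subgroup U (uniqueness, self-centralizing, |Aut U|),
-- centralizers of quaternion subgroups.
import Cfsg.Agent.Helper20.Wr10
import Cfsg.Agent.Helper20.AutTwo
import Cfsg.Agent.Helper20.Quat8
import Cfsg.Agent.Helper20.NormIdx

set_option autoImplicit false

namespace Cfsg.Agent.Helper20

namespace WrData

variable {S : Type*} [Group S] {n : ℕ} {x y z : S}

theorem isMulCommutative_U (h : WrData S n x y z) : IsMulCommutative h.U := by
  refine ⟨⟨fun p q => ?_⟩⟩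
  apply Subtype.ext
  obtain ⟨i, j, hp⟩ := p.2
  obtain ⟨k, l, hq⟩ := q.2
  show (p : S) * q = q * p
  rw [hp, hq]
  exact h.el_comm_el i j k l

theorem comm_of_mem_U (h : WrData S n x y z) {a b : S} (ha : a ∈ h.U) (hb : b ∈ h.U) :
    a * b = b * a := by
  obtain ⟨i, j, rfl⟩ := ha
  obtain ⟨k, l, rfl⟩ := hb
  exact h.el_comm_el i j k l

theorem unique_U [Finite S] (h : WrData S n x y z) (A : Subgroup S) (hA : IsMulCommutative A)
    (hcard : Nat.card A = 2 ^ (2 * n)) : A = h.U := by
  by_contra hne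
  have hnle : ¬ A ≤ h.U := by
    intro hle
    apply hne
    exact Subgroup.eq_of_le_of_card_ge hle (by rw [hcard, h.card_U])
  obtain ⟨a, haA, haU⟩ := SetLike.not_le_iff_exists.mp hnle
  have hle : h.U ⊓ A ≤ Subgroup.center S := by
    rintro u ⟨huU, huA⟩
    apply h.mem_center_of_comm huU haU
    have := hA.is_comm.comm (⟨u, huA⟩ : A) ⟨a, haA⟩
    exact congrArg Subtype.val this
  have h1 : Nat.card (h.U ⊓ A : Subgroup S) ∣ 2 ^ n := by
    rw [← h.card_center]
    exact Subgroup.card_dvd_of_le hle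
  have h2 : (h.U ⊓ A).relIndex A ∣ 2 := by
    rw [Subgroup.inf_relIndex_right, ← h.index_U]
    haveI := h.normal_U
    exact Subgroup.relIndex_dvd_index_of_normal _ _
  have h3 := Subgroup.relIndex_mul_relIndex (⊥ : Subgroup S) (h.U ⊓ A) A bot_le inf_le_right
  rw [Subgroup.relIndex_bot_left, Subgroup.relIndex_bot_left, hcard] at h3
  have h4 : Nat.card (h.U ⊓ A : Subgroup S) ≤ 2 ^ n := Nat.le_of_dvd (by positivity) h1
  have h5 : (h.U ⊓ A).relIndex A ≤ 2 := Nat.le_of_dvd (by norm_num) h2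
  have h6 : 2 ^ (2 * n) ≤ 2 ^ n * 2 := by
    rw [← h3]
    exact Nat.mul_le_mul h4 h5
  have h7 : 2 ^ (2 * n) ≤ 2 ^ (n + 1) := by rwa [pow_succ]
  have h8 := (Nat.pow_le_pow_iff_right (le_refl 2)).mp h7
  have := h.hn
  omega

theorem x_mem_U (h : WrData S n x y z) : x ∈ h.U := by
  have := h.xpow_mem_U 1
  simpa using this

theorem x_not_mem_center (h : WrData S n x y z) : x ∉ Subgroup.center S := by
  intro hc
  have h1 : x ^ (1 : ℤ) * y ^ (0 : ℤ) ∈ Subgroup.center S := by simpa using hc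
  rw [h.el_mem_center_iff, sub_zero] at h1
  exact h.N_not_dvd_one h1

theorem x_sq_not_mem_center (h : WrData S n x y z) : x * x ∉ Subgroup.center S := by
  intro hc
  have h1 : x ^ (2 : ℤ) * y ^ (0 : ℤ) ∈ Subgroup.center S := by
    rw [zpow_zero, mul_one, zpow_two]; exact hc
  rw [h.el_mem_center_iff, sub_zero] at h1
  have h2 : (4 : ℤ) ∣ 2 := h.four_dvd_N.trans h1
  omega

/-- `U` is self-centralizing. -/
theorem mem_U_of_centralizes (h : WrData S n x y z) (s : S) (hs : ∀ u ∈ h.U, s * u = u * s) :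
    s ∈ h.U := by
  by_contra hsU
  exact h.x_not_mem_center (h.mem_center_of_comm h.x_mem_U hsU (hs x h.x_mem_U).symm)

theorem exists_card_mulAut_U [Finite S] (h : WrData S n x y z) :
    ∃ k : ℕ, Nat.card (MulAut h.U) ∣ 2 ^ k * 6 := by
  have hTU : h.T ≤ h.U := fun t ht => ((h.mem_T_iff t).mp ht).1
  apply card_mulAut_dvd_of_kleinFour_omega (Ω := h.T.subgroupOf h.U)
  · intro a b
    exact Subtype.ext (h.comm_of_mem_U a.2 b.2)
  · intro u
    exact (h.isPGroup.to_subgroup h.U) u
  · intro u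
    rw [Subgroup.mem_subgroupOf, h.mem_T_iff]
    constructor
    · rintro ⟨-, hsq⟩
      apply Subtype.ext
      rw [Subgroup.coe_pow, pow_two]; exact hsq
    · intro hu
      refine ⟨u.2, ?_⟩
      have := congrArg Subtype.val hu
      simpa [pow_two] using this
  · exact isKleinFour_of_equiv (Subgroup.subgroupOfEquivOfLe hTU) h.isKleinFour_T

/-- The centralizer in `S` of a quaternion subgroup of order 8 is the centre of `S`. -/
theorem centralizer_quat_le_center (h : WrData S n x y z) (Q : Subgroup S)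
    (e : Q ≃* QuaternionGroup 2) (c : S) (hc : ∀ q ∈ Q, c * q = q * c) :
    c ∈ Subgroup.center S := by
  obtain ⟨p, hp', q, hq', hpq⟩ := exists_noncomm_q8 Q e
  by_cases hcU : c ∈ h.U
  · by_cases hp : p ∈ h.U
    · by_cases hq : q ∈ h.U
      · exact absurd (h.comm_of_mem_U hp hq) hpq
      · exact h.mem_center_of_comm hcU hq (hc q hq')
    · exact h.mem_center_of_comm hcU hp (hc p hp')
  · exfalso
    have hcen : ∀ w ∈ Q, w ∈ h.U → w ∈ Subgroup.center S := fun w hwQ hw =>
      h.mem_center_of_comm hw hcU (hc w hwQ).symm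
    by_cases hp : p ∈ h.U
    · exact hpq (Subgroup.mem_center_iff.mp (hcen p hp' hp) q).symm
    · by_cases hq : q ∈ h.U
      · exact hpq (Subgroup.mem_center_iff.mp (hcen q hq' hq) p)
      · have hpqU : p * q ∈ h.U :=
          (Subgroup.mul_mem_iff_of_index_two h.index_U).mpr (iff_of_false hp hq)
        have h1 := Subgroup.mem_center_iff.mp (hcen (p * q) (Q.mul_mem hp' hq') hpqU) q
        have h2 : q * p = p * q :=
          mul_right_cancel (a := q * p) (b := q) (c := p * q) (by rw [mul_assoc]; exact h1)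
        exact hpq h2.symm

/-- Elements of square one in the centre of `S` lie in every quaternion subgroup of order 8. -/
theorem central_involution_mem_quat [Finite S] (h : WrData S n x y z) (Q : Subgroup S)
    (e : Q ≃* QuaternionGroup 2) (ζ : S) (hζ : ζ ∈ Subgroup.center S) (hsq : ζ * ζ = 1) :
    ζ ∈ Q := by
  obtain ⟨c, i, hcQ, -, hc1, hcsq, hccen, -, -, -⟩ := exists_q8_data Q e
  have hnc : ¬ IsMulCommutative Q := by
    intro hcomm
    obtain ⟨p, hp', q, hq', hpq⟩ := exists_noncomm_q8 Q e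
    exact hpq (congrArg Subtype.val (hcomm.is_comm.comm (⟨p, hp'⟩ : Q) ⟨q, hq'⟩))
  have hcZ : c ∈ Subgroup.center S := by
    apply Cfsg.Agent.S1201.result h.isWreathed Q hnc
    refine ⟨⟨c, hcQ⟩, ?_, rfl⟩
    rw [SetLike.mem_coe, Subgroup.mem_center_iff]
    intro g
    exact Subtype.ext (hccen g g.2)
  rcases h.central_involution hcZ hcsq with h1 | h1
  · exact absurd h1 hc1
  · rcases h.central_involution hζ hsq with h2 | h2
    · rw [h2]; exact Q.one_mem
    · rw [h2, ← h1]; exact hcQ

end WrData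

end Cfsg.Agent.Helper20
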