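-- helper20: wreathed groups: central element of order four, involutions outside U, squares in quaternion subgroups.
import Cfsg.Agent.Helper20.WrU
import Cfsg.Agent.Helper20.Quat8b

set_option autoImplicit false

namespace Cfsg.Agent.Helper20

namespace WrData

variable {S : Type*} [Group S] {n : ℕ} {x y z : S}

/-- a central element whose square is the central involution -/
theorem exists_omega (h : WrData S n x y z) :
    ∃ ω ∈ Subgroup.center S, ω * ω = x ^ (2 ^ (n - 1) : ℤ) * y ^ (2 ^ (n - 1) : ℤ) := by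
  refine ⟨x ^ (2 ^ (n - 2) : ℤ) * y ^ (2 ^ (n - 2) : ℤ), (h.el_mem_center_iff _ _).mpr (by simp), ?_⟩
  rw [h.el_mul_el]
  have : (2 ^ (n - 2) : ℤ) + 2 ^ (n - 2) = 2 ^ (n - 1) := by
    have hn := h.hn
    obtain ⟨m, rfl⟩ : ∃ m, n = m + 2 := ⟨n - 2, by omega⟩
    have e1 : m + 2 - 2 = m := by omega
    have e2 : m + 2 - 1 = m + 1 := by omega
    rw [e1, e2, pow_succ]; ring
  rw [this]

theorem involutions_outside_U_isConj (h : WrData S n x y z) {a b : S} (ha : a ∉ h.U)
    (hb : b ∉ h.U) (ha2 : a * a = 1) (hb2 : b * b = 1) : IsConj a b := by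
  rcases h.cases a with ⟨i, j, rfl⟩ | ⟨i, j, rfl⟩
  · exact absurd (h.el_mem_U i j) ha
  rcases h.cases b with ⟨k, l, rfl⟩ | ⟨k, l, rfl⟩
  · exact absurd (h.el_mem_U k l) hb
  apply h.isConj_elz
  exact dvd_sub ((h.elz_sq_eq_one_iff i j).mp ha2) ((h.elz_sq_eq_one_iff k l).mp hb2)

/-- squares in a quaternion subgroup of order 8 -/
theorem quat_sq_cases [Finite S] (h : WrData S n x y z) (Q : Subgroup S)
    (e : Q ≃* QuaternionGroup 2) (q : S) (hq : q ∈ Q) :
    q * q = 1 ∨ q * q = x ^ (2 ^ (n - 1) : ℤ) * y ^ (2 ^ (n - 1) : ℤ) := by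
  obtain ⟨c, i, hcQ, -, hc1, hcsq, hccen, -, hsq, -⟩ := exists_q8_data Q e
  have hnc : ¬ IsMulCommutative Q := by
    intro hcomm
    obtain ⟨p, hp', q, hq', hpq⟩ := exists_noncomm_q8 Q e
    exact hpq (congrArg Subtype.val (hcomm.is_comm.comm (⟨p, hp'⟩ : Q) ⟨q, hq'⟩))
  have hcZ : c ∈ Subgroup.center S := by
    apply Cfsg.Agent.S1201.result h.isWreathed Q hnc
    refine ⟨⟨c, hcQ⟩, ?_, rfl⟩
    rw [SetLike.mem_coe, Subgroup.mem_center_iff]
    intro g
    exact Subtype.ext (hccen g g.2)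
  rcases h.central_involution hcZ hcsq with h1 | h1
  · exact absurd h1 hc1
  · rw [← h1]; exact hsq q hq

/-- elements of order four of a quaternion subgroup are not central in `S` -/
theorem quat_order4_not_central (h : WrData S n x y z) (Q : Subgroup S)
    (e : Q ≃* QuaternionGroup 2) (q : S) (hq : q ∈ Q) (hq2 : q * q ≠ 1) :
    q ∉ Subgroup.center S := by
  intro hc
  apply hq2
  have h2 : ∀ w : Q, w * ⟨q, hq⟩ = ⟨q, hq⟩ * w := fun w =>
    Subtype.ext (Subgroup.mem_center_iff.mp hc w)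
  exact congrArg Subtype.val (iso_center_sq (le_refl 2) e ⟨q, hq⟩ h2)

end WrData

end Cfsg.Agent.Helper20
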