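import Cfsg.Agent.Helper20.QD
import Mathlib.Data.Set.Card

set_option autoImplicit false

namespace Cfsg.Agent.Helper20

theorem card_subtype_eq_two {α : Type*} (p : α → Prop) (a b : α) (hab : a ≠ b)
    (h : ∀ c, p c ↔ c = a ∨ c = b) : Nat.card {c // p c} = 2 := by
  have : {c | p c} = ({a, b} : Set α) := by
    ext c
    simp only [Set.mem_ofPred_eq, Set.mem_insert_iff, Set.mem_singleton_iff]
    exact h c
  have h2 : Nat.card {c // p c} = Set.ncard {c | p c} := rfl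
  rw [h2, this, Set.ncard_pair hab]

theorem card_subtype_eq_one {α : Type*} (p : α → Prop) (a : α)
    (h : ∀ c, p c ↔ c = a) : Nat.card {c // p c} = 1 := by
  have : {c | p c} = ({a} : Set α) := by
    ext c
    simp only [Set.mem_ofPred_eq, Set.mem_singleton_iff]
    exact h c
  have h2 : Nat.card {c // p c} = Set.ncard {c | p c} := rfl
  rw [h2, this, Set.ncard_singleton]

theorem card_subtype_eq_three {α : Type*} (p : α → Prop) (a b c : α) (hab : a ≠ b) (hac : a ≠ c)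
    (hbc : b ≠ c) (h : ∀ d, p d ↔ d = a ∨ d = b ∨ d = c) : Nat.card {c // p c} = 3 := by
  have : {c | p c} = ({a, b, c} : Set α) := by
    ext d
    simp only [Set.mem_ofPred_eq, Set.mem_insert_iff, Set.mem_singleton_iff]
    exact h d
  have h2 : Nat.card {c // p c} = Set.ncard {c | p c} := rfl
  rw [h2, this, Set.ncard_eq_three]
  exact ⟨a, b, c, hab, hac, hbc, rfl⟩

theorem orderOf_eq_two_iff {G : Type*} [Group G] (s : G) : orderOf s = 2 ↔ s * s = 1 ∧ s ≠ 1 := by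
  constructor
  · intro h
    refine ⟨?_, ?_⟩
    · have := pow_orderOf_eq_one s
      rwa [h, pow_two] at this
    · intro h1
      rw [h1, orderOf_one] at h
      omega
  · rintro ⟨h1, h2⟩
    have : Fact (Nat.Prime 2) := ⟨Nat.prime_two⟩
    exact orderOf_eq_prime (by rwa [pow_two]) h2

theorem orderOf_eq_four_iff {G : Type*} [Group G] (s : G) :
    orderOf s = 4 ↔ (s * s) * (s * s) = 1 ∧ s * s ≠ 1 := by
  constructor
  · intro h
    refine ⟨?_, ?_⟩
    · have := pow_orderOf_eq_one s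
      rw [h] at this
      rw [← this]
      simp only [pow_succ, pow_zero, one_mul, mul_assoc]
    · intro h1
      have : orderOf s ∣ 2 := orderOf_dvd_of_pow_eq_one (by rwa [pow_two])
      rw [h] at this
      omega
  · rintro ⟨h1, h2⟩
    have : Fact (Nat.Prime 2) := ⟨Nat.prime_two⟩
    have := orderOf_eq_prime_pow (x := s) (p := 2) (n := 1) (by rwa [pow_one, pow_two])
      (by
        have e : (2 : ℕ) ^ (1 + 1) = 4 := by norm_num
        rw [e, ← h1]; simp only [pow_succ, pow_zero, one_mul, mul_assoc])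
    simpa using this

namespace QDData

variable {S : Type*} [Group S] {k : ℕ} {x y : S}

theorem normal_zpowers (h : QDData S k x y) : (Subgroup.zpowers x).Normal :=
  Subgroup.normal_of_index_eq_two h.index_zpowers

/-- conjugating `x^i y` by `x^j` -/
theorem conj_xpow_y_by_xpow (h : QDData S k x y) (i j : ℤ) :
    x ^ j * (x ^ i * y) * (x ^ j)⁻¹ = x ^ (i + j * (2 - 4 * 2 ^ k)) * y := by
  rw [← zpow_neg, ← mul_assoc, mul_assoc (x ^ j * x ^ i), h.y_mul_xpow, ← mul_assoc, ← zpow_add,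
    ← zpow_add]
  congr 2
  ring

/-- conjugating `x^i y` by `y` -/
theorem conj_xpow_y_by_y (h : QDData S k x y) (i : ℤ) :
    y * (x ^ i * y) * y⁻¹ = x ^ ((4 * 2 ^ k - 1) * i) * y := by
  rw [h.y_inv, mul_assoc, mul_assoc, h.y_sq, mul_one, h.y_mul_xpow]

/-- the central involution -/
theorem z_central (h : QDData S k x y) (s : S) :
    s * x ^ (4 * 2 ^ k : ℤ) = x ^ (4 * 2 ^ k : ℤ) * s := by
  rcases h.cases s with ⟨i, rfl⟩ | ⟨i, rfl⟩
  · rw [← zpow_add, ← zpow_add, add_comm]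
  · rw [h.xpow_mul_y_mul_xpow, xpow_mul_xpow_y, h.xpow_y_eq_iff]
    exact ⟨2 * 2 ^ k - 1, by ring⟩

theorem z_sq (h : QDData S k x y) : x ^ (4 * 2 ^ k : ℤ) * x ^ (4 * 2 ^ k : ℤ) = 1 := by
  rw [← zpow_add, h.xpow_eq_one_iff]
  exact ⟨1, by ring⟩

theorem z_ne_one (h : QDData S k x y) : x ^ (4 * 2 ^ k : ℤ) ≠ 1 := by
  rw [Ne, h.xpow_eq_one_iff]
  rintro ⟨c, hc⟩
  have hP : (0 : ℤ) < 2 ^ k := by positivity
  have : (4 * 2 ^ k : ℤ) * 1 = 4 * 2 ^ k * (2 * c) := by linarith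
  have := mul_left_cancel₀ (by positivity : (4 * 2 ^ k : ℤ) ≠ 0) this
  omega

/-- two elements outside `⟨x⟩` whose exponents have the same parity are conjugate -/
theorem isConj_xpow_y (h : QDData S k x y) (i i' : ℤ) (hpar : (2 : ℤ) ∣ i' - i) :
    IsConj (x ^ i * y) (x ^ i' * y) := by
  obtain ⟨c, hc⟩ := hpar
  rw [isConj_iff]
  refine ⟨x ^ (c * (1 + 2 * 2 ^ k + 4 * 2 ^ k * 2 ^ k)), ?_⟩
  rw [h.conj_xpow_y_by_xpow, h.xpow_y_eq_iff]
  refine ⟨-(2 * c * 2 ^ k * 2 ^ k), ?_⟩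
  have : i' = i + 2 * c := by linarith
  rw [this]
  ring

/-- classification of involutions -/
theorem involution_iff (h : QDData S k x y) (s : S) :
    orderOf s = 2 ↔ s = x ^ (4 * 2 ^ k : ℤ) ∨ ∃ c : ℤ, s = x ^ (2 * c) * y := by
  rw [orderOf_eq_two_iff]
  constructor
  · rintro ⟨h1, h2⟩
    rcases h.cases s with ⟨i, rfl⟩ | ⟨i, rfl⟩
    · left
      rw [← zpow_add, h.xpow_eq_one_iff] at h1
      rw [Ne, h.xpow_eq_one_iff] at h2
      obtain ⟨c, hc⟩ := h1
      have hi : i = 4 * 2 ^ k * c := by linarith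
      rw [h.xpow_eq_iff]
      rcases Int.even_or_odd' c with ⟨d, rfl | rfl⟩
      · exfalso; apply h2; exact ⟨d, by rw [hi]; ring⟩
      · exact ⟨d, by rw [hi]; ring⟩
    · right
      rw [h.xpow_y_sq_eq_one_iff] at h1
      obtain ⟨c, rfl⟩ := h1
      exact ⟨c, rfl⟩
  · rintro (rfl | ⟨c, rfl⟩)
    · exact ⟨h.z_sq, h.z_ne_one⟩
    · exact ⟨(h.xpow_y_sq_eq_one_iff _).mpr ⟨c, rfl⟩, h.xpow_y_ne_one _⟩

/-- classification of elements of order four -/
theorem order_four_iff (h : QDData S k x y) (s : S) :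
    orderOf s = 4 ↔ s = x ^ (2 * 2 ^ k : ℤ) ∨ s = x ^ (-(2 * 2 ^ k) : ℤ) ∨
      ∃ c : ℤ, s = x ^ (2 * c + 1) * y := by
  rw [orderOf_eq_four_iff]
  constructor
  · rintro ⟨h1, h2⟩
    rcases h.cases s with ⟨i, rfl⟩ | ⟨i, rfl⟩
    · rw [← zpow_add, ← zpow_add, h.xpow_eq_one_iff] at h1
      rw [← zpow_add, Ne, h.xpow_eq_one_iff] at h2
      obtain ⟨c, hc⟩ := h1
      have hi : i = 2 * 2 ^ k * c := by linarith
      rcases Int.even_or_odd' c with ⟨d, rfl | rfl⟩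
      · exfalso; apply h2; exact ⟨d, by rw [hi]; ring⟩
      · rcases Int.even_or_odd' d with ⟨e, rfl | rfl⟩
        · left
          rw [h.xpow_eq_iff]
          exact ⟨e, by rw [hi]; ring⟩
        · right; left
          rw [h.xpow_eq_iff]
          exact ⟨e + 1, by rw [hi]; ring⟩
    · right; right
      rw [Ne, h.xpow_y_sq_eq_one_iff] at h2
      rcases Int.even_or_odd' i with ⟨d, rfl | rfl⟩
      · exfalso; exact h2 ⟨d, rfl⟩
      · exact ⟨d, rfl⟩
  · rintro (rfl | rfl | ⟨c, rfl⟩)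
    · rw [← zpow_add, ← zpow_add, h.xpow_eq_one_iff, Ne, h.xpow_eq_one_iff]
      refine ⟨⟨1, by ring⟩, ?_⟩
      rintro ⟨c, hc⟩
      have : (4 * 2 ^ k : ℤ) * 1 = 4 * 2 ^ k * (2 * c) := by rw [mul_one]; linarith
      have := mul_left_cancel₀ (by positivity : (4 * 2 ^ k : ℤ) ≠ 0) this
      omega
    · rw [← zpow_add, ← zpow_add, h.xpow_eq_one_iff, Ne, h.xpow_eq_one_iff]
      refine ⟨⟨-1, by ring⟩, ?_⟩
      rintro ⟨c, hc⟩
      have : (4 * 2 ^ k : ℤ) * (-1) = 4 * 2 ^ k * (2 * c) := by linarith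
      have := mul_left_cancel₀ (by positivity : (4 * 2 ^ k : ℤ) ≠ 0) this
      omega
    · rw [h.xpow_y_sq, ← zpow_add, h.xpow_eq_one_iff, Ne, h.xpow_eq_one_iff]
      refine ⟨⟨2 * c + 1, by ring⟩, ?_⟩
      rintro ⟨d, hd⟩
      have : (4 * 2 ^ k : ℤ) * (2 * c + 1) = 4 * 2 ^ k * (2 * d) := by linarith
      have := mul_left_cancel₀ (by positivity : (4 * 2 ^ k : ℤ) ≠ 0) this
      omega

/-- `x^(-2P)` is conjugate to `x^(2P)` -/
theorem isConj_xpow_twoP (h : QDData S k x y) :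
    IsConj (x ^ (2 * 2 ^ k : ℤ)) (x ^ (-(2 * 2 ^ k) : ℤ)) := by
  rw [isConj_iff]
  refine ⟨y, ?_⟩
  rw [h.conj_xpow, h.xpow_eq_iff]
  exact ⟨2 ^ k, by ring⟩

theorem not_isConj_xpow_xpow_y (h : QDData S k x y) (i j : ℤ) :
    ¬ IsConj (x ^ i) (x ^ j * y) := by
  rw [isConj_iff]
  rintro ⟨c, hc⟩
  have hn := h.normal_zpowers
  have : x ^ j * y ∈ Subgroup.zpowers x := by
    rw [← hc]
    exact hn.conj_mem _ (Subgroup.zpow_mem_zpowers x i) c
  obtain ⟨l, hl⟩ := Subgroup.mem_zpowers_iff.mp this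
  exact h.xpow_ne_xpow_y l j hl

end QDData

end Cfsg.Agent.Helper20
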