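import Cfsg.Agent.Helper20.Wr
import Cfsg.Agent.Helper20.QD2

set_option autoImplicit false

/-!
Wreathed groups: conjugation formulas, centre, involutions. We write `N = 2^n`, `P = 2^(n-1)`.
-/

namespace Cfsg.Agent.Helper20

namespace WrData

variable {S : Type*} [Group S] {n : ℕ} {x y z : S}

theorem two_mul_P (h : WrData S n x y z) : (2 : ℤ) * 2 ^ (n - 1) = 2 ^ n := by
  have := h.hn
  obtain ⟨m, rfl⟩ : ∃ m, n = m + 1 := ⟨n - 1, by omega⟩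
  rw [Nat.add_sub_cancel, pow_succ]; ring

theorem dvd_two_mul_iff (h : WrData S n x y z) (i : ℤ) :
    (2 ^ n : ℤ) ∣ 2 * i ↔ (2 ^ (n - 1) : ℤ) ∣ i := by
  rw [← h.two_mul_P]
  exact mul_dvd_mul_iff_left (by norm_num)

theorem P_dvd_N (h : WrData S n x y z) : (2 ^ (n - 1) : ℤ) ∣ 2 ^ n := ⟨2, by rw [← h.two_mul_P]; ring⟩

theorem N_not_dvd_P (h : WrData S n x y z) : ¬ (2 ^ n : ℤ) ∣ 2 ^ (n - 1) := by
  intro hd
  have h1 : (0 : ℤ) < 2 ^ (n - 1) := by positivity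
  have h2 := Int.le_of_dvd h1 hd
  have h3 := h.two_mul_P
  linarith

theorem N_not_dvd_one (h : WrData S n x y z) : ¬ (2 ^ n : ℤ) ∣ 1 := by
  intro hd
  have h2 : (2 : ℤ) ∣ 2 ^ n := dvd_pow_self 2 (by have := h.hn; omega)
  have := dvd_trans h2 hd
  omega

theorem four_dvd_N (h : WrData S n x y z) : (4 : ℤ) ∣ 2 ^ n := by
  have := h.hn
  obtain ⟨m, rfl⟩ : ∃ m, n = m + 2 := ⟨n - 2, by omega⟩
  exact ⟨2 ^ m, by rw [pow_add]; ring⟩

theorem two_dvd_P (h : WrData S n x y z) : (2 : ℤ) ∣ 2 ^ (n - 1) := by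
  exact dvd_pow_self 2 (by have := h.hn; omega)

/-! ### conjugation formulas -/

theorem conj_el_by_el (h : WrData S n x y z) (i j k l : ℤ) :
    (x ^ k * y ^ l) * (x ^ i * y ^ j) * (x ^ k * y ^ l)⁻¹ = x ^ i * y ^ j := by
  rw [h.el_inv, h.el_mul_el, h.el_mul_el]
  congr 2 <;> ring

theorem conj_el_by_elz (h : WrData S n x y z) (i j k l : ℤ) :
    (x ^ k * y ^ l * z) * (x ^ i * y ^ j) * (x ^ k * y ^ l * z)⁻¹ = x ^ j * y ^ i := by
  rw [h.elz_inv, h.elz_mul_el, h.elz_mul_elz]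
  congr 2 <;> ring

theorem conj_elz_by_el (h : WrData S n x y z) (i j k l : ℤ) :
    (x ^ k * y ^ l) * (x ^ i * y ^ j * z) * (x ^ k * y ^ l)⁻¹
      = x ^ (i + k - l) * y ^ (j + l - k) * z := by
  rw [h.el_inv, h.el_mul_elz, h.elz_mul_el]
  congr 3 <;> ring

theorem conj_elz_by_elz (h : WrData S n x y z) (i j k l : ℤ) :
    (x ^ k * y ^ l * z) * (x ^ i * y ^ j * z) * (x ^ k * y ^ l * z)⁻¹
      = x ^ (j + k - l) * y ^ (i + l - k) * z := by
  rw [h.elz_inv, h.elz_mul_elz, h.el_mul_elz]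
  congr 3 <;> ring

theorem conj_el_by_z (h : WrData S n x y z) (i j : ℤ) :
    z * (x ^ i * y ^ j) * z⁻¹ = x ^ j * y ^ i := by
  have := h.conj_el_by_elz i j 0 0
  rwa [zpow_zero, zpow_zero, one_mul, one_mul] at this

theorem normal_U (h : WrData S n x y z) : h.U.Normal :=
  Subgroup.normal_of_index_eq_two h.index_U

/-! ### commutation -/

theorem el_comm_elz_iff (h : WrData S n x y z) (i j k l : ℤ) :
    (x ^ i * y ^ j) * (x ^ k * y ^ l * z) = (x ^ k * y ^ l * z) * (x ^ i * y ^ j)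
      ↔ (2 ^ n : ℤ) ∣ i - j := by
  rw [h.el_mul_elz, h.elz_mul_el, h.elz_eq_iff]
  constructor
  · rintro ⟨h1, -⟩
    have : i + k - (k + j) = i - j := by ring
    rwa [this] at h1
  · intro h1
    refine ⟨?_, ?_⟩
    · have : i + k - (k + j) = i - j := by ring
      rwa [this]
    · have : j + l - (l + i) = -(i - j) := by ring
      rw [this]
      exact dvd_neg.mpr h1

theorem el_comm_el (h : WrData S n x y z) (i j k l : ℤ) :
    (x ^ i * y ^ j) * (x ^ k * y ^ l) = (x ^ k * y ^ l) * (x ^ i * y ^ j) := by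
  rw [h.el_mul_el, h.el_mul_el, add_comm i k, add_comm j l]

theorem el_mem_center_iff (h : WrData S n x y z) (i j : ℤ) :
    x ^ i * y ^ j ∈ Subgroup.center S ↔ (2 ^ n : ℤ) ∣ i - j := by
  rw [Subgroup.mem_center_iff]
  constructor
  · intro hc
    have h1 := hc (x ^ (0 : ℤ) * y ^ (0 : ℤ) * z)
    exact (h.el_comm_elz_iff i j 0 0).mp h1.symm
  · intro hd g
    rcases h.cases g with ⟨k, l, rfl⟩ | ⟨k, l, rfl⟩
    · exact h.el_comm_el k l i j
    · exact ((h.el_comm_elz_iff i j k l).mpr hd).symm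

theorem elz_not_mem_center (h : WrData S n x y z) (i j : ℤ) :
    x ^ i * y ^ j * z ∉ Subgroup.center S := by
  rw [Subgroup.mem_center_iff]
  intro hc
  have h1 := hc (x ^ (1 : ℤ) * y ^ (0 : ℤ))
  have h2 := (h.el_comm_elz_iff 1 0 i j).mp h1
  rw [sub_zero] at h2
  exact h.N_not_dvd_one h2

/-- An element of `U` commuting with an element outside `U` is central. -/
theorem mem_center_of_comm (h : WrData S n x y z) {u a : S} (hu : u ∈ h.U) (ha : a ∉ h.U)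
    (hc : u * a = a * u) : u ∈ Subgroup.center S := by
  obtain ⟨i, j, rfl⟩ := hu
  rcases h.cases a with ⟨k, l, rfl⟩ | ⟨k, l, rfl⟩
  · exact absurd (h.el_mem_U k l) ha
  · exact (h.el_mem_center_iff i j).mpr ((h.el_comm_elz_iff i j k l).mp hc)

theorem center_le_U (h : WrData S n x y z) : Subgroup.center S ≤ h.U := by
  intro s hs
  rcases h.cases s with ⟨k, l, rfl⟩ | ⟨k, l, rfl⟩
  · exact h.el_mem_U k l
  · exact absurd hs (h.elz_not_mem_center k l)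

theorem mem_center_iff (h : WrData S n x y z) (s : S) :
    s ∈ Subgroup.center S ↔ ∃ i : ℤ, s = x ^ i * y ^ i := by
  constructor
  · intro hs
    obtain ⟨i, j, rfl⟩ := h.center_le_U hs
    refine ⟨i, ?_⟩
    have hd := (h.el_mem_center_iff i j).mp hs
    rw [(h.ypow_eq_iff j i).mpr]
    have : j - i = -(i - j) := by ring
    rw [this]; exact dvd_neg.mpr hd
  · rintro ⟨i, rfl⟩
    exact (h.el_mem_center_iff i i).mpr (by simp)

/-! ### involutions -/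

theorem el_sq (h : WrData S n x y z) (i j : ℤ) :
    (x ^ i * y ^ j) * (x ^ i * y ^ j) = x ^ (2 * i) * y ^ (2 * j) := by
  rw [h.el_mul_el]; congr 2 <;> ring

theorem xpow_P_cases (h : WrData S n x y z) (i : ℤ) (hi : (2 ^ (n - 1) : ℤ) ∣ i) :
    x ^ i = 1 ∨ x ^ i = x ^ (2 ^ (n - 1) : ℤ) := by
  obtain ⟨a, rfl⟩ := hi
  rcases Int.even_or_odd' a with ⟨b, rfl | rfl⟩
  · left
    rw [h.xpow_eq_one_iff]
    exact ⟨b, by rw [← h.two_mul_P]; ring⟩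
  · right
    rw [h.xpow_eq_iff]
    exact ⟨b, by rw [← h.two_mul_P]; ring⟩

theorem ypow_P_cases (h : WrData S n x y z) (i : ℤ) (hi : (2 ^ (n - 1) : ℤ) ∣ i) :
    y ^ i = 1 ∨ y ^ i = y ^ (2 ^ (n - 1) : ℤ) := by
  obtain ⟨a, rfl⟩ := hi
  rcases Int.even_or_odd' a with ⟨b, rfl | rfl⟩
  · left
    rw [h.ypow_eq_one_iff]
    exact ⟨b, by rw [← h.two_mul_P]; ring⟩
  · right
    rw [h.ypow_eq_iff]
    exact ⟨b, by rw [← h.two_mul_P]; ring⟩

theorem xP_ne_one (h : WrData S n x y z) : x ^ (2 ^ (n - 1) : ℤ) ≠ 1 := by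
  rw [Ne, h.xpow_eq_one_iff]; exact h.N_not_dvd_P

theorem yP_ne_one (h : WrData S n x y z) : y ^ (2 ^ (n - 1) : ℤ) ≠ 1 := by
  rw [Ne, h.ypow_eq_one_iff]; exact h.N_not_dvd_P

theorem xP_sq (h : WrData S n x y z) : x ^ (2 ^ (n - 1) : ℤ) * x ^ (2 ^ (n - 1) : ℤ) = 1 := by
  rw [← zpow_add, h.xpow_eq_one_iff]; exact ⟨1, by rw [← h.two_mul_P]; ring⟩

theorem yP_sq (h : WrData S n x y z) : y ^ (2 ^ (n - 1) : ℤ) * y ^ (2 ^ (n - 1) : ℤ) = 1 := by
  rw [← zpow_add, h.ypow_eq_one_iff]; exact ⟨1, by rw [← h.two_mul_P]; ring⟩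

/-- the central involution `c = x^P y^P` -/
theorem c_mem_center (h : WrData S n x y z) :
    x ^ (2 ^ (n - 1) : ℤ) * y ^ (2 ^ (n - 1) : ℤ) ∈ Subgroup.center S :=
  (h.el_mem_center_iff _ _).mpr (by simp)

theorem c_sq (h : WrData S n x y z) :
    (x ^ (2 ^ (n - 1) : ℤ) * y ^ (2 ^ (n - 1) : ℤ)) * (x ^ (2 ^ (n - 1) : ℤ) * y ^ (2 ^ (n - 1) : ℤ)) = 1 := by
  rw [h.el_sq, h.el_eq_one_iff]
  exact ⟨⟨1, by rw [← h.two_mul_P]; ring⟩, ⟨1, by rw [← h.two_mul_P]; ring⟩⟩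

theorem c_ne_one (h : WrData S n x y z) :
    x ^ (2 ^ (n - 1) : ℤ) * y ^ (2 ^ (n - 1) : ℤ) ≠ 1 := by
  rw [Ne, h.el_eq_one_iff]
  exact fun hh => h.N_not_dvd_P hh.1

theorem el_sq_eq_one_iff (h : WrData S n x y z) (i j : ℤ) :
    (x ^ i * y ^ j) * (x ^ i * y ^ j) = 1 ↔ (2 ^ (n - 1) : ℤ) ∣ i ∧ (2 ^ (n - 1) : ℤ) ∣ j := by
  rw [h.el_sq, h.el_eq_one_iff, h.dvd_two_mul_iff, h.dvd_two_mul_iff]

theorem elz_sq_eq_one_iff (h : WrData S n x y z) (i j : ℤ) :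
    (x ^ i * y ^ j * z) * (x ^ i * y ^ j * z) = 1 ↔ (2 ^ n : ℤ) ∣ i + j := by
  rw [h.elz_sq, h.el_eq_one_iff, and_self]

theorem elz_involution_iff (h : WrData S n x y z) (i j : ℤ) :
    orderOf (x ^ i * y ^ j * z) = 2 ↔ (2 ^ n : ℤ) ∣ i + j := by
  rw [orderOf_eq_two_iff, h.elz_sq_eq_one_iff]
  exact ⟨fun hh => hh.1, fun hh => ⟨hh, h.elz_ne_one i j⟩⟩

/-- involutions of `U` -/
theorem el_involution_iff (h : WrData S n x y z) (s : S) (hs : s ∈ h.U) :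
    orderOf s = 2 ↔ s = x ^ (2 ^ (n - 1) : ℤ) ∨ s = y ^ (2 ^ (n - 1) : ℤ) ∨
      s = x ^ (2 ^ (n - 1) : ℤ) * y ^ (2 ^ (n - 1) : ℤ) := by
  obtain ⟨i, j, rfl⟩ := hs
  rw [orderOf_eq_two_iff]
  constructor
  · rintro ⟨h1, h2⟩
    obtain ⟨hi, hj⟩ := (h.el_sq_eq_one_iff i j).mp h1
    rcases h.xpow_P_cases i hi with hx | hx <;> rcases h.ypow_P_cases j hj with hy | hy
    · exfalso; apply h2; rw [hx, hy, mul_one]
    · right; left; rw [hx, hy, one_mul]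
    · left; rw [hx, hy, mul_one]
    · right; right; rw [hx, hy]
  · rintro (he | he | he)
    · rw [he]; exact ⟨h.xP_sq, h.xP_ne_one⟩
    · rw [he]; exact ⟨h.yP_sq, h.yP_ne_one⟩
    · rw [he]; exact ⟨h.c_sq, h.c_ne_one⟩

/-! ### conjugacy -/

theorem isConj_elz (h : WrData S n x y z) (i j k l : ℤ) (hd : (2 ^ n : ℤ) ∣ (i + j) - (k + l)) :
    IsConj (x ^ i * y ^ j * z) (x ^ k * y ^ l * z) := by
  rw [isConj_iff]
  refine ⟨x ^ (k - i) * y ^ (0 : ℤ), ?_⟩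
  rw [h.conj_elz_by_el, h.elz_eq_iff]
  refine ⟨by simp, ?_⟩
  have : j + 0 - (k - i) - l = (i + j) - (k + l) := by ring
  rwa [this]

theorem isConj_xP_yP (h : WrData S n x y z) :
    IsConj (x ^ (2 ^ (n - 1) : ℤ)) (y ^ (2 ^ (n - 1) : ℤ)) := by
  rw [isConj_iff]
  exact ⟨z, h.conj_xpow _⟩

theorem conj_mem_U_iff (h : WrData S n x y z) (g s : S) : g * s * g⁻¹ ∈ h.U ↔ s ∈ h.U := by
  haveI := h.normal_U
  constructor
  · intro hm
    have := h.normal_U.conj_mem _ hm g⁻¹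
    simpa [mul_assoc] using this
  · intro hm
    exact h.normal_U.conj_mem _ hm g

end WrData

end Cfsg.Agent.Helper20
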