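-- helper20: preliminaries for centralizers of involutions in groups with wreathed Sylow 2-subgroups.
import Cfsg.Agent.Helper20.InvCent0
import Cfsg.Agent.S1208
import Cfsg.Agent.S1209
import Cfsg.Agent.S1210
import Cfsg.Agent.S1211
import Cfsg.Agent.S1212

set_option autoImplicit false

namespace Cfsg.Agent.Helper20

open Subgroup Cfsg.Agent.S3224

theorem isWreathed_of_equiv {A B : Type*} [Group A] [Group B] (e : A ≃* B)
    (hB : Cfsg.IsWreathed B) : Cfsg.IsWreathed A := by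
  obtain ⟨n, hn, hcard, x, y, z, hx, hxy, hd, hz, hrel⟩ := hB
  refine ⟨n, hn, by rw [Nat.card_congr e.toEquiv]; exact hcard, e.symm x, e.symm y, e.symm z,
    ?_, ?_, ?_, ?_, ?_⟩
  · rw [MulEquiv.orderOf_eq]; exact hx
  · rw [← map_mul, ← map_mul, hxy]
  · have h1 : Subgroup.zpowers (e.symm x) = (Subgroup.zpowers x).map e.symm.toMonoidHom := by
      rw [MonoidHom.map_zpowers]; rfl
    have h2 : Subgroup.zpowers (e.symm y) = (Subgroup.zpowers y).map e.symm.toMonoidHom := by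
      rw [MonoidHom.map_zpowers]; rfl
    rw [h1, h2, ← Subgroup.map_inf _ _ _ e.symm.injective, hd, Subgroup.map_bot]
  · rw [MulEquiv.orderOf_eq]; exact hz
  · rw [← map_inv, ← map_mul, ← map_mul, hrel]

variable {G : Type*} [Group G]

/-- A group with a normal subgroup of index `2^a`, `a ≥ 1`, has a subgroup of index two. -/
theorem exists_index_two_of_normal_two_pow_index [Finite G] (N : Subgroup G) [N.Normal] (a : ℕ)
    (ha : 1 ≤ a) (hN : N.index = 2 ^ a) : ∃ H : Subgroup G, H.index = 2 := by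
  haveI : Fact (Nat.Prime 2) := ⟨Nat.prime_two⟩
  have hcardq : Nat.card (G ⧸ N) = 2 ^ a := by rw [← Subgroup.index_eq_card, hN]
  have hq : IsPGroup 2 (G ⧸ N) := IsPGroup.of_card hcardq
  have hne : (⊥ : Subgroup (G ⧸ N)) ≠ ⊤ := by
    intro hbt
    have h1 : Nat.card (G ⧸ N) = 1 := by
      rw [← Subgroup.card_top (G := G ⧸ N), ← hbt, Subgroup.card_bot]
    rw [hcardq] at h1
    have : 1 < 2 ^ a := Nat.one_lt_two_pow (by omega)
    omega
  obtain ⟨M, -, hMi, -⟩ := Cfsg.Agent.Lib.HW.exists_normal_index_p hq ⊥ hne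
  refine ⟨M.comap (QuotientGroup.mk' N), ?_⟩
  rw [Subgroup.index_comap_of_surjective _ (QuotientGroup.mk'_surjective N)]
  exact hMi

namespace WrData

variable {S : Type*} [Group S] {n : ℕ} {x y z : S}

/-- A wreathed group contains a quaternion subgroup of order 8. -/
theorem exists_quat (h : WrData S n x y z) : ∃ Q : Subgroup S, Nonempty (Q ≃* QuaternionGroup 2) := by
  obtain ⟨q, hqdef⟩ : ∃ q : ℤ, q = 2 ^ (n - 2) := ⟨_, rfl⟩
  have hq4 : 4 * q = 2 ^ n := by
    have hn := h.hn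
    have : n = (n - 2) + 2 := by omega
    rw [hqdef]
    conv_rhs => rw [this, pow_add]
    ring
  have hqpos : 0 < q := by rw [hqdef]; positivity
  have hnot : ¬ (2 ^ n : ℤ) ∣ 2 * q := by
    rintro ⟨d, hd⟩
    rw [← hq4] at hd
    have : 2 * q * 1 = 2 * q * (2 * d) := by linarith
    have h2 := mul_left_cancel₀ (by positivity : (2 * q : ℤ) ≠ 0) this
    omega
  obtain ⟨α, hαdef⟩ : ∃ α : S, α = x ^ q * y ^ (-q) := ⟨_, rfl⟩
  obtain ⟨β, hβdef⟩ : ∃ β : S, β = x ^ (2 * q) * y ^ (0 : ℤ) * z := ⟨_, rfl⟩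
  have hαα : α * α = x ^ (2 * q) * y ^ (2 * -q) := by rw [hαdef, h.el_sq]
  have hord : orderOf α = 2 * 2 := by
    rw [show 2 * 2 = 4 from rfl, orderOf_eq_four_iff, hαα]
    constructor
    · rw [h.el_mul_el, h.el_eq_one_iff]
      exact ⟨⟨1, by linarith⟩, ⟨-1, by linarith⟩⟩
    · rw [Ne, h.el_eq_one_iff]
      exact fun hh => hnot hh.1
  have hα : α ^ (2 * 2) = 1 := by rw [← hord]; exact pow_orderOf_eq_one α
  have hβ : β * β = α ^ 2 := by
    rw [pow_two, hαα, hβdef, h.elz_sq, h.el_eq_iff]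
    exact ⟨⟨0, by ring⟩, ⟨1, by linarith⟩⟩
  have hrel : β * α * β⁻¹ = α⁻¹ := by
    rw [hβdef, hαdef, h.conj_el_by_elz, h.el_inv, neg_neg]
  have hβα : β ∉ Subgroup.zpowers α := by
    intro hmem
    have hle : Subgroup.zpowers α ≤ h.U := by
      rw [Subgroup.zpowers_le, hαdef]; exact h.el_mem_U _ _
    have := hle hmem
    rw [hβdef] at this
    exact h.elz_not_mem_U _ _ this
  have hinj := quaternionHom_injective_of 2 α β hord hα hβ hrel hβα
  exact ⟨(quaternionHom 2 α β hα hβ hrel).range, ⟨(MonoidHom.ofInjective hinj).symm⟩⟩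

end WrData

/-- `U` and `Q` inside a wreathed Sylow 2-subgroup of `G`. -/
theorem exists_abel_quat_wr (S : Sylow 2 G) {n : ℕ} {x y z : (S : Subgroup G)}
    (h : WrData (S : Subgroup G) n x y z) :
    ∃ U Q : Subgroup G, U ≤ S ∧ IsMulCommutative U ∧ Nat.card U = 2 ^ (2 * n) ∧ Q ≤ S ∧
      Nonempty (Q ≃* QuaternionGroup 2) := by
  obtain ⟨Q, ⟨eQ⟩⟩ := h.exists_quat
  refine ⟨h.U.map (S : Subgroup G).subtype, Q.map (S : Subgroup G).subtype, ?_, ?_, ?_, ?_, ⟨?_⟩⟩
  · rintro _ ⟨s, -, rfl⟩; exact s.2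
  · refine ⟨⟨?_⟩⟩
    rintro ⟨_, a, ha, rfl⟩ ⟨_, b, hb, rfl⟩
    apply Subtype.ext
    show ((a : (S : Subgroup G)) : G) * (b : G) = (b : G) * (a : G)
    exact congrArg Subtype.val (h.comm_of_mem_U ha hb)
  · rw [Subgroup.card_map_of_injective (Subgroup.subtype_injective _), h.card_U]
  · rintro _ ⟨s, -, rfl⟩; exact s.2
  · exact (Q.equivMapOfInjective _ (Subgroup.subtype_injective _)).symm.trans eQ

/-- In a group without subgroups of index two and with wreathed Sylow 2-subgroup, both automizer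
indices are six. -/
theorem wr_indices_six [Finite G] (S : Sylow 2 G) (hS : Cfsg.IsWreathed (S : Subgroup G)) (n : ℕ)
    (hn : Nat.card S = 2 ^ (2 * n + 1)) (hG : ∀ H : Subgroup G, H.index ≠ 2)
    (U : Subgroup G) (hUS : U ≤ S) (hUab : IsMulCommutative U) (hUcard : Nat.card U = 2 ^ (2 * n))
    (Q : Subgroup G) (hQS : Q ≤ S) (eQ : Q ≃* QuaternionGroup 2) :
    (centralizer (U : Set G)).relIndex (normalizer (U : Set G)) = 6 ∧
      ((Q ⊔ ((Subgroup.center (S : Subgroup G)).map (S : Subgroup G).subtype)) ⊔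
        centralizer ((Q ⊔ ((Subgroup.center (S : Subgroup G)).map (S : Subgroup G).subtype) :
          Subgroup G) : Set G)).relIndex
        (normalizer ((Q ⊔ ((Subgroup.center (S : Subgroup G)).map (S : Subgroup G).subtype) :
          Subgroup G) : Set G)) = 6 := by
  have hn1 : 1 ≤ n := by
    obtain ⟨m, x, y, z, h⟩ := exists_wrData hS
    have := Cfsg.Agent.S1209.n_eq h n hn
    have := h.hn
    omega
  have hS1 : Nat.card (S : Subgroup G) ≠ 1 := by
    rw [hn]
    have : 1 < 2 ^ (2 * n + 1) := Nat.one_lt_two_pow (by omega)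
    omega
  obtain ⟨h₁ | h₁, h₂ | h₂⟩ := Cfsg.Agent.S1208.result S hS n hn U hUS hUab hUcard Q hQS eQ
  · exfalso
    have hc := (Cfsg.Agent.S1212.result S hS n hn U hUS hUab hUcard Q hQS eQ h₁ h₂).1
    obtain ⟨H, hH⟩ := exists_index_two_of_hasNormalPComplement S hS1 hc
    exact hG H hH
  · exfalso
    obtain ⟨⟨K, hKn, hKi, -⟩, -⟩ :=
      Cfsg.Agent.S1210.result S hS n hn U hUS hUab hUcard Q hQS eQ h₁ h₂
    haveI := hKn
    obtain ⟨H, hH⟩ := exists_index_two_of_normal_two_pow_index K n hn1 hKi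
    exact hG H hH
  · exfalso
    obtain ⟨⟨K, -, hKi, -⟩, -⟩ :=
      Cfsg.Agent.S1211.result S hS n hn U hUS hUab hUcard Q hQS eQ h₁ h₂
    exact hG K hKi
  · exact ⟨h₁, h₂⟩

/-- membership in the image of the centre of a subgroup. -/
theorem mem_map_center_subtype (H : Subgroup G) (g : G) :
    g ∈ (Subgroup.center H).map H.subtype ↔ g ∈ H ∧ ∀ s ∈ H, s * g = g * s := by
  constructor
  · rintro ⟨c, hc, rfl⟩
    refine ⟨c.2, fun s hs => ?_⟩
    have := Subgroup.mem_center_iff.mp hc ⟨s, hs⟩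
    exact congrArg Subtype.val this
  · rintro ⟨hg, hc⟩
    refine ⟨⟨g, hg⟩, ?_, rfl⟩
    rw [SetLike.mem_coe, Subgroup.mem_center_iff]
    intro s
    exact Subtype.ext (hc s s.2)

/-- the centre of `H ∩ C` seen in `C`, for `H ≤ C`. -/
theorem map_center_subgroupOf {H C : Subgroup G} (hHC : H ≤ C) :
    (Subgroup.center (H.subgroupOf C)).map (H.subgroupOf C).subtype =
      ((Subgroup.center H).map H.subtype).subgroupOf C := by
  ext c
  constructor
  · intro hc
    obtain ⟨hc1, hcomm⟩ := (mem_map_center_subtype _ _).mp hc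
    rw [mem_subgroupOf]
    apply (mem_map_center_subtype _ _).mpr
    refine ⟨mem_subgroupOf.mp hc1, fun s hs => ?_⟩
    have := hcomm ⟨s, hHC hs⟩ (mem_subgroupOf.mpr hs)
    exact congrArg Subtype.val this
  · intro hc
    rw [mem_subgroupOf] at hc
    obtain ⟨hc1, hcomm⟩ := (mem_map_center_subtype _ _).mp hc
    apply (mem_map_center_subtype _ _).mpr
    refine ⟨mem_subgroupOf.mpr hc1, fun s hs => ?_⟩
    exact Subtype.ext (hcomm (s : G) (mem_subgroupOf.mp hs))

end Cfsg.Agent.Helper20
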