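-- helper20: the normalizer of `Q Z(S)` centralizes `Z(S)` for a wreathed Sylow 2-subgroup `S`.
import Cfsg.Agent.Helper20.InvCentWr0
import Cfsg.Agent.Helper20.WrV
import Cfsg.Agent.Helper20.WrGlobal
import Cfsg.Agent.S1201

set_option autoImplicit false

namespace Cfsg.Agent.Helper20

open Subgroup

variable {G : Type*} [Group G]

theorem wr_normalizer_quat_center_le [Finite G] (S : Sylow 2 G) {n : ℕ} {x y z : (S : Subgroup G)}
    (h : WrData (S : Subgroup G) n x y z) (Q : Subgroup G) (hQS : Q ≤ S)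
    (eQ : Q ≃* QuaternionGroup 2) :
    normalizer ((Q ⊔ (Subgroup.center (S : Subgroup G)).map (S : Subgroup G).subtype :
        Subgroup G) : Set G) ≤
      centralizer (((Subgroup.center (S : Subgroup G)).map (S : Subgroup G).subtype : Subgroup G) :
        Set G) := by
  have hQ' : Q.subgroupOf (S : Subgroup G) ≃* QuaternionGroup 2 :=
    (Subgroup.subgroupOfEquivOfLe hQS).trans eQ
  obtain ⟨Z, hZ⟩ : ∃ Z : Subgroup G,
      Z = (Subgroup.center (S : Subgroup G)).map (S : Subgroup G).subtype := ⟨_, rfl⟩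
  rw [← hZ]
  have hmemZ : ∀ ζ : G, ζ ∈ Z ↔
      ∃ hζ : ζ ∈ (S : Subgroup G), (⟨ζ, hζ⟩ : (S : Subgroup G)) ∈ Subgroup.center (S : Subgroup G) := by
    intro ζ
    rw [hZ]
    constructor
    · rintro ⟨ζ', hζ', rfl⟩
      exact ⟨ζ'.2, hζ'⟩
    · rintro ⟨hζ, hc⟩
      exact ⟨⟨ζ, hζ⟩, hc, rfl⟩
  have hZS : Z ≤ S := by
    intro ζ hζ
    obtain ⟨hζS, -⟩ := (hmemZ ζ).mp hζ
    exact hζS
  have H1 : ∀ ζ ∈ Z, ∀ s ∈ (S : Subgroup G), s * ζ = ζ * s := by
    intro ζ hζ s hs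
    obtain ⟨hζS, hc⟩ := (hmemZ ζ).mp hζ
    have := Subgroup.mem_center_iff.mp hc ⟨s, hs⟩
    exact congrArg Subtype.val this
  have H2 : IsPGroup 2 (MulAut Z) := by
    have e : Subgroup.center (S : Subgroup G) ≃* Z := by
      rw [hZ]
      exact Subgroup.equivMapOfInjective _ _ (Subgroup.subtype_injective _)
    exact (h.isPGroup_mulAut_of_isCyclic _ h.isCyclic_center).of_equiv (MulAut.congr e)
  have H3 : ∀ X : Subgroup G, X ≤ S → (∃ p ∈ X, ∃ q ∈ X, p * q ≠ q * p) →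
      ∀ c ∈ X, (∀ v ∈ X, c * v = v * c) → c ∈ Z := by
    intro X hXS hnc c hcX hcc
    obtain ⟨p, hp, q, hq, hpq⟩ := hnc
    have hnc' : ¬ IsMulCommutative (X.subgroupOf (S : Subgroup G)) := by
      intro hcomm
      apply hpq
      have := hcomm.is_comm.comm
        (⟨⟨p, hXS hp⟩, mem_subgroupOf.mpr hp⟩ : X.subgroupOf (S : Subgroup G))
        ⟨⟨q, hXS hq⟩, mem_subgroupOf.mpr hq⟩
      exact congrArg (fun t : X.subgroupOf (S : Subgroup G) => ((t : (S : Subgroup G)) : G)) this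
    have hle := Cfsg.Agent.S1201.result h.isWreathed (X.subgroupOf (S : Subgroup G)) hnc'
    rw [hmemZ]
    refine ⟨hXS hcX, ?_⟩
    apply hle
    refine ⟨⟨⟨c, hXS hcX⟩, mem_subgroupOf.mpr hcX⟩, ?_, rfl⟩
    rw [SetLike.mem_coe, Subgroup.mem_center_iff]
    intro g
    apply Subtype.ext
    apply Subtype.ext
    exact (hcc _ (mem_subgroupOf.mp g.2)).symm
  have H6 : ∀ ζ ∈ Z, ζ * ζ = 1 → ζ ∈ Q := by
    intro ζ hζ hsq
    obtain ⟨hζS, hc⟩ := (hmemZ ζ).mp hζ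
    have := h.central_involution_mem_quat (Q.subgroupOf (S : Subgroup G)) hQ' ⟨ζ, hζS⟩ hc
      (Subtype.ext hsq)
    exact mem_subgroupOf.mp this
  exact (quat_central_facts S Q Z hQS eQ hZS H1 H2 H3 H6).2.1

end Cfsg.Agent.Helper20
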