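-- helper20: centralizer of an involution in a group with wreathed Sylow 2-subgroups and no
-- subgroup of index two.
import Cfsg.Agent.Helper20.InvCentWr1
import Cfsg.Agent.Helper20.Fusion4

set_option autoImplicit false

namespace Cfsg.Agent.Helper20

open Subgroup
open scoped Pointwise

theorem relIndex_subgroupOf_transport {G : Type*} [Group G] {V C : Subgroup G} (hVC : V ≤ C)
    (hNC : normalizer (V : Set G) ≤ C) :
    ((V.subgroupOf C) ⊔ centralizer ((V.subgroupOf C : Subgroup C) : Set C)).relIndex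
        (normalizer ((V.subgroupOf C : Subgroup C) : Set C)) =
      (V ⊔ centralizer (V : Set G)).relIndex (normalizer (V : Set G)) := by
  have hCVC : centralizer (V : Set G) ≤ C := (centralizer_le_normalizer _).trans hNC
  rw [← subgroupOf_normalizer_eq hVC, ← subgroupOf_centralizer_eq' hVC,
    ← subgroupOf_sup hVC hCVC, relIndex_subgroupOf hNC]

/-- The wreathed half of the statement on centralizers of involutions. -/
theorem involution_centralizer_wr {G : Type*} [Group G] [Finite G] (S : Sylow 2 G)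
    (hS : Cfsg.IsWreathed (S : Subgroup G)) (hG : ∀ H : Subgroup G, H.index ≠ 2) (x : G)
    (hx : orderOf x = 2) :
    ∃ R : Sylow 2 ↥(Subgroup.centralizer ({x} : Set G)), Nat.card R = Nat.card S ∧
      (∃ K : Subgroup ↥(Subgroup.centralizer ({x} : Set G)), K.Normal ∧ (∃ a : ℕ, K.index = 2 ^ a) ∧
        (∀ H : Subgroup ↥K, H.index ≠ 2) ∧
        (∀ P : Sylow 2 ↥K, ∃ m : ℕ, 1 ≤ m ∧ Nonempty ((P : Subgroup ↥K) ≃* QuaternionGroup (2 ^ m)))) ∧
      (∀ Z₀ : Subgroup ↥(Subgroup.centralizer ({x} : Set G)),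
        Z₀ ≤ ((Subgroup.center (R : Subgroup ↥(Subgroup.centralizer ({x} : Set G)))).map
          (R : Subgroup ↥(Subgroup.centralizer ({x} : Set G))).subtype) →
        Cfsg.IsWeaklyClosed Z₀ (R : Subgroup ↥(Subgroup.centralizer ({x} : Set G)))) := by
  haveI : Fact (Nat.Prime 2) := ⟨Nat.prime_two⟩
  have hx1 : x ≠ 1 := by
    intro h; rw [h, orderOf_one] at hx; omega
  have hxsq : x * x = 1 := ((Cfsg.Agent.Helper20.orderOf_eq_two_iff x).mp hx).1
  -- Step 1: `x` is conjugate to the central involution of `S`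
  obtain ⟨n₀, x₀, y₀, z₀, h₀⟩ := exists_wrData hS
  obtain ⟨U₀, Q₀, hU₀S, hU₀ab, hU₀card, hQ₀S, ⟨eQ₀⟩⟩ := exists_abel_quat_wr S h₀
  obtain ⟨h₁₀, h₂₀⟩ := wr_indices_six S hS n₀ h₀.card hG U₀ hU₀S hU₀ab hU₀card Q₀ hQ₀S eQ₀
  have hone := (Cfsg.Agent.S1209.result S hS n₀ h₀.card U₀ hU₀S hU₀ab hU₀card Q₀ hQ₀S eQ₀
    h₁₀ h₂₀).2
  obtain ⟨c₀, hc₀def⟩ : ∃ c₀ : (S : Subgroup G),
      c₀ = x₀ ^ (2 ^ (n₀ - 1) : ℤ) * y₀ ^ (2 ^ (n₀ - 1) : ℤ) := ⟨_, rfl⟩
  have hc₀Z : c₀ ∈ Subgroup.center (S : Subgroup G) := hc₀def ▸ h₀.c_mem_center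
  have hc₀o : orderOf (c₀ : G) = 2 := by
    rw [Subgroup.orderOf_coe, Cfsg.Agent.Helper20.orderOf_eq_two_iff]
    exact ⟨hc₀def ▸ h₀.c_sq, hc₀def ▸ h₀.c_ne_one⟩
  obtain ⟨b, hb⟩ := isConj_iff.mp (isConj_of_card_classes_eq_one hone hc₀o hx)
  -- Step 2: the Sylow subgroup `b • S`
  obtain ⟨S', hS'def⟩ : ∃ S' : Sylow 2 G, S' = b • S := ⟨_, rfl⟩
  have hS' : Cfsg.IsWreathed (S' : Subgroup G) := by
    rw [hS'def]
    exact isWreathed_of_equiv (S.equivSMul b).symm hS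
  have hcardS' : Nat.card (S' : Subgroup G) = Nat.card (S : Subgroup G) := by
    rw [S'.card_eq_multiplicity, S.card_eq_multiplicity]
  have hS'C : (S' : Subgroup G) ≤ centralizer ({x} : Set G) := by
    intro p hp
    rw [hS'def] at hp
    have hp' : b⁻¹ * p * b ∈ S := (mem_smul_sylow_iff S b p).mp hp
    have h1 := Subgroup.mem_center_iff.mp hc₀Z ⟨b⁻¹ * p * b, hp'⟩
    have h1' : b⁻¹ * p * b * (c₀ : G) = (c₀ : G) * (b⁻¹ * p * b) := congrArg Subtype.val h1
    rw [mem_centralizer_iff]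
    intro u hu
    rw [Set.mem_singleton_iff] at hu
    rw [hu, ← hb]
    calc b * (c₀ : G) * b⁻¹ * p = b * ((c₀ : G) * (b⁻¹ * p * b)) * b⁻¹ := by group
      _ = b * ((b⁻¹ * p * b) * (c₀ : G)) * b⁻¹ := by rw [h1']
      _ = p * (b * (c₀ : G) * b⁻¹) := by group
  have hxS' : x ∈ (S' : Subgroup G) := by
    rw [hS'def]
    apply (mem_smul_sylow_iff S b x).mpr
    rw [← hb]
    have : b⁻¹ * (b * (c₀ : G) * b⁻¹) * b = (c₀ : G) := by group
    rw [this]
    exact c₀.2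
  -- Step 3: `U`, `Q` inside `S'`
  obtain ⟨n, x', y', z', h⟩ := exists_wrData hS'
  obtain ⟨U, Q, hUS, hUab, hUcard, hQS, ⟨eQ⟩⟩ := exists_abel_quat_wr S' h
  obtain ⟨h₁, h₂⟩ := wr_indices_six S' hS' n h.card hG U hUS hUab hUcard Q hQS eQ
  -- Step 4: inside `C = C_G(x)`
  obtain ⟨C, hCdef⟩ : ∃ C : Subgroup G, C = centralizer ({x} : Set G) := ⟨_, rfl⟩
  rw [← hCdef]
  rw [← hCdef] at hS'C
  have hmemC : ∀ c : G, c ∈ C ↔ c * x = x * c := by
    intro c
    rw [hCdef, mem_centralizer_iff]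
    constructor
    · intro hc; exact (hc x (Set.mem_singleton x)).symm
    · intro hc u hu
      rw [Set.mem_singleton_iff] at hu
      rw [hu]; exact hc.symm
  obtain ⟨Z', hZ'def⟩ : ∃ Z' : Subgroup G,
      Z' = (Subgroup.center (S' : Subgroup G)).map (S' : Subgroup G).subtype := ⟨_, rfl⟩
  have hxZ' : x ∈ Z' := by
    rw [hZ'def]
    apply (mem_map_center_subtype _ _).mpr
    exact ⟨hxS', fun s hs => (hmemC s).mp (hS'C hs)⟩
  have hZ'S : Z' ≤ S' := by
    rw [hZ'def]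
    rintro _ ⟨s, -, rfl⟩
    exact s.2
  have hUC : U ≤ C := hUS.trans hS'C
  have hQC : Q ≤ C := hQS.trans hS'C
  have hZ'C : Z' ≤ C := hZ'S.trans hS'C
  have hVC : Q ⊔ Z' ≤ C := sup_le hQC hZ'C
  have hNVC : normalizer ((Q ⊔ Z' : Subgroup G) : Set G) ≤ C := by
    intro g hg
    have h1 := wr_normalizer_quat_center_le S' h Q hQS eQ
    rw [← hZ'def] at h1
    have h2 := h1 hg
    rw [mem_centralizer_iff] at h2
    rw [hmemC]
    exact (h2 x hxZ').symm
  rw [← hZ'def] at h₂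
  -- the Sylow subgroup of `C`
  have hZR : (Subgroup.center ((S'.subtype hS'C : Sylow 2 ↥C) : Subgroup ↥C)).map
      ((S'.subtype hS'C : Sylow 2 ↥C) : Subgroup ↥C).subtype = Z'.subgroupOf C := by
    rw [hZ'def]
    exact map_center_subgroupOf hS'C
  obtain ⟨R, hRdef⟩ : ∃ R : Sylow 2 ↥C, R = S'.subtype hS'C := ⟨_, rfl⟩
  rw [← hRdef] at hZR
  have hRcoe : (R : Subgroup ↥C) = (S' : Subgroup G).subgroupOf C := by rw [hRdef]; rfl
  have hR : Cfsg.IsWreathed (R : Subgroup ↥C) :=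
    isWreathed_of_equiv
      ((MulEquiv.subgroupCongr hRcoe).trans (Subgroup.subgroupOfEquivOfLe hS'C)) hS'
  have hRS' : Nat.card (R : Subgroup ↥C) = Nat.card (S' : Subgroup G) :=
    Nat.card_congr
      ((MulEquiv.subgroupCongr hRcoe).trans (Subgroup.subgroupOfEquivOfLe hS'C)).toEquiv
  have hRcard : Nat.card (R : Subgroup ↥C) = Nat.card (S : Subgroup G) := by
    rw [hRS', hcardS']
  have hRn : Nat.card (R : Subgroup ↥C) = 2 ^ (2 * n + 1) := by rw [hRS']; exact h.card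
  obtain ⟨UC, hUCdef⟩ : ∃ UC : Subgroup ↥C, UC = U.subgroupOf C := ⟨_, rfl⟩
  obtain ⟨QC, hQCdef⟩ : ∃ QC : Subgroup ↥C, QC = Q.subgroupOf C := ⟨_, rfl⟩
  have hUCR : UC ≤ R := by
    rw [hUCdef, hRcoe]
    intro t ht
    rw [mem_subgroupOf] at ht ⊢
    exact hUS ht
  have hQCR : QC ≤ R := by
    rw [hQCdef, hRcoe]
    intro t ht
    rw [mem_subgroupOf] at ht ⊢
    exact hQS ht
  have hUCab : IsMulCommutative UC := by
    rw [hUCdef]
    refine ⟨⟨fun a b => ?_⟩⟩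
    apply Subtype.ext
    apply Subtype.ext
    have := hUab.is_comm.comm (⟨((a : ↥C) : G), mem_subgroupOf.mp a.2⟩ : U)
      ⟨((b : ↥C) : G), mem_subgroupOf.mp b.2⟩
    have h2 := congrArg Subtype.val this
    exact h2
  have hUCcard : Nat.card UC = 2 ^ (2 * n) := by
    rw [hUCdef, Nat.card_congr (Subgroup.subgroupOfEquivOfLe hUC).toEquiv, hUcard]
  have eQC : QC ≃* QuaternionGroup 2 := by
    rw [hQCdef]; exact (Subgroup.subgroupOfEquivOfLe hQC).trans eQ
  have h₂C : ((QC ⊔ (Subgroup.center (R : Subgroup ↥C)).map (R : Subgroup ↥C).subtype) ⊔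
      centralizer ((QC ⊔ (Subgroup.center (R : Subgroup ↥C)).map (R : Subgroup ↥C).subtype :
        Subgroup ↥C) : Set ↥C)).relIndex
      (normalizer ((QC ⊔ (Subgroup.center (R : Subgroup ↥C)).map (R : Subgroup ↥C).subtype :
        Subgroup ↥C) : Set ↥C)) = 6 := by
    rw [hZR, hQCdef, ← subgroupOf_sup hQC hZ'C, relIndex_subgroupOf_transport hVC hNVC]
    exact h₂
  -- the abelian subgroup
  obtain ⟨h₁C | h₁C, -⟩ := Cfsg.Agent.S1208.result R hR n hRn UC hUCR hUCab hUCcard QC hQCR eQC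
  swap
  · exfalso
    have hone' := (Cfsg.Agent.S1209.result R hR n hRn UC hUCR hUCab hUCcard QC hQCR eQC
      h₁C h₂C).2
    have hzC : (z' : G) ∈ C := hS'C z'.2
    have hzsq : (z' : G) * (z' : G) = 1 := by
      have := congrArg Subtype.val h.z_sq
      simpa using this
    have hz1 : (z' : G) ≠ 1 := fun hc => h.z_ne_one (Subtype.ext hc)
    have hto : orderOf (⟨(z' : G), hzC⟩ : ↥C) = 2 := by
      rw [Cfsg.Agent.Helper20.orderOf_eq_two_iff]
      exact ⟨Subtype.ext hzsq, fun hc => hz1 (congrArg Subtype.val hc)⟩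
    have hxo : orderOf (⟨x, hZ'C hxZ'⟩ : ↥C) = 2 := by
      rw [Cfsg.Agent.Helper20.orderOf_eq_two_iff]
      exact ⟨Subtype.ext hxsq, fun hc => hx1 (congrArg Subtype.val hc)⟩
    obtain ⟨c, hc⟩ := isConj_iff.mp (isConj_of_card_classes_eq_one hone' hxo hto)
    have h3 : (c : G) * x * (c : G)⁻¹ = (z' : G) := by
      have := congrArg Subtype.val hc
      simpa using this
    have h4 : x = (z' : G) := by
      rw [← h3, (hmemC c).mp c.2]
      group
    apply h.z_not_mem_U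
    have hcen : (⟨x, hxS'⟩ : (S' : Subgroup G)) ∈ Subgroup.center (S' : Subgroup G) := by
      rw [Subgroup.mem_center_iff]
      intro s
      apply Subtype.ext
      show (s : G) * x = x * (s : G)
      exact (hmemC s).mp (hS'C s.2)
    have h5 : (⟨x, hxS'⟩ : (S' : Subgroup G)) = z' := Subtype.ext h4
    have h6 := h.center_le_U hcen
    rw [h5] at h6
    exact h6
  obtain ⟨⟨K, hKn, hKi, hquat, hno2⟩, hWC, -⟩ :=
    Cfsg.Agent.S1210.result R hR n hRn UC hUCR hUCab hUCcard QC hQCR eQC h₁C h₂C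
  exact ⟨R, hRcard, ⟨K, hKn, ⟨n, hKi⟩, hno2, hquat⟩, hWC⟩

end Cfsg.Agent.Helper20
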