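import Mathlib

/-!
# Piece (A3b) for S2332: the class of `t0` has `[G:P](|Q|-1)` elements
-/

set_option autoImplicit false
set_option linter.unusedSectionVars false

namespace Cfsg.Agent.Helper20.LS

universe u

variable {G : Type u} [Group G] [Fintype G]

/-- (A3b) the class of `t0` has `[G:P](|Q|-1)` elements. -/
theorem A3b_index_centralizer (Q P : Subgroup G) (t0 : G) (ht0 : t0 ∈ Q) (ht01 : t0 ≠ 1)
    (hQP : ∀ p ∈ P, ∀ x ∈ Q, p * x * p⁻¹ ∈ Q)
    (htrans : ∀ x ∈ Q, x ≠ 1 → ∃ p ∈ P, p * t0 * p⁻¹ = x)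
    (hTI : ∀ g : G, g * t0 * g⁻¹ ∈ Q → g ∈ P) :
    (Subgroup.centralizer ({t0} : Set G)).index = P.index * (Nat.card Q - 1) := by
  classical
  set C := Subgroup.centralizer ({t0} : Set G) with hC
  have hmemC : ∀ g : G, g ∈ C ↔ g * t0 = t0 * g := by
    intro g
    rw [hC, Subgroup.mem_centralizer_iff]
    constructor
    · intro h; exact (h t0 rfl).symm
    · intro h x hx; rw [Set.mem_singleton_iff.mp hx]; exact h.symm
  have hCP : C ≤ P := by
    intro g hg
    apply hTI
    rw [(hmemC g).1 hg, mul_inv_cancel_right]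
    exact ht0
  rw [← Subgroup.relIndex_mul_index hCP, mul_comm]
  congr 1
  -- the relative index is the size of the `P`-class of `t0`, which is `Q \ {1}`
  have hcardQ : Nat.card Q - 1 = Nat.card ↥((Q : Set G) \ {1}) := by
    rw [_root_.Nat.card_coe_set_eq, Set.ncard_sdiff_singleton_of_mem Q.one_mem,
      ← _root_.Nat.card_coe_set_eq]
    rfl
  rw [hcardQ]
  unfold Subgroup.relIndex Subgroup.index
  -- the orbit map
  have hconj : ∀ p : P, (p : G) * t0 * (p : G)⁻¹ ∈ (Q : Set G) \ {1} := by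
    intro p
    refine ⟨hQP p p.2 t0 ht0, ?_⟩
    intro h
    rw [Set.mem_singleton_iff] at h
    apply ht01
    have : (p : G) * t0 = (p : G) := by
      have := congrArg (· * (p : G)) h
      simpa using this
    exact mul_left_cancel (this.trans (mul_one _).symm)
  let f : P ⧸ C.subgroupOf P → ↥((Q : Set G) \ {1}) :=
    Quotient.lift (s := QuotientGroup.leftRel (C.subgroupOf P))
      (fun p => ⟨(p : G) * t0 * (p : G)⁻¹, hconj p⟩) (by
        intro p q hpq
        have hpq := QuotientGroup.leftRel_apply.mp hpq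
        rw [Subgroup.mem_subgroupOf, hmemC] at hpq
        apply Subtype.ext
        simp only [Subgroup.coe_mul, Subgroup.coe_inv] at hpq ⊢
        -- hpq : p⁻¹ * q * t0 = t0 * (p⁻¹ * q)
        have h1 : (q : G) * t0 = (p : G) * t0 * ((p : G)⁻¹ * q) := by
          rw [mul_assoc (p : G), ← hpq]; group
        rw [eq_mul_inv_iff_mul_eq, mul_assoc _ _ (q : G)]
        -- goal: p * t0 * (p⁻¹ * q) = q * t0
        exact h1.symm)
  apply Nat.card_congr
  refine Equiv.ofBijective f ⟨?_, ?_⟩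
  · intro a b
    refine Quotient.inductionOn₂' a b (fun p q h => ?_)
    have h' : (p : G) * t0 * (p : G)⁻¹ = (q : G) * t0 * (q : G)⁻¹ := congrArg Subtype.val h
    apply QuotientGroup.eq.mpr
    rw [Subgroup.mem_subgroupOf, hmemC]
    simp only [Subgroup.coe_mul, Subgroup.coe_inv]
    -- p⁻¹ * q * t0 = t0 * (p⁻¹ * q)
    have h2 : (q : G) * t0 = (p : G) * t0 * (p : G)⁻¹ * q := by
      rw [h']; group
    rw [mul_assoc, h2]; group
  · rintro ⟨x, hxQ, hx1⟩
    obtain ⟨p, hp, hpx⟩ := htrans x hxQ (by simpa using hx1)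
    exact ⟨QuotientGroup.mk ⟨p, hp⟩, Subtype.ext hpx⟩

end Cfsg.Agent.Helper20.LS
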