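import Mathlib
import Cfsg.Agent.Helper80.LS.Defs

/-!
# Piece (MG) for S2332: the Levi decomposition `P = Q · C · L0` of the line stabiliser
-/

set_option autoImplicit false
set_option linter.unusedSectionVars false
set_option linter.unusedVariables false

namespace Cfsg.Agent.Helper20.LS

open Matrix
open Cfsg.Agent.Helper80.LS

section general
variable {F : Type*} [Field F] {m : ℕ}

theorem bd_mulVec_e0 (c : F) (A : Matrix (Fin (m + 1)) (Fin (m + 1)) F) :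
    bd c A *ᵥ e0 F m = c • e0 F m := by
  unfold e0
  rw [Matrix.mulVec_single_one]
  ext i
  refine Fin.cases ?_ (fun i' => ?_) i
  · simp
  · simp [Fin.succ_ne_zero]

theorem mulVec_e0_apply (M : Matrix (Fin (m + 2)) (Fin (m + 2)) F) (i : Fin (m + 2)) :
    (M *ᵥ e0 F m) i = M i 0 := by
  unfold e0
  rw [Matrix.mulVec_single_one]
  rfl

theorem vecMul_bd (v : Fin (m + 2) → F) (c : F) (A : Matrix (Fin (m + 1)) (Fin (m + 1)) F) :
    (v ᵥ* bd c A) 0 = v 0 * c ∧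
      ∀ j : Fin (m + 1), (v ᵥ* bd c A) j.succ = ((fun i : Fin (m + 1) => v i.succ) ᵥ* A) j := by
  constructor
  · simp [Matrix.vecMul, dotProduct, Fin.sum_univ_succ]
  · intro j
    simp [Matrix.vecMul, dotProduct, Fin.sum_univ_succ]

theorem e0_succ (i : Fin (m + 1)) : e0 F m i.succ = 0 := by
  unfold e0
  rw [Pi.single_apply, if_neg (Fin.succ_ne_zero i)]

theorem e0_zero' : e0 F m 0 = 1 := by
  unfold e0
  rw [Pi.single_apply, if_pos rfl]

/-- determinant of a matrix whose first column is `(c, 0, …, 0)ᵀ` -/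
theorem det_of_col_zero (M : Matrix (Fin (m + 2)) (Fin (m + 2)) F)
    (h0 : ∀ i : Fin (m + 1), M i.succ 0 = 0) :
    M.det = M 0 0 * (M.submatrix Fin.succ Fin.succ).det := by
  rw [Matrix.det_succ_column_zero, Fin.sum_univ_succ]
  have hrest : ∑ i : Fin (m + 1), (-1 : F) ^ ((i.succ : Fin (m + 2)) : ℕ) * M i.succ 0 *
      (M.submatrix i.succ.succAbove Fin.succ).det = 0 := by
    apply Finset.sum_eq_zero
    intro i _
    rw [h0 i, mul_zero, zero_mul]
  rw [hrest, add_zero]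
  simp [Fin.succAbove_zero]

end general

section main
variable {F : Type*} [Field F] [Fintype F] [DecidableEq F] {m : ℕ} {G : Type*} [Group G] [Fintype G]
  (D : MatGrp F (m + 2) G)

theorem mem_P_iff_col (g : G) : g ∈ D.P ↔ ∀ i : Fin (m + 1), D.φ g i.succ 0 = 0 := by
  rw [D.mem_P]
  constructor
  · rintro ⟨c, hc⟩ i
    have := congrFun hc i.succ
    rw [mulVec_e0_apply, Pi.smul_apply, e0_succ, smul_zero] at this
    exact this
  · intro h
    refine ⟨D.φ g 0 0, ?_⟩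
    ext i
    rw [mulVec_e0_apply, Pi.smul_apply]
    refine Fin.cases ?_ (fun i' => ?_) i
    · rw [e0_zero', smul_eq_mul, mul_one]
    · rw [h i', e0_succ, smul_zero]

theorem C_le_P : D.C ≤ D.P := by
  rintro g ⟨s, hs⟩
  exact ⟨(s : F), by rw [hs, bd_mulVec_e0]⟩

theorem L0_le_P : D.L0 ≤ D.P := by
  rintro g ⟨h, rfl⟩
  exact ⟨_, by rw [D.φ_iota, bd_mulVec_e0]⟩

theorem C_comm : ∀ c ∈ D.C, ∀ d ∈ D.C, c * d = d * c := by
  rintro c ⟨s, hs⟩ d ⟨t, ht⟩
  apply D.ext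
  rw [map_mul, map_mul, hs, ht, bd_mul, bd_mul, mul_comm (s : F)]

theorem C_comm_L0 : ∀ c ∈ D.C, ∀ l ∈ D.L0, c * l = l * c := by
  rintro c ⟨s, hs⟩ l ⟨h, rfl⟩
  apply D.ext
  rw [map_mul, map_mul, hs, D.φ_iota, bd_mul, bd_mul, mul_comm (s : F), Matrix.one_mul,
    Matrix.mul_one]

/-- refined Levi factorisation -/
theorem P_factor' (p : G) (hp : p ∈ D.P) :
    ∃ x ∈ D.Q, ∃ c ∈ D.C, ∃ h : GL (Fin (m + 1)) F, p = x * c * D.iota h ∧
      (h : Matrix (Fin (m + 1)) (Fin (m + 1)) F) = (D.φ p).submatrix Fin.succ Fin.succ ∧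
      D.φ c = bd (D.φ p 0 0 * ((D.φ p).submatrix Fin.succ Fin.succ).det) 1 := by
  classical
  set M := D.φ p with hM
  have hcol : ∀ i : Fin (m + 1), M i.succ 0 = 0 := (mem_P_iff_col D p).1 hp
  set A : Matrix (Fin (m + 1)) (Fin (m + 1)) F := M.submatrix Fin.succ Fin.succ with hA
  have hdet : M.det = M 0 0 * A.det := det_of_col_zero M hcol
  have hdetM : M.det ≠ 0 := D.det_ne_zero p
  have hc0 : M 0 0 ≠ 0 := by
    intro h
    rw [h, zero_mul] at hdet
    exact hdetM hdet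
  have hA0 : A.det ≠ 0 := by
    intro h
    rw [h, mul_zero] at hdet
    exact hdetM hdet
  have hAu : IsUnit A.det := isUnit_iff_ne_zero.mpr hA0
  let h : GL (Fin (m + 1)) F := Matrix.GeneralLinearGroup.mkOfDetNeZero A hA0
  have hh : (h : Matrix (Fin (m + 1)) (Fin (m + 1)) F) = A := rfl
  let ρs : Fin (m + 1) → F := fun j => M 0 j.succ
  let r' : Fin (m + 2) → F := Fin.cons 0 (ρs ᵥ* A⁻¹)
  have hr0 : r' 0 = 0 := rfl
  have hr'e : r' ⬝ᵥ e0 F m = 0 := by rw [dot_e0, hr0]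
  let x : G := D.tv (e0 F m) r' hr'e
  have hφx : D.φ x = 1 + vecMulVec (e0 F m) r' := D.φ_tv _ _ _
  have hxQ : x ∈ D.Q := ⟨r', hr0, hφx⟩
  let l : G := D.iota h
  have hφl : D.φ l = bd (A.det)⁻¹ A := by
    have := D.φ_iota h
    rw [hh] at this
    exact this
  -- the matrix identity
  have hmat : D.φ x * bd (M 0 0 * A.det) 1 * D.φ l = M := by
    rw [hφx, hφl, mul_assoc, bd_mul, Matrix.one_mul, mul_assoc, mul_inv_cancel₀ hA0, mul_one,
      Matrix.add_mul, Matrix.one_mul, Matrix.vecMulVec_mul]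
    obtain ⟨hv0, hvs⟩ := vecMul_bd r' (M 0 0) A
    ext i j
    rw [Matrix.add_apply, vecMulVec_apply]
    refine Fin.cases ?_ (fun i' => ?_) i <;> refine Fin.cases ?_ (fun j' => ?_) j
    · rw [hv0, hr0, zero_mul, mul_zero, add_zero, bd_zero_zero]
    · rw [hvs j', bd_zero_succ, zero_add, e0_zero', one_mul]
      have : (fun i : Fin (m + 1) => r' i.succ) = ρs ᵥ* A⁻¹ := by
        funext i
        rfl
      rw [this, Matrix.vecMul_vecMul, Matrix.nonsing_inv_mul A hAu, Matrix.vecMul_one]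
    · rw [e0_succ, zero_mul, add_zero, bd_succ_zero, hcol i']
    · rw [e0_succ, zero_mul, add_zero, bd_succ_succ]
      rfl
  have hφc : D.φ (x⁻¹ * p * l⁻¹) = bd (M 0 0 * A.det) 1 := by
    have h1 : D.φ (x⁻¹ * p * l⁻¹) = D.φ x⁻¹ * M * D.φ l⁻¹ := by
      rw [map_mul, map_mul]
    rw [h1]
    calc D.φ x⁻¹ * M * D.φ l⁻¹
        = D.φ x⁻¹ * (D.φ x * bd (M 0 0 * A.det) 1 * D.φ l) * D.φ l⁻¹ := by rw [hmat]
      _ = (D.φ x⁻¹ * D.φ x) * bd (M 0 0 * A.det) 1 * (D.φ l * D.φ l⁻¹) := by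
          simp only [mul_assoc]
      _ = bd (M 0 0 * A.det) 1 := by
          rw [D.φ_inv_mul, D.φ_mul_inv, Matrix.one_mul, Matrix.mul_one]
  refine ⟨x, hxQ, x⁻¹ * p * l⁻¹, ?_, h, ?_, hh, hφc⟩
  · exact ⟨Units.mk0 (M 0 0 * A.det) (mul_ne_zero hc0 hA0), hφc⟩
  · show p = x * (x⁻¹ * p * l⁻¹) * l
    group

theorem P_factor : ∀ p ∈ D.P, ∃ x ∈ D.Q, ∃ c ∈ D.C, ∃ l ∈ D.L0, p = x * c * l := by
  intro p hp
  obtain ⟨x, hx, c, hc, h, hp', -, -⟩ := P_factor' D p hp
  exact ⟨x, hx, c, hc, D.iota h, ⟨h, rfl⟩, hp'⟩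

/-- the `L0`-component of a conjugate of `t0` lying in `P`: it is `1` or (the image of) a
transvection. -/
theorem P_factor_tv (x : G) (hx : x ∈ D.P) (hc : ∃ y : G, y⁻¹ * D.t0 * y = x) :
    ∃ z ∈ D.Q, ∃ h : GL (Fin (m + 1)) F, x = z * D.iota h ∧
      ∃ u ψ : Fin (m + 1) → F, ψ ⬝ᵥ u = 0 ∧
        (h : Matrix (Fin (m + 1)) (Fin (m + 1)) F) = 1 + vecMulVec u ψ := by
  classical
  obtain ⟨y, hy⟩ := hc
  set v : Fin (m + 2) → F := D.φ y⁻¹ *ᵥ e0 F m with hv
  set w : Fin (m + 2) → F := e1 F m ᵥ* D.φ y with hw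
  have hφx : D.φ x = 1 + vecMulVec v w := by
    rw [← hy, map_mul, map_mul, D.φ_t0, Matrix.mul_add, Matrix.add_mul, Matrix.mul_one,
      D.φ_inv_mul, Matrix.mul_vecMulVec, Matrix.vecMulVec_mul]
  have hwv : w ⬝ᵥ v = 0 := by
    rw [hw, hv, ← Matrix.dotProduct_mulVec, Matrix.mulVec_mulVec, D.φ_mul_inv, Matrix.one_mulVec,
      e1_dot, e0, Pi.single_apply, if_neg (Ne.symm fin_zero_ne_one)]
  have hcol : ∀ i : Fin (m + 1), v i.succ * w 0 = 0 := by
    intro i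
    have := (mem_P_iff_col D x).1 hx i
    rw [hφx, Matrix.add_apply, vecMulVec_apply, Matrix.one_apply_ne (Fin.succ_ne_zero i),
      zero_add] at this
    exact this
  set v' : Fin (m + 1) → F := fun i => v i.succ with hv'
  set w' : Fin (m + 1) → F := fun i => w i.succ with hw'
  have hsplit : w ⬝ᵥ v = w 0 * v 0 + w' ⬝ᵥ v' := by
    simp only [dotProduct, Fin.sum_univ_succ, hv', hw']
  have hw0v0 : w 0 * v 0 = 0 := by
    by_cases h0 : w 0 = 0
    · rw [h0, zero_mul]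
    · have hv'0 : v' = 0 := by
        funext i
        rcases mul_eq_zero.mp (hcol i) with h | h
        · exact h
        · exact absurd h h0
      rw [hwv, hv'0, dotProduct_zero, add_zero] at hsplit
      exact hsplit.symm
  have hw'v' : w' ⬝ᵥ v' = 0 := by
    rw [hwv, hw0v0, zero_add] at hsplit
    exact hsplit.symm
  obtain ⟨z, hz, c, hcC, h, hxz, hh, hφc⟩ := P_factor' D x hx
  have hA : (D.φ x).submatrix Fin.succ Fin.succ = 1 + vecMulVec v' w' := by
    ext i j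
    rw [Matrix.submatrix_apply, hφx, Matrix.add_apply, Matrix.add_apply, vecMulVec_apply,
      vecMulVec_apply, Matrix.one_apply, Matrix.one_apply]
    simp only [Fin.succ_inj, hv', hw']
  have h00 : D.φ x 0 0 = 1 := by
    rw [hφx, Matrix.add_apply, vecMulVec_apply, Matrix.one_apply_eq, mul_comm, hw0v0, add_zero]
  have hc1 : c = 1 := by
    apply D.eq_one_of_φ
    rw [hφc, hA, det_one_add_vecMulVec, hw'v', add_zero, h00, mul_one, bd_one]
  refine ⟨z, hz, h, ?_, v', w', hw'v', ?_⟩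
  · rw [hxz, hc1, mul_one]
  · rw [hh, hA]

end main

end Cfsg.Agent.Helper20.LS
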