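import Mathlib
import Cfsg.Agent.Helper79.Mult.Defs

/-!
# S4756 farm (architect helper79), piece (COM): `d ↦ y d y⁻¹ d⁻¹` is injective on `D`, hence onto.
-/

set_option autoImplicit false

universe u

namespace Cfsg.Agent.Helper20.Mult

open Cfsg Cfsg.Agent.Helper79.Mult
open scoped commutatorElement

variable {G : Type u} [Group G] [Finite G]

/-- (COM) `d ↦ y d y⁻¹ d⁻¹` is injective on `D`, hence onto. -/
theorem le_commutator_of_fpf (A P D : Subgroup G) [D.Normal] (hDP : D ≤ P) (y : G) (hyA : y ∈ A)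
    (hfpf : ∀ d ∈ D, y * d = d * y → d = 1) : D ≤ ⁅A, P⁆ := by
  classical
  -- the map `d ↦ ⁅y, d⁆` on `D`
  have hmem : ∀ d : D, ⁅y, (d : G)⁆ ∈ D := by
    intro d
    rw [commutatorElement_def]
    have h1 : y * (d : G) * y⁻¹ ∈ D := ‹D.Normal›.conj_mem _ d.2 y
    exact D.mul_mem h1 (D.inv_mem d.2)
  let f : D → D := fun d => ⟨⁅y, (d : G)⁆, hmem d⟩
  have hinj : Function.Injective f := by
    intro d e hde
    have h : ⁅y, (d : G)⁆ = ⁅y, (e : G)⁆ := congrArg Subtype.val hde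
    rw [commutatorElement_def, commutatorElement_def] at h
    -- `y d y⁻¹ d⁻¹ = y e y⁻¹ e⁻¹`
    have h2 : (d : G) * y⁻¹ * (d : G)⁻¹ = (e : G) * y⁻¹ * (e : G)⁻¹ := by
      have := congrArg (fun t => y⁻¹ * t) h
      simpa [mul_assoc] using this
    have hc : y * ((e : G)⁻¹ * (d : G)) = ((e : G)⁻¹ * (d : G)) * y := by
      have h3 : ((e : G)⁻¹ * (d : G)) * y⁻¹ = y⁻¹ * ((e : G)⁻¹ * (d : G)) := by
        calc ((e : G)⁻¹ * (d : G)) * y⁻¹
            = (e : G)⁻¹ * ((d : G) * y⁻¹ * (d : G)⁻¹) * (d : G) := by group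
          _ = (e : G)⁻¹ * ((e : G) * y⁻¹ * (e : G)⁻¹) * (d : G) := by rw [h2]
          _ = y⁻¹ * ((e : G)⁻¹ * (d : G)) := by group
      calc y * ((e : G)⁻¹ * (d : G))
          = y * (((e : G)⁻¹ * (d : G)) * y⁻¹) * y := by group
        _ = y * (y⁻¹ * ((e : G)⁻¹ * (d : G))) * y := by rw [h3]
        _ = ((e : G)⁻¹ * (d : G)) * y := by group
    have hD : (e : G)⁻¹ * (d : G) ∈ D := D.mul_mem (D.inv_mem e.2) d.2
    have h1 := hfpf _ hD hc
    apply Subtype.ext
    have : (d : G) = (e : G) := by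
      have := congrArg (fun t => (e : G) * t) h1
      simpa using this
    exact this
  have hsurj : Function.Surjective f := Finite.surjective_of_injective hinj
  intro d hd
  obtain ⟨d', hd'⟩ := hsurj ⟨d, hd⟩
  have hval : ⁅y, (d' : G)⁆ = d := congrArg Subtype.val hd'
  rw [← hval]
  exact Subgroup.commutator_mem_commutator hyA (hDP d'.2)

end Cfsg.Agent.Helper20.Mult
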