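import Mathlib
import Cfsg.Agent.Helper58.N3Compl

/-!
# Piece (FIN5) for S3613: from triple transitivity of the setwise stabilizer of a pair on the
complement to transitivity of the pointwise stabilizer of four points (odd degree)
-/

set_option autoImplicit false

namespace Cfsg.Agent.Helper20.N3

open MulAction
open scoped Pointwise
open Cfsg.Agent.Helper58.N3

/-- a subgroup of "index at most two" of a group transitive on an odd number of points is
transitive (inline version of piece (SPLIT)) -/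
theorem transitive_of_odd' {G Ω : Type*} [Group G] [MulAction G Ω] [DecidableEq Ω]
    (Y H : Subgroup G) (hHY : H ≤ Y) (hnorm : ∀ y ∈ Y, ∀ h ∈ H, y * h * y⁻¹ ∈ H)
    (hidx : ∀ y ∈ Y, ∀ y' ∈ Y, y ∉ H → y' ∉ H → y⁻¹ * y' ∈ H)
    (R : Finset Ω) (hodd : Odd R.card) (hinv : ∀ y ∈ Y, ∀ x ∈ R, y • x ∈ R)
    (htr : ∀ x ∈ R, ∀ x' ∈ R, ∃ y ∈ Y, y • x = x') :
    ∀ x ∈ R, ∀ x' ∈ R, ∃ h ∈ H, h • x = x' := by
  classical
  intro x hx x' hx'
  by_cases hall : ∀ y ∈ Y, y ∈ H
  · obtain ⟨y, hy, hyx⟩ := htr x hx x' hx'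
    exact ⟨y, hall y hy, hyx⟩
  push Not at hall
  obtain ⟨y0, hy0Y, hy0H⟩ := hall
  -- the `H`-orbit of `x` inside `R`
  set O : Finset Ω := R.filter (fun z => ∃ h ∈ H, h • x = z) with hO
  have hcover : R = O ∪ O.image (fun z => y0 • z) := by
    apply Finset.Subset.antisymm
    · intro z hz
      obtain ⟨y, hy, hyx⟩ := htr x hx z hz
      by_cases hyH : y ∈ H
      · exact Finset.mem_union_left _ (Finset.mem_filter.mpr ⟨hz, y, hyH, hyx⟩)
      · apply Finset.mem_union_right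
        have hh : y0⁻¹ * y ∈ H := hidx y0 hy0Y y hy hy0H hyH
        refine Finset.mem_image.mpr ⟨(y0⁻¹ * y) • x, ?_, ?_⟩
        · refine Finset.mem_filter.mpr ⟨hinv _ (hHY hh) x hx, _, hh, rfl⟩
        · rw [smul_smul, mul_inv_cancel_left, hyx]
    · intro z hz
      rcases Finset.mem_union.mp hz with h | h
      · exact (Finset.mem_filter.mp h).1
      · obtain ⟨w, hw, rfl⟩ := Finset.mem_image.mp h
        exact hinv y0 hy0Y w (Finset.mem_filter.mp hw).1
  have hcardimg : (O.image (fun z => y0 • z)).card = O.card :=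
    Finset.card_image_of_injective _ (MulAction.injective y0)
  -- the two halves meet
  have hmeet : ¬ Disjoint O (O.image (fun z => y0 • z)) := by
    intro hdisj
    have hc := Finset.card_union_of_disjoint hdisj
    rw [← hcover, hcardimg] at hc
    rw [hc] at hodd
    exact (Nat.not_odd_iff_even.mpr ⟨O.card, rfl⟩) hodd
  rw [Finset.not_disjoint_iff] at hmeet
  obtain ⟨z, hz1, hz2⟩ := hmeet
  obtain ⟨-, h1, hh1, hh1x⟩ := Finset.mem_filter.mp hz1
  obtain ⟨w, hw, hwz⟩ := Finset.mem_image.mp hz2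
  obtain ⟨-, h2, hh2, hh2x⟩ := Finset.mem_filter.mp hw
  -- `y0 • x` lies in the `H`-orbit of `x`
  have hy0x : ∃ h ∈ H, h • x = y0 • x := by
    refine ⟨(y0 * h2 * y0⁻¹)⁻¹ * h1, H.mul_mem (H.inv_mem (hnorm y0 hy0Y h2 hh2)) hh1, ?_⟩
    rw [mul_smul, hh1x, ← hwz, ← hh2x]
    simp only [smul_smul]
    congr 1
    group
  obtain ⟨h0, hh0, hh0x⟩ := hy0x
  obtain ⟨y, hy, hyx⟩ := htr x hx x' hx'
  by_cases hyH : y ∈ H
  · exact ⟨y, hyH, hyx⟩
  · have hh : y0⁻¹ * y ∈ H := hidx y0 hy0Y y hy hy0H hyH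
    refine ⟨(y0 * (y0⁻¹ * y) * y0⁻¹) * h0, H.mul_mem (hnorm y0 hy0Y _ hh) hh0, ?_⟩
    rw [mul_smul, hh0x, smul_smul, ← hyx]
    congr 1
    group

/-- three distinct points as an embedding of `Fin 3` -/
theorem exists_embedding_three {α : Type*} (u v w : α) (huv : u ≠ v) (huw : u ≠ w) (hvw : v ≠ w) :
    ∃ e : Fin 3 ↪ α, e 0 = u ∧ e 1 = v ∧ e 2 = w := by
  refine ⟨⟨![u, v, w], ?_⟩, rfl, rfl, rfl⟩
  intro i j h
  fin_cases i <;> fin_cases j <;> simp_all

/-- (FIN5) -/
theorem pretransitive_fixing_four {G Ω : Type*} [Group G] [MulAction G Ω] [Fintype Ω]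
    [DecidableEq Ω] (hodd : Odd (Fintype.card Ω)) (a b c d : Ω) (hab : a ≠ b) (hac : a ≠ c)
    (had : a ≠ d) (hbc : b ≠ c) (hbd : b ≠ d) (hcd : c ≠ d)
    (h3 : IsMultiplyPretransitive ↥(stabilizer G ({a, b} : Set Ω))
      ↥(complAction (G := G) ({a, b} : Set Ω)) 3) :
    IsPretransitive ↥(fixingSubgroup G ({a, b, c, d} : Set Ω))
      ↥(SubMulAction.ofFixingSubgroup G ({a, b, c, d} : Set Ω)) := by
  classical
  set S : Set Ω := {a, b, c, d} with hS
  set Y : Subgroup G := stabilizer G ({a, b} : Set Ω) ⊓ stabilizer G c ⊓ stabilizer G d with hY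
  set H : Subgroup G := fixingSubgroup G S with hH
  set R : Finset Ω := Finset.univ \ {a, b, c, d} with hR
  have hmemS : ∀ x : Ω, x ∈ S ↔ x = a ∨ x = b ∨ x = c ∨ x = d := by
    intro x; simp [hS]
  have hmemR : ∀ x : Ω, x ∈ R ↔ x ∉ S := by
    intro x
    rw [hR, Finset.mem_sdiff, hmemS]
    simp
  have hmemH : ∀ g : G, g ∈ H ↔ g • a = a ∧ g • b = b ∧ g • c = c ∧ g • d = d := by
    intro g
    rw [hH, mem_fixingSubgroup_iff]
    constructor
    · intro h
      exact ⟨h a ((hmemS a).2 (Or.inl rfl)), h b ((hmemS b).2 (Or.inr (Or.inl rfl))),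
        h c ((hmemS c).2 (Or.inr (Or.inr (Or.inl rfl)))),
        h d ((hmemS d).2 (Or.inr (Or.inr (Or.inr rfl))))⟩
    · rintro ⟨h1, h2, h3, h4⟩ x hx
      rcases (hmemS x).1 hx with rfl | rfl | rfl | rfl <;> assumption
  -- membership in `Y`
  have hpair : ∀ g : G, g ∈ stabilizer G ({a, b} : Set Ω) →
      (g • a = a ∧ g • b = b) ∨ (g • a = b ∧ g • b = a) := by
    intro g hg
    rw [mem_stabilizer_set] at hg
    have ha : g • a ∈ ({a, b} : Set Ω) := (hg a).2 (Or.inl rfl)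
    have hb : g • b ∈ ({a, b} : Set Ω) := (hg b).2 (Or.inr rfl)
    have hne : g • a ≠ g • b := fun h => hab (MulAction.injective g h)
    rcases ha with ha | ha <;> rcases hb with hb | hb
    · exact absurd (ha.trans hb.symm) hne
    · left; exact ⟨ha, hb⟩
    · right; exact ⟨ha, hb⟩
    · exact absurd (ha.trans hb.symm) hne
  have hmemY : ∀ g : G, g ∈ Y ↔ g ∈ stabilizer G ({a, b} : Set Ω) ∧ g • c = c ∧ g • d = d := by
    intro g
    rw [hY, Subgroup.mem_inf, Subgroup.mem_inf, and_assoc]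
    exact Iff.rfl
  have hpairmem : ∀ g : G, ((g • a = a ∧ g • b = b) ∨ (g • a = b ∧ g • b = a)) →
      g ∈ stabilizer G ({a, b} : Set Ω) := by
    intro g hg
    rw [mem_stabilizer_set]
    intro x
    constructor
    · intro hx
      by_contra hxn
      -- `g • x ∈ {a, b}` and `x ∉ {a, b}`: impossible by injectivity
      rcases hg with ⟨h1, h2⟩ | ⟨h1, h2⟩ <;> rcases hx with hx | hx
      · exact hxn (Or.inl (MulAction.injective g (hx.trans h1.symm)))
      · exact hxn (Or.inr (MulAction.injective g (hx.trans h2.symm)))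
      · exact hxn (Or.inr (MulAction.injective g (hx.trans h2.symm)))
      · exact hxn (Or.inl (MulAction.injective g (hx.trans h1.symm)))
    · intro hx
      rcases hg with ⟨h1, h2⟩ | ⟨h1, h2⟩ <;> rcases hx with rfl | rfl
      · exact Or.inl h1
      · exact Or.inr h2
      · exact Or.inr h1
      · exact Or.inl h2
  have hHY : H ≤ Y := by
    intro g hg
    obtain ⟨h1, h2, h3, h4⟩ := (hmemH g).1 hg
    exact (hmemY g).2 ⟨hpairmem g (Or.inl ⟨h1, h2⟩), h3, h4⟩
  -- elements of `Y` outside `H` swap `a` and `b`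
  have hswap : ∀ y ∈ Y, y ∉ H → y • a = b ∧ y • b = a := by
    intro y hy hyH
    obtain ⟨hy1, hy2, hy3⟩ := (hmemY y).1 hy
    rcases hpair y hy1 with h | h
    · exact absurd ((hmemH y).2 ⟨h.1, h.2, hy2, hy3⟩) hyH
    · exact h
  have hnorm : ∀ y ∈ Y, ∀ h ∈ H, y * h * y⁻¹ ∈ H := by
    intro y hy h hh
    obtain ⟨hy1, hy2, hy3⟩ := (hmemY y).1 hy
    obtain ⟨h1, h2, h3, h4⟩ := (hmemH h).1 hh
    have hyc : y⁻¹ • c = c := by rw [inv_smul_eq_iff, hy2]
    have hyd : y⁻¹ • d = d := by rw [inv_smul_eq_iff, hy3]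
    rw [hmemH]
    refine ⟨?_, ?_, ?_, ?_⟩
    · rcases hpair y hy1 with ⟨e1, e2⟩ | ⟨e1, e2⟩
      · have : y⁻¹ • a = a := by rw [inv_smul_eq_iff, e1]
        rw [mul_smul, mul_smul, this, h1, e1]
      · have : y⁻¹ • a = b := by rw [inv_smul_eq_iff, e2]
        rw [mul_smul, mul_smul, this, h2, e2]
    · rcases hpair y hy1 with ⟨e1, e2⟩ | ⟨e1, e2⟩
      · have : y⁻¹ • b = b := by rw [inv_smul_eq_iff, e2]
        rw [mul_smul, mul_smul, this, h2, e2]
      · have : y⁻¹ • b = a := by rw [inv_smul_eq_iff, e1]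
        rw [mul_smul, mul_smul, this, h1, e1]
    · rw [mul_smul, mul_smul, hyc, h3, hy2]
    · rw [mul_smul, mul_smul, hyd, h4, hy3]
  have hidx : ∀ y ∈ Y, ∀ y' ∈ Y, y ∉ H → y' ∉ H → y⁻¹ * y' ∈ H := by
    intro y hy y' hy' hyH hy'H
    obtain ⟨e1, e2⟩ := hswap y hy hyH
    obtain ⟨e1', e2'⟩ := hswap y' hy' hy'H
    obtain ⟨-, hy2, hy3⟩ := (hmemY y).1 hy
    obtain ⟨-, hy2', hy3'⟩ := (hmemY y').1 hy'
    rw [hmemH]
    refine ⟨?_, ?_, ?_, ?_⟩
    · rw [mul_smul, e1', inv_smul_eq_iff, e1]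
    · rw [mul_smul, e2', inv_smul_eq_iff, e2]
    · rw [mul_smul, hy2', inv_smul_eq_iff, hy2]
    · rw [mul_smul, hy3', inv_smul_eq_iff, hy3]
  -- `R` has odd cardinality
  have hRodd : Odd R.card := by
    have hsub : ({a, b, c, d} : Finset Ω) ⊆ Finset.univ := Finset.subset_univ _
    have hc4 : ({a, b, c, d} : Finset Ω).card = 4 := by
      rw [Finset.card_insert_of_notMem, Finset.card_insert_of_notMem,
        Finset.card_insert_of_notMem, Finset.card_singleton]
      · simpa using hcd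
      · simp [hbc, hbd]
      · simp [hab, hac, had]
    have hle := Finset.card_le_card hsub
    rw [hR, Finset.card_sdiff_of_subset hsub, hc4, Finset.card_univ]
    rw [hc4, Finset.card_univ] at hle
    obtain ⟨k, hk⟩ := hodd
    exact ⟨k - 2, by omega⟩
  -- `Y` preserves `R`
  have hinv : ∀ y ∈ Y, ∀ x ∈ R, y • x ∈ R := by
    intro y hy x hx
    rw [hmemR] at hx ⊢
    intro hyx
    apply hx
    obtain ⟨hy1, hy2, hy3⟩ := (hmemY y).1 hy
    rw [hmemS] at hyx ⊢
    have hyinv : ∀ z w : Ω, y • w = z → y • x = z → x = w := fun z w h1 h2 =>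
      MulAction.injective y (h2.trans h1.symm)
    rcases hpair y hy1 with ⟨e1, e2⟩ | ⟨e1, e2⟩
    · rcases hyx with h | h | h | h
      · exact Or.inl (hyinv a a e1 h)
      · exact Or.inr (Or.inl (hyinv b b e2 h))
      · exact Or.inr (Or.inr (Or.inl (hyinv c c hy2 h)))
      · exact Or.inr (Or.inr (Or.inr (hyinv d d hy3 h)))
    · rcases hyx with h | h | h | h
      · exact Or.inr (Or.inl (hyinv a b e2 h))
      · exact Or.inl (hyinv b a e1 h)
      · exact Or.inr (Or.inr (Or.inl (hyinv c c hy2 h)))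
      · exact Or.inr (Or.inr (Or.inr (hyinv d d hy3 h)))
  -- `Y` is transitive on `R`
  have hcc : c ∈ complAction (G := G) ({a, b} : Set Ω) := by
    rw [mem_complAction]
    rintro (h | h)
    · exact hac h.symm
    · exact hbc h.symm
  have hdc : d ∈ complAction (G := G) ({a, b} : Set Ω) := by
    rw [mem_complAction]
    rintro (h | h)
    · exact had h.symm
    · exact hbd h.symm
  have htr : ∀ x ∈ R, ∀ x' ∈ R, ∃ y ∈ Y, y • x = x' := by
    intro x hx x' hx'
    rw [hmemR, hmemS] at hx hx'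
    push Not at hx hx'
    have hxc : x ∈ complAction (G := G) ({a, b} : Set Ω) := by
      rw [mem_complAction]
      rintro (h | h)
      · exact hx.1 h
      · exact hx.2.1 h
    have hx'c : x' ∈ complAction (G := G) ({a, b} : Set Ω) := by
      rw [mem_complAction]
      rintro (h | h)
      · exact hx'.1 h
      · exact hx'.2.1 h
    obtain ⟨e1, e10, e11, e12⟩ := exists_embedding_three
      (⟨c, hcc⟩ : complAction (G := G) ({a, b} : Set Ω)) ⟨d, hdc⟩ ⟨x, hxc⟩
      (fun h => hcd (congrArg Subtype.val h))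
      (fun h => hx.2.2.1 (congrArg Subtype.val h).symm)
      (fun h => hx.2.2.2 (congrArg Subtype.val h).symm)
    obtain ⟨e2, e20, e21, e22⟩ := exists_embedding_three
      (⟨c, hcc⟩ : complAction (G := G) ({a, b} : Set Ω)) ⟨d, hdc⟩ ⟨x', hx'c⟩
      (fun h => hcd (congrArg Subtype.val h))
      (fun h => hx'.2.2.1 (congrArg Subtype.val h).symm)
      (fun h => hx'.2.2.2 (congrArg Subtype.val h).symm)
    obtain ⟨g, hg⟩ := h3.exists_smul_eq e1 e2
    have hg0 : g • e1 0 = e2 0 := by rw [← hg]; rfl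
    have hg1 : g • e1 1 = e2 1 := by rw [← hg]; rfl
    have hg2 : g • e1 2 = e2 2 := by rw [← hg]; rfl
    rw [e10, e20] at hg0
    rw [e11, e21] at hg1
    rw [e12, e22] at hg2
    have hgc : (g : G) • c = c := congrArg Subtype.val hg0
    have hgd : (g : G) • d = d := congrArg Subtype.val hg1
    have hgx : (g : G) • x = x' := congrArg Subtype.val hg2
    exact ⟨(g : G), (hmemY _).2 ⟨g.2, hgc, hgd⟩, hgx⟩
  have hmain := transitive_of_odd' Y H hHY hnorm hidx R hRodd hinv htr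
  refine ⟨fun x y => ?_⟩
  have hxR : (x : Ω) ∈ R := by
    rw [hmemR]
    exact x.2
  have hyR : (y : Ω) ∈ R := by
    rw [hmemR]
    exact y.2
  obtain ⟨h, hh, hhx⟩ := hmain x hxR y hyR
  exact ⟨⟨h, hh⟩, Subtype.ext hhx⟩

end Cfsg.Agent.Helper20.N3
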