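import Cfsg.Agent.Helper43.O7Orth

/-!
# (O7-L10b) every element of the monomial `2`-group `S0` has order dividing `8`
-/

set_option autoImplicit false

namespace Cfsg.Agent.Helper20.O7

/-- a group generated by two involutions whose product has order dividing `4` has exponent
dividing `4` -/
theorem pow_four_of_mem_closure_pair {G : Type*} [Group G] (a b : G) (ha : a * a = 1)
    (hb : b * b = 1) (hab : (a * b) ^ 4 = 1) (x : G) (hx : x ∈ Subgroup.closure {a, b}) :
    x ^ 4 = 1 := by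
  have hainv : a⁻¹ = a := inv_eq_of_mul_eq_one_left ha
  have hbinv : b⁻¹ = b := inv_eq_of_mul_eq_one_left hb
  have h1 : a * (a * b) * a⁻¹ = (a * b)⁻¹ := by
    rw [_root_.mul_inv_rev, hainv, hbinv, ← mul_assoc, ha, one_mul]
  have har : ∀ k : ℤ, a * (a * b) ^ k = (a * b) ^ (-k) * a := by
    intro k
    have h2 : a * (a * b) ^ k * a⁻¹ = (a * b) ^ (-k) := by
      rw [← conj_zpow, h1, inv_zpow, zpow_neg]
    rw [← h2, hainv, mul_assoc, mul_assoc, ha, mul_one]
  have hbr : b = a * (a * b) := by rw [← mul_assoc, ha, one_mul]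
  have hA : ∀ y : G, (∃ k : ℤ, y = (a * b) ^ k ∨ y = (a * b) ^ k * a) →
      ∃ k : ℤ, a * y = (a * b) ^ k ∨ a * y = (a * b) ^ k * a := by
    rintro y ⟨k, rfl | rfl⟩
    · exact ⟨-k, Or.inr (har k)⟩
    · exact ⟨-k, Or.inl (by rw [← mul_assoc, har, mul_assoc, ha, mul_one])⟩
  have hB : ∀ y : G, (∃ k : ℤ, y = (a * b) ^ k ∨ y = (a * b) ^ k * a) →
      ∃ k : ℤ, b * y = (a * b) ^ k ∨ b * y = (a * b) ^ k * a := by
    rintro y ⟨k, hy⟩
    have hy' : ∃ k : ℤ, (a * b) * y = (a * b) ^ k ∨ (a * b) * y = (a * b) ^ k * a := by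
      refine ⟨1 + k, ?_⟩
      rcases hy with rfl | rfl
      · left
        rw [zpow_add, zpow_one]
      · right
        rw [zpow_add, zpow_one]
        simp only [mul_assoc]
    have := hA _ hy'
    rwa [← mul_assoc, ← hbr] at this
  have key : ∃ k : ℤ, x = (a * b) ^ k ∨ x = (a * b) ^ k * a := by
    induction hx using Subgroup.closure_induction_left with
    | one => exact ⟨0, Or.inl (by simp)⟩
    | mul_left g hg y _ ih =>
      rcases hg with rfl | rfl
      · exact hA y ih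
      · exact hB y ih
    | inv_mul_cancel g hg y _ ih =>
      rcases hg with rfl | rfl
      · rw [hainv]
        exact hA y ih
      · rw [hbinv]
        exact hB y ih
  obtain ⟨k, rfl | rfl⟩ := key
  · rw [← zpow_natCast, ← zpow_mul, mul_comm, zpow_mul, zpow_natCast, hab, one_zpow]
  · have h2 : ((a * b) ^ k * a) ^ 2 = 1 := by
      rw [pow_two, mul_assoc, ← mul_assoc a, har, mul_assoc, ha, mul_one, ← zpow_add,
        add_neg_cancel, zpow_zero]
    rw [show (4 : ℕ) = 2 * 2 from rfl, pow_mul, h2, one_pow]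

open Matrix Cfsg.Agent.Helper43.O7 Cfsg.Agent.Helper44

variable {F : Type*} [Field F]

set_option maxRecDepth 100000 in
theorem tau_mul_self : tau * tau = 1 := by decide

set_option maxRecDepth 100000 in
theorem tau2_mul_self : tau2 * tau2 = 1 := by decide

set_option maxRecDepth 100000 in
theorem tau_mul_tau2_pow_four : (tau * tau2) ^ 4 = 1 := by decide

theorem pow_four_of_mem_P0 (σ : Equiv.Perm (Fin 7)) (hσ : σ ∈ P0) : σ ^ 4 = 1 :=
  pow_four_of_mem_closure_pair tau tau2 tau_mul_self tau2_mul_self tau_mul_tau2_pow_four σ hσ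

/-- powers of a monomial element are monomial, with the expected permutation part -/
theorem mon_pow (ε : Fin 7 → ℤˣ) (σ : Equiv.Perm (Fin 7)) (n : ℕ) :
    ∃ δ : Fin 7 → ℤˣ, (dg F ε * pm F σ) ^ n = dg F δ * pm F (σ ^ n) := by
  induction n with
  | zero => exact ⟨1, by simp⟩
  | succ n ih =>
    obtain ⟨δ, hδ⟩ := ih
    refine ⟨δ * (fun i => ε ((σ ^ n)⁻¹ i)), ?_⟩
    rw [pow_succ, hδ, pow_succ, map_mul, map_mul, mul_assoc, ← mul_assoc (pm F (σ ^ n)),
      pm_mul_dg]
    simp only [mul_assoc]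

/-- (O7-L10b) -/
theorem S0_pow_eight (x : Cfsg.isometryGroup F ⇑(Q7 F)) (hx : x ∈ S0 F) : x ^ 8 = 1 := by
  obtain ⟨ε, σ, -, hσ, rfl⟩ := hx
  obtain ⟨δ, hδ⟩ := mon_pow (F := F) ε σ 4
  rw [pow_four_of_mem_P0 σ hσ, map_one, mul_one] at hδ
  rw [show (8 : ℕ) = 4 * 2 from rfl, pow_mul, hδ, pow_two, dg_mul_self]

end Cfsg.Agent.Helper20.O7
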