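-- helper20: the quotient by the odd core: Sylow 2-subgroups, subgroups of index two, trivial core.
import Cfsg.Agent.Lib.Cores
import Cfsg.Agent.Lib.Hall

set_option autoImplicit false

namespace Cfsg.Agent.Helper20

open Subgroup

variable {G : Type*} [Group G]

theorem oddCore_quotient_eq_bot [Finite G] : Cfsg.oddCore (G ⧸ Cfsg.oddCore G) = ⊥ := by
  have h1 : Nat.card ((Cfsg.oddCore (G ⧸ Cfsg.oddCore G)).comap
      (QuotientGroup.mk' (Cfsg.oddCore G))) =
      Nat.card (Cfsg.oddCore G) * Nat.card (Cfsg.oddCore (G ⧸ Cfsg.oddCore G)) :=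
    Cfsg.Agent.Lib.card_comap_mk' _ _
  have h2 : Odd (Nat.card ((Cfsg.oddCore (G ⧸ Cfsg.oddCore G)).comap
      (QuotientGroup.mk' (Cfsg.oddCore G)))) := by
    rw [h1]
    exact Odd.mul Cfsg.Agent.Lib.odd_card_oddCore Cfsg.Agent.Lib.odd_card_oddCore
  have h3 := Cfsg.Agent.Lib.le_oddCore (inferInstance : ((Cfsg.oddCore (G ⧸ Cfsg.oddCore G)).comap
      (QuotientGroup.mk' (Cfsg.oddCore G))).Normal) h2
  rw [eq_bot_iff]
  intro q hq
  obtain ⟨g, rfl⟩ := QuotientGroup.mk_surjective q
  rw [Subgroup.mem_bot, QuotientGroup.eq_one_iff]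
  exact h3 hq

theorem no_index_two_quotient (N : Subgroup G) [N.Normal] (hG : ∀ K : Subgroup G, K.index ≠ 2) :
    ∀ K : Subgroup (G ⧸ N), K.index ≠ 2 := by
  intro K hK
  apply hG (K.comap (QuotientGroup.mk' N))
  rw [Subgroup.index_comap_of_surjective _ (QuotientGroup.mk'_surjective N)]
  exact hK

/-- The image of a Sylow 2-subgroup in the quotient by a normal subgroup of odd order is
isomorphic to it. -/
theorem sylow_quotient_equiv [Finite G] (N : Subgroup G) [N.Normal] (hN : Odd (Nat.card N))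
    (S : Sylow 2 G) :
    Nonempty (↥(S : Subgroup G) ≃*
      ↥((S.mapSurjective (QuotientGroup.mk'_surjective N) : Sylow 2 (G ⧸ N)) :
        Subgroup (G ⧸ N))) := by
  haveI : Fact (Nat.Prime 2) := ⟨Nat.prime_two⟩
  have hdisj : Disjoint N (S : Subgroup G) := by
    apply Subgroup.disjoint_of_coprime_natCard
    rw [S.card_eq_multiplicity]
    exact (Nat.coprime_two_right.mpr hN).pow_right _
  have hinj : Function.Injective ((QuotientGroup.mk' N).domRestrict (S : Subgroup G)) := by
    rw [← MonoidHom.ker_eq_bot_iff, MonoidHom.ker_domRestrict, QuotientGroup.ker_mk',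
      Subgroup.subgroupOf_eq_bot]
    exact hdisj
  have hrange : ((QuotientGroup.mk' N).domRestrict (S : Subgroup G)).range =
      ((S.mapSurjective (QuotientGroup.mk'_surjective N) : Sylow 2 (G ⧸ N)) :
        Subgroup (G ⧸ N)) := by
    rw [MonoidHom.domRestrict_range, Sylow.coe_mapSurjective]
  exact ⟨(MonoidHom.ofInjective hinj).trans (MulEquiv.subgroupCongr hrange)⟩

end Cfsg.Agent.Helper20
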