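import Cfsg.Agent.Helper20.OlssonRK1

/-!
# Olsson's theorem, piece (GRAM): `p^d ·` Gram matrix of the basic set is integral and symmetric
-/

set_option autoImplicit false
set_option linter.unusedSectionVars false
set_option linter.unusedVariables false
set_option linter.style.haveILetI false

noncomputable section

namespace Cfsg.Agent.Helper20.Olsson

open Cfsg
open scoped ComplexConjugate
open Cfsg.Agent.S4426 (cut)
open Cfsg.Agent.Helper16
open Cfsg.Agent.Helper78.Olsson

variable {H : Type*} [Group H] [Fintype H] {M : Ideal AlgInt} {p : ℕ}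

/-- (GRAM) `p^d` times the Gram matrix of the basic set is integral. -/
theorem LatData.exists_gram [Fact p.Prime] (hM : IsPModular p M) {b : Set (IrrCharacter H)}
    (hb : IsPBlock M b) (L : LatData p b) :
    ∃ g : Matrix (Fin 2) (Fin 2) ℤ, g 0 1 = g 1 0 ∧ ∀ i j : Fin 2,
      ((p ^ blockDefect p b : ℕ) : ℂ) * classInner (L.φ i) (L.φ j) = (g i j : ℂ) := by
  classical
  have hm : ∀ θ : IrrCharacter H, ∃ m : IrrCharacter H → ℤ, θ ∈ b → ∀ θ' : IrrCharacter H,
      ((p ^ blockDefect p b : ℕ) : ℂ) * classInner (cut p 1 (θ : H → ℂ)) (θ' : H → ℂ) =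
        (m θ' : ℂ) := by
    intro θ
    by_cases hθ : θ ∈ b
    · obtain ⟨m, hm⟩ := exists_int_defect_mul_cut hM hb θ hθ
      exact ⟨m, fun _ => hm⟩
    · exact ⟨fun _ => 0, fun h => absurd h hθ⟩
  choose m hm using hm
  set g0 : Matrix (Fin 2) (Fin 2) ℤ := fun i j =>
    ∑ θ : IrrCharacter H, ∑ θ' : IrrCharacter H, L.A i θ * L.A j θ' * m θ θ' with hg0
  have hval : ∀ i j : Fin 2,
      ((p ^ blockDefect p b : ℕ) : ℂ) * classInner (L.φ i) (L.φ j) = (g0 i j : ℂ) := by
    intro i j
    rw [LatData.classInner_phi L i j, Finset.mul_sum, hg0]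
    simp only
    rw [Int.cast_sum]
    refine Finset.sum_congr rfl (fun θ _ => ?_)
    rw [Finset.mul_sum, Int.cast_sum]
    refine Finset.sum_congr rfl (fun θ' _ => ?_)
    by_cases hθ : θ ∈ b
    · rw [Int.cast_mul, Int.cast_mul, ← hm θ hθ θ']
      ring
    · rw [L.hA0 i θ hθ]
      simp
  refine ⟨g0, ?_, hval⟩
  have h01 := hval 0 1
  have h10 := hval 1 0
  have hc : conj (((p ^ blockDefect p b : ℕ) : ℂ) * classInner (L.φ 0) (L.φ 1)) =
      ((p ^ blockDefect p b : ℕ) : ℂ) * classInner (L.φ 1) (L.φ 0) := by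
    rw [map_mul, Complex.conj_natCast, Helper79.classInner_conj_symm]
  rw [h01, h10, map_intCast] at hc
  exact_mod_cast hc

end Cfsg.Agent.Helper20.Olsson

end
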