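-- helper20: there is no simple group of order 5148 (piece of S0983, helper39's WANTED-E #3854).
import Mathlib
import Cfsg.Agent.Helper39.SimpOrd.Kit
import Cfsg.Agent.Helper39.SimpOrd.KitC
import Cfsg.Agent.Helper17.VTrick

/-!
# No simple group of order 5148

`5148 = 2^2 * 3^2 * 11 * 13`.  `n_11 = 78`, `|N(P)| = 66`, `|C(P)| = 33`.  For `c ∈ C(P)` of
order 3, `H = C_G(c)` has order `396` (index 13).  On the 13 cosets of `H`, a generator `u` of `P`
is an 11-cycle and `c` commutes with it, so `c` acts trivially: contradiction.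
-/

set_option autoImplicit false
set_option linter.style.haveILetI false

namespace Cfsg.Agent.Helper20.Ord5148

open Subgroup Cfsg.Agent.Helper9 Cfsg.Agent.Helper17 Cfsg.Agent.Helper39.SimpOrd

/-- A permutation of order 3 of 13 points commuting with a permutation of order 11 is trivial. -/
theorem perm_core {X : Type*} [Fintype X] [DecidableEq X] (hX : Fintype.card X = 13)
    (σ τ : Equiv.Perm X) (hσ : σ ^ 11 = 1) (hσ1 : σ ≠ 1) (hτ : τ ^ 3 = 1)
    (hcomm : σ * τ = τ * σ) : τ = 1 := by
  haveI : Fact (Nat.Prime 11) := ⟨by norm_num⟩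
  have hord : orderOf σ = 11 := orderOf_eq_prime hσ hσ1
  obtain ⟨n, hn⟩ := Equiv.Perm.cycleType_prime_order
    (by rw [hord]; norm_num : (orderOf σ).Prime)
  rw [hord] at hn
  have hsum := Equiv.Perm.sum_cycleType σ
  rw [hn, Multiset.sum_replicate, smul_eq_mul] at hsum
  have hle : σ.support.card ≤ 13 := by rw [← hX]; exact Finset.card_le_univ _
  have hn0 : n = 0 := by omega
  have hcyc : σ.IsCycle := by
    rw [← Equiv.Perm.card_cycleType_eq_one, hn, hn0]
    simp
  have hsupp : σ.support.card = 11 := by rw [← hsum, hn0]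
  have hfixcard : (Finset.univ \ σ.support).card = 2 := by
    rw [Finset.card_sdiff_of_subset (Finset.subset_univ _), Finset.card_univ, hX, hsupp]
  have hc : ∀ x, σ (τ x) = τ (σ x) := fun x => by
    have := congrArg (fun f : Equiv.Perm X => f x) hcomm
    simpa [Equiv.Perm.mul_apply] using this
  have hτ3 : ∀ x, τ (τ (τ x)) = x := fun x => by
    have := congrArg (fun f : Equiv.Perm X => f x) hτ
    simpa [pow_succ, Equiv.Perm.mul_apply] using this
  ext x
  rw [Equiv.Perm.one_apply]
  by_cases hx : σ x = x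
  · by_contra hne
    have h1 : σ (τ x) = τ x := by rw [hc, hx]
    have h2 : σ (τ (τ x)) = τ (τ x) := by rw [hc, h1]
    have hsub : ({x, τ x, τ (τ x)} : Finset X) ⊆ Finset.univ \ σ.support := by
      intro y hy
      simp only [Finset.mem_insert, Finset.mem_singleton] at hy
      rw [Finset.mem_sdiff, Equiv.Perm.mem_support, not_not]
      refine ⟨Finset.mem_univ _, ?_⟩
      rcases hy with rfl | rfl | rfl <;> assumption
    have hcard3 : ({x, τ x, τ (τ x)} : Finset X).card = 3 := by
      have hne1 : x ≠ τ x := fun h => hne h.symm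
      have hne2 : x ≠ τ (τ x) := by
        intro h
        apply hne
        have h3 := hτ3 x
        rw [← h] at h3
        exact h3
      have hne3 : τ x ≠ τ (τ x) := fun h => hne1 (τ.injective h)
      rw [Finset.card_insert_of_notMem (by simp [hne1, hne2]), Finset.card_pair hne3]
    have := Finset.card_le_card hsub
    omega
  · have hτx : σ (τ x) ≠ τ x := by
      intro h
      rw [hc] at h
      exact hx (τ.injective h)
    obtain ⟨i, hi⟩ := hcyc.exists_pow_eq hx hτx
    have hcp : ∀ y, τ ((σ ^ i) y) = (σ ^ i) (τ y) := by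
      intro y
      have hcm : Commute τ (σ ^ i) := (Commute.pow_right (show Commute τ σ from hcomm.symm) i)
      have := congrArg (fun f : Equiv.Perm X => f y) hcm.eq
      simpa [Equiv.Perm.mul_apply] using this
    have h3 : (σ ^ (3 * i)) x = x := by
      have e : σ ^ (3 * i) = σ ^ i * (σ ^ i * σ ^ i) := by
        rw [← pow_add, ← pow_add]
        congr 1
        ring
      have a1 : (σ ^ i) (τ x) = τ (τ x) := by rw [← hcp, hi]
      have a2 : (σ ^ i) (τ (τ x)) = τ (τ (τ x)) := by rw [← hcp, a1]
      rw [e, Equiv.Perm.mul_apply, Equiv.Perm.mul_apply, hi, a1, a2]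
      exact hτ3 x
    have h1 : σ ^ (3 * i) = 1 := (hcyc.pow_eq_one_iff' hx).mpr h3
    have hdvd : 11 ∣ 3 * i := by rw [← hord]; exact orderOf_dvd_of_pow_eq_one h1
    have hi11 : 11 ∣ i := Nat.Coprime.dvd_of_dvd_mul_left (by norm_num : Nat.Coprime 11 3) hdvd
    have hone : σ ^ i = 1 := by
      rw [← hord] at hi11
      exact orderOf_dvd_iff_pow_eq_one.mp hi11
    rw [← hi, hone, Equiv.Perm.one_apply]

theorem no_simple_5148 {G : Type*} [Group G] [Finite G] [IsSimpleGroup G]
    (h : Nat.card G = 5148) : False := by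
  classical
  haveI : Fact (Nat.Prime 11) := ⟨by norm_num⟩
  haveI : Fact (Nat.Prime 3) := ⟨by norm_num⟩
  have hG : ¬ IsMulCommutative G := not_comm_of_simple_of_not_prime (by rw [h]; norm_num)
  have hcard11 : Nat.card G = 11 ^ 1 * 468 := by rw [h]; norm_num
  have hcard3 : Nat.card G = 3 ^ 2 * 572 := by rw [h]; norm_num
  obtain ⟨P⟩ : Nonempty (Sylow 11 G) := inferInstance
  have hP : Nat.card (P : Subgroup G) = 11 := by
    simpa using card_sylow_subgroup_of_card_eq hcard11 (by norm_num) P
  have hmem := card_sylow_mem_npList hG 11 1 468 (by norm_num) hcard11 (by norm_num) (by norm_num)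
    (by norm_num)
  have hL : npList 11 1 468 = [78] := by decide +kernel
  rw [hL, List.mem_singleton] at hmem
  have h78 := hmem
  set N := normalizer ((P : Subgroup G) : Set G) with hNdef
  set C := centralizer ((P : Subgroup G) : Set G) with hCdef
  have hN : Nat.card N = 66 :=
    card_normalizer_of_card_sylow P h h78 (by norm_num) (by norm_num)
  -- `|C| = 33`
  have hC : Nat.card C = 33 := by
    obtain ⟨hd1, hd2⟩ := relIndex_dvd_of_card_sylow_prime P hP
    have hcm := card_centralizer_mul_relIndex (P : Subgroup G)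
    have hne : ¬ (N ≤ C) :=
      not_normalizer_le_centralizer_of_simple P (by rw [hP]; norm_num) (by rw [hP, h]; norm_num)
    have h1' : C.relIndex N ≠ 1 := fun h => hne (Subgroup.relIndex_eq_one.mp h)
    change C.relIndex N ∣ 11 - 1 at hd1
    change 11 * C.relIndex N ∣ Nat.card N at hd2
    change Nat.card C * C.relIndex N = Nat.card N at hcm
    rw [hN] at hd2 hcm
    generalize C.relIndex N = d at *
    have hle : d ≤ 10 := Nat.le_of_dvd (by norm_num) hd1
    obtain ⟨a, ha⟩ := hd1
    obtain ⟨b, hb⟩ := hd2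
    interval_cases d <;> omega
  -- an element `c` of order 3 centralizing `P`
  obtain ⟨c', hc'⟩ := exists_prime_orderOf_dvd_card' (G := ↥C) 3 (by rw [hC]; norm_num)
  obtain ⟨c, hcdef⟩ : ∃ c : G, c = (c' : G) := ⟨_, rfl⟩
  have hc3 : orderOf c = 3 := by rw [hcdef, Subgroup.orderOf_coe, hc']
  have hcC : c ∈ C := by rw [hcdef]; exact c'.2
  have hc1 : c ≠ 1 := by
    intro h1
    rw [h1, orderOf_one] at hc3
    norm_num at hc3
  -- a generator `u` of `P`
  obtain ⟨u', hu'⟩ := exists_prime_orderOf_dvd_card' (G := ↥(P : Subgroup G)) 11 (by rw [hP])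
  obtain ⟨u, hudef⟩ : ∃ u : G, u = (u' : G) := ⟨_, rfl⟩
  have hu11 : orderOf u = 11 := by rw [hudef, Subgroup.orderOf_coe, hu']
  have huP : u ∈ (P : Subgroup G) := by rw [hudef]; exact u'.2
  have hu1 : u ≠ 1 := by
    intro h1
    rw [h1, orderOf_one] at hu11
    norm_num at hu11
  have hPz : (P : Subgroup G) = zpowers u := by
    symm
    apply Subgroup.eq_of_le_of_card_ge (zpowers_le.mpr huP)
    rw [Nat.card_zpowers, hu11, hP]
  have hcu : ∀ x ∈ (P : Subgroup G), x * c = c * x := by
    intro x hx
    exact (Subgroup.mem_centralizer_iff.mp hcC x hx)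
  -- the centralizer of `c`
  set H := centralizer ({c} : Set G) with hHdef
  have hPH : (P : Subgroup G) ≤ H := by
    intro x hx
    rw [hHdef, Subgroup.mem_centralizer_singleton_iff]
    exact hcu x hx
  have hcH : c ∈ H := by
    rw [hHdef, Subgroup.mem_centralizer_singleton_iff]
  have hHtop : H ≠ ⊤ := by
    intro htop
    have hcen : c ∈ Subgroup.center G := by
      rw [Subgroup.mem_center_iff]
      intro g
      have hg : g ∈ H := by rw [htop]; exact Subgroup.mem_top g
      rw [hHdef, Subgroup.mem_centralizer_singleton_iff] at hg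
      exact hg
    rcases (inferInstance : (Subgroup.center G).Normal).eq_bot_or_eq_top with hb | ht
    · rw [hb, Subgroup.mem_bot] at hcen
      exact hc1 hcen
    · apply hG
      exact ⟨⟨fun a b => by
        have ha : a ∈ Subgroup.center G := by rw [ht]; exact Subgroup.mem_top a
        exact (Subgroup.mem_center_iff.mp ha b).symm⟩⟩
  -- `9 ∣ |H|`
  have h9 : 9 ∣ Nat.card H := by
    have hZ : IsPGroup 3 (Subgroup.zpowers c) := by
      apply IsPGroup.of_card (n := 1)
      rw [Nat.card_zpowers, hc3, pow_one]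
    obtain ⟨T, hT⟩ := hZ.exists_le_sylow
    have hcT : c ∈ (T : Subgroup G) := hT (Subgroup.mem_zpowers c)
    have hTcard : Nat.card (T : Subgroup G) = 3 ^ 2 :=
      card_sylow_subgroup_of_card_eq (p := 3) (k := 2) (m := 572) hcard3 (by norm_num) T
    have hTc : IsMulCommutative (T : Subgroup G) :=
      IsPGroup.isMulCommutative_of_card_eq_prime_sq hTcard
    have hTH : (T : Subgroup G) ≤ H := by
      intro x hx
      rw [hHdef, Subgroup.mem_centralizer_singleton_iff]
      have := hTc.is_comm.comm (⟨x, hx⟩ : (T : Subgroup G)) ⟨c, hcT⟩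
      exact congrArg Subtype.val this
    have := Subgroup.card_dvd_of_le hTH
    rw [hTcard] at this
    norm_num at this
    exact this
  have h11 : 11 ∣ Nat.card H := by
    have := Subgroup.card_dvd_of_le hPH
    rwa [hP] at this
  have h99 : 99 ∣ Nat.card H :=
    Nat.Coprime.mul_dvd_of_dvd_of_dvd (by norm_num : Nat.Coprime 9 11) h9 h11
  have hHG : Nat.card H ∣ 5148 := by rw [← h]; exact Subgroup.card_subgroup_dvd_card H
  have hidx := Subgroup.card_mul_index H
  rw [h] at hidx
  have hfact := two_mul_card_dvd_factorial_index hG H hHtop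
  rw [h] at hfact
  -- Sylow count in `H`
  have hsyl := card_sylow_of_le P H hPH
  have hmod : Nat.card (Sylow 11 H) ≡ 1 [MOD 11] := card_sylow_modEq_one 11 H
  have hInf33 : 33 ∣ Nat.card (H ⊓ N : Subgroup G) := by
    have hPle : (P : Subgroup G) ≤ H ⊓ N := le_inf hPH Subgroup.le_normalizer
    have h11' : 11 ∣ Nat.card (H ⊓ N : Subgroup G) := by
      have := Subgroup.card_dvd_of_le hPle
      rwa [hP] at this
    have hcmem : c ∈ H ⊓ N :=
      Subgroup.mem_inf.mpr ⟨hcH, Subgroup.centralizer_le_normalizer _ hcC⟩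
    have h3' : 3 ∣ Nat.card (H ⊓ N : Subgroup G) := by
      have := orderOf_dvd_natCard (⟨c, hcmem⟩ : (H ⊓ N : Subgroup G))
      rwa [Subgroup.orderOf_mk, hc3] at this
    exact Nat.Coprime.mul_dvd_of_dvd_of_dvd (by norm_num : Nat.Coprime 3 11) h3' h11'
  have hInf66 : Nat.card (H ⊓ N : Subgroup G) ∣ 66 := by
    rw [← hN]
    exact Subgroup.card_dvd_of_le inf_le_right
  -- `|H| = 396`
  have hH396 : Nat.card H = 396 ∧ H.index = 13 := by
    obtain ⟨k, hk⟩ := h99
    obtain ⟨m, hm⟩ := hInf33
    have hm2 : m = 1 ∨ m = 2 := by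
      rw [hm] at hInf66
      have : m ∣ 2 := by
        have h' : 33 * m ∣ 33 * 2 := by norm_num; exact hInf66
        exact Nat.dvd_of_mul_dvd_mul_left (by norm_num) h'
      have hle := Nat.le_of_dvd (by norm_num) this
      interval_cases m <;> simp_all
    rw [hk] at hidx hsyl
    rw [hm] at hsyl
    unfold Nat.ModEq at hmod
    generalize Nat.card (Sylow 11 H) = s at hsyl hmod
    generalize H.index = j at hidx hfact
    have hk52 : k * j = 52 := by
      have : 99 * (k * j) = 99 * 52 := by rw [← mul_assoc]; omega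
      exact Nat.eq_of_mul_eq_mul_left (by norm_num) this
    have hkle : k ≤ 52 := Nat.le_of_dvd (by norm_num) ⟨j, hk52.symm⟩
    have hk0 : 0 < k := by
      rcases Nat.eq_zero_or_pos k with h0 | h0
      · rw [h0] at hk52; omega
      · exact h0
    have hj4 : 5 ≤ j := by
      by_contra hlt
      push Not at hlt
      have : j.factorial ∣ (4 : ℕ).factorial := Nat.factorial_dvd_factorial (by omega)
      have := hfact.trans this
      norm_num [Nat.factorial] at this
    have hk10 : k ≤ 10 := by nlinarith
    rw [hk]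
    rcases hm2 with rfl | rfl
    · -- s * 33 = 99 * k
      have hs : s = 3 * k := by omega
      interval_cases k <;> omega
    · have hs : 2 * s = 3 * k := by omega
      interval_cases k <;> omega
  obtain ⟨hH, hHidx⟩ := hH396
  -- action on the 13 cosets
  letI : Fintype (G ⧸ H) := Fintype.ofFinite _
  have hX : Fintype.card (G ⧸ H) = 13 := by
    rw [← Nat.card_eq_fintype_card, ← Subgroup.index_eq_card, hHidx]
  have hcore : H.normalCore = ⊥ := by
    rcases (inferInstance : H.normalCore.Normal).eq_bot_or_eq_top with hb | ht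
    · exact hb
    · exfalso
      apply hHtop
      rw [eq_top_iff, ← ht]
      exact Subgroup.normalCore_le H
  have hker : ∀ g : G, MulAction.toPermHom G (G ⧸ H) g = 1 → g = 1 := by
    intro g hg
    have : g ∈ H.normalCore := by
      rw [Subgroup.normalCore_eq_ker, MonoidHom.mem_ker]
      exact hg
    rw [hcore, Subgroup.mem_bot] at this
    exact this
  have hτ1 := perm_core hX (MulAction.toPermHom G (G ⧸ H) u) (MulAction.toPermHom G (G ⧸ H) c)
    (by rw [← map_pow, ← hu11, pow_orderOf_eq_one, map_one])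
    (fun h1 => hu1 (hker u h1))
    (by rw [← map_pow, ← hc3, pow_orderOf_eq_one, map_one])
    (by rw [← map_mul, ← map_mul, hcu u huP])
  exact hc1 (hker c hτ1)

end Cfsg.Agent.Helper20.Ord5148
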