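-- helper20: no simple group of order 720 has a Sylow 5-subgroup with |N(P)| = 20 and |C(P)| = 5
-- (the "M10 shadow"); adaptation to order 720 of helper17's case C for order 4320.
import Mathlib
import Cfsg.Agent.Helper17.G4320d

set_option autoImplicit false
set_option linter.style.haveILetI false

namespace Cfsg.Agent.Helper20.Ord720

open Cfsg
open Cfsg.Agent.Helper17 Cfsg.Agent.Helper17.G4320
open scoped ComplexConjugate

universe u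

section ArithC

def Lc720 : List ℤ := [6, 16, -4, -9, -24]

set_option maxRecDepth 1000000 in
theorem core720 : ∀ D₁ ∈ Lc720, ∀ D₂ ∈ Lc720, ∀ D₃ ∈ Lc720, ∀ D₄ ∈ Lc720,
    1 + D₁ + D₂ + D₃ + D₄ = 0 →
    ∀ γ₁ ∈ Rc D₁, ∀ γ₂ ∈ Rc D₂, ∀ γ₃ ∈ Rc D₃, (-1 - γ₁ - γ₂ - γ₃) ∈ Rc D₄ →
    ¬ (IsSquare (144 * Qc D₁ D₂ D₃ D₄ γ₁ γ₂ γ₃ (-1 - γ₁ - γ₂ - γ₃)) ∧
      5 * Wc γ₁ γ₂ γ₃ (-1 - γ₁ - γ₂ - γ₃) ^ 2 * (D₁ * D₂ * D₃ * D₄) ^ 2
        ≤ 720 * Qc D₁ D₂ D₃ D₄ γ₁ γ₂ γ₃ (-1 - γ₁ - γ₂ - γ₃)) := by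
  decide +kernel

set_option maxRecDepth 100000 in
theorem key_deg720 : ∀ d ∈ Nat.divisors 720, d ≤ 26 → d ≠ 1 →
    (d % 5 = 1 → d = 6 ∨ d = 16) ∧ (d % 5 = 4 → d = 4 ∨ d = 9 ∨ d = 24) := by
  decide

theorem mem_Lc720 (a : ℤ) (ha : a = 1 ∨ a = -1) (d : ℕ) (hd : d ∣ 720) (h1 : 1 < d)
    (h26 : d ≤ 26) (hmod : (d : ℤ) ≡ a [ZMOD 5]) : a * d ∈ Lc720 := by
  have hkey := key_deg720 d (Nat.mem_divisors.mpr ⟨hd, by norm_num⟩) h26 (by omega)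
  rcases ha with rfl | rfl
  · have hm : d % 5 = 1 := by
      have := hmod
      rw [Int.ModEq] at this
      omega
    rcases hkey.1 hm with rfl | rfl <;> simp [Lc720]
  · have hm : d % 5 = 4 := by
      have := hmod
      rw [Int.ModEq] at this
      omega
    rcases hkey.2 hm with rfl | rfl | rfl <;> simp [Lc720]

theorem arith720 (D₁ D₂ D₃ D₄ γ₁ γ₂ γ₃ γ₄ : ℤ) (Ct : ℕ)
    (hD₁ : D₁ ∈ Lc720) (hD₂ : D₂ ∈ Lc720) (hD₃ : D₃ ∈ Lc720) (hD₄ : D₄ ∈ Lc720)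
    (hγ₁ : γ₁ ∈ Rc D₁) (hγ₂ : γ₂ ∈ Rc D₂) (hγ₃ : γ₃ ∈ Rc D₃) (hγ₄ : γ₄ ∈ Rc D₄)
    (H1 : 1 + D₁ + D₂ + D₃ + D₄ = 0) (H2 : 1 + γ₁ + γ₂ + γ₃ + γ₄ = 0)
    (H3 : 5 * (Ct : ℤ) ^ 2 * (D₁ * D₂ * D₃ * D₄) = 720 * (D₁ * D₂ * D₃ * D₄
      + γ₁ ^ 2 * (D₂ * D₃ * D₄) + γ₂ ^ 2 * (D₁ * D₃ * D₄) + γ₃ ^ 2 * (D₁ * D₂ * D₄)
      + γ₄ ^ 2 * (D₁ * D₂ * D₃)))
    (H4 : 1 + γ₁ ^ 2 + γ₂ ^ 2 + γ₃ ^ 2 + γ₄ ^ 2 ≤ (Ct : ℤ)) : False := by
  have hγ₄' : γ₄ = -1 - γ₁ - γ₂ - γ₃ := by linarith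
  rw [hγ₄'] at hγ₄ H3 H4
  apply core720 D₁ hD₁ D₂ hD₂ D₃ hD₃ D₄ hD₄ H1 γ₁ hγ₁ γ₂ hγ₂ γ₃ hγ₃ hγ₄
  constructor
  · refine ⟨(Ct : ℤ) * (D₁ * D₂ * D₃ * D₄), ?_⟩
    unfold Qc
    have : (5 : ℤ) * (144 * ((D₁ * D₂ * D₃ * D₄) * (D₁ * D₂ * D₃ * D₄
        + γ₁ ^ 2 * (D₂ * D₃ * D₄) + γ₂ ^ 2 * (D₁ * D₃ * D₄) + γ₃ ^ 2 * (D₁ * D₂ * D₄)
        + (-1 - γ₁ - γ₂ - γ₃) ^ 2 * (D₁ * D₂ * D₃))))
        = 5 * ((Ct : ℤ) * (D₁ * D₂ * D₃ * D₄) * ((Ct : ℤ) * (D₁ * D₂ * D₃ * D₄))) := by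
      linear_combination (-(D₁ * D₂ * D₃ * D₄)) * H3
    exact mul_left_cancel₀ (by norm_num) this
  · unfold Qc Wc
    have hW0 : (0 : ℤ) ≤ 1 + γ₁ ^ 2 + γ₂ ^ 2 + γ₃ ^ 2 + (-1 - γ₁ - γ₂ - γ₃) ^ 2 := by positivity
    have hsq : (1 + γ₁ ^ 2 + γ₂ ^ 2 + γ₃ ^ 2 + (-1 - γ₁ - γ₂ - γ₃) ^ 2) ^ 2 ≤ (Ct : ℤ) ^ 2 :=
      pow_le_pow_left₀ hW0 H4 2
    have hPi : (0 : ℤ) ≤ (D₁ * D₂ * D₃ * D₄) ^ 2 := sq_nonneg _
    have h1 : 5 * (1 + γ₁ ^ 2 + γ₂ ^ 2 + γ₃ ^ 2 + (-1 - γ₁ - γ₂ - γ₃) ^ 2) ^ 2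
        * (D₁ * D₂ * D₃ * D₄) ^ 2 ≤ 5 * (Ct : ℤ) ^ 2 * (D₁ * D₂ * D₃ * D₄) ^ 2 := by
      nlinarith
    have h2 : 5 * (Ct : ℤ) ^ 2 * (D₁ * D₂ * D₃ * D₄) ^ 2
        = 720 * ((D₁ * D₂ * D₃ * D₄) * (D₁ * D₂ * D₃ * D₄
        + γ₁ ^ 2 * (D₂ * D₃ * D₄) + γ₂ ^ 2 * (D₁ * D₃ * D₄) + γ₃ ^ 2 * (D₁ * D₂ * D₄)
        + (-1 - γ₁ - γ₂ - γ₃) ^ 2 * (D₁ * D₂ * D₃))) := by
      linear_combination (D₁ * D₂ * D₃ * D₄) * H3
    rw [← h2]
    exact h1

end ArithC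

section MainC

open Subgroup

variable {G : Type u} [Group G] [Finite G]

/-- If `n_5 = 36` and `|C(x)| = 5`, all elements of order 5 are conjugate to `x`. -/
theorem conj_of_order_five720 (h : Nat.card G = 720) [Fact (Nat.Prime 5)] (P : Sylow 5 G)
    (hN : Nat.card (normalizer ((P : Subgroup G) : Set G)) = 20) {x : G} (hx5 : orderOf x = 5)
    (hCx : Nat.card (centralizer ({x} : Set G)) = 5) (y : G) (hy : orderOf y = 5) :
    IsConj y x := by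
  classical
  have hP5 : ∀ P' : Sylow 5 G, Nat.card (P' : Subgroup G) = 5 := fun P' => by
    have := card_sylow_subgroup_of_card_eq (p := 5) (k := 1) (m := 144)
      (by rw [h]; norm_num) (by norm_num) P'
    simpa using this
  have hcount := card_orderOf_eq_prime (G := G) (p := 5) hP5
  have hn5 : Nat.card (Sylow 5 G) = 36 := by
    have := card_normalizer_mul_card_sylow P
    rw [hN, h] at this
    omega
  rw [hn5] at hcount
  have hcl := Helper74.card_isConj_mul_card_centralizer x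
  rw [hCx, h] at hcl
  have hA : ({g : G | IsConj g x} : Set G) = {g : G | orderOf g = 5} := by
    apply Set.eq_of_subset_of_ncard_le
    · intro g hg
      obtain ⟨c, hc⟩ := isConj_iff.mp hg
      show orderOf g = 5
      have := orderOf_conj' c g
      rw [hc, hx5] at this
      exact this.symm
    · have e1 : ({g : G | orderOf g = 5} : Set G).ncard = 144 := by
        have : ({g : G | orderOf g = 5} : Set G).ncard = Nat.card {g : G // orderOf g = 5} := by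
          rw [← Nat.card_coe_set_eq]; rfl
        rw [this, hcount]
      have e2 : ({g : G | IsConj g x} : Set G).ncard = 144 := by
        have : ({g : G | IsConj g x} : Set G).ncard = Nat.card {g : G // IsConj g x} := by
          rw [← Nat.card_coe_set_eq]; rfl
        rw [this]
        omega
      rw [e1, e2]
    · exact Set.toFinite _
  have : y ∈ ({g : G | IsConj g x} : Set G) := by rw [hA]; exact hy
  exact this

end MainC

section MainC2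

open Subgroup

variable {G : Type u} [Group G] [Finite G] [IsSimpleGroup G]

set_option maxHeartbeats 1600000 in
/-- The case `n_5 = 36`, `C(P) = P` of order 720 is impossible. -/
theorem caseF20 (h : Nat.card G = 720) [Fact (Nat.Prime 5)] (P : Sylow 5 G)
    (hP : Nat.card (P : Subgroup G) = 5)
    (hN : Nat.card (normalizer ((P : Subgroup G) : Set G)) = 20)
    (hC : Nat.card (centralizer ((P : Subgroup G) : Set G)) = 5) : False := by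
  classical
  let _ : Fintype G := Fintype.ofFinite G
  let _ := Helper74.irrFintype G
  -- a generator of P
  obtain ⟨x', hx'⟩ := exists_prime_orderOf_dvd_card' (G := ↥(P : Subgroup G)) 5 (by rw [hP])
  obtain ⟨x, hxdef⟩ : ∃ x : G, x = (x' : G) := ⟨_, rfl⟩
  have hx5 : orderOf x = 5 := by rw [hxdef, Subgroup.orderOf_coe, hx']
  have hxP : x ∈ (P : Subgroup G) := by rw [hxdef]; exact x'.2
  have hx1 : x ≠ 1 := by
    intro h1
    rw [h1, orderOf_one] at hx5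
    norm_num at hx5
  have hord5 : ∀ k ∈ (P : Subgroup G), k ≠ 1 → orderOf k = 5 := by
    intro k hk hk1
    have h1 : orderOf k ∣ 5 := by
      have := orderOf_dvd_natCard (⟨k, hk⟩ : (P : Subgroup G))
      rwa [hP, Subgroup.orderOf_mk] at this
    rcases (Nat.dvd_prime (by norm_num : Nat.Prime 5)).mp h1 with h | h
    · exact absurd (orderOf_eq_one_iff.mp h) hk1
    · exact h
  have hgen : ∀ k ∈ (P : Subgroup G), k ≠ 1 → (P : Subgroup G) = zpowers k := by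
    intro k hk hk1
    symm
    apply Subgroup.eq_of_le_of_card_ge (zpowers_le.mpr hk)
    rw [Nat.card_zpowers, hord5 k hk hk1, hP]
  have hPz := hgen x hxP hx1
  have hCx : centralizer ({x} : Set G) = centralizer ((P : Subgroup G) : Set G) :=
    centralizer_singleton_eq_of_zpowers hPz
  have hCxcard : Nat.card (centralizer ({x} : Set G)) = 5 := by rw [hCx, hC]
  have hPC : (P : Subgroup G) ≤ centralizer ((P : Subgroup G) : Set G) := by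
    intro a ha
    rw [Subgroup.mem_centralizer_iff]
    intro b hb
    haveI hcyc : IsCyclic (P : Subgroup G) := isCyclic_of_prime_card hP
    let _ := hcyc.commGroup
    have := mul_comm (⟨b, hb⟩ : (P : Subgroup G)) ⟨a, ha⟩
    exact congrArg Subtype.val this
  have hCP : centralizer ((P : Subgroup G) : Set G) = (P : Subgroup G) :=
    (Subgroup.eq_of_le_of_card_ge hPC (by rw [hC, hP])).symm
  have hCself : ∀ k ∈ (P : Subgroup G), k ≠ 1 → centralizer ({k} : Set G) ≤ (P : Subgroup G) := by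
    intro k hk hk1
    rw [centralizer_singleton_eq_of_zpowers (hgen k hk hk1), hCP]
  -- the involution
  obtain ⟨t', ht'⟩ := exists_prime_orderOf_dvd_card'
    (G := ↥(normalizer ((P : Subgroup G) : Set G))) 2 (by rw [hN]; norm_num)
  obtain ⟨t, htdef⟩ : ∃ t : G, t = (t' : G) := ⟨_, rfl⟩
  have ht2 : orderOf t = 2 := by rw [htdef, Subgroup.orderOf_coe, ht']
  have htN : t ∈ normalizer ((P : Subgroup G) : Set G) := by rw [htdef]; exact t'.2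
  have htt : t * t = 1 := by
    have := pow_orderOf_eq_one t
    rwa [ht2, pow_two] at this
  have htinv : t⁻¹ = t := inv_eq_of_mul_eq_one_left htt
  have hinvK := inverts_of_involution (P : Subgroup G) hP (by norm_num) hCself htN ht2
  have hinv : t * x * t⁻¹ = x⁻¹ := hinvK x hxP
  have hconjt : ∀ k : ℕ, IsConj t (t * x ^ k) := by
    intro k
    apply isConj_of_mul_mem (P : Subgroup G) hP (by norm_num) hCself htN ht2
    have h1 := hinvK (x ^ k) (Subgroup.pow_mem _ hxP k)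
    rw [htinv] at h1
    rw [h1]
    exact Subgroup.inv_mem _ (Subgroup.pow_mem _ hxP k)
  have hcountpairs := card_involution_pairs_gen (P : Subgroup G) hP (by norm_num) hCself htN ht2
    hxP hx1
  have hconjx : ∀ y ∈ (P : Subgroup G), y ≠ 1 → IsConj y x := fun y hy hy1 =>
    conj_of_order_five720 h P hN hx5 hCxcard y (hord5 y hy hy1)
  -- data of each irreducible character
  have key : ∀ χ : IrrCharacter G, ∃ a c : ℤ, ∃ m0 m1 : ℕ, (χ : G → ℂ) x = a ∧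
      (χ : G → ℂ) t = c ∧ ((charDegree (χ : G → ℂ) : ℤ) ≡ a [ZMOD 5]) ∧
      (charDegree (χ : G → ℂ) : ℤ) + 4 * a + 5 * c = 10 * m0 ∧
      (charDegree (χ : G → ℂ) : ℤ) + 4 * a - 5 * c = 10 * m1 := by
    intro χ
    have hχ := Helper74.irr_isCharacter χ
    have hcf := Helper74.irr_isClassFunction χ
    have hone : (χ : G → ℂ) 1 = (charDegree (χ : G → ℂ) : ℂ) :=
      Helper78.irrChar_one_eq_charDegree χ.2
    have hconst : ∀ y ∈ (P : Subgroup G), y ≠ 1 → (χ : G → ℂ) y = (χ : G → ℂ) x := by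
      intro y hy hy1
      obtain ⟨g, hg⟩ := isConj_iff.mp (hconjx y hy hy1)
      rw [← hg]
      exact (hcf y g).symm
    let _ : Fintype (P : Subgroup G) := Fintype.ofFinite _
    have hnt : Nontrivial (P : Subgroup G) :=
      ⟨⟨⟨x, hxP⟩, 1, fun h => hx1 (congrArg Subtype.val h)⟩⟩
    have hA : IsCharacter (P : Subgroup G) (fun y : (P : Subgroup G) => (χ : G → ℂ) (y : G)) :=
      Helper74.isCharacter_restrict (P : Subgroup G) hχ
    obtain ⟨a, a', b, hTa, ha', _, hcong⟩ := Exc.const_congr hnt hA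
      (Helper74.isCharacter_zero (G := (P : Subgroup G))) 0 (T := (χ : G → ℂ) x) (by
        intro y hy
        have hy1 : (y : G) ≠ 1 := fun h => hy (Subtype.ext h)
        simp only [Int.cast_zero, zero_mul, sub_zero]
        exact hconst y y.2 hy1)
    have ha'' : a' = charDegree (χ : G → ℂ) := by
      have h1 : (χ : G → ℂ) 1 = a' := ha'
      rw [hone] at h1
      exact_mod_cast h1.symm
    rw [hP, ha''] at hcong
    obtain ⟨c, hc⟩ := Exc.char_involution_int hχ htt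
    have hpow : ∀ k : ℕ, ¬ 5 ∣ k → (χ : G → ℂ) (x ^ k) = a := by
      intro k hk
      rw [← hTa]
      apply hconst _ (Subgroup.pow_mem _ hxP k)
      intro h1
      apply hk
      rw [← hx5]
      exact orderOf_dvd_of_pow_eq_one h1
    have hck : ∀ k : ℕ, (χ : G → ℂ) (t * x ^ k) = c := by
      intro k
      obtain ⟨g, hg⟩ := isConj_iff.mp (hconjt k)
      rw [← hg, hcf t g, hc]
    obtain ⟨m0, m1, h0, h1⟩ := dihedral_restrict hχ hx5 htt hinv (charDegree (χ : G → ℂ)) a c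
      hone hpow hck
    exact ⟨a, c, m0, m1, hTa, hc, by simpa using hcong, h0, h1⟩
  choose a c m0 m1 hax hct hmod h0 h1 using key
  have hprinc : ∀ g : G, ((Helper79.principalIrr G : IrrCharacter G) : G → ℂ) g = 1 :=
    fun _ => rfl
  have ha1 : a (Helper79.principalIrr G) = 1 := by
    have := hax (Helper79.principalIrr G)
    rw [hprinc] at this
    exact_mod_cast this.symm
  have hc1 : c (Helper79.principalIrr G) = 1 := by
    have := hct (Helper79.principalIrr G)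
    rw [hprinc] at this
    exact_mod_cast this.symm
  have hdeg : ∀ χ : IrrCharacter G, (χ : G → ℂ) 1 = (charDegree (χ : G → ℂ) : ℂ) :=
    fun χ => Helper78.irrChar_one_eq_charDegree χ.2
  -- the sum of squares
  have hso := Helper74.second_orthogonality (G := G) x x
  rw [if_pos (IsConj.refl x), hCxcard] at hso
  have hsumsq : ∑ χ : IrrCharacter G, a χ ^ 2 = 5 := by
    have : ∑ χ : IrrCharacter G, ((a χ ^ 2 : ℤ) : ℂ) = 5 := by
      have h5 : ((5 : ℕ) : ℂ) = 5 := by norm_num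
      rw [← h5, ← hso]
      apply Finset.sum_congr rfl
      intro χ _
      rw [hax χ]
      simp only [Int.cast_pow, map_intCast]
      ring
    exact_mod_cast this
  obtain ⟨s, hsdef⟩ : ∃ s : Finset (IrrCharacter G),
    s = Finset.univ.erase (Helper79.principalIrr G) := ⟨_, rfl⟩
  have hs4 : ∑ χ ∈ s, a χ ^ 2 = 4 := by
    have := Finset.add_sum_erase Finset.univ (fun χ => a χ ^ 2)
      (Finset.mem_univ (Helper79.principalIrr G))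
    rw [hsumsq, ha1, ← hsdef] at this
    linarith
  have hmem_s : ∀ χ : IrrCharacter G, χ ∈ s ↔ χ ≠ Helper79.principalIrr G := by
    intro χ
    rw [hsdef]
    simp
  -- orthogonality relations
  have hnc1 : ¬ IsConj (1 : G) x := by
    intro hc
    exact hx1 (isConj_one_left.mp hc.symm)
  have hnct : ¬ IsConj t x := by
    intro hc
    obtain ⟨g, hg⟩ := isConj_iff.mp hc
    have := orderOf_conj' g t
    rw [hg, hx5, ht2] at this
    norm_num at this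
  have hE1 : ∑ χ : IrrCharacter G, (charDegree (χ : G → ℂ) : ℤ) * a χ = 0 := by
    have hso1 := Helper74.second_orthogonality (G := G) 1 x
    rw [if_neg hnc1] at hso1
    have : ∑ χ : IrrCharacter G, (((charDegree (χ : G → ℂ) : ℤ) * a χ : ℤ) : ℂ) = 0 := by
      rw [← hso1]
      apply Finset.sum_congr rfl
      intro χ _
      rw [hax χ, hdeg χ]
      simp
    exact_mod_cast this
  have hE2 : ∑ χ : IrrCharacter G, c χ * a χ = 0 := by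
    have hso2 := Helper74.second_orthogonality (G := G) t x
    rw [if_neg hnct] at hso2
    have : ∑ χ : IrrCharacter G, ((c χ * a χ : ℤ) : ℂ) = 0 := by
      rw [← hso2]
      apply Finset.sum_congr rfl
      intro χ _
      rw [hax χ, hct χ]
      simp
    exact_mod_cast this
  have hperf : commutator G = ⊤ := Exc.commutator_eq_top_of_simple (by rw [h]; norm_num)
  have hE1' := Finset.add_sum_erase Finset.univ
    (fun χ : IrrCharacter G => (charDegree (χ : G → ℂ) : ℤ) * a χ)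
    (Finset.mem_univ (Helper79.principalIrr G))
  rw [hE1, ← hsdef, ha1, Exc.charDegree_principal] at hE1'
  rcases sq_sum_four s a hs4 with ⟨ψ, hψs, hψ2, hrest⟩ |
    ⟨ψ₁, hψ₁s, ψ₂, hψ₂s, ψ₃, hψ₃s, ψ₄, hψ₄s, h12, h13, h14, h23, h24, h34, ha₁, ha₂, ha₃, ha₄,
      hrest⟩
  · -- a single character with value ±2: parity contradiction
    exfalso
    have hsum : ∑ χ ∈ s, (charDegree (χ : G → ℂ) : ℤ) * a χ
        = a ψ * (charDegree (ψ : G → ℂ) : ℤ) := by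
      rw [← Exc.sum_eq_of_support_one s a (fun χ => (charDegree (χ : G → ℂ) : ℤ)) hψs hrest]
      apply Finset.sum_congr rfl
      intro χ _
      ring
    rw [hsum] at hE1'
    rcases hψ2 with h2 | h2 <;> rw [h2] at hE1' <;> omega
  · -- four characters with values ±1
    have hψ₁1 : ψ₁ ≠ Helper79.principalIrr G := (hmem_s ψ₁).mp hψ₁s
    have hψ₂1 : ψ₂ ≠ Helper79.principalIrr G := (hmem_s ψ₂).mp hψ₂s
    have hψ₃1 : ψ₃ ≠ Helper79.principalIrr G := (hmem_s ψ₃).mp hψ₃s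
    have hψ₄1 : ψ₄ ≠ Helper79.principalIrr G := (hmem_s ψ₄).mp hψ₄s
    obtain ⟨T, hTdef⟩ : ∃ T : Finset (IrrCharacter G),
      T = {Helper79.principalIrr G, ψ₁, ψ₂, ψ₃, ψ₄} := ⟨_, rfl⟩
    have hTsum : ∀ {β : Type} [AddCommMonoid β] (F : IrrCharacter G → β), ∑ χ ∈ T, F χ
        = F (Helper79.principalIrr G) + F ψ₁ + F ψ₂ + F ψ₃ + F ψ₄ := by
      intro β _ F
      rw [hTdef, Finset.sum_insert, Finset.sum_insert, Finset.sum_insert, Finset.sum_pair h34]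
      · simp only [add_assoc]
      · simp only [Finset.mem_insert, Finset.mem_singleton, not_or]
        exact ⟨h23, h24⟩
      · simp only [Finset.mem_insert, Finset.mem_singleton, not_or]
        exact ⟨h12, h13, h14⟩
      · simp only [Finset.mem_insert, Finset.mem_singleton, not_or]
        exact ⟨hψ₁1.symm, hψ₂1.symm, hψ₃1.symm, hψ₄1.symm⟩
    have hTout : ∀ χ : IrrCharacter G, χ ∉ T → a χ = 0 := by
      intro χ hχ
      rw [hTdef] at hχ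
      simp only [Finset.mem_insert, Finset.mem_singleton, not_or] at hχ
      exact hrest χ ((hmem_s χ).mpr hχ.1) hχ.2.1 hχ.2.2.1 hχ.2.2.2.1 hχ.2.2.2.2
    have hsplit : ∀ {β : Type} [AddCommMonoid β] (F : IrrCharacter G → β),
        (∀ χ, a χ = 0 → F χ = 0) → ∑ χ, F χ
          = F (Helper79.principalIrr G) + F ψ₁ + F ψ₂ + F ψ₃ + F ψ₄ := by
      intro β _ F hF
      rw [← hTsum, Finset.sum_subset (Finset.subset_univ T)
        (fun χ _ hχ => hF χ (hTout χ hχ))]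
    have hdprop : ∀ ψ : IrrCharacter G, ψ ≠ Helper79.principalIrr G →
        charDegree (ψ : G → ℂ) ∣ 720 ∧ 1 < charDegree (ψ : G → ℂ) ∧
          charDegree (ψ : G → ℂ) ≤ 26 := by
      intro ψ hψ
      refine ⟨by rw [← h]; exact Helper80.IsIrrCharacter.charDegree_dvd_card ψ.2,
        Exc.one_lt_charDegree_of_perfect hperf ψ hψ, ?_⟩
      have hs := Helper79.sum_charDegree_sq (G := G)
      rw [h] at hs
      have := Finset.single_le_sum (f := fun χ : IrrCharacter G => charDegree (χ : G → ℂ) ^ 2)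
        (fun _ _ => Nat.zero_le _) (Finset.mem_univ ψ)
      rw [hs] at this
      have this' : charDegree (ψ : G → ℂ) ^ 2 ≤ 720 := this
      nlinarith
    obtain ⟨d₁, hd₁⟩ : ∃ d₁ : ℕ, d₁ = charDegree (ψ₁ : G → ℂ) := ⟨_, rfl⟩
    obtain ⟨d₂, hd₂⟩ : ∃ d₂ : ℕ, d₂ = charDegree (ψ₂ : G → ℂ) := ⟨_, rfl⟩
    obtain ⟨d₃, hd₃⟩ : ∃ d₃ : ℕ, d₃ = charDegree (ψ₃ : G → ℂ) := ⟨_, rfl⟩
    obtain ⟨d₄, hd₄⟩ : ∃ d₄ : ℕ, d₄ = charDegree (ψ₄ : G → ℂ) := ⟨_, rfl⟩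
    -- E1
    have H1 : 1 + a ψ₁ * d₁ + a ψ₂ * d₂ + a ψ₃ * d₃ + a ψ₄ * d₄ = 0 := by
      have := hsplit (fun χ => (charDegree (χ : G → ℂ) : ℤ) * a χ)
        (fun χ hχ => by simp only [hχ, mul_zero])
      rw [hE1] at this
      simp only [ha1, Exc.charDegree_principal, ← hd₁, ← hd₂, ← hd₃, ← hd₄] at this
      push_cast at this
      linarith
    have H2 : 1 + a ψ₁ * c ψ₁ + a ψ₂ * c ψ₂ + a ψ₃ * c ψ₃ + a ψ₄ * c ψ₄ = 0 := by
      have := hsplit (fun χ => c χ * a χ) (fun χ hχ => by simp only [hχ, mul_zero])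
      rw [hE2] at this
      simp only [ha1, hc1] at this
      linarith
    -- E4
    obtain ⟨Ct, hCt⟩ : ∃ Ct : ℕ, Ct = Nat.card (centralizer ({t} : Set G)) := ⟨_, rfl⟩
    have hE4 : ∑ χ : IrrCharacter G, c χ ^ 2 = (Ct : ℤ) := by
      have hso4 := Helper74.second_orthogonality (G := G) t t
      rw [if_pos (IsConj.refl t), ← hCt] at hso4
      have : ∑ χ : IrrCharacter G, ((c χ ^ 2 : ℤ) : ℂ) = (((Ct : ℕ) : ℤ) : ℂ) := by
        rw [Int.cast_natCast, ← hso4]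
        apply Finset.sum_congr rfl
        intro χ _
        rw [hct χ]
        simp only [Int.cast_pow, map_intCast]
        ring
      exact_mod_cast this
    have H4 : 1 + c ψ₁ ^ 2 + c ψ₂ ^ 2 + c ψ₃ ^ 2 + c ψ₄ ^ 2 ≤ (Ct : ℤ) := by
      have := Finset.sum_le_sum_of_subset_of_nonneg (Finset.subset_univ T)
        (f := fun χ => c χ ^ 2) (fun χ _ _ => sq_nonneg (c χ))
      rw [hTsum, hE4, hc1] at this
      linarith
    -- E3: class multiplication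
    obtain ⟨cl, hcldef⟩ : ∃ cl : ℕ, cl = Nat.card {y : G // IsConj t y} := ⟨_, rfl⟩
    have hclC : cl * Ct = 720 := by
      have h1 := Helper74.card_isConj_mul_card_centralizer t
      have h2 : Nat.card {y : G // IsConj y t} = cl := by
        rw [hcldef]
        exact Nat.card_congr (Equiv.subtypeEquivRight (fun y => isConj_comm))
      rw [h2, h, ← hCt] at h1
      exact h1
    have hm := Cfsg.Agent.S0840.result t t x
    rw [hcountpairs, ← hcldef, finsum_eq_sum_of_fintype, hsplit _ (fun χ hχ => by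
      rw [hax χ, hχ]; simp)] at hm
    simp only [hct, hax, hdeg, ← hd₁, ← hd₂, ← hd₃, ← hd₄, map_intCast, h] at hm
    have hd₁0 : (d₁ : ℂ) ≠ 0 := by
      have := (hdprop ψ₁ hψ₁1).2.1
      rw [← hd₁] at this
      have : d₁ ≠ 0 := by omega
      exact_mod_cast this
    have hd₂0 : (d₂ : ℂ) ≠ 0 := by
      have := (hdprop ψ₂ hψ₂1).2.1
      rw [← hd₂] at this
      have : d₂ ≠ 0 := by omega
      exact_mod_cast this
    have hd₃0 : (d₃ : ℂ) ≠ 0 := by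
      have := (hdprop ψ₃ hψ₃1).2.1
      rw [← hd₃] at this
      have : d₃ ≠ 0 := by omega
      exact_mod_cast this
    have hd₄0 : (d₄ : ℂ) ≠ 0 := by
      have := (hdprop ψ₄ hψ₄1).2.1
      rw [← hd₄] at this
      have : d₄ ≠ 0 := by omega
      exact_mod_cast this
    rw [hc1, ha1, Exc.charDegree_principal] at hm
    push_cast at hm
    have hclCℂ : (cl : ℂ) * (Ct : ℂ) = 720 := by exact_mod_cast hclC
    obtain ⟨TT, hTT⟩ : ∃ TT : ℂ, TT = 1 + (c ψ₁ : ℂ) * (c ψ₁ : ℂ) * (a ψ₁ : ℂ) / (d₁ : ℂ)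
        + (c ψ₂ : ℂ) * (c ψ₂ : ℂ) * (a ψ₂ : ℂ) / (d₂ : ℂ)
        + (c ψ₃ : ℂ) * (c ψ₃ : ℂ) * (a ψ₃ : ℂ) / (d₃ : ℂ)
        + (c ψ₄ : ℂ) * (c ψ₄ : ℂ) * (a ψ₄ : ℂ) / (d₄ : ℂ) := ⟨_, rfl⟩
    have h720 : (720 : ℂ) ≠ 0 := by norm_num
    have hm1 : (5 : ℂ) * 720 = (cl : ℂ) * (cl : ℂ) * TT := by
      have e : (1 : ℂ) * 1 * 1 / 1 = 1 := by norm_num
      rw [e, ← hTT] at hm
      rw [hm]
      field_simp
    have hT : 5 * (Ct : ℂ) ^ 2 = 720 * TT := by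
      apply mul_left_cancel₀ h720
      linear_combination (Ct : ℂ) ^ 2 * hm1 + (TT * ((cl : ℂ) * (Ct : ℂ) + 720)) * hclCℂ
    have H3C : (5 : ℂ) * (Ct : ℂ) ^ 2 * (((a ψ₁ : ℂ) * (d₁ : ℂ)) * ((a ψ₂ : ℂ) * (d₂ : ℂ))
          * ((a ψ₃ : ℂ) * (d₃ : ℂ)) * ((a ψ₄ : ℂ) * (d₄ : ℂ)))
        = 720 * ((((a ψ₁ : ℂ) * (d₁ : ℂ)) * ((a ψ₂ : ℂ) * (d₂ : ℂ))
          * ((a ψ₃ : ℂ) * (d₃ : ℂ)) * ((a ψ₄ : ℂ) * (d₄ : ℂ)))
          + ((a ψ₁ : ℂ) * (c ψ₁ : ℂ)) ^ 2 * (((a ψ₂ : ℂ) * (d₂ : ℂ))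
            * ((a ψ₃ : ℂ) * (d₃ : ℂ)) * ((a ψ₄ : ℂ) * (d₄ : ℂ)))
          + ((a ψ₂ : ℂ) * (c ψ₂ : ℂ)) ^ 2 * (((a ψ₁ : ℂ) * (d₁ : ℂ))
            * ((a ψ₃ : ℂ) * (d₃ : ℂ)) * ((a ψ₄ : ℂ) * (d₄ : ℂ)))
          + ((a ψ₃ : ℂ) * (c ψ₃ : ℂ)) ^ 2 * (((a ψ₁ : ℂ) * (d₁ : ℂ))
            * ((a ψ₂ : ℂ) * (d₂ : ℂ)) * ((a ψ₄ : ℂ) * (d₄ : ℂ)))
          + ((a ψ₄ : ℂ) * (c ψ₄ : ℂ)) ^ 2 * (((a ψ₁ : ℂ) * (d₁ : ℂ))
            * ((a ψ₂ : ℂ) * (d₂ : ℂ)) * ((a ψ₃ : ℂ) * (d₃ : ℂ)))) := by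
      rw [hT, hTT]
      field_simp
    have H3 : 5 * (Ct : ℤ) ^ 2 * ((a ψ₁ * (d₁ : ℤ)) * (a ψ₂ * (d₂ : ℤ))
          * (a ψ₃ * (d₃ : ℤ)) * (a ψ₄ * (d₄ : ℤ)))
        = 720 * (((a ψ₁ * (d₁ : ℤ)) * (a ψ₂ * (d₂ : ℤ))
          * (a ψ₃ * (d₃ : ℤ)) * (a ψ₄ * (d₄ : ℤ)))
          + (a ψ₁ * c ψ₁) ^ 2 * ((a ψ₂ * (d₂ : ℤ))
            * (a ψ₃ * (d₃ : ℤ)) * (a ψ₄ * (d₄ : ℤ)))
          + (a ψ₂ * c ψ₂) ^ 2 * ((a ψ₁ * (d₁ : ℤ))
            * (a ψ₃ * (d₃ : ℤ)) * (a ψ₄ * (d₄ : ℤ)))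
          + (a ψ₃ * c ψ₃) ^ 2 * ((a ψ₁ * (d₁ : ℤ))
            * (a ψ₂ * (d₂ : ℤ)) * (a ψ₄ * (d₄ : ℤ)))
          + (a ψ₄ * c ψ₄) ^ 2 * ((a ψ₁ * (d₁ : ℤ))
            * (a ψ₂ * (d₂ : ℤ)) * (a ψ₃ * (d₃ : ℤ)))) := by
      exact_mod_cast H3C
    have hsq : ∀ ψ : IrrCharacter G, (a ψ = 1 ∨ a ψ = -1) → (a ψ * c ψ) ^ 2 = c ψ ^ 2 := by
      intro ψ hψ
      rcases hψ with h | h <;> rw [h] <;> ring
    have H4' : 1 + (a ψ₁ * c ψ₁) ^ 2 + (a ψ₂ * c ψ₂) ^ 2 + (a ψ₃ * c ψ₃) ^ 2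
        + (a ψ₄ * c ψ₄) ^ 2 ≤ (Ct : ℤ) := by
      rw [hsq ψ₁ ha₁, hsq ψ₂ ha₂, hsq ψ₃ ha₃, hsq ψ₄ ha₄]
      exact H4
    have hL : ∀ ψ : IrrCharacter G, ψ ≠ Helper79.principalIrr G → (a ψ = 1 ∨ a ψ = -1) →
        ∀ d : ℕ, d = charDegree (ψ : G → ℂ) → a ψ * (d : ℤ) ∈ Lc720 ∧ a ψ * c ψ ∈ Rc (a ψ * (d : ℤ)) := by
      intro ψ hψ1 hψa d hd
      have hp := hdprop ψ hψ1
      have hmd := hmod ψ
      have h0' := h0 ψ
      have h1' := h1 ψ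
      rw [← hd] at hp hmd h0' h1'
      exact ⟨mem_Lc720 (a ψ) hψa d hp.1 hp.2.1 hp.2.2 hmd,
        mem_Rc (a ψ) hψa d (m0 ψ) (m1 ψ) (c ψ) h0' h1'⟩
    exact arith720 (a ψ₁ * (d₁ : ℤ)) (a ψ₂ * (d₂ : ℤ)) (a ψ₃ * (d₃ : ℤ)) (a ψ₄ * (d₄ : ℤ))
      (a ψ₁ * c ψ₁) (a ψ₂ * c ψ₂) (a ψ₃ * c ψ₃) (a ψ₄ * c ψ₄) Ct
      (hL ψ₁ hψ₁1 ha₁ d₁ hd₁).1 (hL ψ₂ hψ₂1 ha₂ d₂ hd₂).1 (hL ψ₃ hψ₃1 ha₃ d₃ hd₃).1
      (hL ψ₄ hψ₄1 ha₄ d₄ hd₄).1
      (hL ψ₁ hψ₁1 ha₁ d₁ hd₁).2 (hL ψ₂ hψ₂1 ha₂ d₂ hd₂).2 (hL ψ₃ hψ₃1 ha₃ d₃ hd₃).2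
      (hL ψ₄ hψ₄1 ha₄ d₄ hd₄).2 H1 H2 H3 H4'

end MainC2

end Cfsg.Agent.Helper20.Ord720
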