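import Cfsg.Agent.Helper78.PsuII.Stmts

/-!
# S2089 block II, part A (architect helper78), piece (AH) `hFacts` (helper20):
the lifted torus `H̃`: elements above `H` normalise `L̃_i` and `Ũ`, centralise `H̃_i`; `H̃` is abelian and lies above `H`.
-/

set_option autoImplicit false
set_option linter.unusedSectionVars false
set_option linter.unusedVariables false

namespace Cfsg.Agent.Helper20.PsuII

open Cfsg.Agent.Helper43.PsuM Cfsg.Agent.Helper78.PsuII

universe u

/-- if `h X h⁻¹ ⊆ X` elementwise then `cj h X ≤ X` -/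
theorem AH_cj_le {G : Type*} [Group G] {h : G} {X : Subgroup G}
    (hX : ∀ x ∈ X, h * x * h⁻¹ ∈ X) : cj h X ≤ X := by
  intro a ha
  rw [mem_cj_iff] at ha
  have h1 := hX _ ha
  have h2 : h * (h⁻¹ * a * h) * h⁻¹ = a := by group
  rwa [h2] at h1

section lift

variable {Γ G : Type u} [Group Γ] [Group G] [Finite Γ] {r : ℕ} (τ : Γ →* G)
  (hτ : Function.Surjective τ) (hc : τ.ker ≤ Subgroup.center Γ) (p : ℕ) [Fact p.Prime]
  (hcop : (Nat.card τ.ker).Coprime p) (D : RData G r) (hD : D.IsSplit p) (hG : GFacts D p)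

include hτ hc hcop hD hG

/-- (AH) `norm`: `hLF.conj_Lt g i i (Or.inl ⟨H_X, H_Y⟩)`; `cent`: `g b g⁻¹ b⁻¹ ∈ L̃_i` (`norm`) maps to `1` (`H_comm`), so it
is `1` (`hLF.inj`); `norm_U`: `hLF.conj_plift` with `H_U`; `map_le`: `iSup_le`; `comm`: `Subgroup.iSup_induction` on `b` with
`cent` (the centraliser of `a` is a subgroup) -/
theorem hFacts (hLF : LFacts τ p D) : HFacts τ p D := by
  have hnorm : ∀ g : Γ, τ g ∈ D.H → ∀ i, ∀ a ∈ Lt τ p D i, g * a * g⁻¹ ∈ Lt τ p D i := by
    intro g hg i a ha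
    exact hLF.conj_Lt g i i
      (Or.inl ⟨AH_cj_le (hD.H_X i (τ g) hg), AH_cj_le (hG.H_Y i (τ g) hg)⟩) a ha
  have hcent : ∀ g : Γ, τ g ∈ D.H → ∀ i, ∀ b ∈ Hit τ p D i, g * b = b * g := by
    intro g hg i b hb
    have hbL : b ∈ Lt τ p D i := hb.1
    have hbH : τ b ∈ D.H := hb.2
    have h1 : g * b * g⁻¹ * b⁻¹ ∈ Lt τ p D i :=
      mul_mem (hnorm g hg i b hbL) (inv_mem hbL)
    have h2 : τ (g * b * g⁻¹ * b⁻¹) = 1 := by
      rw [map_mul, map_mul, map_mul, map_inv, map_inv, hD.H_comm _ hg _ hbH]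
      group
    have h3 := hLF.inj i _ h1 h2
    calc g * b = (g * b * g⁻¹ * b⁻¹) * (b * g) := by group
      _ = b * g := by rw [h3, one_mul]
  have hmap : ∀ g ∈ Ht τ p D, τ g ∈ D.H := by
    have hle : Ht τ p D ≤ D.H.comap τ := by
      unfold Ht
      exact iSup_le fun i => inf_le_right
    intro g hg
    exact hle hg
  refine ⟨hnorm, hcent, ?_, hmap, ?_⟩
  · intro g hg u hu
    exact hLF.conj_plift D.U D.U hD.pU hD.pU g (AH_cj_le (hD.H_U (τ g) hg)) u hu
  · intro a ha b hb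
    have hle : Ht τ p D ≤ Subgroup.centralizer {a} := by
      unfold Ht
      refine iSup_le fun i => ?_
      intro c hc'
      rw [Subgroup.mem_centralizer_iff]
      intro x hx
      rw [Set.mem_singleton_iff] at hx
      subst hx
      exact hcent x (hmap x ha) i c hc'
    have := hle hb
    rw [Subgroup.mem_centralizer_iff] at this
    exact this a (Set.mem_singleton a)

end lift

end Cfsg.Agent.Helper20.PsuII
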