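import Cfsg.Agent.Helper20.PsuIo_OIDX1core
import Cfsg.Agent.Helper55.PsuIo_OMAT
import Cfsg.Agent.Helper55.PsuIo_OQ
import Cfsg.Agent.Helper80.PsuIo_OZ
import Cfsg.Agent.Helper52.PsuIo_OAR1
import Cfsg.Agent.Helper57.PsuIo_OH
import Cfsg.Agent.Helper57.PsuIo_OCONJ
import Cfsg.Agent.Helper33.PsuM_AI

/-!
# S2089 block I-odd MODEL (sub-architect helper58), piece (OIDX1) `pow_dvd_card_Usub` (helper20)

Wiring of `OIDX1_core` (file `PsuIo_OIDX1core`) to the landed pieces (OMAT), (OQ) of helper55, (OZ) of helper80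
(with its copies of (OQS1), (OQS3)), (OAR0) of helper52, (OH1), (OCONJ1) of helper57; (ONORM4) is proved locally
from (OCONJ1) and `Ev.mem_Ssub_iff`.
-/

set_option autoImplicit false
set_option linter.unusedSectionVars false

namespace Cfsg.Agent.Helper20.PsuIo

open Matrix
open scoped commutatorElement
open Cfsg.Agent.Helper43.PsuM Cfsg.Agent.Helper58.PsuIo.Od

universe u

variable {F : Type*} [Field F] {m : ℕ} {σ : F →+* F}

/-- local copy of (ONORM4) -/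
theorem OIDX1_Lsub_normalizes_Qsub (hσ : ∀ x, σ (σ x) = x) :
    ∀ s ∈ (Ev.Ssub m σ).map (emb σ), ∀ x ∈ Qsub m σ, s * x * s⁻¹ ∈ Qsub m σ := by
  rintro s ⟨u, hu, rfl⟩ x hx
  obtain ⟨A, rfl⟩ := (Cfsg.Agent.Helper33.PsuM.mem_Ssub_iff hσ u).mp hu
  obtain ⟨y, B, hQ, rfl⟩ := (Cfsg.Agent.Helper80.PsuIo.OZ_mem_Qsub_iff hσ x).mp hx
  obtain ⟨hQ', heq⟩ := Cfsg.Agent.Helper57.PsuIo.iO_conj_qO hσ A hQ
  have heq' : emb σ (Ev.iE σ A) * qO σ y B * (emb σ (Ev.iE σ A))⁻¹ =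
      qO σ (A.1 *ᵥ y) (A.1 * B * (A.1.map σ)ᵀ) := heq
  rw [heq']
  exact (Cfsg.Agent.Helper80.PsuIo.OZ_mem_Qsub_iff hσ _).mpr ⟨_, _, hQ', rfl⟩

section finite

variable {K : Type u} [Field K] [Fintype K] {q : ℕ} {σ : K →+* K}

/-- (OIDX1) `|Usub| = |Qsub| * |USsub|` (`Qsub_inf_USsub`, `USsub` normalises `Qsub`), `|Ev.Usub| = |Ev.Qsub| * |Ev.USsub|`
(`Ev.Qsub_inf_Ssub`, `Ev.USsub_le_Ssub`), `|USsub| = |Ev.USsub|`, `|Zsub| = |Ev.Qsub|` (`emb_injective`) and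
`|Qsub| = (q ^ 2) ^ m * |Zsub|`: `g ↦ y`-part (`fun i => mat g (Sum.inl (Sum.inl i)) (Sum.inr ())`) is a homomorphism from
`Qsub` onto `Fin m → K` (`qO_mul`, `exists_QP`) with kernel `Zsub`. -/
theorem pow_dvd_card_Usub (hK : Fintype.card K = q ^ 2) (hσq : ∀ x, σ x = x ^ q)
    (hUe : q ^ (m * (2 * m - 1)) ∣ Nat.card (Ev.Usub m σ)) :
    q ^ (m * (2 * m + 1)) ∣ Nat.card (Usub m σ) := by
  have hσ : ∀ x, σ (σ x) = x := by
    intro x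
    rw [hσq, hσq, ← pow_mul, ← sq, ← hK, FiniteField.pow_card]
  obtain ⟨θ, hθ⟩ := Cfsg.Agent.Helper52.PsuIo.exists_theta hK hσq
  exact OIDX1_core
    (fun h => Cfsg.Agent.Helper55.PsuIo.mat_qO hσ h)
    (fun h h' => Cfsg.Agent.Helper55.PsuIo.QP_mul hσ h h')
    (fun h h' => Cfsg.Agent.Helper55.PsuIo.qO_mul hσ h h')
    (fun g => Cfsg.Agent.Helper80.PsuIo.OZ_mem_Qsub_iff hσ g)
    (fun y => ⟨_, Cfsg.Agent.Helper80.PsuIo.OZ_exists_QP hσ hθ y⟩)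
    (fun B => Cfsg.Agent.Helper80.PsuIo.QP_zero_left B)
    (fun g => Cfsg.Agent.Helper80.PsuIo.mem_Zsub_iff hσ g)
    Cfsg.Agent.Helper57.PsuIo.emb_injective
    (OIDX1_Lsub_normalizes_Qsub hσ)
    (Cfsg.Agent.Helper33.PsuM.USsub_le_Ssub hσ)
    hK hUe

end finite

end Cfsg.Agent.Helper20.PsuIo
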