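import Mathlib
import Cfsg.Agent.Helper58.PsuIo.OdDefs
import Cfsg.Agent.Helper33.PsuM_AI

/-!
# S2089 block I-odd MODEL (sub-architect helper58), piece (OIDX1), core (helper20)

`|Usub| = (q ^ 2) ^ m * |Ev.Usub|` for the model `SUo m σ` of `SU_{2m+1}(q)`, from the API lemmas of the skeleton
`tools/helper58_psuIo/OdSkel.lean.txt`, taken here as explicit hypotheses (so that this file does not depend on the
order in which the other pieces land).  The `y`-part `g ↦ (mat g e_i w)_i` is a homomorphism from `Qsub` onto `K^m`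
with kernel `Zsub`; `V = emb (Ev.Usub)` normalises `Qsub`, `Qsub ⊓ V = Zsub`, `Qsub ⊔ V = Usub`.
-/

set_option autoImplicit false
set_option linter.unusedSectionVars false

namespace Cfsg.Agent.Helper20.PsuIo

open Matrix
open Cfsg.Agent.Helper43.PsuM Cfsg.Agent.Helper58.PsuIo.Od

universe u

/-- `|V ⊔ Q| |Q ⊓ V| = |Q| |V|` if `V` normalises `Q` -/
theorem OIDX1_card_sup {G : Type*} [Group G] (V Q : Subgroup G)
    (hnorm : V ≤ Subgroup.normalizer (Q : Set G)) :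
    Nat.card ↥(V ⊔ Q) * Nat.card ↥(Q ⊓ V) = Nat.card Q * Nat.card V := by
  haveI := Subgroup.normal_subgroupOf_of_le_normalizer hnorm
  haveI := Subgroup.normal_subgroupOf_sup_of_le_normalizer hnorm
  have e1 := QuotientGroup.quotientInfEquivProdNormalizerQuotient V Q hnorm
  have hc1 : Nat.card ↥V = Nat.card (↥V ⧸ Q.subgroupOf V) * Nat.card (Q.subgroupOf V) :=
    Subgroup.card_eq_card_quotient_mul_card_subgroup _
  have hc2 : Nat.card ↥(V ⊔ Q) =
      Nat.card (↥(V ⊔ Q) ⧸ Q.subgroupOf (V ⊔ Q)) * Nat.card (Q.subgroupOf (V ⊔ Q)) :=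
    Subgroup.card_eq_card_quotient_mul_card_subgroup _
  have hc3 : Nat.card (Q.subgroupOf (V ⊔ Q)) = Nat.card Q :=
    Nat.card_congr (Subgroup.subgroupOfEquivOfLe le_sup_right).toEquiv
  have hc4 : Nat.card (Q.subgroupOf V) = Nat.card ↥(Q ⊓ V) := by
    rw [← Subgroup.inf_subgroupOf_right]
    exact Nat.card_congr (Subgroup.subgroupOfEquivOfLe inf_le_right).toEquiv
  have hc5 : Nat.card (↥V ⧸ Q.subgroupOf V) = Nat.card (↥(V ⊔ Q) ⧸ Q.subgroupOf (V ⊔ Q)) :=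
    Nat.card_congr e1.toEquiv
  rw [hc2, hc3, hc1, hc4, hc5]
  ring

variable {K : Type u} [Field K] [Fintype K] {q : ℕ} {σ : K →+* K} {m : ℕ}

/-- the `y`-part of an element -/
def OIDX1_ypart (g : SUo m σ) : Fin m → K := fun i => mat g (Sum.inl (Sum.inl i)) (Sum.inr ())

theorem OIDX1_ypart_qM (y : Fin m → K) (B : Matrix (Fin m) (Fin m) K) (i : Fin m) :
    qM σ y B (Sum.inl (Sum.inl i)) (Sum.inr ()) = y i := by
  simp [qM, colE]

theorem OIDX1_ypart_one : OIDX1_ypart (1 : SUo m σ) = 0 := by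
  funext i
  show mat (1 : SUo m σ) (Sum.inl (Sum.inl i)) (Sum.inr ()) = 0
  rw [mat_one, Matrix.one_apply_ne (by simp)]

theorem OIDX1_ypart_emb (u : Ev.SUe m σ) : OIDX1_ypart (emb σ u) = 0 := by
  funext i
  show mat (emb σ u) (Sum.inl (Sum.inl i)) (Sum.inr ()) = 0
  rw [mat_emb]
  simp [embM]

section core

variable
  (h_mat_qO : ∀ {y : Fin m → K} {B : Matrix (Fin m) (Fin m) K}, QP σ y B →
    mat (qO σ y B) = qM σ y B)
  (h_QP_mul : ∀ {y y' : Fin m → K} {B B' : Matrix (Fin m) (Fin m) K}, QP σ y B → QP σ y' B' →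
    QP σ (y + y') (B + B' - Matrix.vecMulVec y (fun j => σ (y' j))))
  (h_qO_mul : ∀ {y y' : Fin m → K} {B B' : Matrix (Fin m) (Fin m) K}, QP σ y B → QP σ y' B' →
    qO σ y B * qO σ y' B' = qO σ (y + y') (B + B' - Matrix.vecMulVec y (fun j => σ (y' j))))
  (h_mem_Qsub : ∀ g : SUo m σ, g ∈ Qsub m σ ↔
    ∃ (y : Fin m → K) (B : Matrix (Fin m) (Fin m) K), QP σ y B ∧ g = qO σ y B)
  (h_exists_QP : ∀ y : Fin m → K, ∃ B : Matrix (Fin m) (Fin m) K, QP σ y B)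
  (h_QP_zero_left : ∀ B : Matrix (Fin m) (Fin m) K, QP σ (0 : Fin m → K) B ↔ B ∈ Ev.SkewH m σ)
  (h_mem_Zsub : ∀ g : SUo m σ, g ∈ Zsub m σ ↔ ∃ B ∈ Ev.SkewH m σ, g = qO σ 0 B)
  (h_emb_inj : Function.Injective (emb (m := m) σ))
  (h_Lnorm : ∀ s ∈ (Ev.Ssub m σ).map (emb σ), ∀ x ∈ Qsub m σ, s * x * s⁻¹ ∈ Qsub m σ)
  (h_US_le : Ev.USsub m σ ≤ Ev.Ssub m σ)

include h_mat_qO in
theorem OIDX1_ypart_qO {y : Fin m → K} {B : Matrix (Fin m) (Fin m) K} (h : QP σ y B) :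
    OIDX1_ypart (qO σ y B) = y := by
  funext i
  show mat (qO σ y B) (Sum.inl (Sum.inl i)) (Sum.inr ()) = y i
  rw [h_mat_qO h, OIDX1_ypart_qM]

include h_mat_qO h_QP_mul h_qO_mul h_mem_Qsub in
theorem OIDX1_ypart_mul {g h : SUo m σ} (hg : g ∈ Qsub m σ) (hh : h ∈ Qsub m σ) :
    OIDX1_ypart (g * h) = OIDX1_ypart g + OIDX1_ypart h := by
  obtain ⟨y, B, hQ, rfl⟩ := (h_mem_Qsub g).mp hg
  obtain ⟨y', B', hQ', rfl⟩ := (h_mem_Qsub h).mp hh
  rw [h_qO_mul hQ hQ', OIDX1_ypart_qO h_mat_qO (h_QP_mul hQ hQ'), OIDX1_ypart_qO h_mat_qO hQ,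
    OIDX1_ypart_qO h_mat_qO hQ']

include h_mem_Qsub h_QP_zero_left h_mem_Zsub in
theorem OIDX1_Zsub_le_Qsub : Zsub m σ ≤ Qsub m σ := by
  intro g hg
  obtain ⟨B, hB, rfl⟩ := (h_mem_Zsub g).mp hg
  exact (h_mem_Qsub _).mpr ⟨0, B, (h_QP_zero_left B).mpr hB, rfl⟩

include h_mat_qO h_mem_Qsub h_QP_zero_left h_mem_Zsub in
/-- the kernel of the `y`-part on `Qsub` is `Zsub` -/
theorem OIDX1_mem_Zsub_iff' {g : SUo m σ} (hg : g ∈ Qsub m σ) :
    g ∈ Zsub m σ ↔ OIDX1_ypart g = 0 := by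
  constructor
  · intro hz
    obtain ⟨B, hB, rfl⟩ := (h_mem_Zsub g).mp hz
    exact OIDX1_ypart_qO h_mat_qO ((h_QP_zero_left B).mpr hB)
  · intro h0
    obtain ⟨y, B, hQ, rfl⟩ := (h_mem_Qsub g).mp hg
    rw [OIDX1_ypart_qO h_mat_qO hQ] at h0
    subst h0
    exact (h_mem_Zsub _).mpr ⟨B, (h_QP_zero_left B).mp hQ, rfl⟩

include h_mat_qO h_QP_mul h_qO_mul h_mem_Qsub in
/-- the `y`-part as a homomorphism on `Qsub` -/
noncomputable def OIDX1_phi : ↥(Qsub m σ) →* Multiplicative (Fin m → K) where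
  toFun g := Multiplicative.ofAdd (OIDX1_ypart g.1)
  map_one' := by
    show Multiplicative.ofAdd (OIDX1_ypart (1 : SUo m σ)) = 1
    rw [OIDX1_ypart_one]
    rfl
  map_mul' g h := by
    show Multiplicative.ofAdd (OIDX1_ypart (g.1 * h.1)) = _
    rw [OIDX1_ypart_mul h_mat_qO h_QP_mul h_qO_mul h_mem_Qsub g.2 h.2]
    rfl

include h_mat_qO h_QP_mul h_qO_mul h_mem_Qsub h_exists_QP h_QP_zero_left h_mem_Zsub in
/-- `|Qsub| = |Zsub| (q^2)^m` -/
theorem OIDX1_card_Qsub (hK : Fintype.card K = q ^ 2) :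
    Nat.card (Qsub m σ) = (q ^ 2) ^ m * Nat.card (Zsub m σ) := by
  set φ := OIDX1_phi h_mat_qO h_QP_mul h_qO_mul h_mem_Qsub with hφ
  have hφ_apply : ∀ g : ↥(Qsub m σ), φ g = Multiplicative.ofAdd (OIDX1_ypart g.1) := fun _ => rfl
  have hsurj : Function.Surjective φ := by
    intro y
    obtain ⟨B, hB⟩ := h_exists_QP (Multiplicative.toAdd y)
    refine ⟨⟨qO σ (Multiplicative.toAdd y) B, (h_mem_Qsub _).mpr ⟨_, B, hB, rfl⟩⟩, ?_⟩
    rw [hφ_apply]
    show Multiplicative.ofAdd (OIDX1_ypart (qO σ (Multiplicative.toAdd y) B)) = y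
    rw [OIDX1_ypart_qO h_mat_qO hB]
    rfl
  have hZQ : Zsub m σ ≤ Qsub m σ := OIDX1_Zsub_le_Qsub h_mem_Qsub h_QP_zero_left h_mem_Zsub
  have hker : φ.ker = (Zsub m σ).subgroupOf (Qsub m σ) := by
    ext g
    rw [MonoidHom.mem_ker, Subgroup.mem_subgroupOf,
      OIDX1_mem_Zsub_iff' h_mat_qO h_mem_Qsub h_QP_zero_left h_mem_Zsub g.2, hφ_apply]
    constructor
    · intro h
      exact h
    · intro h
      exact h
  have h1 : Nat.card (Qsub m σ) = Nat.card (↥(Qsub m σ) ⧸ φ.ker) * Nat.card φ.ker :=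
    Subgroup.card_eq_card_quotient_mul_card_subgroup _
  have h2 : Nat.card (↥(Qsub m σ) ⧸ φ.ker) = (q ^ 2) ^ m := by
    rw [Nat.card_congr (QuotientGroup.quotientKerEquivOfSurjective φ hsurj).toEquiv]
    show Nat.card (Fin m → K) = _
    rw [Nat.card_fun, Nat.card_eq_fintype_card (α := Fin m), Fintype.card_fin,
      Nat.card_eq_fintype_card (α := K), hK]
  have h3 : Nat.card φ.ker = Nat.card (Zsub m σ) := by
    rw [hker]
    exact Nat.card_congr (Subgroup.subgroupOfEquivOfLe hZQ).toEquiv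
  rw [h1, h2, h3]

include h_mat_qO h_QP_mul h_qO_mul h_mem_Qsub h_exists_QP h_QP_zero_left h_mem_Zsub h_emb_inj
  h_Lnorm h_US_le in
/-- `|Usub| = (q^2)^m |Ev.Usub|` -/
theorem OIDX1_card_Usub (hK : Fintype.card K = q ^ 2) :
    Nat.card (Usub m σ) = (q ^ 2) ^ m * Nat.card (Ev.Usub m σ) := by
  have hZQ : Zsub m σ ≤ Qsub m σ := OIDX1_Zsub_le_Qsub h_mem_Qsub h_QP_zero_left h_mem_Zsub
  set V : Subgroup (SUo m σ) := (Ev.Usub m σ).map (emb σ) with hV
  have hVeq : V = Zsub m σ ⊔ USsub m σ := by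
    rw [hV]
    unfold Ev.Usub Zsub USsub
    exact Subgroup.map_sup _ _ _
  -- `V` normalises `Qsub`
  have hnorm : V ≤ Subgroup.normalizer (Qsub m σ : Set (SUo m σ)) := by
    rw [hVeq]
    refine sup_le (hZQ.trans Subgroup.le_normalizer) ?_
    intro s hs
    have hs' : s ∈ (Ev.Ssub m σ).map (emb σ) := by
      unfold USsub at hs
      exact Subgroup.map_mono h_US_le hs
    rw [Subgroup.mem_normalizer_iff]
    intro x
    constructor
    · intro hx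
      exact h_Lnorm s hs' x hx
    · intro hx
      have h1 := h_Lnorm s⁻¹ (inv_mem hs') _ hx
      have e : s⁻¹ * (s * x * s⁻¹) * s⁻¹⁻¹ = x := by group
      rw [e] at h1
      exact h1
  -- `V ⊔ Qsub = Usub`
  have hsup : V ⊔ Qsub m σ = Usub m σ := by
    rw [hVeq]
    unfold Usub
    apply le_antisymm
    · exact sup_le (sup_le (hZQ.trans le_sup_left) le_sup_right) le_sup_left
    · exact sup_le le_sup_right (le_sup_right.trans le_sup_left)
  -- `Qsub ⊓ V = Zsub`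
  have hinf : Qsub m σ ⊓ V = Zsub m σ := by
    apply le_antisymm
    · rintro g ⟨hgQ, hgV⟩
      obtain ⟨u, _, rfl⟩ := hgV
      exact (OIDX1_mem_Zsub_iff' h_mat_qO h_mem_Qsub h_QP_zero_left h_mem_Zsub hgQ).mpr
        (OIDX1_ypart_emb u)
    · refine le_inf hZQ ?_
      rw [hVeq]
      exact le_sup_left
  have hcV : Nat.card V = Nat.card (Ev.Usub m σ) := by
    rw [hV]
    exact Subgroup.card_map_of_injective h_emb_inj
  have hmain := OIDX1_card_sup V (Qsub m σ) hnorm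
  rw [hsup, hinf, hcV,
    OIDX1_card_Qsub h_mat_qO h_QP_mul h_qO_mul h_mem_Qsub h_exists_QP h_QP_zero_left h_mem_Zsub hK]
    at hmain
  have hpos : 0 < Nat.card (Zsub m σ) := Nat.card_pos
  have h2 : Nat.card (Zsub m σ) * Nat.card (Usub m σ) =
      Nat.card (Zsub m σ) * ((q ^ 2) ^ m * Nat.card (Ev.Usub m σ)) := by
    rw [mul_comm, hmain]
    ring
  exact Nat.eq_of_mul_eq_mul_left hpos h2

theorem OIDX1_arith (m : ℕ) : m * (2 * m + 1) = 2 * m + m * (2 * m - 1) := by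
  cases m with
  | zero => simp
  | succ k =>
    have h2 : 2 * (k + 1) - 1 = 2 * k + 1 := by omega
    rw [h2]
    ring

include h_mat_qO h_QP_mul h_qO_mul h_mem_Qsub h_exists_QP h_QP_zero_left h_mem_Zsub h_emb_inj
  h_Lnorm h_US_le in
/-- (OIDX1), from the API of the skeleton -/
theorem OIDX1_core (hK : Fintype.card K = q ^ 2)
    (hUe : q ^ (m * (2 * m - 1)) ∣ Nat.card (Ev.Usub m σ)) :
    q ^ (m * (2 * m + 1)) ∣ Nat.card (Usub m σ) := by
  rw [OIDX1_card_Usub h_mat_qO h_QP_mul h_qO_mul h_mem_Qsub h_exists_QP h_QP_zero_left h_mem_Zsub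
    h_emb_inj h_Lnorm h_US_le hK, OIDX1_arith, pow_add, pow_mul]
  exact Nat.mul_dvd_mul_left _ hUe

end core

end Cfsg.Agent.Helper20.PsuIo
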