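-- helper20: piece (XU1) of helper46's S2281 (n ≥ 3) design: the commutator `[g, u] = X`.
import Mathlib
import Cfsg.Agent.Helper46.RSp.Defs
import Cfsg.Agent.Helper67.RSpUWA2

set_option autoImplicit false
set_option linter.unusedSectionVars false
set_option linter.unusedVariables false

namespace Cfsg.Agent.Helper20.RSp

open Matrix Cfsg.Agent.Helper13 Cfsg.Agent.Helper46.RSp

variable {K : Type*} [Field K] {j : ℕ}

local notation "Vec" => (Fin (j + 3) ⊕ Fin (j + 3) → K)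
local notation "Mat" => Matrix (Fin (j + 3) ⊕ Fin (j + 3)) (Fin (j + 3) ⊕ Fin (j + 3)) K
local notation "Mk" => Matrix (Fin (j + 3)) (Fin (j + 3)) K
local notation "SpG" => Matrix.symplecticGroup (Fin (j + 3)) K
local notation "B" => Cfsg.sympForm (j + 3) K

theorem i2_ne_i1 : (i2 : Fin (j + 3)) ≠ i1 := by
  simp [i1, i2, Fin.ext_iff]
theorem i3_ne_i1 : (i3 : Fin (j + 3)) ≠ i1 := by
  simp [i1, i3, Fin.ext_iff]
theorem i3_ne_i2 : (i3 : Fin (j + 3)) ≠ i2 := by
  simp [i2, i3, Fin.ext_iff]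

theorem pE_i3 : (pE i3 : Vec) = bE i2 + bE i3 := by
  funext x
  rcases x with i | i
  · simp only [pE, Pi.add_apply, bE_apply_inl]
    by_cases h2 : i = i2
    · subst h2
      simp [i2, i3, Fin.ext_iff]
    · by_cases h3 : i = i3
      · subst h3
        simp [i2, i3, Fin.ext_iff]
      · rw [if_neg h2, if_neg h3, if_neg]
        · simp
        · simp only [i2, i3, Fin.ext_iff] at h2 h3
          simp only [i3]
          omega
  · simp [pE, bE_apply_inr]

theorem A12M_bE1 : (A12M : Mat) *ᵥ (bE i1 : Vec) = bE i1 := by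
  rw [A12M, eichS_mulVec, sympForm_self, sympForm_neg_right, form_bF_right, bE_apply_inl,
    if_neg i2_ne_i1]
  simp

theorem A12M_bE3 : (A12M : Mat) *ᵥ (bE i3 : Vec) = bE i3 := by
  rw [A12M, eichS_mulVec, sympForm_neg_right, form_bF_right, form_bE_right, bE_apply_inl,
    bE_apply_inr, if_neg i3_ne_i2.symm]
  simp

theorem coe_comm_g_u (c : K) (u g : SpG) (hu : (u : Mat) = uM c) (hg : (g : Mat) = gM) :
    ((g * u * g⁻¹ * u⁻¹ : SpG) : Mat) = XM := by
  have h1 : ((g * u * g⁻¹ * u⁻¹ : SpG) : Mat) =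
      (g : Mat) * ((u : Mat) * ((g⁻¹ : SpG) : Mat) * ((u⁻¹ : SpG) : Mat)) := by
    show (g : Mat) * (u : Mat) * ((g⁻¹ : SpG) : Mat) * ((u⁻¹ : SpG) : Mat) = _
    simp only [Matrix.mul_assoc]
  -- the inverse of `g`
  have e31 : B (bE i3 : Vec) (bE i1) = 0 := by rw [form_bE_right, bE_apply_inr]
  have hginv : ((g⁻¹ : SpG) : Mat) = eichS (bE i1) (bE i3) 0 := by
    have hmul : (gM : Mat) * eichS (bE i1) (bE i3) 0 = 1 := by
      rw [gM, eichS_mul _ _ (by rw [sympForm_neg_left, e31, neg_zero]) e31]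
      rw [neg_add_cancel, sympForm_neg_right, sympForm_self]
      simp [eichS_zero_zero]
    calc ((g⁻¹ : SpG) : Mat) = ((g⁻¹ : SpG) : Mat) * ((gM : Mat) * eichS (bE i1) (bE i3) 0) := by
          rw [hmul, Matrix.mul_one]
      _ = eichS (bE i1) (bE i3) 0 := by
          rw [← Matrix.mul_assoc, ← hg, coe_inv_mul, Matrix.one_mul]
  have hconj : (u : Mat) * ((g⁻¹ : SpG) : Mat) * ((u⁻¹ : SpG) : Mat) =
      eichS (bE i1) (bE i2 + bE i3) 0 := by
    rw [hginv, conj_eichS u.2 (coe_mul_inv u), hu, uM, ← Matrix.mulVec_mulVec, ← Matrix.mulVec_mulVec,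
      A12M_bE1, A12M_bE3, Cfsg.Agent.Helper67.RSp.UWM_bE1, Cfsg.Agent.Helper67.RSp.UWM_bE c i3 (by simp [i3]), pE_i3]
  rw [h1, hconj, hg, gM, XM]
  have e231 : B (bE i2 + bE i3 : Vec) (bE i1) = 0 := by
    rw [form_bE_right, Pi.add_apply, bE_apply_inr, bE_apply_inr, add_zero]
  rw [eichS_mul _ _ (by rw [sympForm_neg_left, e31, neg_zero]) e231]
  congr 1
  · abel
  · rw [sympForm_neg_right, form_bE_right, Pi.add_apply, bE_apply_inr, bE_apply_inr]
    simp

end Cfsg.Agent.Helper20.RSp
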