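-- helper20: piece (XU2) of helper46's S2281 (n ≥ 3) design: the conjugate `h u h⁻¹ = UW' Y`.
import Mathlib
import Cfsg.Agent.Helper46.RSp.Defs
import Cfsg.Agent.Helper67.RSpUWA1
import Cfsg.Agent.Helper67.RSpUWA2
import Cfsg.Agent.Helper22.RSpSMAT
import Cfsg.Agent.Helper20.RSpXU1

set_option autoImplicit false
set_option linter.unusedSectionVars false
set_option linter.unusedVariables false

namespace Cfsg.Agent.Helper20.RSp

open Matrix Cfsg.Agent.Helper13 Cfsg.Agent.Helper46.RSp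

variable {K : Type*} [Field K] {j : ℕ}

local notation "Vec" => (Fin (j + 3) ⊕ Fin (j + 3) → K)
local notation "Mat" => Matrix (Fin (j + 3) ⊕ Fin (j + 3)) (Fin (j + 3) ⊕ Fin (j + 3)) K
local notation "Mk" => Matrix (Fin (j + 3)) (Fin (j + 3)) K
local notation "SpG" => Matrix.symplecticGroup (Fin (j + 3)) K
local notation "B" => Cfsg.sympForm (j + 3) K

/-- `UW'` preserves the `f_1`-coordinate -/
theorem UWM_apply_inr1 (c : K) (x : Vec) : (UWM c *ᵥ x) (Sum.inr i1) = x (Sum.inr i1) := by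
  have hpres := (mem_symplecticGroup_iff_preserves (UWM c : Mat)).mp
    (Cfsg.Agent.Helper67.RSp.UWM_mem (j := j) c)
  have h := hpres x (bE i1)
  rw [Cfsg.Agent.Helper67.RSp.UWM_bE1, form_bE_right, form_bE_right] at h
  exact h

/-- `UW'` preserves the `e_1`-coordinate -/
theorem UWM_apply_inl1 (c : K) (x : Vec) : (UWM c *ᵥ x) (Sum.inl i1) = x (Sum.inl i1) := by
  have hpres := (mem_symplecticGroup_iff_preserves (UWM c : Mat)).mp
    (Cfsg.Agent.Helper67.RSp.UWM_mem (j := j) c)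
  have h := hpres x (bF i1)
  rw [Cfsg.Agent.Helper67.RSp.UWM_bF1, form_bF_right, form_bF_right] at h
  exact neg_injective h

/-- the Weyl element `s` as a sum -/
theorem sM_mulVec_eq (y : Vec) : (sM : Mat) *ᵥ y =
    y + (y (Sum.inl i1) - y (Sum.inr i1)) • bF i1 + (-y (Sum.inr i1) - y (Sum.inl i1)) • bE i1 := by
  rw [Cfsg.Agent.Helper22.RSp.sM_mulVec]
  funext z
  rcases z with i | i
  · by_cases hi : i = i1
    · subst hi
      simp [bE_apply_inl, bF_apply_inl]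
    · have h2 : (Sum.inl i : Fin (j + 3) ⊕ Fin (j + 3)) ≠ Sum.inl i1 := fun h => hi (Sum.inl.inj h)
      simp [bE_apply_inl, bF_apply_inl, hi]
  · by_cases hi : i = i1
    · subst hi
      simp [bE_apply_inr, bF_apply_inr]
    · have h2 : (Sum.inr i : Fin (j + 3) ⊕ Fin (j + 3)) ≠ Sum.inr i1 := fun h => hi (Sum.inr.inj h)
      simp [bE_apply_inr, bF_apply_inr, hi]

/-- `s` commutes with `UW'` -/
theorem sM_mul_UWM (c : K) : (sM : Mat) * UWM c = UWM c * sM := by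
  apply mat_ext_mulVec
  intro x
  rw [← Matrix.mulVec_mulVec, ← Matrix.mulVec_mulVec, sM_mulVec_eq (UWM c *ᵥ x), sM_mulVec_eq x,
    UWM_apply_inl1, UWM_apply_inr1, Matrix.mulVec_add, Matrix.mulVec_add, Matrix.mulVec_smul,
    Matrix.mulVec_smul, Cfsg.Agent.Helper67.RSp.UWM_bE1, Cfsg.Agent.Helper67.RSp.UWM_bF1]

/-- `t_{e_2,s₁}` commutes with `UW'` -/
theorem tM_mul_UWM (c s₁ : K) : eichS (bE i2 : Vec) 0 s₁ * UWM c = UWM c * eichS (bE i2 : Vec) 0 s₁ := by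
  set U : SpG := ⟨UWM c, Cfsg.Agent.Helper67.RSp.UWM_mem c⟩ with hU
  have hUc : (U : Mat) = UWM c := rfl
  have h1 := conj_eichS (G := UWM c) (G' := ((U⁻¹ : SpG) : Mat)) (Cfsg.Agent.Helper67.RSp.UWM_mem c)
    (by rw [← hUc]; exact coe_mul_inv U) (bE i2 : Vec) 0 s₁
  rw [Cfsg.Agent.Helper67.RSp.UWM_bE c i2 (by simp [i2]), Cfsg.Agent.Helper67.RSp.pE_i2,
    Matrix.mulVec_zero] at h1
  calc eichS (bE i2 : Vec) 0 s₁ * UWM c
      = (UWM c * eichS (bE i2 : Vec) 0 s₁ * ((U⁻¹ : SpG) : Mat)) * UWM c := by rw [h1]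
    _ = UWM c * eichS (bE i2 : Vec) 0 s₁ * (((U⁻¹ : SpG) : Mat) * (U : Mat)) := by
        rw [hUc]; simp only [Matrix.mul_assoc]
    _ = UWM c * eichS (bE i2 : Vec) 0 s₁ := by rw [coe_inv_mul, Matrix.mul_one]

/-- `h` commutes with `UW'` -/
theorem hM_mul_UWM (c s₁ : K) : (hM s₁ : Mat) * UWM c = UWM c * hM s₁ := by
  rw [hM, Matrix.mul_assoc, tM_mul_UWM, ← Matrix.mul_assoc, sM_mul_UWM, Matrix.mul_assoc]

theorem hM_bE1 (s₁ : K) : (hM s₁ : Mat) *ᵥ (bE i1 : Vec) = bF i1 := by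
  have h1 : eichS (bE i2 : Vec) 0 s₁ *ᵥ (bE i1 : Vec) = bE i1 := by
    rw [eichS_mulVec, form_bE_right, bE_apply_inr]
    simp
  rw [hM, ← Matrix.mulVec_mulVec, h1, sM_mulVec_eq, bE_apply_inl, bE_apply_inr, if_pos rfl]
  simp

theorem hM_bF2 (s₁ : K) : (hM s₁ : Mat) *ᵥ (-bF i2 : Vec) = -bF i2 - s₁ • bE i2 := by
  have h1 : eichS (bE i2 : Vec) 0 s₁ *ᵥ (-bF i2 : Vec) = -bF i2 - s₁ • bE i2 := by
    rw [eichS_mulVec, form_bE_right, Pi.neg_apply, bF_apply_inr, if_pos rfl]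
    simp [sub_eq_add_neg]
  rw [hM, ← Matrix.mulVec_mulVec, h1, sM_mulVec_eq]
  have e1 : (-bF i2 - s₁ • bE i2 : Vec) (Sum.inl i1) = 0 := by
    simp [bF_apply_inl, bE_apply_inl, i2_ne_i1.symm]
  have e2 : (-bF i2 - s₁ • bE i2 : Vec) (Sum.inr i1) = 0 := by
    simp [bF_apply_inr, bE_apply_inr, i2_ne_i1.symm]
  rw [e1, e2]
  simp

theorem coe_conj_h_u (c s₁ : K) (u h : SpG) (hu : (u : Mat) = uM c) (hh : (h : Mat) = hM s₁) :
    ((h * u * h⁻¹ : SpG) : Mat) = UWM c * YM s₁ := by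
  have h1 : ((h * u * h⁻¹ : SpG) : Mat) = (h : Mat) * (u : Mat) * ((h⁻¹ : SpG) : Mat) := rfl
  have hA : (h : Mat) * A12M * ((h⁻¹ : SpG) : Mat) = YM s₁ := by
    rw [A12M, conj_eichS h.2 (coe_mul_inv h), hh, hM_bE1, hM_bF2, YM]
  calc ((h * u * h⁻¹ : SpG) : Mat) = (h : Mat) * (UWM c * A12M) * ((h⁻¹ : SpG) : Mat) := by
        rw [h1, hu, uM]
    _ = ((h : Mat) * UWM c) * A12M * ((h⁻¹ : SpG) : Mat) := by simp only [Matrix.mul_assoc]
    _ = UWM c * ((h : Mat) * A12M * ((h⁻¹ : SpG) : Mat)) := by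
        rw [hh, hM_mul_UWM, ← hh]; simp only [Matrix.mul_assoc]
    _ = UWM c * YM s₁ := by rw [hA]

end Cfsg.Agent.Helper20.RSp
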