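import Cfsg.Prelude.Def_LieRecognition

set_option autoImplicit false

namespace Cfsg.Agent.Helper20

variable {G Ω : Type*} [Group G] [MulAction G Ω] {a : Ω} {t : G} {Q : Subgroup G}

theorem rankOne_t_inv (hS : Cfsg.IsRankOneSetup G Ω a t Q) : t⁻¹ = t :=
  inv_eq_of_mul_eq_one_right hS.mul_self

theorem rankOne_tta (hS : Cfsg.IsRankOneSetup G Ω a t Q) : t • t • a = a := by
  rw [← mul_smul, hS.mul_self, one_smul]

/-- `t` normalizes the two-point stabiliser `D`. -/
theorem rankOne_conj_D (hS : Cfsg.IsRankOneSetup G Ω a t Q) {h : G}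
    (hh : h ∈ MulAction.stabilizer G a ⊓ MulAction.stabilizer G (t • a)) :
    t * h * t ∈ MulAction.stabilizer G a ⊓ MulAction.stabilizer G (t • a) := by
  rw [Subgroup.mem_inf] at hh
  obtain ⟨h1, h2⟩ := hh
  rw [MulAction.mem_stabilizer_iff] at h1 h2
  rw [Subgroup.mem_inf]
  constructor
  · rw [MulAction.mem_stabilizer_iff, mul_smul, mul_smul, h2, rankOne_tta hS]
  · rw [MulAction.mem_stabilizer_iff, mul_smul, mul_smul, rankOne_tta hS, h1]

/-- if `q ∈ Q` and `t q t` fixes `a` then `q = 1` -/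
theorem rankOne_Q_eq_one (hS : Cfsg.IsRankOneSetup G Ω a t Q) {q : G} (hq : q ∈ Q)
    (h : t * q * t ∈ MulAction.stabilizer G a) : q = 1 := by
  rw [MulAction.mem_stabilizer_iff, mul_smul, mul_smul] at h
  have h2 : q • t • a = t • a := by
    have := congrArg (fun w => t • w) h
    beta_reduce at this
    rwa [← mul_smul t t, hS.mul_self, one_smul] at this
  have : q ∈ Q ⊓ MulAction.stabilizer G (t • a) := ⟨hq, MulAction.mem_stabilizer_iff.mpr h2⟩
  rw [hS.inf_eq_bot] at this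
  exact Subgroup.mem_bot.mp this

/-- uniqueness of the canonical form `g h t f` -/
theorem rankOne_unique (hS : Cfsg.IsRankOneSetup G Ω a t Q) {g h f g' h' f' : G}
    (hg : g ∈ Q) (hh : h ∈ MulAction.stabilizer G a ⊓ MulAction.stabilizer G (t • a)) (hf : f ∈ Q)
    (hg' : g' ∈ Q) (hh' : h' ∈ MulAction.stabilizer G a ⊓ MulAction.stabilizer G (t • a))
    (hf' : f' ∈ Q) (heq : g * h * t * f = g' * h' * t * f') :
    g = g' ∧ h = h' ∧ f = f' := by
  have hti := rankOne_t_inv hS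
  -- (g' h')⁻¹ (g h) = t (f' f⁻¹) t
  have e1 : (g' * h')⁻¹ * (g * h) = t * (f' * f⁻¹) * t := by
    have : (g' * h')⁻¹ * (g * h) = (g' * h')⁻¹ * (g * h * t * f) * f⁻¹ * t⁻¹ := by group
    rw [this, heq, hti]
    have : (g' * h')⁻¹ * (g' * h' * t * f') * f⁻¹ * t = t * (f' * f⁻¹) * t := by group
    exact this
  have hmem : (g' * h')⁻¹ * (g * h) ∈ MulAction.stabilizer G a :=
    Subgroup.mul_mem _ (Subgroup.inv_mem _ (Subgroup.mul_mem _ (hS.le hg') hh'.1))
      (Subgroup.mul_mem _ (hS.le hg) hh.1)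
  rw [e1] at hmem
  have hq := rankOne_Q_eq_one hS (Q.mul_mem hf' (Q.inv_mem hf)) hmem
  have hff : f = f' := by
    have : f' = (f' * f⁻¹) * f := by group
    rw [this, hq, one_mul]
  subst hff
  have e2 : g * h = g' * h' := by
    have := congrArg (fun w => w * f⁻¹ * t⁻¹) heq
    beta_reduce at this
    have l : g * h * t * f * f⁻¹ * t⁻¹ = g * h := by group
    have r : g' * h' * t * f * f⁻¹ * t⁻¹ = g' * h' := by group
    rwa [l, r] at this
  have e3 : g'⁻¹ * g = h' * h⁻¹ := by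
    calc g'⁻¹ * g = g'⁻¹ * (g * h) * h⁻¹ := by group
      _ = g'⁻¹ * (g' * h') * h⁻¹ := by rw [e2]
      _ = h' * h⁻¹ := by group
  have hmem2 : g'⁻¹ * g ∈ Q ⊓ MulAction.stabilizer G (t • a) := by
    refine ⟨Q.mul_mem (Q.inv_mem hg') hg, ?_⟩
    rw [e3]
    exact Subgroup.mul_mem _ hh'.2 (Subgroup.inv_mem _ hh.2)
  rw [hS.inf_eq_bot] at hmem2
  have h1 : g'⁻¹ * g = 1 := Subgroup.mem_bot.mp hmem2
  have hgg : g = g' := by
    have : g = g' * (g'⁻¹ * g) := by group
    rw [this, h1, mul_one]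
  subst hgg
  refine ⟨rfl, ?_, rfl⟩
  exact mul_left_cancel e2

/-- `Q` is normalized by elements of the point stabiliser, in the form `d⁻¹ q d`. -/
theorem rankOne_conj_mem' (hS : Cfsg.IsRankOneSetup G Ω a t Q) {d q : G}
    (hd : d ∈ MulAction.stabilizer G a) (hq : q ∈ Q) : d⁻¹ * q * d ∈ Q := by
  have := hS.conj_mem d⁻¹ (Subgroup.inv_mem _ hd) q hq
  rwa [inv_inv] at this

end Cfsg.Agent.Helper20
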