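import Cfsg.Agent.Helper8.S3AWalk

/-!
# S2858 farm (architect helper8), wave 2, leaf (XG) `X2_y_not_mem` (helper20).

For a non-backtracking path `v₀ v₁ v₂ v₃` and `1 ≠ a ∈ Y v₀ = R v₁ v₀ ≤ Z v₁`:
`a ∈ Q v₂ ≤ G_{v₃}` and `a ∉ Q v₃`.
-/

set_option autoImplicit false
set_option linter.unusedSectionVars false
set_option linter.unusedVariables false

namespace Cfsg.Agent.Helper20.S3A

open Cfsg Cfsg.Agent.Helper8.S3A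

variable {G : Type*} [Group G] {M₁ M₂ : Subgroup G}

/-- the three-vertex walk `(x, y, z, z, …)` -/
def XG_walk3 (x y z : Vx M₁ M₂) : ℕ → Vx M₁ M₂ := cons x (cons y (fun _ => z))

theorem XG_walk3_isWalk {x y z : Vx M₁ M₂} (hxy : Adj x y) (hyz : Adj y z) :
    IsWalk (XG_walk3 x y z) 2 := by
  intro i hi
  match i, hi with
  | 0, _ => exact hxy
  | 1, _ => exact hyz

section PartX2
variable (A : Core M₁ M₂) (GA : GoodAPI M₁ M₂) (C : CAPI M₁ M₂ 2) (hmin : Min M₁ M₂ 2)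
include A GA C hmin

variable (hall : ∀ u v w : Vx M₁ M₂, Adj u v → Adj v w → u ≠ w → ¬ Z u ≤ Q w)
  (hXRY : ∀ {γ : ℕ → Vx M₁ M₂}, Crit γ 2 →
      R (γ 0) (γ 1) ≤ Y (γ (2 - 1)) ∧ R (γ 0) (γ 1) ≤ Y (γ 1))
include hall hXRY

/-- (XG) for a nb path `v₀ v₁ v₂ v₃` and `1 ≠ a ∈ Y v₀ = R v₁ v₀ ≤ Z v₁`: `a ∈ Q v₂ ≤ G_{v₃}` (`hmin`),
and `a ∉ Q v₃` since `Z v₁ ⊓ Q v₃ = ZE v₁ v₂` (`C.Z_inf_Q`) and `R v₁ v₀ ⊓ ZE v₁ v₂ = ⊥` (`GA.R_inf_ZE`). -/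
theorem X2_y_not_mem
    (hRY : ∀ {v u : Vx M₁ M₂}, Adj v u → Good v ∧ R v u = Y u ∧ Nat.card ↥(Y u) = 2)
    {v₀ v₁ v₂ v₃ : Vx M₁ M₂} (h01 : Adj v₀ v₁) (h12 : Adj v₁ v₂) (h23 : Adj v₂ v₃)
    (h02 : v₀ ≠ v₂) (h13 : v₁ ≠ v₃) {a : G} (ha : a ∈ Y v₀) (ha1 : a ≠ 1) :
    a ∈ Z v₁ ∧ a ∉ ZE v₁ v₂ ∧ a ∈ St v₂ ∧ a ∈ St v₃ ∧ a ∉ Q v₃ := by
  have h10 : Adj v₁ v₀ := A.adj_symm h01
  obtain ⟨hgood, hReq, _⟩ := hRY h10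
  have haR : a ∈ R v₁ v₀ := by rw [hReq]; exact ha
  have haZ : a ∈ Z v₁ := A.ZE_le_Z h10 (GA.R_le_ZE hgood h10 haR)
  have hnZE : a ∉ ZE v₁ v₂ := by
    intro h
    have hbot := GA.R_inf_ZE hgood h10 h12 h02
    have hmem : a ∈ R v₁ v₀ ⊓ ZE v₁ v₂ := Subgroup.mem_inf.mpr ⟨haR, h⟩
    rw [hbot, Subgroup.mem_bot] at hmem
    exact ha1 hmem
  have hS2 : a ∈ St v₂ := A.Q_le_nbr h12 (A.Z_le_Q v₁ haZ)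
  -- `Z v₁ ≤ Q v₂` by minimality (walks of length 1 are not critical)
  have hw : IsWalk (XG_walk3 v₁ v₂ v₃) 2 := XG_walk3_isWalk h12 h23
  have hZQ : Z v₁ ≤ Q v₂ :=
    hmin (XG_walk3 v₁ v₂ v₃) 1 (by norm_num) (fun i hi => hw i (by omega))
  have hS3 : a ∈ St v₃ := A.Q_le_nbr h23 (hZQ haZ)
  have hcrit : Crit (XG_walk3 v₁ v₂ v₃) 2 := ⟨hw, hall v₁ v₂ v₃ h12 h23 h13⟩
  have hinf0 := C.Z_inf_Q hcrit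
  have hinf : Z v₁ ⊓ Q v₃ = ZE v₁ v₂ := hinf0
  refine ⟨haZ, hnZE, hS2, hS3, ?_⟩
  intro hq
  apply hnZE
  rw [← hinf]
  exact Subgroup.mem_inf.mpr ⟨haZ, hq⟩

end PartX2

end Cfsg.Agent.Helper20.S3A
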