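import Cfsg.Agent.Helper8.S3AWalk

/-!
# S2858 farm (architect helper8), wave 2, leaf (XH) `X2_comm` (helper20).

For a non-backtracking path `u₀ … u₄`, `1 ≠ a ∈ Y u₀`, `1 ≠ c ∈ Y u₄`: `[a,c]` is the nontrivial
element of `Y u₂`.
-/

set_option autoImplicit false
set_option linter.unusedSectionVars false
set_option linter.unusedVariables false

namespace Cfsg.Agent.Helper20.S3A

open Cfsg Cfsg.Agent.Helper8.S3A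

variable {G : Type*} [Group G] {M₁ M₂ : Subgroup G}

/-- the three-vertex walk `(x, y, z, z, …)` -/
def XH_walk3 (x y z : Vx M₁ M₂) : ℕ → Vx M₁ M₂ := cons x (cons y (fun _ => z))

theorem XH_walk3_isWalk {x y z : Vx M₁ M₂} (hxy : Adj x y) (hyz : Adj y z) :
    IsWalk (XH_walk3 x y z) 2 := by
  intro i hi
  match i, hi with
  | 0, _ => exact hxy
  | 1, _ => exact hyz

section PartX2
variable (A : Core M₁ M₂) (GA : GoodAPI M₁ M₂) (C : CAPI M₁ M₂ 2) (hmin : Min M₁ M₂ 2)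
include A GA C hmin

variable (hall : ∀ u v w : Vx M₁ M₂, Adj u v → Adj v w → u ≠ w → ¬ Z u ≤ Q w)
  (hXRY : ∀ {γ : ℕ → Vx M₁ M₂}, Crit γ 2 →
      R (γ 0) (γ 1) ≤ Y (γ (2 - 1)) ∧ R (γ 0) (γ 1) ≤ Y (γ 1))
include hall hXRY

/-- (XH) nb path `u₀ … u₄`, `1 ≠ a ∈ Y u₀`, `1 ≠ c ∈ Y u₄`: `[a,c]` is the nontrivial element of
`Y u₂` (`C.comm_mem` on `(u₁,u₂,u₃)`, `GA.comm_ne_one`). -/
theorem X2_comm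
    (hRY : ∀ {v u : Vx M₁ M₂}, Adj v u → Good v ∧ R v u = Y u ∧ Nat.card ↥(Y u) = 2)
    (hnm : ∀ {v₀ v₁ v₂ v₃ : Vx M₁ M₂}, Adj v₀ v₁ → Adj v₁ v₂ → Adj v₂ v₃ → v₀ ≠ v₂ → v₁ ≠ v₃ →
      ∀ {a : G}, a ∈ Y v₀ → a ≠ 1 → a ∈ Z v₁ ∧ a ∉ ZE v₁ v₂ ∧ a ∈ St v₂ ∧ a ∈ St v₃ ∧ a ∉ Q v₃)
    {u₀ u₁ u₂ u₃ u₄ : Vx M₁ M₂} (h01 : Adj u₀ u₁) (h12 : Adj u₁ u₂) (h23 : Adj u₂ u₃)
    (h34 : Adj u₃ u₄) (h02 : u₀ ≠ u₂) (h13 : u₁ ≠ u₃) (h24 : u₂ ≠ u₄) {a c : G}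
    (ha : a ∈ Y u₀) (ha1 : a ≠ 1) (hc : c ∈ Y u₄) (hc1 : c ≠ 1) :
    a * c * a⁻¹ * c⁻¹ ∈ Y u₂ ∧ a * c * a⁻¹ * c⁻¹ ≠ 1 := by
  obtain ⟨haZ, hanZE, _, _, _⟩ := hnm h01 h12 h23 h02 h13 ha ha1
  obtain ⟨hcZ, _, hcS2, hcS1, hcnQ⟩ :=
    hnm (A.adj_symm h34) (A.adj_symm h23) (A.adj_symm h12) h24.symm h13.symm hc hc1
  have hw : IsWalk (XH_walk3 u₁ u₂ u₃) 2 := XH_walk3_isWalk h12 h23
  have hcrit : Crit (XH_walk3 u₁ u₂ u₃) 2 := ⟨hw, hall u₁ u₂ u₃ h12 h23 h13⟩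
  have hmem0 := C.comm_mem (γ := XH_walk3 u₁ u₂ u₃) hcrit (x := a) (y := c) haZ hcZ
  have hmem : a * c * a⁻¹ * c⁻¹ ∈ R u₁ u₂ := hmem0
  obtain ⟨_, hReq, _⟩ := hRY h12
  refine ⟨?_, ?_⟩
  · rw [← hReq]; exact hmem
  · exact GA.comm_ne_one h12 haZ hanZE hcS1 hcS2 hcnQ

end PartX2

end Cfsg.Agent.Helper20.S3A
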