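import Mathlib
import Cfsg.Agent.Helper62.S6.Defs
import Cfsg.Agent.Helper41.S6C4bF

/-!
# S3333 (helper62), piece (C4b-H): the identification of `S₆`

`G` acts on the six point stabilizers of `L ≅ A₆` (by (C4b-F) and (C4b-P)), faithfully by (R2).
The core `case_C4_sym_core` takes (C4b-P) and (R2) as explicit hypotheses.
-/

set_option autoImplicit false
open Cfsg

namespace Cfsg.Agent.Helper20.S6

open Cfsg.Agent.Helper62.S6 Cfsg.Agent.Helper62.D8
open Equiv Equiv.Perm MulAction

universe u

/-! ## the point stabilizers of `A₆` -/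

/-- the stabilizer of a point in `A₆` -/
abbrev stab6 (i : Fin 6) : Subgroup (alternatingGroup (Fin 6)) :=
  MulAction.stabilizer (alternatingGroup (Fin 6)) i

theorem card_A6 : Nat.card (alternatingGroup (Fin 6)) = 360 := by
  rw [nat_card_alternatingGroup, Nat.card_eq_fintype_card, Fintype.card_fin]
  decide

theorem card_stab6 (i : Fin 6) : Nat.card (stab6 i) = 60 := by
  haveI : IsPretransitive (alternatingGroup (Fin 6)) (Fin 6) :=
    alternatingGroup.isPretransitive_of_three_le_card (Fin 6) (by simp)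
  have h1 : (stab6 i).index = 6 := by
    rw [stab6, MulAction.index_stabilizer_of_transitive]; simp
  have h2 := Subgroup.card_mul_index (stab6 i)
  rw [h1, card_A6] at h2
  omega

/-- a 3-cycle of `A₆` built from three distinct points -/
def cyc3 (a b c : Fin 6) (ab : a ≠ b) (ac : a ≠ c) (bc : b ≠ c) : alternatingGroup (Fin 6) :=
  ⟨swap a b * swap a c, (isThreeCycle_swap_mul_swap_same ab ac bc).mem_alternatingGroup⟩

theorem cyc3_isThreeCycle (a b c : Fin 6) (ab : a ≠ b) (ac : a ≠ c) (bc : b ≠ c) :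
    ((cyc3 a b c ab ac bc : alternatingGroup (Fin 6)) : Perm (Fin 6)).IsThreeCycle :=
  isThreeCycle_swap_mul_swap_same ab ac bc

theorem cyc3_smul (a b c : Fin 6) (ab : a ≠ b) (ac : a ≠ c) (bc : b ≠ c) (i : Fin 6) :
    cyc3 a b c ab ac bc • i = swap a b (swap a c i) := rfl

theorem exists_threeCycle_stab6 (i : Fin 6) :
    ∃ c ∈ stab6 i, ((c : alternatingGroup (Fin 6)) : Perm (Fin 6)).IsThreeCycle := by
  have hex : ∀ i : Fin 6, ∃ a b c : Fin 6, a ≠ b ∧ a ≠ c ∧ b ≠ c ∧ i ≠ a ∧ i ≠ b ∧ i ≠ c := by decide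
  obtain ⟨a, b, c, ab, ac, bc, ia, ib, ic⟩ := hex i
  refine ⟨cyc3 a b c ab ac bc, ?_, cyc3_isThreeCycle a b c ab ac bc⟩
  rw [MulAction.mem_stabilizer_iff, cyc3_smul, swap_apply_of_ne_of_ne ia ic,
    swap_apply_of_ne_of_ne ia ib]

theorem stab6_injective {i j : Fin 6} (hij : stab6 i = stab6 j) : i = j := by
  by_contra hne
  have hex : ∀ i j : Fin 6, i ≠ j → ∃ a b : Fin 6, a ≠ b ∧ j ≠ a ∧ j ≠ b ∧ i ≠ a ∧ i ≠ b := by decide
  obtain ⟨a, b, ab, ja, jb, ia, ib⟩ := hex i j hne
  have hmem : cyc3 j a b ja jb ab ∈ stab6 i := by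
    rw [MulAction.mem_stabilizer_iff, cyc3_smul, swap_apply_of_ne_of_ne hne ib,
      swap_apply_of_ne_of_ne hne ia]
  rw [hij, MulAction.mem_stabilizer_iff, cyc3_smul, swap_apply_left,
    swap_apply_of_ne_of_ne jb.symm ab.symm] at hmem
  exact jb hmem.symm

/-- an automorphism of `A₆` preserving 3-cycles permutes the point stabilizers -/
theorem exists_stab6_map (α : alternatingGroup (Fin 6) ≃* alternatingGroup (Fin 6))
    (hα : ∀ c : alternatingGroup (Fin 6), ((c : alternatingGroup (Fin 6)) : Perm (Fin 6)).IsThreeCycle →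
      ((α c : alternatingGroup (Fin 6)) : Perm (Fin 6)).IsThreeCycle) (i : Fin 6) :
    ∃ j : Fin 6, (stab6 i).map α.toMonoidHom = stab6 j := by
  apply Cfsg.Agent.Helper41.S6.stabilizer_of_card_sixty
  · rw [Subgroup.card_map_of_injective (f := α.toMonoidHom) α.injective, card_stab6]
  · obtain ⟨c, hc, hc3⟩ := exists_threeCycle_stab6 i
    exact ⟨α c, ⟨c, hc, rfl⟩, hα c hc3⟩

/-! ## the action of `G` on the six point stabilizers -/

section act
variable {G : Type u} [Group G] {L : Subgroup G} [L.Normal]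

/-- the automorphism of `A₆` induced by conjugation with `g ∈ G` on `L ≅ A₆` -/
noncomputable def autG (e : ↥L ≃* alternatingGroup (Fin 6)) (g : G) :
    alternatingGroup (Fin 6) ≃* alternatingGroup (Fin 6) :=
  (e.symm.trans (MulAut.conjNormal g : ↥L ≃* ↥L)).trans e

theorem autG_apply (e : ↥L ≃* alternatingGroup (Fin 6)) (g : G) (a : alternatingGroup (Fin 6)) :
    autG e g a = e ((MulAut.conjNormal g : ↥L ≃* ↥L) (e.symm a)) := rfl

theorem autG_one (e : ↥L ≃* alternatingGroup (Fin 6)) (a : alternatingGroup (Fin 6)) :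
    autG e 1 a = a := by
  rw [autG_apply, map_one]
  simp

theorem autG_mul (e : ↥L ≃* alternatingGroup (Fin 6)) (g g' : G) (a : alternatingGroup (Fin 6)) :
    autG e (g * g') a = autG e g (autG e g' a) := by
  rw [autG_apply, autG_apply, autG_apply, map_mul]
  simp

theorem autG_coe (e : ↥L ≃* alternatingGroup (Fin 6)) (l : ↥L) (a : alternatingGroup (Fin 6)) :
    autG e (l : G) a = e l * a * (e l)⁻¹ := by
  rw [autG_apply]
  have h1 : (MulAut.conjNormal (l : G) : ↥L ≃* ↥L) (e.symm a) = l * e.symm a * l⁻¹ := by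
    apply Subtype.ext
    rw [MulAut.conjNormal_apply]
    simp
  rw [h1, map_mul, map_mul, map_inv, MulEquiv.apply_symm_apply]

variable (e : ↥L ≃* alternatingGroup (Fin 6))
  (hP : ∀ (g : G) (c c' : ↥L), (c' : G) = g * (c : G) * g⁻¹ →
    ((e c : alternatingGroup (Fin 6)) : Perm (Fin 6)).IsThreeCycle →
    ((e c' : alternatingGroup (Fin 6)) : Perm (Fin 6)).IsThreeCycle)

include hP in
theorem autG_threeCycle (g : G) (c : alternatingGroup (Fin 6))
    (hc : ((c : alternatingGroup (Fin 6)) : Perm (Fin 6)).IsThreeCycle) :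
    ((autG e g c : alternatingGroup (Fin 6)) : Perm (Fin 6)).IsThreeCycle := by
  rw [autG_apply]
  refine hP g (e.symm c) _ (MulAut.conjNormal_apply g (e.symm c)) ?_
  rw [MulEquiv.apply_symm_apply]
  exact hc

/-- the permutation of the six points induced by `g` -/
noncomputable def tau (g : G) (i : Fin 6) : Fin 6 :=
  Classical.choose (exists_stab6_map (autG e g) (autG_threeCycle e hP g) i)

theorem tau_spec (g : G) (i : Fin 6) :
    (stab6 i).map (autG e g).toMonoidHom = stab6 (tau e hP g i) :=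
  Classical.choose_spec (exists_stab6_map (autG e g) (autG_threeCycle e hP g) i)

theorem tau_one (i : Fin 6) : tau e hP 1 i = i := by
  apply stab6_injective
  rw [← tau_spec]
  ext a
  constructor
  · rintro ⟨b, hb, rfl⟩
    have : (autG e 1).toMonoidHom b = b := autG_one e b
    rw [this]; exact hb
  · intro ha
    exact ⟨a, ha, autG_one e a⟩

theorem tau_mul (g g' : G) (i : Fin 6) : tau e hP (g * g') i = tau e hP g (tau e hP g' i) := by
  apply stab6_injective
  have hcomp : (autG e (g * g')).toMonoidHom =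
      (autG e g).toMonoidHom.comp (autG e g').toMonoidHom :=
    MonoidHom.ext fun a => autG_mul e g g' a
  rw [← tau_spec, ← tau_spec, ← tau_spec, Subgroup.map_map, hcomp]

theorem tau_coe (l : ↥L) (i : Fin 6) :
    tau e hP (l : G) i = ((e l : alternatingGroup (Fin 6)) : Perm (Fin 6)) i := by
  apply stab6_injective
  rw [← tau_spec]
  have h := MulAction.stabilizer_smul_eq_stabilizer_map_conj (e l) i
  have h2 : (e l) • i = ((e l : alternatingGroup (Fin 6)) : Perm (Fin 6)) i := rfl
  rw [← h2]
  show _ = MulAction.stabilizer (alternatingGroup (Fin 6)) ((e l) • i)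
  rw [h]
  ext a
  constructor
  · rintro ⟨b, hb, rfl⟩
    exact ⟨b, hb, (autG_coe e l b).symm⟩
  · rintro ⟨b, hb, rfl⟩
    exact ⟨b, hb, autG_coe e l b⟩

/-- the homomorphism `G → S₆` -/
noncomputable def sigma : G →* Perm (Fin 6) :=
  MonoidHom.mk' (fun g =>
    { toFun := tau e hP g
      invFun := tau e hP g⁻¹
      left_inv := fun i => by rw [← tau_mul, inv_mul_cancel, tau_one]
      right_inv := fun i => by rw [← tau_mul, mul_inv_cancel, tau_one] })
    (fun g g' => Equiv.ext fun i => tau_mul e hP g g' i)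

theorem sigma_apply (g : G) (i : Fin 6) : sigma e hP g i = tau e hP g i := rfl

theorem sigma_coe (l : ↥L) : sigma e hP (l : G) = ((e l : alternatingGroup (Fin 6)) : Perm (Fin 6)) := by
  ext i
  rw [sigma_apply, tau_coe]

end act

/-! ## the identification of `S₆` -/

section main
variable {G : Type u} [Group G] [Finite G]
variable {S : Subgroup G} {x y t f : G}

/-- (C4b-H), core: the identification of `S₆`, with (C4b-P) `hP` and (R2) `hR2` as hypotheses. -/
theorem case_C4_sym_core (h : Cfg S x y t f)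
    (ht : t ∉ Subgroup.normalClosure (S : Set G))
    (e : ↥(Subgroup.normalClosure (S : Set G)) ≃* alternatingGroup (Fin 6))
    (hP : ∀ (g : G) (c c' : ↥(Subgroup.normalClosure (S : Set G))), (c' : G) = g * (c : G) * g⁻¹ →
      ((e c : alternatingGroup (Fin 6)) : Equiv.Perm (Fin 6)).IsThreeCycle →
      ((e c' : alternatingGroup (Fin 6)) : Equiv.Perm (Fin 6)).IsThreeCycle)
    (hR2 : ∀ (K : Subgroup G) [K.Normal], K ≠ ⊥ → S ≤ K) :
    Nonempty (G ≃* Equiv.Perm (Fin 6)) := by
  haveI : (Subgroup.normalClosure (S : Set G)).Normal := Subgroup.normalClosure_normal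
  have hSL : S ≤ Subgroup.normalClosure (S : Set G) := Subgroup.le_normalClosure
  -- injectivity
  have hker : (sigma e hP).ker = ⊥ := by
    by_contra hne
    have hSk : S ≤ (sigma e hP).ker := hR2 (sigma e hP).ker hne
    obtain ⟨s, hs, hs1⟩ : ∃ s ∈ S, s ≠ 1 := by
      by_contra hcon
      push Not at hcon
      have hbot : S = ⊥ := by
        rw [eq_bot_iff]
        intro v hv
        exact Subgroup.mem_bot.mpr (hcon v hv)
      have hc := h.card
      rw [hbot, Subgroup.card_bot] at hc
      omega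
    have h1 : sigma e hP s = 1 := MonoidHom.mem_ker.mp (hSk hs)
    have h2 := sigma_coe e hP (⟨s, hSL hs⟩ : ↥(Subgroup.normalClosure (S : Set G)))
    have h3 : ((e ⟨s, hSL hs⟩ : alternatingGroup (Fin 6)) : Equiv.Perm (Fin 6)) = 1 := by
      rw [← h2]; exact h1
    have h4 : e ⟨s, hSL hs⟩ = 1 := Subtype.ext h3
    have h5 : (⟨s, hSL hs⟩ : ↥(Subgroup.normalClosure (S : Set G))) = 1 :=
      e.injective (h4.trans e.map_one.symm)
    exact hs1 (congrArg Subtype.val h5)
  have hinj : Function.Injective (sigma e hP) := (MonoidHom.ker_eq_bot_iff _).mp hker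
  -- cardinalities
  have hcardL : Nat.card ↥(Subgroup.normalClosure (S : Set G)) = 360 := by
    rw [Nat.card_congr e.toEquiv, card_A6]
  have hLtop : Subgroup.normalClosure (S : Set G) ≠ ⊤ := fun hc => ht (hc ▸ Subgroup.mem_top t)
  have hidx : 2 ≤ (Subgroup.normalClosure (S : Set G)).index := by
    have h0 : (Subgroup.normalClosure (S : Set G)).index ≠ 0 := Subgroup.index_ne_zero_of_finite
    have h1 : (Subgroup.normalClosure (S : Set G)).index ≠ 1 :=
      fun hc => hLtop (Subgroup.index_eq_one.mp hc)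
    omega
  have hG : 720 ≤ Nat.card G := by
    rw [← Subgroup.card_mul_index (Subgroup.normalClosure (S : Set G)), hcardL]
    nlinarith
  have hperm : Nat.card (Equiv.Perm (Fin 6)) = 720 := by
    rw [Nat.card_perm, Nat.card_eq_fintype_card, Fintype.card_fin]
    decide
  have hbij : Function.Bijective (sigma e hP) :=
    hinj.bijective_of_nat_card_le (by rw [hperm]; exact hG)
  exact ⟨MulEquiv.ofBijective (sigma e hP) hbij⟩

end main

end Cfsg.Agent.Helper20.S6
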