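-- helper20: S2289 piece (SLPX) for helper84 (#12729): helper96's presentations of `SL₂(F)`,
-- packaged as an `SLP F` (adapted from Helper9/Sp4P/P_DATA.lean).
import Mathlib
import Cfsg.Agent.Helper84.SU3P.Defs

set_option autoImplicit false

namespace Cfsg.Agent.Helper20.SU3P

open Matrix Polynomial Cfsg.Agent.Helper84.RU3 Cfsg.Agent.Helper96.SLPres
  Cfsg.Agent.Helper96.StemSLTwo Cfsg.Agent.Helper96.StPres Cfsg.Agent.Helper84.SU3P

/-- (SLPX) helper96's presentations of `SL₂(F)`, packaged -/
theorem exists_slp (F : Type*) [Field F] [Fintype F] :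
    ∃ d : SLP F, d.rels.card ≤ 9 ∧ ((2 : F) = 0 → d.rels.card ≤ 5) := by
  obtain ⟨p, hchar⟩ := CharP.exists F
  haveI := hchar
  haveI : Fact p.Prime := ⟨CharP.char_is_prime F p⟩
  by_cases h2 : p = 2
  · subst h2
    letI : Algebra (ZMod 2) F := ZMod.algebra F 2
    obtain ⟨d⟩ := Cfsg.Agent.Helper96.SLPres.exists_evenData (F := F)
    have hcard : d.rels.card ≤ 5 := Cfsg.Agent.Helper96.SLPres.card_evenRels _ _ _ _ _
    refine ⟨{ rels := d.rels, pi := d.pi, bij := d.pi_bijective'.1, z := d.z, hz0 := d.hz0,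
              hz := d.hz,
              ww := FreeGroup.of 0 * FreeGroup.of 2 * FreeGroup.of 0,
              pi_u := ?_, pi_h := ?_, pi_w := ?_ }, ?_, ?_⟩
    · exact d.pi_of 0
    · exact d.pi_of 1
    · simp only [map_mul]
      change d.pi (PresentedGroup.of 0) * d.pi (PresentedGroup.of 2) * d.pi (PresentedGroup.of 0) = _
      rw [d.pi_of, d.pi_of]
      exact Cfsg.Agent.Helper96.SLPres.t_SL
    · exact hcard.trans (by norm_num)
    · intro _
      exact hcard
  · letI : Algebra (ZMod p) F := ZMod.algebra F p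
    have hp : Odd p := (Nat.Prime.eq_two_or_odd' (Fact.out : p.Prime)).resolve_left h2
    obtain ⟨d⟩ := Cfsg.Agent.Helper96.SLPres.exists_oddData (F := F) hp
    refine ⟨{ rels := d.rels true, pi := d.pi, bij := d.pi_bijective hp, z := d.z, hz0 := d.hz0,
              hz := d.hz,
              ww := FreeGroup.of 2,
              pi_u := ?_, pi_h := ?_, pi_w := ?_ }, ?_, ?_⟩
    · exact d.pi_of 0
    · exact d.pi_of 1
    · exact d.pi_of 2
    · exact Cfsg.Agent.Helper96.SLPres.card_oddRels _ _ _ _ _ _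
    · intro h20
      exfalso
      have h2' : ((2 : ℕ) : F) = 0 := by exact_mod_cast h20
      rw [CharP.cast_eq_zero_iff F p 2] at h2'
      exact h2 ((Nat.prime_dvd_prime_iff_eq (Fact.out : p.Prime) Nat.prime_two).mp h2')

end Cfsg.Agent.Helper20.SU3P
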