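import Cfsg.Agent.Helper6.SUrep3
import Cfsg.Agent.Helper73.SUG2
import Cfsg.Agent.Helper63.SUA1b

/-!
# (A1) for S2334/S2335: the non-trivial characters of a root group contribute
`(q - 1) q^(k-2)` to the dimension

Core form: the inputs (G1d), (G1e), (G1f) and (A1c) of the skeleton are explicit hypotheses
(instances of the skeleton statements); (G2) and (A1b) are used from main.
-/

set_option autoImplicit false

namespace Cfsg.Agent.Helper20.SUrep

open Matrix Cfsg.Agent.Helper13 Module Cfsg.Agent.Helper6.SUrep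

variable {F : Type*} [Field F] [Fintype F] {q n : ℕ}

local notation "⟪" x ", " y "⟫" => Cfsg.hermForm n F q x y

variable {M : Type*} [AddCommGroup M] [Module ℂ M]

/-- (A1), with the inputs (G1d), (G1e), (G1f), (A1c) as hypotheses -/
theorem finrank_fixZ_add_le_of [FiniteDimensional ℂ M] (hF : Fintype.card F = q ^ 2)
    {W : Submodule F (Fin n → F)}
    (hW : NonDeg q W) (hk : 3 ≤ finrank F W) (ρ : Representation ℂ ↥(suW q W) M)
    (u : Fin n → F) (huW : u ∈ W) (hu0 : u ≠ 0) (huu : ⟪u, u⟫ = 0) (c₀ : skewS hF)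
    (hc₀ : ρ (tvW hF W u huW huu c₀) ≠ 1)
    (h1d : ∀ (s : skewS hF → Module.End ℂ M), s 0 = 1 → (∀ x y, s (x + y) = s x * s y) →
      ∀ (ψ : AddChar (skewS hF) ℂ) (m : M),
        m ∈ LinearMap.range (fpr s ψ) ↔ ∀ x, s x m = ψ x • m)
    (h1e : ∀ (s : skewS hF → Module.End ℂ M), s 0 = 1 → (∀ x y, s (x + y) = s x * s y) →
      finrank ℂ M = ∑ ψ : AddChar (skewS hF) ℂ, finrank ℂ (LinearMap.range (fpr s ψ)))
    (h1f : ∀ (s : skewS hF → Module.End ℂ M) (g g' : Module.End ℂ M), g * g' = 1 → g' * g = 1 →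
      ∀ (σ : skewS hF ≃+ skewS hF), (∀ x, g * s x * g' = s (σ x)) →
      ∀ (ψ ψ' : AddChar (skewS hF) ℂ), (∀ x, ψ' (σ x) = ψ x) →
        finrank ℂ (LinearMap.range (fpr s ψ)) = finrank ℂ (LinearMap.range (fpr s ψ')))
    (h1c : ∀ (ψ : AddChar (skewS hF) ℂ), ψ ≠ 0 →
      LinearMap.range (fpr (fun c : skewS hF => ρ (tvW hF W u huW huu c)) ψ) ≠ ⊥ →
      q ^ (finrank F W - 2) ≤
        finrank ℂ (LinearMap.range (fpr (fun c : skewS hF => ρ (tvW hF W u huW huu c)) ψ))) :
    finrank ℂ (fixZ hF W ρ u huW huu) + (q - 1) * q ^ (finrank F W - 2) ≤ finrank ℂ M := by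
  classical
  set s : skewS hF → Module.End ℂ M := fun c => ρ (tvW hF W u huW huu c) with hs_def
  have hs0 : s 0 = 1 := by
    simp only [hs_def]
    rw [tvW_zero, map_one]
  have hs : ∀ x y, s (x + y) = s x * s y := by
    intro x y
    simp only [hs_def]
    rw [tvW_add, map_mul]
  have hsum := h1e s hs0 hs
  have hfix : LinearMap.range (fpr s 0) = fixZ hF W ρ u huW huu := by
    ext m
    rw [h1d s hs0 hs, mem_fixZ]
    simp [hs_def]
  -- all non-trivial characters have the same rank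
  have hrank : ∀ ψ ψ' : AddChar (skewS hF) ℂ, ψ ≠ 0 → ψ' ≠ 0 →
      finrank ℂ (LinearMap.range (fpr s ψ)) = finrank ℂ (LinearMap.range (fpr s ψ')) := by
    intro ψ ψ' hψ hψ'
    obtain ⟨κ, hκ, hκ0, hκψ⟩ := Cfsg.Agent.Helper73.SUrep.exists_fixed_mul_char hF ψ ψ' hψ hψ'
    obtain ⟨g, hg⟩ := Cfsg.Agent.Helper63.SUrep.exists_conj_tvW hF hW hk u huW hu0 huu κ hκ hκ0
    refine h1f s (ρ g) (ρ g⁻¹) ?_ ?_ (mulSEquiv hF κ hκ hκ0) ?_ ψ ψ' hκψ
    · rw [← map_mul, mul_inv_cancel, map_one]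
    · rw [← map_mul, inv_mul_cancel, map_one]
    · intro x
      simp only [hs_def]
      rw [← map_mul, ← map_mul, hg]
  -- some non-trivial character occurs
  have hex : ∃ ψ₀ : AddChar (skewS hF) ℂ, ψ₀ ≠ 0 ∧ LinearMap.range (fpr s ψ₀) ≠ ⊥ := by
    by_contra hno
    apply hc₀
    have h1 : finrank ℂ M = finrank ℂ (fixZ hF W ρ u huW huu) := by
      rw [hsum, ← hfix]
      rw [Finset.sum_eq_single (0 : AddChar (skewS hF) ℂ)]
      · intro ψ _ hψ
        have : LinearMap.range (fpr s ψ) = ⊥ := by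
          by_contra hb
          exact hno ⟨ψ, hψ, hb⟩
        rw [this, finrank_bot]
      · intro h
        exact absurd (Finset.mem_univ _) h
    have htop : fixZ hF W ρ u huW huu = ⊤ := Submodule.eq_top_of_finrank_eq h1.symm
    ext m
    have hm : m ∈ fixZ hF W ρ u huW huu := by
      rw [htop]
      exact Submodule.mem_top
    exact hm c₀
  obtain ⟨ψ₀, hψ₀, hne₀⟩ := hex
  have hge : ∀ ψ : AddChar (skewS hF) ℂ, ψ ≠ 0 →
      q ^ (finrank F W - 2) ≤ finrank ℂ (LinearMap.range (fpr s ψ)) := by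
    intro ψ hψ
    apply h1c ψ hψ
    intro hbot
    apply hne₀
    have h2 := hrank ψ ψ₀ hψ hψ₀
    change LinearMap.range (fpr s ψ) = ⊥ at hbot
    rw [hbot, finrank_bot] at h2
    exact Submodule.finrank_eq_zero.mp h2.symm
  -- summing up
  rw [hsum, ← hfix, ← Finset.add_sum_erase Finset.univ _
    (Finset.mem_univ (0 : AddChar (skewS hF) ℂ))]
  apply Nat.add_le_add_left
  calc (q - 1) * q ^ (finrank F W - 2)
      = ∑ _ψ ∈ Finset.univ.erase (0 : AddChar (skewS hF) ℂ), q ^ (finrank F W - 2) := by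
        rw [Finset.sum_const, Finset.card_erase_of_mem (Finset.mem_univ _), Finset.card_univ,
          AddChar.card_eq, Cfsg.Agent.Helper73.SUrep.card_skewS hF, smul_eq_mul]
    _ ≤ _ := Finset.sum_le_sum (fun ψ hψ => hge ψ (Finset.ne_of_mem_erase hψ))

end Cfsg.Agent.Helper20.SUrep
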