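-- helper20: a simple normal subgroup of odd index in a core-free group with one class of involutions
-- whose Sylow 2-subgroup has a unique central involution.
import Cfsg.Agent.Helper20.InvCent0
import Cfsg.Agent.Helper20.SylowConj
import Cfsg.Agent.Helper52.SylowLemmas
import Cfsg.Agent.Helper53.NormalComplement
import Cfsg.Agent.Helper63.PGroup
import Cfsg.Agent.Lib.Cores
import Cfsg.Agent.Lib.Hall

set_option autoImplicit false

namespace Cfsg.Agent.Helper20

open Subgroup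

variable {H : Type*} [Group H]

theorem exists_involution_of_even_card [Finite H] (A : Subgroup H) (hA : Even (Nat.card A)) :
    ∃ t ∈ A, orderOf t = 2 := by
  haveI : Fact (Nat.Prime 2) := ⟨Nat.prime_two⟩
  obtain ⟨t, ht⟩ := exists_prime_orderOf_dvd_card' (G := A) 2 (even_iff_two_dvd.mp hA)
  exact ⟨t, t.2, by rw [Subgroup.orderOf_coe]; exact ht⟩

theorem exists_involution_of_isPGroup_ne_bot [Finite H] (A : Subgroup H) (hA : IsPGroup 2 A)
    (hne : A ≠ ⊥) : ∃ t ∈ A, orderOf t = 2 := by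
  apply exists_involution_of_even_card
  rcases hA.card_eq_or_dvd with h | h
  · exact absurd (Subgroup.card_eq_one.mp h) hne
  · exact even_iff_two_dvd.mpr h

/-- Lemma X: an `M`-invariant subgroup of even order of `M ≥ S` contains the unique central
involution of `S`. -/
theorem central_involution_mem_of_invariant [Finite H] (S : Sylow 2 H) (z₀ : H)
    (hzuniq : ∀ t ∈ (S : Subgroup H), orderOf t = 2 →
      (∀ s ∈ (S : Subgroup H), s * t = t * s) → t = z₀)
    (M : Subgroup H) (hSM : (S : Subgroup H) ≤ M) (A : Subgroup H) (hAM : A ≤ M)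
    (hinv : ∀ m ∈ M, ∀ a ∈ A, m * a * m⁻¹ ∈ A) (hA : Even (Nat.card A)) : z₀ ∈ A := by
  haveI : Fact (Nat.Prime 2) := ⟨Nat.prime_two⟩
  obtain ⟨t, htA, hto⟩ := exists_involution_of_even_card A hA
  have hp : IsPGroup 2 (zpowers t) := by
    apply IsPGroup.of_card (n := 1); rw [Nat.card_zpowers, hto, pow_one]
  have htM : zpowers t ≤ M := by rw [zpowers_le]; exact hAM htA
  obtain ⟨m, hmM, hm⟩ := Cfsg.Agent.Helper52.exists_conj_le_sylow_of_le S M (zpowers t) hSM htM hp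
  have ht'S : m * t * m⁻¹ ∈ (S : Subgroup H) := hm t (mem_zpowers t)
  have ht'A : m * t * m⁻¹ ∈ A := hinv m hmM t htA
  have ht'1 : m * t * m⁻¹ ≠ 1 := by
    intro hc
    have : t = 1 := conj_eq_one_imp hc
    rw [this, orderOf_one] at hto
    omega
  -- the normal subgroup `A ∩ S` of `S`
  obtain ⟨B, hBdef⟩ : ∃ B : Subgroup (S : Subgroup H), B = (A ⊓ S).subgroupOf (S : Subgroup H) :=
    ⟨_, rfl⟩
  have hBn : B.Normal := by
    constructor
    intro b hb s
    rw [hBdef, mem_subgroupOf] at hb ⊢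
    refine ⟨?_, (s * b * s⁻¹).2⟩
    have := hinv (s : H) (hSM s.2) (b : H) hb.1
    simpa using this
  have hBne : B ≠ ⊥ := by
    intro hc
    have h1 : (⟨m * t * m⁻¹, ht'S⟩ : (S : Subgroup H)) ∈ B := by
      rw [hBdef, mem_subgroupOf]; exact ⟨ht'A, ht'S⟩
    rw [hc, Subgroup.mem_bot] at h1
    exact ht'1 (congrArg Subtype.val h1)
  haveI := hBn
  have hcen := Cfsg.Agent.Helper63.normal_inf_center_ne_bot S.2 B hBne
  obtain ⟨u, huB, huo⟩ := exists_involution_of_isPGroup_ne_bot _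
    (S.2.to_subgroup (B ⊓ Subgroup.center (S : Subgroup H))) hcen
  have huA : (u : H) ∈ A := by
    have h1 : u ∈ B := (Subgroup.mem_inf.mp huB).1
    rw [hBdef, mem_subgroupOf] at h1
    exact h1.1
  have huz : (u : H) = z₀ := by
    apply hzuniq (u : H) u.2
    · rw [Subgroup.orderOf_coe]; exact huo
    · intro s hs
      have h1 := Subgroup.mem_center_iff.mp (Subgroup.mem_inf.mp huB).2 ⟨s, hs⟩
      have h2 := congrArg Subtype.val h1
      exact h2
  rw [← huz]; exact huA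

/-- The main abstract statement. -/
theorem exists_simple_normal_odd_index [Finite H] (S : Sylow 2 H) (z₀ : H)
    (hO : Cfsg.oddCore H = ⊥) (hG : ∀ K : Subgroup H, K.index ≠ 2)
    (hz₀o : orderOf z₀ = 2)
    (hzuniq : ∀ t ∈ (S : Subgroup H), orderOf t = 2 →
      (∀ s ∈ (S : Subgroup H), s * t = t * s) → t = z₀)
    (hconj : ∀ t : H, orderOf t = 2 → IsConj z₀ t)
    (hcyc : ∀ M : Subgroup H, M.Normal → (∀ t ∈ (S : Subgroup H), orderOf t = 2 → t ∈ M) →
      ∃ g ∈ (S : Subgroup H), ∀ s ∈ (S : Subgroup H), ∃ i : ℤ, g ^ i * s ∈ M)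
    (hnc : ∃ a ∈ (S : Subgroup H), ∃ b ∈ (S : Subgroup H), a * b ≠ b * a) :
    ∃ L : Subgroup H, L.Normal ∧ Odd L.index ∧ IsSimpleGroup L ∧ ¬ IsMulCommutative L := by
  haveI : Fact (Nat.Prime 2) := ⟨Nat.prime_two⟩
  have hz₀1 : z₀ ≠ 1 := by
    intro h; rw [h, orderOf_one] at hz₀o; omega
  haveI : Nontrivial H := ⟨⟨z₀, 1, hz₀1⟩⟩
  obtain ⟨M, hMn, hMne, hMmin⟩ := Cfsg.Agent.Lib.exists_minimal_normal (G := H)
  haveI := hMn
  -- `M` has even order
  have hMeven : Even (Nat.card M) := by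
    by_contra hodd
    rw [Nat.not_even_iff_odd] at hodd
    have := Cfsg.Agent.Lib.le_oddCore hMn hodd
    rw [hO] at this
    exact hMne (le_bot_iff.mp this)
  -- `M` contains all involutions
  have hinvM : ∀ t : H, orderOf t = 2 → t ∈ M := by
    obtain ⟨t₀, ht₀M, ht₀o⟩ := exists_involution_of_even_card M hMeven
    obtain ⟨c, hc⟩ := isConj_iff.mp (hconj t₀ ht₀o)
    have hz₀M : z₀ ∈ M := by
      have : z₀ = c⁻¹ * t₀ * c⁻¹⁻¹ := by rw [← hc]; group
      rw [this]
      exact hMn.conj_mem _ ht₀M _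
    intro t ht
    obtain ⟨d, hd⟩ := isConj_iff.mp (hconj t ht)
    rw [← hd]
    exact hMn.conj_mem _ hz₀M _
  -- `S ≤ M`
  have hSM : (S : Subgroup H) ≤ M := by
    by_contra hnot
    obtain ⟨g, hgS, hg⟩ := hcyc M hMn (fun t _ ht => hinvM t ht)
    obtain ⟨St, hStdef⟩ : ∃ St : Sylow 2 (H ⧸ M),
        St = S.mapSurjective (QuotientGroup.mk'_surjective M) := ⟨_, rfl⟩
    have hStcoe : (St : Subgroup (H ⧸ M)) = (S : Subgroup H).map (QuotientGroup.mk' M) := by
      rw [hStdef]; exact Sylow.coe_mapSurjective _ _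
    have hgSt : QuotientGroup.mk' M g ∈ (St : Subgroup (H ⧸ M)) := by
      rw [hStcoe]; exact ⟨g, hgS, rfl⟩
    have hcycl : IsCyclic ↥(St : Subgroup (H ⧸ M)) := by
      refine ⟨⟨⟨QuotientGroup.mk' M g, hgSt⟩, ?_⟩⟩
      rintro ⟨q, hq⟩
      rw [hStcoe] at hq
      obtain ⟨s, hs, rfl⟩ := hq
      obtain ⟨i, hi⟩ := hg s hs
      refine ⟨-i, ?_⟩
      apply Subtype.ext
      show ((⟨QuotientGroup.mk' M g, hgSt⟩ : (St : Subgroup (H ⧸ M))) ^ (-i) : (St : Subgroup (H ⧸ M))).1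
        = QuotientGroup.mk' M s
      rw [Subgroup.coe_zpow]
      show (QuotientGroup.mk' M g) ^ (-i) = QuotientGroup.mk' M s
      have h1 : QuotientGroup.mk' M (g ^ i * s) = 1 := by
        rw [QuotientGroup.mk'_apply, QuotientGroup.eq_one_iff]; exact hi
      rw [map_mul, map_zpow] at h1
      rw [zpow_neg]
      exact inv_eq_of_mul_eq_one_right h1
    have hSt1 : Nat.card (St : Subgroup (H ⧸ M)) ≠ 1 := by
      intro hc
      apply hnot
      intro s hs
      have h1 : QuotientGroup.mk' M s ∈ (St : Subgroup (H ⧸ M)) := by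
        rw [hStcoe]; exact ⟨s, hs, rfl⟩
      rw [Subgroup.card_eq_one.mp hc, Subgroup.mem_bot, QuotientGroup.mk'_apply,
        QuotientGroup.eq_one_iff] at h1
      exact h1
    have hcompl := Cfsg.Agent.Helper53.hasNormalPComplement_two_of_isCyclic St hcycl
    obtain ⟨K, hK⟩ := exists_index_two_of_hasNormalPComplement St hSt1 hcompl
    apply hG (K.comap (QuotientGroup.mk' M))
    rw [Subgroup.index_comap_of_surjective _ (QuotientGroup.mk'_surjective M)]
    exact hK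
  have hMidx : Odd M.index := by
    rw [← Nat.not_even_iff_odd, even_iff_two_dvd]
    intro h2
    exact S.not_dvd_index (h2.trans (Subgroup.index_dvd_of_le hSM))
  have hMnc : ¬ IsMulCommutative M := by
    intro hcomm
    obtain ⟨a, ha, b, hb, hab⟩ := hnc
    apply hab
    have := hcomm.is_comm.comm (⟨a, hSM ha⟩ : M) ⟨b, hSM hb⟩
    exact congrArg Subtype.val this
  refine ⟨M, hMn, hMidx, ?_, hMnc⟩
  -- simplicity of `M`
  haveI hMnt : Nontrivial M := by
    rw [Subgroup.nontrivial_iff_ne_bot]; exact hMne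
  obtain ⟨N₀, hN₀n, hN₀ne, hN₀min⟩ := Cfsg.Agent.Lib.exists_minimal_normal (G := M)
  suffices hN₀top : N₀ = ⊤ by
    refine ⟨fun N hN => ?_⟩
    rcases hN₀min N hN (hN₀top ▸ le_top) with h | h
    · exact Or.inl h
    · exact Or.inr (h.trans hN₀top)
  by_contra hN₀top
  obtain ⟨N₁, hN₁def⟩ : ∃ N₁ : Subgroup H, N₁ = N₀.map M.subtype := ⟨_, rfl⟩
  have hN₁M : N₁ ≤ M := by
    rw [hN₁def]; rintro _ ⟨a, -, rfl⟩; exact a.2
  have hmemN₁ : ∀ a : M, (a : H) ∈ N₁ ↔ a ∈ N₀ := by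
    intro a
    rw [hN₁def]
    constructor
    · rintro ⟨a', ha', haa'⟩
      have : a' = a := Subtype.ext haa'
      rwa [← this]
    · intro ha
      exact ⟨a, ha, rfl⟩
  have hN₁inv : ∀ m ∈ M, ∀ a ∈ N₁, m * a * m⁻¹ ∈ N₁ := by
    intro m hm a ha
    have haM := hN₁M ha
    have h1 : (⟨a, haM⟩ : M) ∈ N₀ := (hmemN₁ _).mp ha
    have h2 := hN₀n.conj_mem _ h1 ⟨m, hm⟩
    exact (hmemN₁ _).mpr h2
  have hcardN₁ : Nat.card N₁ = Nat.card N₀ := by
    rw [hN₁def]; exact Subgroup.card_map_of_injective M.subtype_injective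
  -- `N₀` has even order
  have hN₀even : Even (Nat.card N₀) := by
    by_contra hodd
    rw [Nat.not_even_iff_odd] at hodd
    have h1 : N₀ ≤ Cfsg.oddCore M := Cfsg.Agent.Lib.le_oddCore hN₀n hodd
    haveI : (Cfsg.oddCore M).Characteristic := Cfsg.Agent.Lib.pPrimeCore_characteristic 2
    have h2 : ((Cfsg.oddCore M).map M.subtype).Normal :=
      ConjAct.normal_of_characteristic_of_normal
    have h3 : Odd (Nat.card ((Cfsg.oddCore M).map M.subtype)) := by
      rw [Subgroup.card_map_of_injective M.subtype_injective]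
      exact Cfsg.Agent.Lib.odd_card_oddCore
    have h4 := Cfsg.Agent.Lib.le_oddCore h2 h3
    rw [hO] at h4
    have h5 : Cfsg.oddCore M = ⊥ := by
      rw [eq_bot_iff]
      intro a ha
      have : (a : H) ∈ (Cfsg.oddCore M).map M.subtype := ⟨a, ha, rfl⟩
      have := h4 this
      rw [Subgroup.mem_bot] at this ⊢
      exact Subtype.ext this
    rw [h5] at h1
    exact hN₀ne (le_bot_iff.mp h1)
  have hz₀N₁ : z₀ ∈ N₁ :=
    central_involution_mem_of_invariant S z₀ hzuniq M hSM N₁ hN₁M hN₁inv (hcardN₁ ▸ hN₀even)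
  -- conjugates of `N₁`
  have hconjN : ∀ h : H, ∃ Nh : Subgroup M, Nh.Normal ∧
      (∀ a : M, a ∈ Nh ↔ h⁻¹ * (a : H) * h ∈ N₁) ∧ ⟨z₀, hN₁M hz₀N₁⟩ ∈ Nh := by
    intro h
    obtain ⟨A, hAdef⟩ : ∃ A : Subgroup H, A = N₁.map (MulAut.conj h).toMonoidHom := ⟨_, rfl⟩
    have hmemA : ∀ a : H, a ∈ A ↔ h⁻¹ * a * h ∈ N₁ := by
      intro a; rw [hAdef]; exact mem_map_conj_iff N₁ h a
    have hAM : A ≤ M := by
      intro a ha
      have h1 := hN₁M ((hmemA a).mp ha)
      have h2 := hMn.conj_mem _ h1 h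
      have : h * (h⁻¹ * a * h) * h⁻¹ = a := by group
      rwa [this] at h2
    have hAinv : ∀ m ∈ M, ∀ a ∈ A, m * a * m⁻¹ ∈ A := by
      intro m hm a ha
      rw [hmemA] at ha ⊢
      have hm' : h⁻¹ * m * h⁻¹⁻¹ ∈ M := hMn.conj_mem _ hm _
      have := hN₁inv _ hm' _ ha
      have e : h⁻¹ * m * h⁻¹⁻¹ * (h⁻¹ * a * h) * (h⁻¹ * m * h⁻¹⁻¹)⁻¹ = h⁻¹ * (m * a * m⁻¹) * h := by
        group
      rwa [e] at this
    have hAeven : Even (Nat.card A) := by
      rw [hAdef, Subgroup.card_map_of_injective (MulAut.conj h).injective, hcardN₁]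
      exact hN₀even
    have hz₀A : z₀ ∈ A :=
      central_involution_mem_of_invariant S z₀ hzuniq M hSM A hAM hAinv hAeven
    refine ⟨A.subgroupOf M, ?_, ?_, ?_⟩
    · constructor
      intro a ha m
      rw [mem_subgroupOf] at ha ⊢
      have := hAinv (m : H) m.2 (a : H) ha
      simpa using this
    · intro a
      rw [mem_subgroupOf, hmemA]
    · rw [mem_subgroupOf]; exact hz₀A
  -- either all conjugates contain `N₀`, or one meets it trivially
  by_cases hall : ∀ h : H, ∀ a ∈ N₁, h * a * h⁻¹ ∈ N₁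
  · -- `N₁` is normal in `H`
    have hN₁n : N₁.Normal := ⟨fun a ha h => hall h a ha⟩
    rcases hMmin N₁ hN₁n hN₁M with h | h
    · apply hN₀ne
      rw [eq_bot_iff]
      intro a ha
      have : (a : H) ∈ N₁ := (hmemN₁ a).mpr ha
      rw [h, Subgroup.mem_bot] at this
      rw [Subgroup.mem_bot]
      exact Subtype.ext this
    · apply hN₀top
      rw [eq_top_iff]
      intro a _
      apply (hmemN₁ a).mp
      rw [h]; exact a.2
  · simp only [not_forall] at hall
    obtain ⟨h, a, haN₁, hnot⟩ := hall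
    obtain ⟨Nh, hNhn, hmemNh, hz₀Nh⟩ := hconjN h⁻¹
    haveI := hNhn
    haveI := hN₀n
    have hinfn : (Nh ⊓ N₀).Normal := inferInstance
    rcases hN₀min (Nh ⊓ N₀) hinfn inf_le_right with hbot | htop
    · have : (⟨z₀, hN₁M hz₀N₁⟩ : M) ∈ Nh ⊓ N₀ :=
        ⟨hz₀Nh, (hmemN₁ _).mp hz₀N₁⟩
      rw [hbot, Subgroup.mem_bot] at this
      exact hz₀1 (congrArg Subtype.val this)
    · -- `N₀ ≤ Nh`, so `h a h⁻¹ ∈ N₁`
      apply hnot
      have h1 : (⟨a, hN₁M haN₁⟩ : M) ∈ Nh ⊓ N₀ := by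
        rw [htop]; exact (hmemN₁ _).mp haN₁
      have h2 := (hmemNh _).mp h1.1
      simpa using h2

end Cfsg.Agent.Helper20
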