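-- helper20: groups with quasi-dihedral or wreathed Sylow 2-subgroups, trivial odd core and no
-- subgroup of index two have a non-abelian simple normal subgroup of odd index.
import Cfsg.Agent.Helper20.SimpleNormal
import Cfsg.Agent.Helper20.InvCentWr0
import Cfsg.Agent.S1204
import Cfsg.Agent.S1209

set_option autoImplicit false

namespace Cfsg.Agent.Helper20

open Subgroup

variable {H : Type*} [Group H]

/-- A form of `exists_simple_normal_odd_index` with hypotheses inside the Sylow subgroup. -/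
theorem exists_simple_normal_odd_index' [Finite H] (S : Sylow 2 H) (z₀ g : (S : Subgroup H))
    (hO : Cfsg.oddCore H = ⊥) (hG : ∀ K : Subgroup H, K.index ≠ 2)
    (hz₀o : orderOf z₀ = 2)
    (hzuniq : ∀ t : (S : Subgroup H), orderOf t = 2 → t ∈ Subgroup.center (S : Subgroup H) →
      t = z₀)
    (hconj : ∀ a b : H, orderOf a = 2 → orderOf b = 2 → IsConj a b)
    (hcyc : ∀ M' : Subgroup (S : Subgroup H), (∀ t : (S : Subgroup H), orderOf t = 2 → t ∈ M') →
      ∀ s : (S : Subgroup H), ∃ i : ℤ, g ^ i * s ∈ M')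
    (hnc : ∃ a b : (S : Subgroup H), a * b ≠ b * a) :
    ∃ L : Subgroup H, L.Normal ∧ Odd L.index ∧ IsSimpleGroup L ∧ ¬ IsMulCommutative L := by
  have hz₀o' : orderOf (z₀ : H) = 2 := by rw [Subgroup.orderOf_coe]; exact hz₀o
  apply exists_simple_normal_odd_index S (z₀ : H) hO hG hz₀o'
  · intro t ht hto hcomm
    have h1 : (⟨t, ht⟩ : (S : Subgroup H)) = z₀ := by
      apply hzuniq
      · rw [← Subgroup.orderOf_coe]; exact hto
      · rw [Subgroup.mem_center_iff]
        intro s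
        apply Subtype.ext
        exact hcomm s s.2
    have h2 := congrArg Subtype.val h1
    exact h2
  · intro t hto
    exact hconj _ _ hz₀o' hto
  · intro M hMn hM
    refine ⟨(g : H), g.2, ?_⟩
    intro s hs
    obtain ⟨i, hi⟩ := hcyc (M.subgroupOf (S : Subgroup H)) (fun t hto => by
      rw [mem_subgroupOf]
      exact hM (t : H) t.2 (by rw [Subgroup.orderOf_coe]; exact hto)) ⟨s, hs⟩
    refine ⟨i, ?_⟩
    rw [mem_subgroupOf] at hi
    simpa using hi
  · obtain ⟨a, b, hab⟩ := hnc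
    refine ⟨(a : H), a.2, (b : H), b.2, ?_⟩
    intro hc
    apply hab
    apply Subtype.ext
    exact hc

theorem exists_simple_normal_of_qd [Finite H] (S : Sylow 2 H)
    (hS : Cfsg.IsQuasiDihedral (S : Subgroup H)) (hO : Cfsg.oddCore H = ⊥)
    (hG : ∀ K : Subgroup H, K.index ≠ 2) :
    ∃ L : Subgroup H, L.Normal ∧ Odd L.index ∧ IsSimpleGroup L ∧ ¬ IsMulCommutative L := by
  obtain ⟨k, x, y, h⟩ := exists_qdData hS
  obtain ⟨T, Q, hT, hTS, -, hQS, -, ⟨eQ⟩⟩ := exists_kleinFour_quat S h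
  obtain ⟨h₁, h₂⟩ := qd_indices_six S hS hG T hT hTS Q hQS eQ
  have hone := (Cfsg.Agent.S1204.result S hS T hT hTS Q hQS eQ h₁ h₂).2.1
  apply exists_simple_normal_odd_index' S (x ^ (4 * 2 ^ k : ℤ)) x hO hG
  · exact (h.involution_iff _).mpr (Or.inl rfl)
  · intro t hto htc
    rcases h.center_cases t htc with h1 | h1
    · rw [h1, orderOf_one] at hto; omega
    · exact h1
  · intro a b ha hb
    exact isConj_of_card_classes_eq_one hone ha hb
  · intro M' hM' s
    rcases h.cases s with ⟨i, rfl⟩ | ⟨i, rfl⟩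
    · exact ⟨-i, by rw [← zpow_add, neg_add_cancel, zpow_zero]; exact M'.one_mem⟩
    · refine ⟨-i, ?_⟩
      rw [← mul_assoc, ← zpow_add, neg_add_cancel, zpow_zero, one_mul]
      exact hM' y h.oy
  · refine ⟨x ^ (1 : ℤ), x ^ (0 : ℤ) * y, ?_⟩
    intro hc
    obtain ⟨d, hd⟩ := (h.xpow_comm_xpow_y_iff 1 0).mp hc
    have hP : (0 : ℤ) < 2 ^ k := by positivity
    have h4 : (4 : ℤ) ∣ 1 := ⟨2 ^ k * d, by linarith⟩
    omega

theorem exists_simple_normal_of_wr [Finite H] (S : Sylow 2 H)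
    (hS : Cfsg.IsWreathed (S : Subgroup H)) (hO : Cfsg.oddCore H = ⊥)
    (hG : ∀ K : Subgroup H, K.index ≠ 2) :
    ∃ L : Subgroup H, L.Normal ∧ Odd L.index ∧ IsSimpleGroup L ∧ ¬ IsMulCommutative L := by
  obtain ⟨n, x, y, z, h⟩ := exists_wrData hS
  obtain ⟨U, Q, hUS, hUab, hUcard, hQS, ⟨eQ⟩⟩ := exists_abel_quat_wr S h
  obtain ⟨h₁, h₂⟩ := wr_indices_six S hS n h.card hG U hUS hUab hUcard Q hQS eQ
  have hone := (Cfsg.Agent.S1209.result S hS n h.card U hUS hUab hUcard Q hQS eQ h₁ h₂).2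
  apply exists_simple_normal_odd_index' S
    (x ^ (2 ^ (n - 1) : ℤ) * y ^ (2 ^ (n - 1) : ℤ)) x hO hG
  · rw [orderOf_eq_two_iff]
    exact ⟨h.c_sq, h.c_ne_one⟩
  · intro t hto htc
    have htU := h.center_le_U htc
    rcases (h.el_involution_iff t htU).mp hto with h1 | h1 | h1
    · exfalso
      have h2 : x ^ (2 ^ (n - 1) : ℤ) * y ^ (0 : ℤ) ∈ Subgroup.center (S : Subgroup H) := by
        rw [zpow_zero, mul_one, ← h1]; exact htc
      have h3 := (h.el_mem_center_iff _ _).mp h2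
      rw [sub_zero] at h3
      exact h.N_not_dvd_P h3
    · exfalso
      have h2 : x ^ (0 : ℤ) * y ^ (2 ^ (n - 1) : ℤ) ∈ Subgroup.center (S : Subgroup H) := by
        rw [zpow_zero, one_mul, ← h1]; exact htc
      have h3 := (h.el_mem_center_iff _ _).mp h2
      rw [zero_sub, dvd_neg] at h3
      exact h.N_not_dvd_P h3
    · exact h1
  · intro a b ha hb
    exact isConj_of_card_classes_eq_one hone ha hb
  · intro M' hM' s
    have hzM : z ∈ M' := hM' z h.oz
    have h1 : x ^ (1 : ℤ) * y ^ (-1 : ℤ) * z ∈ M' := by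
      apply hM'
      rw [h.elz_involution_iff]
      exact ⟨0, by ring⟩
    have h2 : x ^ (1 : ℤ) * y ^ (-1 : ℤ) ∈ M' := by
      have := M'.mul_mem h1 (M'.inv_mem hzM)
      rwa [mul_inv_cancel_right] at this
    have h3 : ∀ j : ℤ, x ^ (-j) * y ^ j ∈ M' := by
      intro j
      have h4 := M'.zpow_mem h2 (-j)
      have h5 : (x ^ (1 : ℤ) * y ^ (-1 : ℤ)) ^ (-j) = x ^ (-j) * y ^ j := by
        rw [Commute.mul_zpow (h.comm_pow 1 (-1)), ← zpow_mul, ← zpow_mul]
        congr 2 <;> ring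
      rwa [h5] at h4
    rcases h.cases s with ⟨i, j, rfl⟩ | ⟨i, j, rfl⟩
    · refine ⟨-(i + j), ?_⟩
      rw [← mul_assoc, ← zpow_add]
      have : -(i + j) + i = -j := by ring
      rw [this]
      exact h3 j
    · refine ⟨-(i + j), ?_⟩
      rw [← mul_assoc, ← mul_assoc, ← zpow_add]
      have : -(i + j) + i = -j := by ring
      rw [this]
      exact M'.mul_mem (h3 j) hzM
  · refine ⟨x ^ (1 : ℤ) * y ^ (0 : ℤ), x ^ (0 : ℤ) * y ^ (0 : ℤ) * z, ?_⟩
    intro hc
    have h2 := (h.el_comm_elz_iff 1 0 0 0).mp hc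
    rw [sub_zero] at h2
    exact h.N_not_dvd_one h2

end Cfsg.Agent.Helper20
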