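-- helper20: S2772 piece (CONJD) for helper88 (#13205): a reflection and a conjugate of it generate
-- `D_{2q}`, `q` an odd prime.
import Mathlib
import Cfsg.Agent.Helper88.SimsD.Defs

set_option autoImplicit false

namespace Cfsg.Agent.Helper20.SimsD

open Subgroup Cfsg.Agent.Helper88.SimsD

theorem CONJD_r_pow {q : ℕ} (j : ZMod q) (n : ℕ) :
    (DihedralGroup.r j) ^ n = DihedralGroup.r ((n : ZMod q) * j) := by
  induction n with
  | zero => rw [pow_zero, Nat.cast_zero, zero_mul, DihedralGroup.one_def]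
  | succ n ih =>
    rw [pow_succ, ih, DihedralGroup.r_mul_r]
    congr 1
    push_cast
    ring

theorem CONJD_eq_top {q : ℕ} (hq : q.Prime) (K : Subgroup (DihedralGroup q)) (i j : ZMod q)
    (hj : j ≠ 0) (hs : DihedralGroup.sr i ∈ K) (hr : DihedralGroup.r j ∈ K) : K = ⊤ := by
  haveI : Fact q.Prime := ⟨hq⟩
  have hrot : ∀ k : ZMod q, DihedralGroup.r k ∈ K := by
    intro k
    have h1 : (DihedralGroup.r j) ^ (k * j⁻¹).val ∈ K := K.pow_mem hr _
    rw [CONJD_r_pow, ZMod.natCast_zmod_val, mul_assoc, inv_mul_cancel₀ hj, mul_one] at h1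
    exact h1
  rw [eq_top_iff]
  intro g _
  cases g with
  | r k => exact hrot k
  | sr k =>
    have h2 : DihedralGroup.sr i * DihedralGroup.r (k - i) ∈ K := K.mul_mem hs (hrot _)
    rw [DihedralGroup.sr_mul_r] at h2
    have : i + (k - i) = k := by ring
    rw [this] at h2
    exact h2

/-- (CONJD) a reflection and a suitable conjugate of it generate `D_{2q}`, `q` odd:
`y = r 1` gives `y * sr i * y⁻¹ = sr (i - 2)` and `sr i * sr (i - 2) = r (-2)`. -/
theorem dihedral_conj_gen {q : ℕ} (hq : q.Prime) (hq2 : q ≠ 2) (i : ZMod q) :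
    ∃ y : DihedralGroup q,
      Subgroup.closure {DihedralGroup.sr i, y * DihedralGroup.sr i * y⁻¹} = ⊤ := by
  haveI : Fact q.Prime := ⟨hq⟩
  refine ⟨DihedralGroup.r 1, ?_⟩
  have hconj : DihedralGroup.r (1 : ZMod q) * DihedralGroup.sr i * (DihedralGroup.r 1)⁻¹
      = DihedralGroup.sr (i - 2) := by
    rw [DihedralGroup.inv_r, DihedralGroup.r_mul_sr, DihedralGroup.sr_mul_r]
    congr 1
    ring
  rw [hconj]
  have h2 : ((-2 : ZMod q)) ≠ 0 := by
    intro h
    have h' : ((2 : ℕ) : ZMod q) = 0 := by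
      have : (2 : ZMod q) = 0 := by
        have := congrArg Neg.neg h
        simpa using this
      exact_mod_cast this
    rw [ZMod.natCast_eq_zero_iff] at h'
    exact hq2 ((Nat.prime_dvd_prime_iff_eq hq Nat.prime_two).mp h')
  apply CONJD_eq_top hq _ i (-2) h2
  · exact Subgroup.subset_closure (by simp)
  · have h3 : DihedralGroup.sr i * DihedralGroup.sr (i - 2) ∈
        Subgroup.closure {DihedralGroup.sr i, DihedralGroup.sr (i - 2)} :=
      Subgroup.mul_mem _ (Subgroup.subset_closure (by simp)) (Subgroup.subset_closure (by simp))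
    rw [DihedralGroup.sr_mul_sr] at h3
    have : i - 2 - i = -2 := by ring
    rw [this] at h3
    exact h3

end Cfsg.Agent.Helper20.SimsD
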