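import Mathlib
import Cfsg.Agent.Helper86.Spec4.Defs

set_option autoImplicit false

/-!
# S2510 piece (B1) for helper86: bad elements have order `p ^ t * k` with `k ∣ cS`
-/

namespace Cfsg.Agent.Helper20.Spec4

open Matrix Cfsg.Agent.Helper86.Spec4

variable {F : Type*} [Field F] [Fintype F]

/-- (B1) bad elements: the order is `p^t * k` with `k ∣ cS`. -/
theorem bad_dvd {p n : ℕ} [Fact p.Prime] [CharP F p] (hn : 1 ≤ n)
    (x : SpecialLinearGroup (Fin n) F)
    (hind : ∀ e : Matrix (Fin n) (Fin n) F, e * e = e → e * x.1 = x.1 * e → e = 0 ∨ e = 1)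
    (H2 : ∀ (s : Matrix (Fin n) (Fin n) F) (j m : ℕ), s = x.1 ^ j → (m : F) ≠ 0 → s ^ m = 1 →
      Irreducible (minpoly F s))
    (H34 : ∀ s : Matrix (Fin n) (Fin n) F, s.det = 1 → Irreducible (minpoly F s) →
      ∃ ζ : F, s ^ cS (Fintype.card F) n = Matrix.scalar (Fin n) ζ) :
    ∃ t k, orderOf (QuotientGroup.mk x : ProjectiveSpecialLinearGroup (Fin n) F) = p ^ t * k ∧
      k ∣ cS (Fintype.card F) n := by
  have hp : p.Prime := Fact.out
  set c := cS (Fintype.card F) n with hc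
  -- the order of `x` in `SL_n`
  have hN0 : orderOf x ≠ 0 := (orderOf_pos x).ne'
  obtain ⟨i, m', hpm', hN⟩ := Nat.exists_eq_pow_mul_and_not_dvd hN0 p hp.ne_one
  -- the `p'`-part
  have hxN : x.1 ^ (p ^ i * m') = 1 := by
    have h := pow_orderOf_eq_one x
    rw [hN] at h
    have h2 := congrArg (fun y : SpecialLinearGroup (Fin n) F => y.1) h
    simpa using h2
  have hsm : (x.1 ^ (p ^ i)) ^ m' = 1 := by rw [← pow_mul]; exact hxN
  have hm'F : (m' : F) ≠ 0 := by
    intro h0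
    exact hpm' ((CharP.cast_eq_zero_iff F p m').mp h0)
  have hirr : Irreducible (minpoly F (x.1 ^ (p ^ i))) := H2 _ (p ^ i) m' rfl hm'F hsm
  have hdet : (x.1 ^ (p ^ i)).det = 1 := by
    rw [Matrix.det_pow, x.2, one_pow]
  obtain ⟨ζ, hζ⟩ := H34 _ hdet hirr
  -- `x ^ (p^i * c)` is central
  have hcen : x ^ (p ^ i * c) ∈ Subgroup.center (SpecialLinearGroup (Fin n) F) := by
    rw [Matrix.SpecialLinearGroup.mem_center_iff]
    refine ⟨ζ, ?_, ?_⟩
    · have h1 : (Matrix.scalar (Fin n) ζ).det = 1 := by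
        rw [← hζ, Matrix.det_pow, hdet, one_pow]
      rw [Matrix.scalar_apply, Matrix.det_diagonal, Finset.prod_const, Finset.card_univ] at h1
      exact h1
    · rw [← hζ, ← pow_mul]
      simp
  have hpow : (QuotientGroup.mk x : ProjectiveSpecialLinearGroup (Fin n) F) ^ (p ^ i * c) = 1 := by
    have h1 : (QuotientGroup.mk (x ^ (p ^ i * c)) : ProjectiveSpecialLinearGroup (Fin n) F) = 1 :=
      (QuotientGroup.eq_one_iff _).mpr hcen
    simpa using h1
  have hdvd : orderOf (QuotientGroup.mk x : ProjectiveSpecialLinearGroup (Fin n) F) ∣ p ^ i * c :=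
    orderOf_dvd_of_pow_eq_one hpow
  obtain ⟨k₁, k₂, hk₁, hk₂, hk⟩ := (Nat.dvd_mul).mp hdvd
  obtain ⟨t, -, rfl⟩ := (Nat.dvd_prime_pow hp).mp hk₁
  exact ⟨t, k₂, hk.symm, hk₂⟩

end Cfsg.Agent.Helper20.Spec4
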