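import Mathlib
import Cfsg.Agent.Helper86.Spec4.DefsU

set_option autoImplicit false

/-!
# S2511 piece (N1) for helper86: the norm of the root in `AdjoinRoot f` over a finite field
-/

namespace Cfsg.Agent.Helper20.Spec4U

open Matrix Polynomial Cfsg.Agent.Helper86.Spec4

variable {F : Type*} [Field F] [Fintype F] {q n : ℕ}

/-- (N1) in `E = AdjoinRoot f`, `f` monic irreducible of degree `d` over the field `F` with `Q` elements:
`root ^ ((Q^d - 1)/(Q - 1)) = (-1)^d f(0)`. -/
theorem root_pow_norm (f : F[X]) (hf : f.Monic) [Fact (Irreducible f)] :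
    (AdjoinRoot.root f) ^ ((Fintype.card F ^ f.natDegree - 1) / (Fintype.card F - 1)) =
      algebraMap F (AdjoinRoot f) ((-1) ^ f.natDegree * f.coeff 0) := by
  have hf0 : f ≠ 0 := hf.ne_zero
  haveI : Module.Finite F (AdjoinRoot f) := hf.finite_adjoinRoot
  haveI : Finite (AdjoinRoot f) := Module.finite_of_finite F
  have hdim : (AdjoinRoot.powerBasis hf0).dim = f.natDegree := AdjoinRoot.powerBasis_dim hf0
  have hgen : (AdjoinRoot.powerBasis hf0).gen = AdjoinRoot.root f := AdjoinRoot.powerBasis_gen hf0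
  have hmin : minpoly F (AdjoinRoot.root f) = f := by
    rw [AdjoinRoot.minpoly_root hf0, hf.leadingCoeff, inv_one, map_one, mul_one]
  have hnorm : Algebra.norm F (AdjoinRoot.root f) = (-1) ^ f.natDegree * f.coeff 0 := by
    have h := Algebra.PowerBasis.norm_gen_eq_coeff_zero_minpoly (AdjoinRoot.powerBasis hf0)
    rw [hgen, hdim, hmin] at h
    exact h
  have hcard : Nat.card (AdjoinRoot f) = Fintype.card F ^ f.natDegree := by
    letI := Fintype.ofFinite (AdjoinRoot f)
    rw [Nat.card_eq_fintype_card, Module.card_eq_pow_finrank (K := F) (V := AdjoinRoot f),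
      (AdjoinRoot.powerBasis hf0).finrank, hdim]
  rw [← hnorm, FiniteField.algebraMap_norm_eq_pow, hcard, Nat.card_eq_fintype_card]

end Cfsg.Agent.Helper20.Spec4U
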