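import Mathlib
import Cfsg.Agent.Helper86.Spec4.DefsU
import Cfsg.Agent.Helper38.IsomOdd

set_option autoImplicit false

/-!
# S2511 piece (X4) for helper86: the characteristic polynomial of a unitary matrix is
self-conjugate-reciprocal
-/

namespace Cfsg.Agent.Helper20.Spec4U

open Matrix Polynomial Cfsg.Agent.Helper86.Spec4

variable {F : Type*} [Field F] [Fintype F] {q n : ℕ}

theorem map_reverse_of_injective {R S : Type*} [Semiring R] [Semiring S] (φ : R →+* S)
    (hφ : Function.Injective φ) (f : R[X]) : (f.reverse).map φ = (f.map φ).reverse := by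
  ext k
  rw [coeff_map, coeff_reverse, coeff_reverse, natDegree_map_eq_of_injective hφ, coeff_map]

/-- (X4) the characteristic polynomial of a unitary matrix is self-conjugate-reciprocal. -/
theorem pstar_charpoly (bar : F →+* F) (hbar2 : ∀ x, bar (bar x) = x)
    (s : Matrix (Fin n) (Fin n) F) (hs : dag bar s * s = 1) :
    Associated (pstar bar s.charpoly) s.charpoly := by
  have h1 := Cfsg.Agent.Helper38.charpoly_mul_C_det_of_mul_eq_one s (dag bar s) hs
  have hχ : (dag bar s).charpoly = s.charpoly.map bar := by
    unfold dag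
    rw [Matrix.charpoly_transpose, Matrix.charpoly_map]
  rw [hχ, Fintype.card_fin] at h1
  have h2 := congrArg (Polynomial.map bar) h1
  have hid : bar.comp bar = RingHom.id F := RingHom.ext hbar2
  rw [Polynomial.map_mul, Polynomial.map_mul, Polynomial.map_map, Polynomial.map_C,
    Polynomial.map_pow, Polynomial.map_neg, Polynomial.map_one,
    map_reverse_of_injective bar bar.injective, hid, Polynomial.map_id] at h2
  -- h2 : s.charpoly * C (bar s.det) = (-1)^n * (s.charpoly.map bar).reverse
  have hdet : s.det ≠ 0 := by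
    intro h0
    have := congrArg Matrix.det hs
    rw [Matrix.det_mul, h0, mul_zero, Matrix.det_one] at this
    exact zero_ne_one this
  have hbd : bar s.det ≠ 0 := fun h0 => hdet (bar.injective (h0.trans (map_zero bar).symm))
  have hu : IsUnit ((-1 : F[X]) ^ n * C (bar s.det)) := by
    refine IsUnit.mul ?_ (Polynomial.isUnit_C.mpr (isUnit_iff_ne_zero.mpr hbd))
    exact (isUnit_one.neg).pow n
  have h3 : pstar bar s.charpoly = s.charpoly * ((-1 : F[X]) ^ n * C (bar s.det)) := by
    unfold pstar
    have hsq : ((-1 : F[X]) ^ n) * ((-1 : F[X]) ^ n) = 1 := by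
      rw [← mul_pow]; simp
    calc (s.charpoly.map bar).reverse
        = ((-1 : F[X]) ^ n * (-1 : F[X]) ^ n) * (s.charpoly.map bar).reverse := by
          rw [hsq, one_mul]
      _ = (-1 : F[X]) ^ n * ((-1 : F[X]) ^ n * (s.charpoly.map bar).reverse) := by ring
      _ = (-1 : F[X]) ^ n * (s.charpoly * C (bar s.det)) := by rw [h2]
      _ = s.charpoly * ((-1 : F[X]) ^ n * C (bar s.det)) := by ring
  rw [h3]
  exact associated_mul_unit_left _ _ hu

end Cfsg.Agent.Helper20.Spec4U
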