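import Cfsg.Agent.Helper96.StC.Basic

/-!
# (A2) for S2092: conjugation by the short-root `w` on a long root element (type `C`)
-/

set_option autoImplicit false

namespace Cfsg.Agent.Helper20.StCA2

open Cfsg.Agent.Helper96 Cfsg.Agent.Helper96.StN Cfsg.Agent.Helper96.StC

universe u v w

variable {K : Type u} [Field K] {D : Type v} [Group D] {ι : Type w} [DecidableEq ι]
  {X : ι ⊕ ι → ι ⊕ ι → K → D}

theorem W_short_conj_long (hX : SpRel X) {p q : ι ⊕ ι} (hpq : p ≠ q) (hpq' : q ≠ bar p) {t : K}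
    (ht : t ≠ 0) (u : K) :
    W X p q t * X p (bar p) u * (W X p q t)⁻¹ = X q (bar q) (eps K p q * t⁻¹ ^ 2 * u) := by
  have hqp' : p ≠ bar q := fun e => hpq' (by rw [e, bar_bar])
  have hbpq : bar p ≠ bar q := fun e => hpq (bar_injective e)
  have hbp : bar p ≠ p := bar_ne p
  have hbq : bar q ≠ q := bar_ne q
  have hqbb : q ≠ bar (bar p) := by rw [bar_bar]; exact hpq.symm
  have hpbb : p ≠ bar (bar q) := by rw [bar_bar]; exact hpq
  have hee : eps K p q * eps K p q = 1 := eps_mul_self p q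
  -- pairwise commutation of the three root subgroups `X p p̄`, `X q p̄`, `X q q̄`
  have cAL : ∀ a b : K, X p q a * X p (bar p) b * (X p q a)⁻¹ = X p (bar p) b := fun a b =>
    StC.comm_conj hX hpq hbp.symm hpq.symm hqbb hbp.symm hbp.symm a b
  have cQP : ∀ a b : K, X q (bar q) a * X p (bar p) b = X p (bar p) b * X q (bar q) a :=
    fun a b => hX.comm q (bar q) p (bar p) hbq.symm hbp.symm hqp'.symm
      (by rw [bar_bar]; exact hqp'.symm) hpq' hpq' a b
  have cQR : ∀ a b : K, X q (bar q) a * X q (bar p) b = X q (bar p) b * X q (bar q) a :=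
    fun a b => hX.comm q (bar q) q (bar p) hbq.symm hpq' hbq
      (by rw [bar_bar]; exact hqp'.symm) hbq.symm hpq' a b
  have cRP : ∀ a b : K, X q (bar p) a * X p (bar p) b = X p (bar p) b * X q (bar p) a :=
    fun a b => hX.comm q (bar p) p (bar p) hpq' hbp.symm hbp
      (by rw [bar_bar]; exact hbp) hpq' hpq' a b
  -- step 2: conjugation of `L` by `Y = X q p (-t⁻¹)`
  have hY : X q p (-t⁻¹) = X (bar p) (bar q) (eps K p q * t⁻¹) := by
    rw [hX.sym q p hpq.symm hqp' (-t⁻¹)]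
    congr 1
    rw [eps_comm q p]
    ring
  have h6 := hX.r6 p (bar q) hqp' hpbb u (eps K p q * t⁻¹)
  rw [bar_bar, eps_bar_right] at h6
  have hstep2 : X q p (-t⁻¹) * X p (bar p) u * (X q p (-t⁻¹))⁻¹ =
      X q (bar q) (eps K p q * t⁻¹ ^ 2 * u) * X p (bar q) (-(eps K p q * t⁻¹ * u)) *
        X p (bar p) u := by
    rw [hY]
    have e : X (bar p) (bar q) (eps K p q * t⁻¹) * X p (bar p) u *
        (X (bar p) (bar q) (eps K p q * t⁻¹))⁻¹ =
        (X p (bar p) u * X (bar p) (bar q) (eps K p q * t⁻¹) * (X p (bar p) u)⁻¹ *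
          (X (bar p) (bar q) (eps K p q * t⁻¹))⁻¹)⁻¹ * X p (bar p) u := by group
    rw [e, h6, mul_inv_rev, StC.X_neg hX hqp', StC.X_neg hX hbq.symm]
    congr 2
    · congr 1
      linear_combination (eps K p q * u * t⁻¹ ^ 2) * hee
    · congr 1
      ring
  -- step 3 (i): conjugation of `X q q̄ v` by `A = X p q t`
  have heps : eps K p q = 1 ∨ eps K p q = -1 := by
    unfold eps; split_ifs <;> simp
  have hA : X p q t = X (bar q) (bar p) (-(eps K p q * t)) := hX.sym p q hpq hpq' t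
  have h6' := hX.r6 q (bar p) hpq' hqbb (eps K p q * t⁻¹ ^ 2 * u) (-(eps K p q * t))
  rw [bar_bar, eps_bar_right, eps_comm q p] at h6'
  have hi : X p q t * X q (bar q) (eps K p q * t⁻¹ ^ 2 * u) * (X p q t)⁻¹ =
      X p (bar p) u * X q (bar p) (t⁻¹ * u) * X q (bar q) (eps K p q * t⁻¹ ^ 2 * u) := by
    rw [hA]
    have e : X (bar q) (bar p) (-(eps K p q * t)) * X q (bar q) (eps K p q * t⁻¹ ^ 2 * u) *
        (X (bar q) (bar p) (-(eps K p q * t)))⁻¹ =
        (X q (bar q) (eps K p q * t⁻¹ ^ 2 * u) * X (bar q) (bar p) (-(eps K p q * t)) *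
          (X q (bar q) (eps K p q * t⁻¹ ^ 2 * u))⁻¹ *
          (X (bar q) (bar p) (-(eps K p q * t)))⁻¹)⁻¹ *
          X q (bar q) (eps K p q * t⁻¹ ^ 2 * u) := by group
    rw [e, h6', mul_inv_rev, StC.X_neg hX hpq', StC.X_neg hX hbp.symm]
    congr 2
    · congr 1
      rcases heps with h | h <;> rw [h] <;> field_simp
    · congr 1
      rcases heps with h | h <;> rw [h] <;> field_simp
  -- step 3 (ii): conjugation of `X p q̄ c` by `A`
  have hsym2 : ∀ c : K, X p (bar q) c = X q (bar p) (eps K p q * c) := by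
    intro c
    rw [hX.sym p (bar q) hqp' hbpq.symm c, bar_bar, eps_bar_right]
    congr 1
    ring
  have hii : X p q t * X p (bar q) (-(eps K p q * t⁻¹ * u)) * (X p q t)⁻¹ =
      X p (bar p) (-(2 * u)) * X q (bar p) (-(t⁻¹ * u)) := by
    rw [hsym2, StC.r5_conj hX hpq hqp']
    have hc : eps K p q * (-(eps K p q * t⁻¹ * u)) = -(t⁻¹ * u) := by
      linear_combination (-(t⁻¹ * u)) * hee
    rw [hc]
    congr 2
    field_simp
  -- assembling
  have e0 : W X p q t * X p (bar p) u * (W X p q t)⁻¹ =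
      X p q t * (X q p (-t⁻¹) * (X p q t * X p (bar p) u * (X p q t)⁻¹) * (X q p (-t⁻¹))⁻¹) *
        (X p q t)⁻¹ := by
    unfold W; group
  rw [e0, cAL, hstep2]
  have e1 : X p q t * (X q (bar q) (eps K p q * t⁻¹ ^ 2 * u) *
      X p (bar q) (-(eps K p q * t⁻¹ * u)) * X p (bar p) u) * (X p q t)⁻¹ =
      (X p q t * X q (bar q) (eps K p q * t⁻¹ ^ 2 * u) * (X p q t)⁻¹) *
      (X p q t * X p (bar q) (-(eps K p q * t⁻¹ * u)) * (X p q t)⁻¹) *
      (X p q t * X p (bar p) u * (X p q t)⁻¹) := by group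
  rw [e1, hi, hii, cAL]
  have hR : X q (bar p) (t⁻¹ * u) * X q (bar p) (-(t⁻¹ * u)) = 1 := by
    rw [← hX.add q (bar p) hpq', add_neg_cancel, StC.X_zero hX hpq']
  have hP : X p (bar p) u * X p (bar p) (-(2 * u)) * X p (bar p) u = 1 := by
    rw [← hX.add p (bar p) hbp.symm, ← hX.add p (bar p) hbp.symm,
      show u + -(2 * u) + u = 0 by ring, StC.X_zero hX hbp.symm]
  have e2 : X p (bar p) u * X q (bar p) (t⁻¹ * u) * X q (bar q) (eps K p q * t⁻¹ ^ 2 * u) =
      X q (bar q) (eps K p q * t⁻¹ ^ 2 * u) * (X p (bar p) u * X q (bar p) (t⁻¹ * u)) := by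
    rw [mul_assoc, ← cQR, ← mul_assoc, ← cQP, mul_assoc]
  have inner : (X p (bar p) u * X q (bar p) (t⁻¹ * u)) *
      (X p (bar p) (-(2 * u)) * X q (bar p) (-(t⁻¹ * u))) * X p (bar p) u = 1 := by
    calc (X p (bar p) u * X q (bar p) (t⁻¹ * u)) *
          (X p (bar p) (-(2 * u)) * X q (bar p) (-(t⁻¹ * u))) * X p (bar p) u
        = X p (bar p) u * (X q (bar p) (t⁻¹ * u) * X p (bar p) (-(2 * u))) *
            X q (bar p) (-(t⁻¹ * u)) * X p (bar p) u := by simp only [mul_assoc]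
      _ = X p (bar p) u * (X p (bar p) (-(2 * u)) * X q (bar p) (t⁻¹ * u)) *
            X q (bar p) (-(t⁻¹ * u)) * X p (bar p) u := by rw [cRP]
      _ = X p (bar p) u * X p (bar p) (-(2 * u)) *
            (X q (bar p) (t⁻¹ * u) * X q (bar p) (-(t⁻¹ * u))) * X p (bar p) u := by
          simp only [mul_assoc]
      _ = 1 := by rw [hR, mul_one, hP]
  rw [e2, mul_assoc, mul_assoc, ← mul_assoc (X p (bar p) u * X q (bar p) (t⁻¹ * u)), inner,
    mul_one]

end Cfsg.Agent.Helper20.StCA2
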