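import Cfsg.Agent.Helper20.SzcMI5

/-!
# S4775 (character degree graph of `Sz(q)`), piece [MC] for helper6 (#11435)

`szc_ind_values`: values of the function induced from a class function of `B` vanishing off `Q`.
-/

set_option autoImplicit false
set_option linter.unusedSectionVars false

namespace Cfsg.Agent.Helper20.Szc

open Cfsg Cfsg.Agent.Helper6
open scoped ComplexConjugate

universe u

variable {G : Type u} [Group G] [Fintype G] {Q H B K₁ K₂ : Subgroup G} {w : G} {T : ℕ}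
  [Fintype ↥B]

/-- `Q` meets its conjugates by elements outside `B` trivially -/
theorem TI_aux (D : SzHyp Q H B K₁ K₂ w T) :
    ∀ g : G, g ∉ B → ∀ k ∈ Q, g * k * g⁻¹ ∈ Q → k = 1 := by
  intro g hg k hk hgk
  by_contra hk1
  apply hg
  have h1 : (g⁻¹)⁻¹ * k * g⁻¹ ∈ B := by
    rw [inv_inv]
    exact D.QB hgk
  have h2 := D.TI k hk hk1 g⁻¹ h1
  simpa using B.inv_mem h2

/-- a conjugate in `B` of an element of `B` outside `Q` lies outside `Q` -/
theorem conj_not_mem_aux (D : SzHyp Q H B K₁ K₂ w T) (x : G) (hxB : x ∈ B) (hxQ : x ∉ Q) (y : G) :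
    y * x * y⁻¹ ∉ Q := by
  intro hk
  have hx1 : x ≠ 1 := by
    rintro rfl
    exact hxQ Q.one_mem
  have hk1 : y * x * y⁻¹ ≠ 1 := by
    intro h
    apply hx1
    calc x = y⁻¹ * (y * x * y⁻¹) * y := by group
      _ = 1 := by rw [h]; group
  have h1 : y⁻¹ * (y * x * y⁻¹) * y ∈ B := by
    have : y⁻¹ * (y * x * y⁻¹) * y = x := by group
    rw [this]
    exact hxB
  have hy : y ∈ B := D.TI _ hk hk1 y h1
  apply hxQ
  have h2 := D.Qnormal y⁻¹ (B.inv_mem hy) _ hk
  have h3 : y⁻¹ * (y * x * y⁻¹) * y⁻¹⁻¹ = x := by group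
  rw [h3] at h2
  exact h2

/-- MC: values of the function induced from a class function of `B` vanishing off `Q` -/
theorem szc_ind_values (D : SzHyp Q H B K₁ K₂ w T) (α : ↥B → ℂ) (hα : IsClassFunction ↥B α)
    (hvan : ∀ x : ↥B, (x : G) ∉ Q → α x = 0) :
    indFun B α 1 = (((2 * T ^ 2) ^ 2 + 1 : ℕ) : ℂ) * α 1 ∧
    (∀ x : ↥B, (x : G) ∈ Q → x ≠ 1 → indFun B α (x : G) = α x) ∧
    (∀ x : ↥B, (x : G) ∉ Q → indFun B α (x : G) = 0) := by
  refine ⟨(szc_ind_gen D α).1, ?_, ?_⟩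
  · intro x hx hx1
    exact Helper75.tf_indFun_apply Q B (TI_aux D) hα hvan x hx hx1
  · intro x hx
    rw [Helper15.indFun_apply', Finset.sum_eq_zero, mul_zero]
    intro y _
    by_cases hy : y * (x : G) * y⁻¹ ∈ B
    · rw [Helper15.extendByZero_of_mem B α hy]
      exact hvan _ (conj_not_mem_aux D (x : G) x.2 hx y)
    · exact Helper15.extendByZero_of_not_mem B α hy

end Cfsg.Agent.Helper20.Szc
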