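import Cfsg.Agent.Helper20.SzcMC

/-!
# S4775 (character degree graph of `Sz(q)`), piece [MD] for helper6 (#11435)

`szc_inner_ind_ind`: the inner product of two functions induced from `B`, the second one induced
from a class function vanishing off `Q`.
-/

set_option autoImplicit false
set_option linter.unusedSectionVars false

namespace Cfsg.Agent.Helper20.Szc

open Cfsg Cfsg.Agent.Helper6
open scoped ComplexConjugate

universe u

variable {G : Type u} [Group G] [Fintype G] {Q H B K₁ K₂ : Subgroup G} {w : G} {T : ℕ}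
  [Fintype ↥B]

/-- the restriction to `B` of the function induced from a class function of `B` vanishing
off `Q` -/
theorem res_ind_aux (D : SzHyp Q H B K₁ K₂ w T) (α : ↥B → ℂ) (hα : IsClassFunction ↥B α)
    (hvan : ∀ x : ↥B, (x : G) ∉ Q → α x = 0) (h : ↥B) :
    (h = 1 → indFun B α (h : G) = α h + (((2 * T ^ 2) ^ 2 : ℕ) : ℂ) * α 1) ∧
      (h ≠ 1 → indFun B α (h : G) = α h) := by
  obtain ⟨h1, h2, h3⟩ := szc_ind_values D α hα hvan
  constructor
  · intro hh1
    subst hh1
    rw [Subgroup.coe_one, h1]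
    push_cast
    ring
  · intro hh1
    by_cases hQ : (h : G) ∈ Q
    · exact h2 h hQ hh1
    · rw [h3 h hQ, hvan h hQ]

/-- MD -/
theorem szc_inner_ind_ind (D : SzHyp Q H B K₁ K₂ w T) (γ α : ↥B → ℂ)
    (hα : IsClassFunction ↥B α) (hvan : ∀ x : ↥B, (x : G) ∉ Q → α x = 0) :
    classInner (indFun B γ) (indFun B α)
      = classInner γ α + γ 1 * conj (α 1) / ((2 * T ^ 2 - 1 : ℕ) : ℂ) := by
  classical
  rw [Helper15.frobenius_reciprocity B γ (indFun B α) (Helper15.isClassFunction_indFun B α)]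
  rw [Helper15.classInner_apply, Helper15.classInner_apply]
  have hterm : ∀ b : ↥B, γ b * conj (indFun B α (b : G)) = γ b * conj (α b) +
      (if b = 1 then γ 1 * conj ((((2 * T ^ 2) ^ 2 : ℕ) : ℂ) * α 1) else 0) := by
    intro b
    by_cases hb : b = 1
    · rw [(res_ind_aux D α hα hvan b).1 hb]
      subst hb
      rw [if_pos rfl, map_add, mul_add]
    · rw [(res_ind_aux D α hα hvan b).2 hb, if_neg hb, add_zero]
  rw [Finset.sum_congr rfl (fun b _ => hterm b), Finset.sum_add_distrib, Finset.sum_ite_eq',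
    if_pos (Finset.mem_univ _), mul_add]
  congr 1
  rw [card_B_aux D]
  have hc : (((2 * T ^ 2 - 1 : ℕ)) : ℂ) ≠ 0 := by
    have := q_sub_one_pos D
    exact_mod_cast this.ne'
  have hq : ((((2 * T ^ 2) ^ 2 : ℕ)) : ℂ) ≠ 0 := by
    have := q_sub_one_pos D
    have h2 : 0 < 2 * T ^ 2 := by omega
    have h3 : 0 < (2 * T ^ 2) ^ 2 := Nat.pow_pos h2
    exact_mod_cast h3.ne'
  rw [Nat.cast_mul, map_mul, map_natCast]
  field_simp

end Cfsg.Agent.Helper20.Szc
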