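import Cfsg.Agent.Helper6.SzChar0
import Cfsg.Agent.Helper15.ConjChar
import Cfsg.Agent.Helper75.TIFN

/-!
# S4775 (character degree graph of `Sz(q)`), piece [MI5] for helper6 (#11435)

`szc_ind_gen`: degree of a function induced from `B`, and vanishing off the conjugates of `B`.
Also the helper facts `|B| = |Q| |H|` and `[G : B] = q² + 1` from `SzHyp`.
-/

set_option autoImplicit false
set_option linter.unusedSectionVars false

namespace Cfsg.Agent.Helper20.Szc

open Cfsg Cfsg.Agent.Helper6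
open scoped ComplexConjugate

universe u

variable {G : Type u} [Group G] [Fintype G] {Q H B K₁ K₂ : Subgroup G} {w : G} {T : ℕ}

/-- `|B| = |Q| |H|` -/
theorem card_B_aux (D : SzHyp Q H B K₁ K₂ w T) :
    Nat.card ↥B = (2 * T ^ 2) ^ 2 * (2 * T ^ 2 - 1) := by
  classical
  let f : ↥Q × ↥H → ↥B := fun p => ⟨(p.1 : G) * (p.2 : G), B.mul_mem (D.QB p.1.2) (D.HB p.2.2)⟩
  have hf : Function.Bijective f := by
    constructor
    · rintro ⟨x, h⟩ ⟨x', h'⟩ hxy
      have h1 : (x : G) * (h : G) = (x' : G) * (h' : G) := congrArg Subtype.val hxy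
      have h2 : (x' : G)⁻¹ * (x : G) = (h' : G) * (h : G)⁻¹ := by
        calc (x' : G)⁻¹ * (x : G) = (x' : G)⁻¹ * ((x : G) * (h : G)) * (h : G)⁻¹ := by group
          _ = (x' : G)⁻¹ * ((x' : G) * (h' : G)) * (h : G)⁻¹ := by rw [h1]
          _ = (h' : G) * (h : G)⁻¹ := by group
      have h3 : (x' : G)⁻¹ * (x : G) ∈ Q ⊓ H := by
        refine ⟨Q.mul_mem (Q.inv_mem x'.2) x.2, ?_⟩
        rw [h2]
        exact H.mul_mem h'.2 (H.inv_mem h.2)
      rw [D.inf, Subgroup.mem_bot] at h3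
      have h4 : (x : G) = (x' : G) := by
        calc (x : G) = (x' : G) * ((x' : G)⁻¹ * (x : G)) := by group
          _ = (x' : G) := by rw [h3, mul_one]
      have h5 : (h : G) = (h' : G) := by
        rw [h4] at h1
        exact mul_left_cancel h1
      exact Prod.ext (Subtype.ext h4) (Subtype.ext h5)
    · rintro ⟨b, hb⟩
      obtain ⟨x, hx, h, hh, rfl⟩ := D.sup b hb
      exact ⟨(⟨x, hx⟩, ⟨h, hh⟩), rfl⟩
  rw [← Nat.card_congr (Equiv.ofBijective f hf), Nat.card_prod, D.cardQ, D.cardH]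

theorem q_sub_one_pos (D : SzHyp Q H B K₁ K₂ w T) : 0 < 2 * T ^ 2 - 1 := by
  obtain ⟨m, hm, rfl⟩ := D.pow
  have : 1 ≤ (2 ^ m) ^ 2 := Nat.one_le_pow _ _ (Nat.one_le_pow _ _ (by norm_num))
  omega

/-- `[G : B] = q² + 1` -/
theorem index_B_aux (D : SzHyp Q H B K₁ K₂ w T) : B.index = (2 * T ^ 2) ^ 2 + 1 := by
  have h1 := B.card_mul_index
  rw [card_B_aux D, D.cardG] at h1
  have hpos : 0 < (2 * T ^ 2) ^ 2 * (2 * T ^ 2 - 1) := by
    apply Nat.mul_pos _ (q_sub_one_pos D)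
    have := q_sub_one_pos D
    have h2 : 0 < 2 * T ^ 2 := by omega
    exact Nat.pow_pos h2
  apply Nat.eq_of_mul_eq_mul_left hpos
  rw [h1]
  ring

/-- MI5: degree of an induced function, and vanishing off the conjugates of `B` -/
theorem szc_ind_gen [Fintype ↥B] (D : SzHyp Q H B K₁ K₂ w T) (γ : ↥B → ℂ) :
    indFun B γ 1 = (((2 * T ^ 2) ^ 2 + 1 : ℕ) : ℂ) * γ 1 ∧
    ∀ g : G, (∀ x : G, x * g * x⁻¹ ∉ B) → indFun B γ g = 0 := by
  constructor
  · rw [Helper15.indFun_apply_one, index_B_aux D]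
  · intro g hg
    rw [Helper15.indFun_apply', Finset.sum_eq_zero, mul_zero]
    intro x _
    exact Helper15.extendByZero_of_not_mem B γ (hg x)

end Cfsg.Agent.Helper20.Szc
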