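-- helper20: S2372/S2375 piece (DET) for helper80 (#13336): `det (1 - q M) = N₀`.
import Mathlib
import Cfsg.Agent.Helper80.Tor.Defs

set_option autoImplicit false
set_option linter.unusedVariables false

namespace Cfsg.Agent.Helper20.Tor

open Cfsg.Agent.Helper18 (zact)
open Polynomial Cfsg.Agent.Helper80.Tor

/-- the determinant of `1 - q M` from the characteristic polynomial -/
theorem DET_of_charpoly {l m q N₀ : ℕ} (hq : 0 < q)
    (M : Matrix (Fin l) (Fin l) ℤ) (hchar : M.charpoly = cyclotomic m ℤ) (g : ℤ[X])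
    (hg : (1 - C (q : ℤ) * X) * g = C (N₀ : ℤ) - C ((q : ℤ) ^ l) * cyclotomic m ℤ) :
    (1 - (q : ℤ) • M).det = N₀ := by
  have hq0 : (q : ℚ) ≠ 0 := by exact_mod_cast hq.ne'
  set A : Matrix (Fin l) (Fin l) ℚ := M.map (Int.castRingHom ℚ) with hA
  have hcharA : A.charpoly = cyclotomic m ℚ := by
    rw [hA, Matrix.charpoly_map, hchar, map_cyclotomic]
  -- evaluate `hg` at `1 / q`
  have hcyc : eval₂ (Int.castRingHom ℚ) ((q : ℚ)⁻¹) (cyclotomic m ℤ)
      = (cyclotomic m ℚ).eval ((q : ℚ)⁻¹) := by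
    rw [← eval_map, map_cyclotomic]
  have h1 := congrArg (eval₂ (Int.castRingHom ℚ) ((q : ℚ)⁻¹)) hg
  rw [eval₂_mul, eval₂_sub, eval₂_sub, eval₂_mul, eval₂_mul, eval₂_one, eval₂_C, eval₂_C, eval₂_C,
    eval₂_X, hcyc] at h1
  have h1' : (0 : ℚ) = (N₀ : ℚ) - (q : ℚ) ^ l * (cyclotomic m ℚ).eval ((q : ℚ)⁻¹) := by
    have e1 : (Int.castRingHom ℚ) (q : ℤ) = (q : ℚ) := by simp
    have e2 : (Int.castRingHom ℚ) (N₀ : ℤ) = (N₀ : ℚ) := by simp
    have e3 : (Int.castRingHom ℚ) ((q : ℤ) ^ l) = (q : ℚ) ^ l := by simp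
    rw [e1, e2, e3, mul_inv_cancel₀ hq0, sub_self, zero_mul] at h1
    exact h1
  -- the determinant over `ℚ`
  have h2 : (((1 : Matrix (Fin l) (Fin l) ℤ) - (q : ℤ) • M).det : ℚ)
      = (q : ℚ) ^ l * (cyclotomic m ℚ).eval ((q : ℚ)⁻¹) := by
    rw [← hcharA, Matrix.eval_charpoly]
    have h3 : ((1 : Matrix (Fin l) (Fin l) ℤ) - (q : ℤ) • M).map (Int.castRingHom ℚ)
        = (q : ℚ) • (Matrix.scalar (Fin l) ((q : ℚ)⁻¹) - A) := by
      ext i j
      rw [Matrix.map_apply, Matrix.sub_apply, Matrix.smul_apply, Matrix.smul_apply,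
        Matrix.sub_apply, hA, Matrix.map_apply, smul_eq_mul, smul_eq_mul, map_sub, map_mul, mul_sub]
      by_cases hij : i = j
      · subst hij
        simp [mul_inv_cancel₀ hq0]
      · simp [Matrix.one_apply_ne hij, hij]
    have h4 : (((1 : Matrix (Fin l) (Fin l) ℤ) - (q : ℤ) • M).det : ℚ)
        = (((1 : Matrix (Fin l) (Fin l) ℤ) - (q : ℤ) • M).map (Int.castRingHom ℚ)).det := by
      rw [← RingHom.mapMatrix_apply, ← RingHom.map_det]
      rfl
    rw [h4, h3, Matrix.det_smul, Fintype.card_fin]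
  have h5 : (((1 : Matrix (Fin l) (Fin l) ℤ) - (q : ℤ) • M).det : ℚ) = ((N₀ : ℤ) : ℚ) := by
    rw [h2]
    push_cast
    linarith
  exact_mod_cast h5

/-- private copy of (CP): an integer matrix of size `φ(m)` killed by `Φ_m` has characteristic
polynomial `Φ_m` -/
theorem DET_charpoly_eq_cyclotomic {l m : ℕ} (hm : 0 < m) (hl : Nat.totient m = l)
    (M : Matrix (Fin l) (Fin l) ℤ) (hM : aeval M (cyclotomic m ℤ) = 0) :
    M.charpoly = cyclotomic m ℤ := by
  set A : Matrix (Fin l) (Fin l) ℚ := M.map (Int.castRingHom ℚ) with hA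
  have hAM : A = (Int.castRingHom ℚ).mapMatrix M := rfl
  have hA0 : aeval A (cyclotomic m ℚ) = 0 := by
    have h1 : aeval A (cyclotomic m ℤ) = 0 := by
      have := Polynomial.aeval_algHom_apply
        ((Int.castRingHom ℚ).mapMatrix.toIntAlgHom :
          Matrix (Fin l) (Fin l) ℤ →ₐ[ℤ] Matrix (Fin l) (Fin l) ℚ) M (cyclotomic m ℤ)
      rw [hM, map_zero] at this
      exact this
    rw [← map_cyclotomic m (algebraMap ℤ ℚ), Polynomial.aeval_map_algebraMap]
    exact h1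
  have hirr : Irreducible (cyclotomic m ℚ) := cyclotomic.irreducible_rat hm
  have hlpos : 0 < l := by rw [← hl]; exact Nat.totient_pos.mpr hm
  have : Nonempty (Fin l) := ⟨⟨0, hlpos⟩⟩
  have hmin : cyclotomic m ℚ = minpoly ℚ A :=
    minpoly.eq_of_irreducible_of_monic hirr hA0 (cyclotomic.monic m ℚ)
  have hdvd : cyclotomic m ℚ ∣ A.charpoly := by
    rw [hmin]
    exact Matrix.minpoly_dvd_charpoly A
  have hdeg : A.charpoly.natDegree ≤ (cyclotomic m ℚ).natDegree := by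
    rw [Matrix.charpoly_natDegree_eq_dim, natDegree_cyclotomic, Fintype.card_fin, hl]
  have hcharA : A.charpoly = cyclotomic m ℚ :=
    Polynomial.eq_of_monic_of_dvd_of_natDegree_le (cyclotomic.monic m ℚ) (Matrix.charpoly_monic A)
      hdvd hdeg
  apply Polynomial.map_injective (Int.castRingHom ℚ) Int.cast_injective
  rw [← Matrix.charpoly_map, map_cyclotomic]
  exact hcharA

/-- (DET) -/
theorem det_one_sub_smul {l m q N₀ : ℕ} (hq : 0 < q) (hm : 0 < m) (hl : Nat.totient m = l)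
    (M : Matrix (Fin l) (Fin l) ℤ) (hM : aeval M (cyclotomic m ℤ) = 0) (g : ℤ[X])
    (hg : (1 - C (q : ℤ) * X) * g = C (N₀ : ℤ) - C ((q : ℤ) ^ l) * cyclotomic m ℤ) :
    (1 - (q : ℤ) • M).det = N₀ :=
  DET_of_charpoly hq M (DET_charpoly_eq_cyclotomic hm hl M hM) g hg

end Cfsg.Agent.Helper20.Tor
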