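-- helper20: trace maps of a group element acting on an additive group, and stabilizer comparison lemmas.
import Mathlib

set_option autoImplicit false

namespace Cfsg.Agent.Helper20

section tau
variable {P E : Type*} [Group P] [AddCommGroup E] [DistribMulAction P E]

/-- trace map of `u`: `e ↦ ∑_{i<p} u^i • e`. -/
def tau (p : ℕ) (u : P) : E →+ E :=
  ∑ i ∈ Finset.range p, DistribSMul.toAddMonoidHom E (u ^ i)

theorem tau_apply (p : ℕ) (u : P) (e : E) :
    tau p u e = ∑ i ∈ Finset.range p, (u ^ i) • e := by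
  simp [tau]

theorem tau_fixed {p : ℕ} {u : P} (hu : u ^ p = 1) (e : E) : u • tau p u e = tau p u e := by
  rw [tau_apply, Finset.smul_sum]
  have h1 : ∀ i, u • (u ^ i) • e = (u ^ (i + 1)) • e := fun i => by rw [smul_smul, ← pow_succ']
  simp only [h1]
  have h2 := Finset.sum_range_succ (fun i => (u ^ i) • e) p
  have h3 := Finset.sum_range_succ' (fun i => (u ^ i) • e) p
  rw [h2] at h3
  simp only [hu, pow_zero, one_smul] at h3
  exact (add_right_cancel h3).symm

theorem pow_smul_of_fixed {u : P} {e : E} (h : u • e = e) (i : ℕ) : (u ^ i) • e = e := by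
  induction i with
  | zero => simp
  | succ k ih => rw [pow_succ, mul_smul, h, ih]

theorem tau_of_fixed {p : ℕ} {u : P} {e : E} (h : u • e = e) : tau p u e = p • e := by
  rw [tau_apply]
  simp only [pow_smul_of_fixed h, Finset.sum_const, Finset.card_range]

theorem smul_tau (p : ℕ) (v u : P) (e : E) :
    v • tau p u e = tau p (v * u * v⁻¹) (v • e) := by
  rw [tau_apply, tau_apply, Finset.smul_sum]
  refine Finset.sum_congr rfl fun i _ => ?_
  rw [smul_smul, smul_smul, conj_pow, inv_mul_cancel_right]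

theorem smul_tau_of_commute (p : ℕ) {v u : P} (h : v * u = u * v) (e : E) :
    v • tau p u e = tau p u (v • e) := by
  rw [smul_tau, h, mul_inv_cancel_right]

theorem sum_tau {p : ℕ} (hp : 0 < p) {y₀ y₁ : P} (hc : Commute y₁ y₀) (e : E)
    (h0 : ∀ i, 0 < i → i < p → tau p (y₀ ^ i) e = 0) :
    ∑ j ∈ Finset.range p, tau p (y₁ * y₀ ^ j) e = p • e := by
  simp only [tau_apply]
  rw [Finset.sum_comm]
  have h1 : ∀ i ∈ Finset.range p,
      ∑ j ∈ Finset.range p, ((y₁ * y₀ ^ j) ^ i) • e = (y₁ ^ i) • tau p (y₀ ^ i) e := by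
    intro i _
    rw [tau_apply, Finset.smul_sum]
    refine Finset.sum_congr rfl fun j _ => ?_
    rw [smul_smul, (hc.pow_right j).mul_pow, ← pow_mul, ← pow_mul, mul_comm j i]
  rw [Finset.sum_congr rfl h1]
  rw [Finset.sum_eq_single 0]
  · simp [tau_apply]
  · intro i hi hi0
    rw [h0 i (Nat.pos_of_ne_zero hi0) (Finset.mem_range.mp hi), smul_zero]
  · intro h; exact absurd (Finset.mem_range.mpr hp) h

theorem eq_zero_of_nsmul_coprime {p q : ℕ} (hpq : Nat.Coprime p q) {e : E} (hq : q • e = 0)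
    (hp : p • e = 0) : e = 0 := by
  have h1 := addOrderOf_dvd_of_nsmul_eq_zero hq
  have h2 := addOrderOf_dvd_of_nsmul_eq_zero hp
  have h3 : addOrderOf e ∣ 1 := by
    have := Nat.dvd_gcd h2 h1
    rwa [Nat.Coprime.gcd_eq_one hpq] at this
  exact AddMonoid.addOrderOf_eq_one_iff.mp (Nat.dvd_one.mp h3)

end tau

section stab
variable {P E : Type*} [Group P] [Finite P] [AddCommGroup E] [DistribMulAction P E]

theorem stab_eq_of_sum
    (hconst : ∀ a b : E, a ≠ 0 → b ≠ 0 →
      Nat.card (MulAction.stabilizer P a) = Nat.card (MulAction.stabilizer P b))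
    {a b : E} (ha : a ≠ 0) (hb : b ≠ 0) (hab : a + b ≠ 0)
    (hle : ∀ h : P, h • (a + b) = a + b → h • a = a ∧ h • b = b) :
    MulAction.stabilizer P a = MulAction.stabilizer P b := by
  have h1 : MulAction.stabilizer P (a + b) = MulAction.stabilizer P a :=
    Subgroup.eq_of_le_of_card_ge
      (fun h hh => MulAction.mem_stabilizer_iff.mpr (hle h (MulAction.mem_stabilizer_iff.mp hh)).1)
      (hconst _ _ ha hab).le
  have h2 : MulAction.stabilizer P (a + b) = MulAction.stabilizer P b :=
    Subgroup.eq_of_le_of_card_ge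
      (fun h hh => MulAction.mem_stabilizer_iff.mpr (hle h (MulAction.mem_stabilizer_iff.mp hh)).2)
      (hconst _ _ hb hab).le
  rw [← h1, h2]

/-- A central element of order `p` is fixed-point-free when all point stabilizers have the same order. -/
theorem central_fpf [FaithfulSMul P E] {p : ℕ}
    (hinv : ∀ e : E, p • e = 0 → e = 0)
    (hconst : ∀ a b : E, a ≠ 0 → b ≠ 0 →
      Nat.card (MulAction.stabilizer P a) = Nat.card (MulAction.stabilizer P b))
    {u : P} (huc : ∀ g : P, g * u = u * g) (hu1 : u ≠ 1) (hup : u ^ p = 1) (b : E)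
    (hb : u • b = b) : b = 0 := by
  by_contra hb0
  obtain ⟨e₀, he₀⟩ : ∃ e₀ : E, u • e₀ ≠ e₀ := by
    by_contra hall
    simp only [not_exists, not_not] at hall
    exact hu1 (FaithfulSMul.eq_of_smul_eq_smul (α := E) fun a => by rw [hall a, one_smul])
  obtain ⟨a, ha_def⟩ : ∃ a : E, a = p • e₀ - tau p u e₀ := ⟨_, rfl⟩
  have hτa : tau p u a = 0 := by
    rw [ha_def, map_sub, map_nsmul, tau_of_fixed (tau_fixed hup e₀), sub_self]
  have ha0 : a ≠ 0 := by
    intro h0
    have h1 : p • e₀ = tau p u e₀ := sub_eq_zero.mp (ha_def ▸ h0)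
    have h2 : u • (p • e₀) = p • e₀ := by rw [h1]; exact tau_fixed hup e₀
    have h3 : p • (u • e₀ - e₀) = 0 := by
      rw [smul_sub, ← smul_comm u p e₀, h2, sub_self]
    exact he₀ (sub_eq_zero.mp (hinv _ h3))
  have hτb : tau p u b = p • b := tau_of_fixed hb
  have hcomm : ∀ (h : P) (e : E), h • tau p u e = tau p u (h • e) :=
    fun h e => smul_tau_of_commute p (huc h) e
  have hab : a + b ≠ 0 := by
    intro h0
    have := congrArg (tau p u) h0
    rw [map_add, hτa, hτb, zero_add, map_zero] at this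
    exact hb0 (hinv _ this)
  have hst := stab_eq_of_sum hconst ha0 hb0 hab (by
    intro h hh
    have h1 := congrArg (tau p u) hh
    rw [smul_add, map_add, map_add, ← hcomm, ← hcomm, hτa, hτb, smul_zero, zero_add, zero_add] at h1
    have h2 : p • (h • b - b) = 0 := by
      rw [smul_sub, ← smul_comm h p b, h1, sub_self]
    have hb' : h • b = b := sub_eq_zero.mp (hinv _ h2)
    refine ⟨?_, hb'⟩
    rw [smul_add, hb'] at hh
    exact add_right_cancel hh)
  have hu_a : u • a = a := by
    have : u ∈ MulAction.stabilizer P b := MulAction.mem_stabilizer_iff.mpr hb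
    rw [← hst] at this
    exact MulAction.mem_stabilizer_iff.mp this
  have := tau_of_fixed (p := p) hu_a
  rw [hτa] at this
  exact ha0 (hinv _ this.symm)

end stab

/-- In a `p`-group, conjugating an element of order `p` into its own cyclic group fixes it. -/
theorem conj_eq_of_mem_zpowers {P : Type*} [Group P] [Finite P] {p : ℕ} [hp : Fact p.Prime]
    (hP : IsPGroup p P) {t h : P} (ht : t ^ p = 1) (hm : h * t * h⁻¹ ∈ Subgroup.zpowers t) :
    h * t * h⁻¹ = t := by
  by_cases ht1 : t = 1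
  · subst ht1; simp
  have hot : orderOf t = p := orderOf_eq_prime ht ht1
  obtain ⟨m, hm⟩ : ∃ m : ℕ, t ^ m = h * t * h⁻¹ := by
    rw [← mem_powers_iff_mem_zpowers] at hm
    exact hm
  have hiter : ∀ k : ℕ, h ^ k * t * (h ^ k)⁻¹ = t ^ (m ^ k) := by
    intro k
    induction k with
    | zero => simp
    | succ k ih =>
      have : h ^ (k + 1) * t * (h ^ (k + 1))⁻¹ = h * (h ^ k * t * (h ^ k)⁻¹) * h⁻¹ := by
        rw [pow_succ']; group
      rw [this, ih, ← conj_pow, ← hm, ← pow_mul, pow_succ']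
  obtain ⟨c, hc⟩ := (IsPGroup.iff_orderOf.mp hP) h
  have h1 := hiter (orderOf h)
  rw [pow_orderOf_eq_one, one_mul, inv_one, mul_one, hc] at h1
  have h2 : t ^ 1 = t ^ (m ^ p ^ c) := by rw [pow_one]; exact h1
  rw [pow_eq_pow_iff_modEq, hot] at h2
  have h3 : ((1 : ℕ) : ZMod p) = ((m ^ p ^ c : ℕ) : ZMod p) := (ZMod.natCast_eq_natCast_iff _ _ _).mpr h2
  rw [Nat.cast_pow, ZMod.pow_card_pow] at h3
  have h4 : 1 ≡ m [MOD p] := (ZMod.natCast_eq_natCast_iff _ _ _).mp h3
  rw [← hm]
  have : t ^ m = t ^ 1 := by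
    rw [pow_eq_pow_iff_modEq, hot]; exact h4.symm
  rw [this, pow_one]

end Cfsg.Agent.Helper20
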