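-- helper20: S3777 (Vaughan-Lee) STEP 1 piece (KEY) for helper39 (#13542): the centralizer lemma for a
-- normal subgroup `M` of prime index whose derived subgroup is smaller than that of `G`.
import Mathlib

set_option autoImplicit false

namespace Cfsg.Agent.Helper20.VL

universe u

/-- a normal subgroup of prime index together with an element outside it generates the group -/
theorem KEY_sup_zpowers_eq_top {G : Type*} [Group G] {p : ℕ} [Fact p.Prime] (M : Subgroup G)
    (hM : M.index = p) (y : G) (hy : y ∉ M) : M ⊔ Subgroup.zpowers y = ⊤ := by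
  have hp : p.Prime := Fact.out
  set K : Subgroup G := M ⊔ Subgroup.zpowers y with hK
  have hMK : M ≤ K := le_sup_left
  have h1 : M.relIndex K * K.index = M.index := Subgroup.relIndex_mul_index hMK
  rw [hM] at h1
  have h2 : K.index ∣ p := Dvd.intro_left _ h1
  rcases (Nat.dvd_prime hp).mp h2 with h3 | h3
  · exact Subgroup.index_eq_one.mp h3
  · exfalso
    rw [h3] at h1
    have h4 : M.relIndex K = 1 := by
      have : M.relIndex K * p = 1 * p := by rw [h1, one_mul]
      exact Nat.eq_of_mul_eq_mul_right hp.pos this
    have h5 : K ≤ M := Subgroup.relIndex_eq_one.mp h4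
    exact hy (h5 (Subgroup.mem_sup_right (Subgroup.mem_zpowers y)))

/-- (KEY) -/
theorem key_centralizer {G : Type*} [Group G] {p : ℕ} [Fact p.Prime] (M : Subgroup G) [M.Normal]
    (hM : M.index = p) (hMG : ⁅M, M⁆ ≠ commutator G) (N : Subgroup G) [N.Normal] (hNM : N ≤ M)
    (hN : ∀ H : Subgroup G, H ⊔ N = ⊤ → H = ⊤) :
    ∃ R : Subgroup G, N ≤ R ∧ R ≤ M ∧ R ≠ M ∧
      ∀ z ∈ M, z ∉ R → ∀ y : G, Commute z y → y ∈ M := by
  classical
  have hp : p.Prime := Fact.out
  set M' : Subgroup G := ⁅M, M⁆ with hM'
  have hM'n : M'.Normal := by rw [hM']; infer_instance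
  set π : G →* G ⧸ M' := QuotientGroup.mk' M' with hπ
  have hπsurj : Function.Surjective π := QuotientGroup.mk'_surjective M'
  have hker : ∀ g : G, π g = 1 ↔ g ∈ M' := fun g => QuotientGroup.eq_one_iff g
  set Z : Subgroup G := (Subgroup.center (G ⧸ M')).comap π with hZ
  set T : Subgroup G := M ⊓ Z with hT
  -- elements of `M` commute modulo `M'`
  have hMcomm : ∀ a ∈ M, ∀ b ∈ M, Commute (π a) (π b) := by
    intro a ha b hb
    rw [← commutatorElement_eq_one_iff_commute, ← map_commutatorElement, hker]
    exact Subgroup.commutator_mem_commutator ha hb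
  -- an element commuting mod `M'` with `M` and with some `y ∉ M` is central mod `M'`
  have hcentral : ∀ z y : G, y ∉ M → (∀ m ∈ M, Commute (π z) (π m)) → Commute (π z) (π y) →
      z ∈ Z := by
    intro z y hy hzM hzy
    set C : Subgroup G := (Subgroup.centralizer {π z}).comap π with hC
    have hMC : M ≤ C := by
      intro m hm
      rw [hC, Subgroup.mem_comap, Subgroup.mem_centralizer_iff]
      intro h hh
      rw [Set.mem_singleton_iff] at hh
      subst hh
      exact (hzM m hm).eq
    have hyC : Subgroup.zpowers y ≤ C := by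
      rw [Subgroup.zpowers_le, hC, Subgroup.mem_comap, Subgroup.mem_centralizer_iff]
      intro h hh
      rw [Set.mem_singleton_iff] at hh
      subst hh
      exact hzy.eq
    have hCtop : C = ⊤ := by
      rw [eq_top_iff, ← KEY_sup_zpowers_eq_top M hM y hy]
      exact sup_le hMC hyC
    rw [hZ, Subgroup.mem_comap, Subgroup.mem_center_iff]
    intro q
    obtain ⟨g, rfl⟩ := hπsurj q
    have hg : g ∈ C := by rw [hCtop]; exact Subgroup.mem_top g
    rw [hC, Subgroup.mem_comap, Subgroup.mem_centralizer_iff] at hg
    exact (hg (π z) rfl).symm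
  refine ⟨T ⊔ N, le_sup_right, sup_le inf_le_left hNM, ?_, ?_⟩
  · -- `R ≠ M`
    intro hR
    have hMtop : M ≠ ⊤ := by
      intro h
      rw [h, Subgroup.index_top] at hM
      exact hp.one_lt.ne hM
    obtain ⟨y, hy⟩ : ∃ y : G, y ∉ M := by
      by_contra h
      push Not at h
      exact hMtop (eq_top_iff.mpr fun g _ => h g)
    have h1 : (T ⊔ N) ⊔ Subgroup.zpowers y = ⊤ := by
      rw [hR]; exact KEY_sup_zpowers_eq_top M hM y hy
    have h2 : (T ⊔ Subgroup.zpowers y) ⊔ N = ⊤ := by
      rw [sup_right_comm]; exact h1
    have h3 : T ⊔ Subgroup.zpowers y = ⊤ := hN _ h2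
    -- `y` is central modulo `M'`
    have hTZ : T ≤ Z := inf_le_right
    have hyZ : y ∈ Z := by
      set C : Subgroup G := (Subgroup.centralizer {π y}).comap π with hC
      have hTC : T ≤ C := by
        intro t ht
        have htZ : t ∈ Z := hTZ ht
        rw [hZ, Subgroup.mem_comap, Subgroup.mem_center_iff] at htZ
        rw [hC, Subgroup.mem_comap, Subgroup.mem_centralizer_iff]
        intro h hh
        rw [Set.mem_singleton_iff] at hh
        subst hh
        exact htZ (π y)
      have hyC : Subgroup.zpowers y ≤ C := by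
        rw [Subgroup.zpowers_le, hC, Subgroup.mem_comap, Subgroup.mem_centralizer_iff]
        intro h hh
        rw [Set.mem_singleton_iff] at hh
        subst hh
        rfl
      have hCtop : C = ⊤ := by
        rw [eq_top_iff, ← h3]
        exact sup_le hTC hyC
      rw [hZ, Subgroup.mem_comap, Subgroup.mem_center_iff]
      intro q
      obtain ⟨g, rfl⟩ := hπsurj q
      have hg : g ∈ C := by rw [hCtop]; exact Subgroup.mem_top g
      rw [hC, Subgroup.mem_comap, Subgroup.mem_centralizer_iff] at hg
      exact (hg (π y) rfl).symm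
    have hZtop : Z = ⊤ := by
      rw [eq_top_iff, ← h3]
      exact sup_le hTZ ((Subgroup.zpowers_le).mpr hyZ)
    -- hence `G ⧸ M'` is abelian and `G' ≤ M'`
    have hle : commutator G ≤ M' := by
      rw [commutator_def, Subgroup.commutator_le]
      intro a _ b _
      rw [← hker, map_commutatorElement, commutatorElement_eq_one_iff_commute]
      have ha : a ∈ Z := by rw [hZtop]; exact Subgroup.mem_top a
      rw [hZ, Subgroup.mem_comap, Subgroup.mem_center_iff] at ha
      exact (ha (π b)).symm
    have hge : M' ≤ commutator G := by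
      rw [commutator_def, hM']
      exact Subgroup.commutator_mono le_top le_top
    exact hMG (le_antisymm hge hle)
  · -- the centralizer property
    intro z hzM hzR y hzy
    by_contra hy
    have hzZ : z ∈ Z := hcentral z y hy (fun m hm => hMcomm z hzM m hm) (hzy.map π)
    exact hzR (Subgroup.mem_sup_left ⟨hzM, hzZ⟩)

end Cfsg.Agent.Helper20.VL
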