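import Mathlib.GroupTheory.OrderOfElement
import Mathlib.GroupTheory.Index
import Mathlib.GroupTheory.SpecificGroups.Cyclic
import Cfsg.Prelude.Def_CaseTheorems

set_option autoImplicit false

/-!
Normal form calculus in a wreathed group `Z_{2^n} ≀ Z_2 = ⟨x, y, z⟩` of order `2^(2n+1)`.
Elements are `x^i y^j` or `x^i y^j z`.
-/

namespace Cfsg.Agent.Helper20

/-- The data of a wreathed group of order `2^(2n+1)`. -/
structure WrData (S : Type*) [Group S] (n : ℕ) (x y z : S) : Prop where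
  hn : 2 ≤ n
  card : Nat.card S = 2 ^ (2 * n + 1)
  ox : orderOf x = 2 ^ n
  comm : x * y = y * x
  disj : Subgroup.zpowers x ⊓ Subgroup.zpowers y = ⊥
  oz : orderOf z = 2
  rel : z * x * z⁻¹ = y

theorem exists_wrData {S : Type*} [Group S] (hS : Cfsg.IsWreathed S) :
    ∃ (n : ℕ) (x y z : S), WrData S n x y z := by
  obtain ⟨n, hn, hcard, x, y, z, hx, hxy, hd, hz, hrel⟩ := hS
  exact ⟨n, x, y, z, hn, hcard, hx, hxy, hd, hz, hrel⟩

namespace WrData

variable {S : Type*} [Group S] {n : ℕ} {x y z : S}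

theorem z_sq (h : WrData S n x y z) : z * z = 1 := by
  have := pow_orderOf_eq_one z
  rwa [h.oz, pow_two] at this

theorem z_inv (h : WrData S n x y z) : z⁻¹ = z := inv_eq_of_mul_eq_one_right h.z_sq

theorem z_ne_one (h : WrData S n x y z) : z ≠ 1 := by
  intro h1
  have := h.oz
  rw [h1, orderOf_one] at this
  omega

theorem rel' (h : WrData S n x y z) : z * y * z⁻¹ = x := by
  rw [← h.rel, h.z_inv]
  calc z * (z * x * z) * z = (z * z) * x * (z * z) := by group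
    _ = x := by rw [h.z_sq, one_mul, mul_one]

theorem oy (h : WrData S n x y z) : orderOf y = 2 ^ n := by
  rw [← h.rel, ← h.ox]
  exact orderOf_injective (MulAut.conj z).toMonoidHom (MulAut.conj z).injective x

theorem conj_xpow (h : WrData S n x y z) (i : ℤ) : z * x ^ i * z⁻¹ = y ^ i := by
  rw [← conj_zpow, h.rel]

theorem conj_ypow (h : WrData S n x y z) (i : ℤ) : z * y ^ i * z⁻¹ = x ^ i := by
  rw [← conj_zpow, h.rel']

theorem z_mul_xpow (h : WrData S n x y z) (i : ℤ) : z * x ^ i = y ^ i * z := by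
  rw [← h.conj_xpow i]; group

theorem z_mul_ypow (h : WrData S n x y z) (i : ℤ) : z * y ^ i = x ^ i * z := by
  rw [← h.conj_ypow i]; group

theorem comm_pow (h : WrData S n x y z) (i j : ℤ) : x ^ i * y ^ j = y ^ j * x ^ i :=
  ((Commute.zpow_zpow (show Commute x y from h.comm)) i j)

theorem xpow_eq_iff (h : WrData S n x y z) (i j : ℤ) :
    x ^ i = x ^ j ↔ (2 ^ n : ℤ) ∣ i - j := by
  rw [zpow_eq_zpow_iff_modEq, h.ox, Int.modEq_iff_dvd]
  have : ((2 ^ n : ℕ) : ℤ) = 2 ^ n := by push_cast; ring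
  rw [this, ← dvd_neg, neg_sub]

theorem ypow_eq_iff (h : WrData S n x y z) (i j : ℤ) :
    y ^ i = y ^ j ↔ (2 ^ n : ℤ) ∣ i - j := by
  rw [zpow_eq_zpow_iff_modEq, h.oy, Int.modEq_iff_dvd]
  have : ((2 ^ n : ℕ) : ℤ) = 2 ^ n := by push_cast; ring
  rw [this, ← dvd_neg, neg_sub]

theorem xpow_eq_one_iff (h : WrData S n x y z) (i : ℤ) : x ^ i = 1 ↔ (2 ^ n : ℤ) ∣ i := by
  have := h.xpow_eq_iff i 0
  rwa [zpow_zero, sub_zero] at this

theorem ypow_eq_one_iff (h : WrData S n x y z) (i : ℤ) : y ^ i = 1 ↔ (2 ^ n : ℤ) ∣ i := by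
  have := h.ypow_eq_iff i 0
  rwa [zpow_zero, sub_zero] at this

/-- product of two elements of `U` -/
theorem el_mul_el (h : WrData S n x y z) (i j k l : ℤ) :
    (x ^ i * y ^ j) * (x ^ k * y ^ l) = x ^ (i + k) * y ^ (j + l) := by
  rw [zpow_add, zpow_add]
  calc x ^ i * y ^ j * (x ^ k * y ^ l) = x ^ i * (y ^ j * x ^ k) * y ^ l := by group
    _ = x ^ i * (x ^ k * y ^ j) * y ^ l := by rw [h.comm_pow k j]
    _ = _ := by group

theorem el_inv (h : WrData S n x y z) (i j : ℤ) :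
    (x ^ i * y ^ j)⁻¹ = x ^ (-i) * y ^ (-j) := by
  rw [mul_inv_rev, ← zpow_neg, ← zpow_neg, h.comm_pow]

theorem z_mul_el (h : WrData S n x y z) (i j : ℤ) :
    z * (x ^ i * y ^ j) = x ^ j * y ^ i * z := by
  rw [← mul_assoc, h.z_mul_xpow, mul_assoc, h.z_mul_ypow, ← mul_assoc, ← h.comm_pow]

theorem elz_mul_el (h : WrData S n x y z) (i j k l : ℤ) :
    (x ^ i * y ^ j * z) * (x ^ k * y ^ l) = x ^ (i + l) * y ^ (j + k) * z := by
  rw [mul_assoc, h.z_mul_el, ← mul_assoc, h.el_mul_el]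

theorem el_mul_elz (h : WrData S n x y z) (i j k l : ℤ) :
    (x ^ i * y ^ j) * (x ^ k * y ^ l * z) = x ^ (i + k) * y ^ (j + l) * z := by
  rw [← mul_assoc, h.el_mul_el]

theorem elz_mul_elz (h : WrData S n x y z) (i j k l : ℤ) :
    (x ^ i * y ^ j * z) * (x ^ k * y ^ l * z) = x ^ (i + l) * y ^ (j + k) := by
  rw [← mul_assoc, h.elz_mul_el, mul_assoc, h.z_sq, mul_one]

theorem elz_inv (h : WrData S n x y z) (i j : ℤ) :
    (x ^ i * y ^ j * z)⁻¹ = x ^ (-j) * y ^ (-i) * z := by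
  apply inv_eq_of_mul_eq_one_right
  rw [h.elz_mul_elz]
  simp

theorem elz_sq (h : WrData S n x y z) (i j : ℤ) :
    (x ^ i * y ^ j * z) * (x ^ i * y ^ j * z) = x ^ (i + j) * y ^ (i + j) := by
  rw [h.elz_mul_elz, add_comm j i]

/-- `x^i = y^j` forces both to be trivial. -/
theorem xpow_eq_ypow (h : WrData S n x y z) (i j : ℤ) (he : x ^ i = y ^ j) :
    (2 ^ n : ℤ) ∣ i ∧ (2 ^ n : ℤ) ∣ j := by
  have hm : x ^ i ∈ Subgroup.zpowers x ⊓ Subgroup.zpowers y :=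
    ⟨Subgroup.zpow_mem_zpowers x i, by rw [he]; exact Subgroup.zpow_mem_zpowers y j⟩
  rw [h.disj, Subgroup.mem_bot] at hm
  refine ⟨(h.xpow_eq_one_iff i).mp hm, (h.ypow_eq_one_iff j).mp ?_⟩
  rw [← he, hm]

theorem el_eq_iff (h : WrData S n x y z) (i j k l : ℤ) :
    x ^ i * y ^ j = x ^ k * y ^ l ↔ (2 ^ n : ℤ) ∣ i - k ∧ (2 ^ n : ℤ) ∣ j - l := by
  constructor
  · intro he
    have h1 : x ^ (i - k) = y ^ (l - j) := by
      rw [zpow_sub, zpow_sub]
      have : x ^ i = x ^ k * y ^ l * (y ^ j)⁻¹ := by rw [← he]; group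
      rw [this, h.comm_pow k l]
      have h2 : y ^ l * x ^ k * (y ^ j)⁻¹ * (x ^ k)⁻¹ = y ^ l * (x ^ k * y ^ (-j)) * (x ^ k)⁻¹ := by
        rw [zpow_neg]; group
      rw [h2, h.comm_pow k (-j), zpow_neg]
      group
    obtain ⟨ha, hb⟩ := h.xpow_eq_ypow _ _ h1
    refine ⟨ha, ?_⟩
    have := dvd_neg.mpr hb
    rwa [neg_sub] at this
  · rintro ⟨ha, hb⟩
    rw [(h.xpow_eq_iff i k).mpr ha, (h.ypow_eq_iff j l).mpr hb]

theorem el_eq_one_iff (h : WrData S n x y z) (i j : ℤ) :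
    x ^ i * y ^ j = 1 ↔ (2 ^ n : ℤ) ∣ i ∧ (2 ^ n : ℤ) ∣ j := by
  have := h.el_eq_iff i j 0 0
  rwa [zpow_zero, zpow_zero, mul_one, sub_zero, sub_zero] at this

theorem x_ne_y (h : WrData S n x y z) : x ≠ y := by
  intro he
  have h1 : x ^ (1 : ℤ) = y ^ (1 : ℤ) := by rw [zpow_one, zpow_one]; exact he
  obtain ⟨ha, -⟩ := h.xpow_eq_ypow 1 1 h1
  have h2 : (2 : ℤ) ∣ 2 ^ n := dvd_pow_self 2 (by have := h.hn; omega)
  have := dvd_trans h2 ha
  omega

theorem z_ne_el (h : WrData S n x y z) (i j : ℤ) : z ≠ x ^ i * y ^ j := by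
  intro he
  apply h.x_ne_y
  have hc : Commute (x ^ i * y ^ j) x :=
    ((Commute.refl x).zpow_left i).mul_left ((show Commute y x from h.comm.symm).zpow_left j)
  rw [← he] at hc
  rw [← h.rel, hc.eq, mul_inv_cancel_right]

theorem el_ne_elz (h : WrData S n x y z) (i j k l : ℤ) :
    x ^ i * y ^ j ≠ x ^ k * y ^ l * z := by
  intro he
  apply h.z_ne_el (i - k) (j - l)
  have : z = (x ^ k * y ^ l)⁻¹ * (x ^ i * y ^ j) := by rw [he]; group
  rw [this, h.el_inv, h.el_mul_el]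
  congr 2 <;> ring

theorem elz_eq_iff (h : WrData S n x y z) (i j k l : ℤ) :
    x ^ i * y ^ j * z = x ^ k * y ^ l * z ↔ (2 ^ n : ℤ) ∣ i - k ∧ (2 ^ n : ℤ) ∣ j - l := by
  rw [mul_left_inj, h.el_eq_iff]

theorem elz_ne_one (h : WrData S n x y z) (i j : ℤ) : x ^ i * y ^ j * z ≠ 1 := by
  have := h.el_ne_elz 0 0 i j
  rw [zpow_zero, zpow_zero, mul_one] at this
  exact fun he => this he.symm

/-- The abelian maximal subgroup `U = ⟨x⟩ × ⟨y⟩`. -/
def U (h : WrData S n x y z) : Subgroup S where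
  carrier := {s | ∃ i j : ℤ, s = x ^ i * y ^ j}
  mul_mem' := by
    rintro _ _ ⟨i, j, rfl⟩ ⟨k, l, rfl⟩
    exact ⟨i + k, j + l, h.el_mul_el i j k l⟩
  one_mem' := ⟨0, 0, by simp⟩
  inv_mem' := by
    rintro _ ⟨i, j, rfl⟩
    exact ⟨-i, -j, h.el_inv i j⟩

theorem mem_U (h : WrData S n x y z) (s : S) : s ∈ h.U ↔ ∃ i j : ℤ, s = x ^ i * y ^ j := Iff.rfl

theorem el_mem_U (h : WrData S n x y z) (i j : ℤ) : x ^ i * y ^ j ∈ h.U := ⟨i, j, rfl⟩

theorem elz_not_mem_U (h : WrData S n x y z) (i j : ℤ) : x ^ i * y ^ j * z ∉ h.U := by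
  rintro ⟨k, l, he⟩
  exact h.el_ne_elz k l i j he.symm

theorem z_not_mem_U (h : WrData S n x y z) : z ∉ h.U := by
  rintro ⟨k, l, he⟩
  exact h.z_ne_el k l he

theorem card_U (h : WrData S n x y z) : Nat.card h.U = 2 ^ (2 * n) := by
  let f : Subgroup.zpowers x × Subgroup.zpowers y → h.U := fun p =>
    ⟨(p.1 : S) * (p.2 : S), by
      obtain ⟨i, hi⟩ := Subgroup.mem_zpowers_iff.mp p.1.2
      obtain ⟨j, hj⟩ := Subgroup.mem_zpowers_iff.mp p.2.2
      exact ⟨i, j, by rw [hi, hj]⟩⟩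
  have hf : Function.Bijective f := by
    constructor
    · rintro ⟨⟨a, ha⟩, ⟨b, hb⟩⟩ ⟨⟨a', ha'⟩, ⟨b', hb'⟩⟩ he
      obtain ⟨i, rfl⟩ := Subgroup.mem_zpowers_iff.mp ha
      obtain ⟨j, rfl⟩ := Subgroup.mem_zpowers_iff.mp hb
      obtain ⟨i', rfl⟩ := Subgroup.mem_zpowers_iff.mp ha'
      obtain ⟨j', rfl⟩ := Subgroup.mem_zpowers_iff.mp hb'
      have he' : x ^ i * y ^ j = x ^ i' * y ^ j' := congrArg Subtype.val he
      obtain ⟨h1, h2⟩ := (h.el_eq_iff _ _ _ _).mp he'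
      have e1 := (h.xpow_eq_iff i i').mpr h1
      have e2 := (h.ypow_eq_iff j j').mpr h2
      simp only [Prod.mk.injEq, Subtype.mk.injEq]
      exact ⟨e1, e2⟩
    · rintro ⟨s, i, j, rfl⟩
      exact ⟨⟨⟨x ^ i, Subgroup.zpow_mem_zpowers x i⟩, ⟨y ^ j, Subgroup.zpow_mem_zpowers y j⟩⟩, rfl⟩
  rw [← Nat.card_congr (Equiv.ofBijective f hf), Nat.card_prod, Nat.card_zpowers, Nat.card_zpowers,
    h.ox, h.oy]
  ring

theorem index_U (h : WrData S n x y z) : h.U.index = 2 := by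
  have h1 := Subgroup.index_mul_card h.U
  rw [h.card_U, h.card] at h1
  have : 2 ^ (2 * n + 1) = 2 * 2 ^ (2 * n) := by ring
  rw [this] at h1
  exact Nat.eq_of_mul_eq_mul_right (by positivity) h1

/-- normal form -/
theorem cases (h : WrData S n x y z) (s : S) :
    (∃ i j : ℤ, s = x ^ i * y ^ j) ∨ (∃ i j : ℤ, s = x ^ i * y ^ j * z) := by
  by_cases hs : s ∈ h.U
  · left; exact hs
  · right
    have hc : s * z⁻¹ ∈ h.U := by
      rw [Subgroup.mul_mem_iff_of_index_two h.index_U, inv_mem_iff]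
      exact ⟨fun h' => absurd h' hs, fun h' => absurd h' h.z_not_mem_U⟩
    obtain ⟨i, j, hij⟩ := hc
    exact ⟨i, j, by rw [← hij]; group⟩

end WrData

end Cfsg.Agent.Helper20
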