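import Cfsg.Agent.Helper20.Wr2
import Cfsg.Agent.S3224
import Mathlib.GroupTheory.Abelianization.Defs
import Mathlib.GroupTheory.QuotientGroup.Basic

set_option autoImplicit false

/-!
Wreathed groups: centre, derived subgroup, central quotient.
-/

namespace Cfsg.Agent.Helper20

open scoped commutatorElement

theorem orderOf_eq_of_zpow_eq_one_iff {G : Type*} [Group G] (g : G) (N : ℕ)
    (hg : ∀ i : ℤ, g ^ i = 1 ↔ (N : ℤ) ∣ i) : orderOf g = N := by
  apply Nat.dvd_antisymm
  · apply orderOf_dvd_of_pow_eq_one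
    have := (hg N).mpr dvd_rfl
    rwa [zpow_natCast] at this
  · have := (hg (orderOf g)).mp (by rw [zpow_natCast]; exact pow_orderOf_eq_one g)
    exact Int.natCast_dvd_natCast.mp this

namespace WrData

variable {S : Type*} [Group S] {n : ℕ} {x y z : S}

theorem xy_zpow (h : WrData S n x y z) (i : ℤ) : (x * y) ^ i = x ^ i * y ^ i :=
  (show Commute x y from h.comm).mul_zpow i

theorem xyinv_zpow (h : WrData S n x y z) (i : ℤ) : (x * y⁻¹) ^ i = x ^ i * y ^ (-i) := by
  rw [(show Commute x y⁻¹ from (show Commute x y from h.comm).inv_right).mul_zpow i, inv_zpow, zpow_neg]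

theorem orderOf_xy (h : WrData S n x y z) : orderOf (x * y) = 2 ^ n := by
  apply orderOf_eq_of_zpow_eq_one_iff
  intro i
  rw [h.xy_zpow, h.el_eq_one_iff, and_self]
  push_cast
  rfl

theorem orderOf_xyinv (h : WrData S n x y z) : orderOf (x * y⁻¹) = 2 ^ n := by
  apply orderOf_eq_of_zpow_eq_one_iff
  intro i
  rw [h.xyinv_zpow, h.el_eq_one_iff, dvd_neg, and_self]
  push_cast
  rfl

theorem center_eq (h : WrData S n x y z) : Subgroup.center S = Subgroup.zpowers (x * y) := by
  ext s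
  rw [h.mem_center_iff, Subgroup.mem_zpowers_iff]
  constructor
  · rintro ⟨i, rfl⟩; exact ⟨i, h.xy_zpow i⟩
  · rintro ⟨i, rfl⟩; exact ⟨i, h.xy_zpow i⟩

theorem card_center (h : WrData S n x y z) : Nat.card (Subgroup.center S) = 2 ^ n := by
  rw [h.center_eq, Nat.card_zpowers, h.orderOf_xy]

theorem isCyclic_center (h : WrData S n x y z) : IsCyclic (Subgroup.center S) := by
  rw [h.center_eq]; infer_instance

/-- `D = ⟨x y⁻¹⟩`, the derived subgroup. -/
theorem mem_zpowers_xyinv_iff (h : WrData S n x y z) (s : S) :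
    s ∈ Subgroup.zpowers (x * y⁻¹) ↔ ∃ c : ℤ, s = x ^ c * y ^ (-c) := by
  rw [Subgroup.mem_zpowers_iff]
  constructor
  · rintro ⟨i, rfl⟩; exact ⟨i, h.xyinv_zpow i⟩
  · rintro ⟨i, rfl⟩; exact ⟨i, h.xyinv_zpow i⟩

theorem el_mem_zpowers_xyinv_iff (h : WrData S n x y z) (i j : ℤ) :
    x ^ i * y ^ j ∈ Subgroup.zpowers (x * y⁻¹) ↔ (2 ^ n : ℤ) ∣ i + j := by
  rw [h.mem_zpowers_xyinv_iff]
  constructor
  · rintro ⟨c, hc⟩
    obtain ⟨h1, h2⟩ := (h.el_eq_iff _ _ _ _).mp hc
    have := dvd_add h1 h2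
    have e : i - c + (j - -c) = i + j := by ring
    rwa [e] at this
  · intro hd
    refine ⟨i, ?_⟩
    rw [h.el_eq_iff]
    refine ⟨by simp, ?_⟩
    have e : j - -i = i + j := by ring
    rwa [e]

theorem commutator_le (h : WrData S n x y z) : commutator S ≤ Subgroup.zpowers (x * y⁻¹) := by
  rw [commutator_def, Subgroup.commutator_le]
  intro a _ b _
  rw [commutatorElement_def]
  rcases h.cases a with ⟨k, l, rfl⟩ | ⟨k, l, rfl⟩ <;> rcases h.cases b with ⟨i, j, rfl⟩ | ⟨i, j, rfl⟩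
  · rw [h.conj_el_by_el, mul_inv_cancel]; exact Subgroup.one_mem _
  · rw [h.conj_elz_by_el, h.elz_inv, h.elz_mul_elz, h.el_mem_zpowers_xyinv_iff]
    exact ⟨0, by ring⟩
  · rw [h.conj_el_by_elz, h.el_inv, h.el_mul_el, h.el_mem_zpowers_xyinv_iff]
    exact ⟨0, by ring⟩
  · rw [h.conj_elz_by_elz, h.elz_inv, h.elz_mul_elz, h.el_mem_zpowers_xyinv_iff]
    exact ⟨0, by ring⟩

theorem commutator_eq (h : WrData S n x y z) : commutator S = Subgroup.zpowers (x * y⁻¹) := by
  apply le_antisymm h.commutator_le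
  rw [Subgroup.zpowers_le]
  have h1 : ⁅x, z⁆ = x * y⁻¹ := by
    rw [commutatorElement_def, ← h.rel]; group
  rw [← h1, commutator_def]
  exact Subgroup.commutator_mem_commutator (Subgroup.mem_top _) (Subgroup.mem_top _)

theorem card_commutator (h : WrData S n x y z) : Nat.card (commutator S) = 2 ^ n := by
  rw [h.commutator_eq, Nat.card_zpowers, h.orderOf_xyinv]

theorem isCyclic_commutator (h : WrData S n x y z) : IsCyclic (commutator S) := by
  rw [h.commutator_eq]; infer_instance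

theorem quot_center_iso [Finite S] (h : WrData S n x y z) :
    Nonempty (S ⧸ Subgroup.center S ≃* DihedralGroup (2 ^ n)) := by
  set a : S ⧸ Subgroup.center S := (x : S ⧸ Subgroup.center S) with ha
  set b : S ⧸ Subgroup.center S := (z : S ⧸ Subgroup.center S) with hb
  have hb2 : b * b = 1 := by
    rw [hb, ← QuotientGroup.mk_mul, h.z_sq, QuotientGroup.mk_one]
  have hrel : b * a * b⁻¹ = a⁻¹ := by
    rw [ha, hb, ← QuotientGroup.mk_inv, ← QuotientGroup.mk_mul, ← QuotientGroup.mk_mul,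
      ← QuotientGroup.mk_inv, h.rel, QuotientGroup.eq]
    have : y⁻¹ * x⁻¹ = x ^ (-1 : ℤ) * y ^ (-1 : ℤ) := by
      rw [zpow_neg, zpow_neg, zpow_one, zpow_one, ← mul_inv_rev, ← mul_inv_rev, h.comm]
    rw [this]
    exact (h.el_mem_center_iff _ _).mpr (by simp)
  have hpow : ∀ i : ℤ, a ^ i = ((x ^ i : S) : S ⧸ Subgroup.center S) := by
    intro i; rw [ha, QuotientGroup.mk_zpow]
  have hba : b ∉ Subgroup.zpowers a := by
    intro hmem
    obtain ⟨i, hi⟩ := Subgroup.mem_zpowers_iff.mp hmem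
    rw [hpow, hb, QuotientGroup.eq] at hi
    have h1 := h.center_le_U hi
    have h2 : x ^ i ∈ h.U := by
      have := h.el_mem_U i 0
      simpa using this
    have hz : x ^ i * ((x ^ i)⁻¹ * z) ∈ h.U := Subgroup.mul_mem _ h2 h1
    rw [mul_inv_cancel_left] at hz
    exact h.z_not_mem_U hz
  have hoa : orderOf a = 2 ^ n := by
    apply orderOf_eq_of_zpow_eq_one_iff
    intro i
    rw [hpow, QuotientGroup.eq_one_iff]
    have := h.el_mem_center_iff i 0
    rw [zpow_zero, mul_one, sub_zero] at this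
    rw [this]
    push_cast
    rfl
  have hcard : Nat.card (S ⧸ Subgroup.center S) = 2 * orderOf a := by
    have h1 := Subgroup.card_eq_card_quotient_mul_card_subgroup (Subgroup.center S)
    rw [h.card, h.card_center] at h1
    rw [hoa]
    have : 2 ^ (2 * n + 1) = (2 * 2 ^ n) * 2 ^ n := by ring
    rw [this] at h1
    exact (Nat.eq_of_mul_eq_mul_right (by positivity) h1).symm
  have := Cfsg.Agent.S3224.dihedral_iso a b hb2 hrel hba hcard
  rwa [hoa] at this

end WrData

end Cfsg.Agent.Helper20
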