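import Cfsg.Agent.Helper20.Wr3
import Cfsg.Agent.Helper20.Four

set_option autoImplicit false

/-!
Wreathed groups: Klein four-subgroups.
-/

namespace Cfsg.Agent.Helper20

namespace WrData

variable {S : Type*} [Group S] {n : ℕ} {x y z : S}

theorem xP_ne_yP (h : WrData S n x y z) : x ^ (2 ^ (n - 1) : ℤ) ≠ y ^ (2 ^ (n - 1) : ℤ) := by
  intro he
  exact h.N_not_dvd_P (h.xpow_eq_ypow _ _ he).1

/-- `Ω₁(U)`, the normal four-subgroup. -/
def T (h : WrData S n x y z) : Subgroup S :=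
  fourSub (x ^ (2 ^ (n - 1) : ℤ)) (y ^ (2 ^ (n - 1) : ℤ)) h.xP_sq h.yP_sq (h.comm_pow _ _)

theorem isKleinFour_T (h : WrData S n x y z) : IsKleinFour h.T :=
  isKleinFour_fourSub _ _ _ _ _ h.xP_ne_one h.yP_ne_one h.xP_ne_yP

theorem xpow_mem_U (h : WrData S n x y z) (i : ℤ) : x ^ i ∈ h.U := by
  have := h.el_mem_U i 0
  simpa using this

theorem ypow_mem_U (h : WrData S n x y z) (i : ℤ) : y ^ i ∈ h.U := by
  have := h.el_mem_U 0 i
  simpa using this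

theorem mem_T_iff (h : WrData S n x y z) (s : S) : s ∈ h.T ↔ s ∈ h.U ∧ s * s = 1 := by
  constructor
  · rintro (rfl | rfl | rfl | rfl)
    · exact ⟨Subgroup.one_mem _, one_mul 1⟩
    · exact ⟨h.xpow_mem_U _, h.xP_sq⟩
    · exact ⟨h.ypow_mem_U _, h.yP_sq⟩
    · exact ⟨h.el_mem_U _ _, h.c_sq⟩
  · rintro ⟨hU, hsq⟩
    by_cases h1 : s = 1
    · left; exact h1
    · have ho := (orderOf_eq_two_iff s).mpr ⟨hsq, h1⟩
      rcases (h.el_involution_iff s hU).mp ho with he | he | he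
      · right; left; exact he
      · right; right; left; exact he
      · right; right; right; exact he

theorem normal_T (h : WrData S n x y z) : h.T.Normal := by
  constructor
  intro t ht g
  rw [h.mem_T_iff] at ht ⊢
  refine ⟨(h.conj_mem_U_iff g t).mpr ht.1, ?_⟩
  calc g * t * g⁻¹ * (g * t * g⁻¹) = g * (t * t) * g⁻¹ := by group
    _ = 1 := by rw [ht.2]; group

theorem central_involution (h : WrData S n x y z) {u : S} (hu : u ∈ Subgroup.center S)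
    (hsq : u * u = 1) : u = 1 ∨ u = x ^ (2 ^ (n - 1) : ℤ) * y ^ (2 ^ (n - 1) : ℤ) := by
  obtain ⟨i, rfl⟩ := (h.mem_center_iff u).mp hu
  obtain ⟨⟨a, rfl⟩, -⟩ := (h.el_sq_eq_one_iff i i).mp hsq
  rcases Int.even_or_odd' a with ⟨b, rfl | rfl⟩
  · left
    rw [h.el_eq_one_iff, and_self]
    exact ⟨b, by rw [← h.two_mul_P]; ring⟩
  · right
    rw [h.el_eq_iff, and_self]
    exact ⟨b, by rw [← h.two_mul_P]; ring⟩

theorem kleinFour_eq_T_of_le [Finite S] (h : WrData S n x y z) (V : Subgroup S) (hV : IsKleinFour V)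
    (hle : V ≤ h.U) : V = h.T := by
  apply Subgroup.eq_of_le_of_card_ge
  · intro v hv
    exact (h.mem_T_iff v).mpr ⟨hle hv, kleinFour_sq hV hv⟩
  · rw [hV.card_four, h.isKleinFour_T.card_four]

/-- A four-subgroup other than `T` contains an involution outside `U` and the central involution. -/
theorem kleinFour_structure [Finite S] (h : WrData S n x y z) (V : Subgroup S) (hV : IsKleinFour V)
    (hne : V ≠ h.T) : ∃ a ∈ V, a ∉ h.U ∧
      x ^ (2 ^ (n - 1) : ℤ) * y ^ (2 ^ (n - 1) : ℤ) ∈ V := by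
  have hnle : ¬ V ≤ h.U := fun hle => hne (h.kleinFour_eq_T_of_le V hV hle)
  obtain ⟨a, haV, haU⟩ := SetLike.not_le_iff_exists.mp hnle
  refine ⟨a, haV, haU, ?_⟩
  have ha2 : a * a = 1 := kleinFour_sq hV haV
  have ha1 : a ≠ 1 := fun h1 => haU (h1 ▸ Subgroup.one_mem _)
  -- a nontrivial element of V ∩ U
  have hex : ∃ u ∈ V, u ∈ h.U ∧ u ≠ 1 := by
    obtain ⟨p, q, hp, hq, hp1, hq1, hpq⟩ := exists_two_of_card_four V hV.card_four
    have key : ∀ b ∈ V, b ≠ 1 → b ≠ a → ∃ u ∈ V, u ∈ h.U ∧ u ≠ 1 := by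
      intro b hb hb1 hba
      by_cases hbU : b ∈ h.U
      · exact ⟨b, hb, hbU, hb1⟩
      · refine ⟨a * b, V.mul_mem haV hb, ?_, ?_⟩
        · rw [Subgroup.mul_mem_iff_of_index_two h.index_U]
          exact ⟨fun h' => absurd h' haU, fun h' => absurd h' hbU⟩
        · intro h1
          apply hba
          rw [← inv_eq_of_mul_eq_one_right h1, inv_eq_of_mul_eq_one_right ha2]
    by_cases hpa : p = a
    · exact key q hq hq1 (fun hqa => hpq (hpa.trans hqa.symm))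
    · exact key p hp hp1 hpa
  obtain ⟨u, huV, huU, hu1⟩ := hex
  have hcomm : u * a = a * u := by
    have := mul_comm_of_exponent_two hV.exponent_two (⟨u, huV⟩ : V) ⟨a, haV⟩
    exact congrArg Subtype.val this
  have huc := h.mem_center_of_comm huU haU hcomm
  rcases h.central_involution huc (kleinFour_sq hV huV) with h1 | h1
  · exact absurd h1 hu1
  · rwa [h1] at huV

theorem conj_kleinFour [Finite S] (h : WrData S n x y z) (V₁ V₂ : Subgroup S)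
    (hV₁ : IsKleinFour V₁) (hV₂ : IsKleinFour V₂) (hne₁ : V₁ ≠ h.T) (hne₂ : V₂ ≠ h.T) :
    ∃ s : S, V₁.map (MulAut.conj s).toMonoidHom = V₂ := by
  obtain ⟨a₁, ha₁V, ha₁U, hc₁⟩ := h.kleinFour_structure V₁ hV₁ hne₁
  obtain ⟨a₂, ha₂V, ha₂U, hc₂⟩ := h.kleinFour_structure V₂ hV₂ hne₂
  have ha₁2 : a₁ * a₁ = 1 := kleinFour_sq hV₁ ha₁V
  have ha₂2 : a₂ * a₂ = 1 := kleinFour_sq hV₂ ha₂V
  have hconj : ∃ s, s * a₁ * s⁻¹ = a₂ := by
    rcases h.cases a₁ with ⟨i, j, rfl⟩ | ⟨i, j, rfl⟩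
    · exact absurd (h.el_mem_U i j) ha₁U
    rcases h.cases a₂ with ⟨k, l, rfl⟩ | ⟨k, l, rfl⟩
    · exact absurd (h.el_mem_U k l) ha₂U
    have h1 := (h.elz_sq_eq_one_iff i j).mp ha₁2
    have h2 := (h.elz_sq_eq_one_iff k l).mp ha₂2
    exact isConj_iff.mp (h.isConj_elz i j k l (dvd_sub h1 h2))
  obtain ⟨s, hs⟩ := hconj
  refine ⟨s, ?_⟩
  have ha₁1 : a₁ ≠ 1 := fun h1 => ha₁U (h1 ▸ Subgroup.one_mem _)
  have hac : a₁ ≠ x ^ (2 ^ (n - 1) : ℤ) * y ^ (2 ^ (n - 1) : ℤ) :=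
    fun h1 => ha₁U (h1 ▸ h.el_mem_U _ _)
  apply Subgroup.eq_of_le_of_card_ge
  · rintro _ ⟨t, ht, rfl⟩
    have hcs : s * (x ^ (2 ^ (n - 1) : ℤ) * y ^ (2 ^ (n - 1) : ℤ)) * s⁻¹
        = x ^ (2 ^ (n - 1) : ℤ) * y ^ (2 ^ (n - 1) : ℤ) := by
      rw [Subgroup.mem_center_iff.mp h.c_mem_center s, mul_inv_cancel_right]
    show s * t * s⁻¹ ∈ V₂
    rcases four_group_elems V₁ hV₁.card_four ha₁V hc₁ ha₁1 h.c_ne_one hac h.c_sq t ht with
      rfl | rfl | rfl | rfl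
    · simp [Subgroup.one_mem]
    · rw [hs]; exact ha₂V
    · rw [hcs]; exact hc₂
    · have : s * (a₁ * (x ^ (2 ^ (n - 1) : ℤ) * y ^ (2 ^ (n - 1) : ℤ))) * s⁻¹
          = (s * a₁ * s⁻¹) * (s * (x ^ (2 ^ (n - 1) : ℤ) * y ^ (2 ^ (n - 1) : ℤ)) * s⁻¹) := by group
      rw [this, hs, hcs]
      exact V₂.mul_mem ha₂V hc₂
  · rw [Subgroup.card_map_of_injective (MulAut.conj s).injective, hV₁.card_four, hV₂.card_four]

/-- a four-subgroup other than `T` -/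
theorem exists_kleinFour_ne_T (h : WrData S n x y z) : ∃ V : Subgroup S, IsKleinFour V ∧ V ≠ h.T := by
  have hcz : z * (x ^ (2 ^ (n - 1) : ℤ) * y ^ (2 ^ (n - 1) : ℤ))
      = (x ^ (2 ^ (n - 1) : ℤ) * y ^ (2 ^ (n - 1) : ℤ)) * z :=
    Subgroup.mem_center_iff.mp h.c_mem_center z
  have hzc : z ≠ x ^ (2 ^ (n - 1) : ℤ) * y ^ (2 ^ (n - 1) : ℤ) := h.z_ne_el _ _
  refine ⟨fourSub z _ h.z_sq h.c_sq hcz, isKleinFour_fourSub _ _ _ _ _ h.z_ne_one h.c_ne_one hzc, ?_⟩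
  intro he
  have hz : z ∈ fourSub z _ h.z_sq h.c_sq hcz := Or.inr (Or.inl rfl)
  rw [he, h.mem_T_iff] at hz
  exact h.z_not_mem_U hz.1

end WrData

end Cfsg.Agent.Helper20
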