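import Cfsg.Agent.Helper20.Wr4

set_option autoImplicit false

/-!
Wreathed groups: the subgroups `{x^i y^j : M ∣ i+j} ∪ {x^i y^j z : M ∣ i+j-r}`.
-/

namespace Cfsg.Agent.Helper20

namespace WrData

variable {S : Type*} [Group S] {n : ℕ} {x y z : S}

/-- The subgroup `{x^i y^j : M ∣ i+j} ∪ {x^i y^j z : M ∣ i+j-r}` for `M ∣ 2^n`, `M ∣ 2r`. -/
def sumSub (h : WrData S n x y z) (M r : ℤ) (_hM : M ∣ 2 ^ n) (hr : M ∣ 2 * r) : Subgroup S where
  carrier := {s | (∃ i j : ℤ, M ∣ i + j ∧ s = x ^ i * y ^ j) ∨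
    (∃ i j : ℤ, M ∣ i + j - r ∧ s = x ^ i * y ^ j * z)}
  one_mem' := Or.inl ⟨0, 0, by simp, by simp⟩
  mul_mem' := by
    rintro _ _ (⟨i, j, hd, rfl⟩ | ⟨i, j, hd, rfl⟩) (⟨k, l, hd', rfl⟩ | ⟨k, l, hd', rfl⟩)
    · left
      refine ⟨i + k, j + l, ?_, h.el_mul_el i j k l⟩
      have : i + k + (j + l) = (i + j) + (k + l) := by ring
      rw [this]; exact dvd_add hd hd'
    · right
      refine ⟨i + k, j + l, ?_, h.el_mul_elz i j k l⟩
      have : i + k + (j + l) - r = (i + j) + (k + l - r) := by ring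
      rw [this]; exact dvd_add hd hd'
    · right
      refine ⟨i + l, j + k, ?_, h.elz_mul_el i j k l⟩
      have : i + l + (j + k) - r = (i + j - r) + (k + l) := by ring
      rw [this]; exact dvd_add hd hd'
    · left
      refine ⟨i + l, j + k, ?_, h.elz_mul_elz i j k l⟩
      have : i + l + (j + k) = (i + j - r) + (k + l - r) + 2 * r := by ring
      rw [this]; exact dvd_add (dvd_add hd hd') hr
  inv_mem' := by
    rintro _ (⟨i, j, hd, rfl⟩ | ⟨i, j, hd, rfl⟩)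
    · left
      refine ⟨-i, -j, ?_, h.el_inv i j⟩
      have : -i + -j = -(i + j) := by ring
      rw [this]; exact dvd_neg.mpr hd
    · right
      refine ⟨-j, -i, ?_, h.elz_inv i j⟩
      have : -j + -i - r = -(i + j - r) - 2 * r := by ring
      rw [this]; exact dvd_sub (dvd_neg.mpr hd) hr

theorem el_mem_sumSub (h : WrData S n x y z) (M r : ℤ) (hM : M ∣ 2 ^ n) (hr : M ∣ 2 * r) (i j : ℤ) :
    x ^ i * y ^ j ∈ h.sumSub M r hM hr ↔ M ∣ i + j := by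
  constructor
  · rintro (⟨k, l, hd, he⟩ | ⟨k, l, hd, he⟩)
    · obtain ⟨h1, h2⟩ := (h.el_eq_iff _ _ _ _).mp he
      have h3 : M ∣ (i - k) + (j - l) := dvd_add (hM.trans h1) (hM.trans h2)
      have : i + j = (i - k) + (j - l) + (k + l) := by ring
      rw [this]; exact dvd_add h3 hd
    · exact absurd he (h.el_ne_elz _ _ _ _)
  · intro hd
    exact Or.inl ⟨i, j, hd, rfl⟩

theorem elz_mem_sumSub (h : WrData S n x y z) (M r : ℤ) (hM : M ∣ 2 ^ n) (hr : M ∣ 2 * r) (i j : ℤ) :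
    x ^ i * y ^ j * z ∈ h.sumSub M r hM hr ↔ M ∣ i + j - r := by
  constructor
  · rintro (⟨k, l, hd, he⟩ | ⟨k, l, hd, he⟩)
    · exact absurd he.symm (h.el_ne_elz _ _ _ _)
    · obtain ⟨h1, h2⟩ := (h.elz_eq_iff _ _ _ _).mp he
      have h3 : M ∣ (i - k) + (j - l) := dvd_add (hM.trans h1) (hM.trans h2)
      have : i + j - r = (i - k) + (j - l) + (k + l - r) := by ring
      rw [this]; exact dvd_add h3 hd
  · intro hd
    exact Or.inr ⟨i, j, hd, rfl⟩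

theorem normal_sumSub (h : WrData S n x y z) (M r : ℤ) (hM : M ∣ 2 ^ n) (hr : M ∣ 2 * r) :
    (h.sumSub M r hM hr).Normal := by
  constructor
  intro t ht g
  rcases h.cases t with ⟨i, j, rfl⟩ | ⟨i, j, rfl⟩ <;> rcases h.cases g with ⟨k, l, rfl⟩ | ⟨k, l, rfl⟩
  · rwa [h.conj_el_by_el]
  · rw [h.conj_el_by_elz, h.el_mem_sumSub]
    rw [h.el_mem_sumSub] at ht
    rwa [add_comm]
  · rw [h.conj_elz_by_el, h.elz_mem_sumSub]
    rw [h.elz_mem_sumSub] at ht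
    have : i + k - l + (j + l - k) - r = i + j - r := by ring
    rwa [this]
  · rw [h.conj_elz_by_elz, h.elz_mem_sumSub]
    rw [h.elz_mem_sumSub] at ht
    have : j + k - l + (i + l - k) - r = i + j - r := by ring
    rwa [this]

theorem zpowers_xyinv_le_U (h : WrData S n x y z) : Subgroup.zpowers (x * y⁻¹) ≤ h.U := by
  intro s hs
  obtain ⟨c, rfl⟩ := (h.mem_zpowers_xyinv_iff s).mp hs
  exact h.el_mem_U _ _

theorem card_of_relIndex_two {G : Type*} [Group G] {H K : Subgroup G} (hHK : H ≤ K)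
    (h2 : H.relIndex K = 2) : Nat.card K = Nat.card H * 2 := by
  have h3 := Subgroup.relIndex_mul_relIndex (⊥ : Subgroup G) H K bot_le hHK
  rw [Subgroup.relIndex_bot_left, Subgroup.relIndex_bot_left, h2] at h3
  exact h3.symm

/-- `|sumSub N r| = 2^(n+1)`. -/
theorem card_sumSub_N (h : WrData S n x y z) (r : ℤ) (hr : (2 ^ n : ℤ) ∣ 2 * r) :
    Nat.card (h.sumSub (2 ^ n) r dvd_rfl hr) = 2 ^ (n + 1) := by
  have hle : Subgroup.zpowers (x * y⁻¹) ≤ h.sumSub (2 ^ n) r dvd_rfl hr := by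
    intro s hs
    obtain ⟨c, rfl⟩ := (h.mem_zpowers_xyinv_iff s).mp hs
    rw [h.el_mem_sumSub]
    exact ⟨0, by ring⟩
  have h2 : (Subgroup.zpowers (x * y⁻¹)).relIndex (h.sumSub (2 ^ n) r dvd_rfl hr) = 2 := by
    rw [Subgroup.relIndex_eq_two_iff]
    refine ⟨x ^ r * y ^ (0 : ℤ) * z, (h.elz_mem_sumSub _ _ _ _ _ _).mpr ⟨0, by ring⟩, ?_⟩
    intro b hb
    rcases h.cases b with ⟨i, j, rfl⟩ | ⟨i, j, rfl⟩
    · right
      rw [h.el_mem_sumSub] at hb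
      refine ⟨(h.el_mem_zpowers_xyinv_iff i j).mpr hb, ?_⟩
      rw [h.el_mul_elz]
      intro hm
      exact h.elz_not_mem_U _ _ (h.zpowers_xyinv_le_U hm)
    · left
      rw [h.elz_mem_sumSub] at hb
      rw [h.elz_mul_elz, h.el_mem_zpowers_xyinv_iff]
      refine ⟨?_, fun hm => h.elz_not_mem_U _ _ (h.zpowers_xyinv_le_U hm)⟩
      have : i + 0 + (j + r) = (i + j - r) + 2 * r := by ring
      rw [this]; exact dvd_add hb hr
  rw [card_of_relIndex_two hle h2, Nat.card_zpowers, h.orderOf_xyinv, pow_succ]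

theorem parity_cases (h : WrData S n x y z) (t : ℤ) (ht : (2 ^ (n - 1) : ℤ) ∣ t) :
    ((2 ^ n : ℤ) ∣ t ∧ ¬ (2 ^ n : ℤ) ∣ t + 2 ^ (n - 1)) ∨
      ((2 ^ n : ℤ) ∣ t + 2 ^ (n - 1) ∧ ¬ (2 ^ n : ℤ) ∣ t) := by
  obtain ⟨a, rfl⟩ := ht
  rcases Int.even_or_odd' a with ⟨b, rfl | rfl⟩
  · left
    refine ⟨⟨b, by rw [← h.two_mul_P]; ring⟩, ?_⟩
    rintro ⟨c, hc⟩
    rw [← h.two_mul_P] at hc
    have h1 : (2 ^ (n - 1) : ℤ) * (2 * b + 1) = 2 ^ (n - 1) * (2 * c) := by linarith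
    have := mul_left_cancel₀ (by positivity : (2 ^ (n - 1) : ℤ) ≠ 0) h1
    omega
  · right
    refine ⟨⟨b + 1, by rw [← h.two_mul_P]; ring⟩, ?_⟩
    rintro ⟨c, hc⟩
    rw [← h.two_mul_P] at hc
    have h1 : (2 ^ (n - 1) : ℤ) * (2 * b + 1) = 2 ^ (n - 1) * (2 * c) := by linarith
    have := mul_left_cancel₀ (by positivity : (2 ^ (n - 1) : ℤ) ≠ 0) h1
    omega

/-- `|sumSub P 0| = 2^(n+2)`. -/
theorem card_sumSub_P (h : WrData S n x y z) :
    Nat.card (h.sumSub (2 ^ (n - 1)) 0 h.P_dvd_N (by simp)) = 2 ^ (n + 2) := by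
  have hle : h.sumSub (2 ^ n) 0 dvd_rfl (by simp) ≤ h.sumSub (2 ^ (n - 1)) 0 h.P_dvd_N (by simp) := by
    intro s hs
    rcases h.cases s with ⟨i, j, rfl⟩ | ⟨i, j, rfl⟩
    · rw [h.el_mem_sumSub] at hs ⊢
      exact h.P_dvd_N.trans hs
    · rw [h.elz_mem_sumSub] at hs ⊢
      exact h.P_dvd_N.trans hs
  have h2 : (h.sumSub (2 ^ n) 0 dvd_rfl (by simp)).relIndex
      (h.sumSub (2 ^ (n - 1)) 0 h.P_dvd_N (by simp)) = 2 := by
    rw [Subgroup.relIndex_eq_two_iff]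
    refine ⟨x ^ (2 ^ (n - 1) : ℤ) * y ^ (0 : ℤ), (h.el_mem_sumSub _ _ _ _ _ _).mpr ⟨1, by ring⟩, ?_⟩
    intro b hb
    rcases h.cases b with ⟨i, j, rfl⟩ | ⟨i, j, rfl⟩
    · rw [h.el_mem_sumSub] at hb
      rw [h.el_mul_el, h.el_mem_sumSub, h.el_mem_sumSub]
      have e : i + 2 ^ (n - 1) + (j + 0) = (i + j) + 2 ^ (n - 1) := by ring
      rw [e]
      rcases h.parity_cases (i + j) hb with ⟨h1, h2⟩ | ⟨h1, h2⟩
      · right; exact ⟨h1, h2⟩
      · left; exact ⟨h1, h2⟩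
    · rw [h.elz_mem_sumSub, sub_zero] at hb
      rw [h.elz_mul_el, h.elz_mem_sumSub, h.elz_mem_sumSub, sub_zero, sub_zero]
      have e : i + 0 + (j + 2 ^ (n - 1)) = (i + j) + 2 ^ (n - 1) := by ring
      rw [e]
      rcases h.parity_cases (i + j) hb with ⟨h1, h2⟩ | ⟨h1, h2⟩
      · right; exact ⟨h1, h2⟩
      · left; exact ⟨h1, h2⟩
  rw [card_of_relIndex_two hle h2, h.card_sumSub_N]
  ring

end WrData

end Cfsg.Agent.Helper20
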