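import Cfsg.Agent.Helper20.Wr5

set_option autoImplicit false

/-!
Wreathed groups: the subgroups `vSub e f = {x^k y^l : 2^e ∣ k-l, 2^f ∣ k}` of `U` and
`diffSub e r = {x^k y^l : 2^e ∣ k-l} ∪ {x^k y^l z : 2^e ∣ k-l-r}`; every subgroup containing the
centre and not contained in `U` is some `diffSub e r`.
-/

namespace Cfsg.Agent.Helper20

namespace WrData

variable {S : Type*} [Group S] {n : ℕ} {x y z : S}

theorem two_pow_dvd_N {e : ℕ} (he : e ≤ n) : (2 ^ e : ℤ) ∣ 2 ^ n := pow_dvd_pow 2 he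

/-- `{x^k y^l : 2^e ∣ k - l ∧ 2^f ∣ k}`. -/
def vSub (h : WrData S n x y z) (e f : ℕ) : Subgroup S where
  carrier := {s | ∃ k l : ℤ, (2 ^ e : ℤ) ∣ k - l ∧ (2 ^ f : ℤ) ∣ k ∧ s = x ^ k * y ^ l}
  one_mem' := ⟨0, 0, by simp, by simp, by simp⟩
  mul_mem' := by
    rintro _ _ ⟨k, l, h1, h2, rfl⟩ ⟨k', l', h1', h2', rfl⟩
    refine ⟨k + k', l + l', ?_, dvd_add h2 h2', h.el_mul_el k l k' l'⟩
    have : k + k' - (l + l') = (k - l) + (k' - l') := by ring
    rw [this]; exact dvd_add h1 h1'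
  inv_mem' := by
    rintro _ ⟨k, l, h1, h2, rfl⟩
    refine ⟨-k, -l, ?_, dvd_neg.mpr h2, h.el_inv k l⟩
    have : -k - -l = -(k - l) := by ring
    rw [this]; exact dvd_neg.mpr h1

theorem el_mem_vSub (h : WrData S n x y z) {e f : ℕ} (he : e ≤ n) (hf : f ≤ n) (k l : ℤ) :
    x ^ k * y ^ l ∈ h.vSub e f ↔ (2 ^ e : ℤ) ∣ k - l ∧ (2 ^ f : ℤ) ∣ k := by
  constructor
  · rintro ⟨k', l', h1, h2, he'⟩
    obtain ⟨d1, d2⟩ := (h.el_eq_iff _ _ _ _).mp he'
    refine ⟨?_, ?_⟩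
    · have : k - l = (k - k') - (l - l') + (k' - l') := by ring
      rw [this]
      exact dvd_add (dvd_sub ((two_pow_dvd_N he).trans d1) ((two_pow_dvd_N he).trans d2)) h1
    · have : k = (k - k') + k' := by ring
      rw [this]
      exact dvd_add ((two_pow_dvd_N hf).trans d1) h2
  · rintro ⟨h1, h2⟩
    exact ⟨k, l, h1, h2, rfl⟩

theorem vSub_le_U (h : WrData S n x y z) (e f : ℕ) : h.vSub e f ≤ h.U := by
  rintro _ ⟨k, l, -, -, rfl⟩
  exact h.el_mem_U k l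

/-- `{x^k y^l : 2^e ∣ k - l} ∪ {x^k y^l z : 2^e ∣ k - l - r}`. -/
def diffSub (h : WrData S n x y z) (e : ℕ) (r : ℤ) : Subgroup S where
  carrier := {s | (∃ k l : ℤ, (2 ^ e : ℤ) ∣ k - l ∧ s = x ^ k * y ^ l) ∨
    (∃ k l : ℤ, (2 ^ e : ℤ) ∣ k - l - r ∧ s = x ^ k * y ^ l * z)}
  one_mem' := Or.inl ⟨0, 0, by simp, by simp⟩
  mul_mem' := by
    rintro _ _ (⟨i, j, hd, rfl⟩ | ⟨i, j, hd, rfl⟩) (⟨k, l, hd', rfl⟩ | ⟨k, l, hd', rfl⟩)
    · left
      refine ⟨i + k, j + l, ?_, h.el_mul_el i j k l⟩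
      have : i + k - (j + l) = (i - j) + (k - l) := by ring
      rw [this]; exact dvd_add hd hd'
    · right
      refine ⟨i + k, j + l, ?_, h.el_mul_elz i j k l⟩
      have : i + k - (j + l) - r = (i - j) + (k - l - r) := by ring
      rw [this]; exact dvd_add hd hd'
    · right
      refine ⟨i + l, j + k, ?_, h.elz_mul_el i j k l⟩
      have : i + l - (j + k) - r = (i - j - r) - (k - l) := by ring
      rw [this]; exact dvd_sub hd hd'
    · left
      refine ⟨i + l, j + k, ?_, h.elz_mul_elz i j k l⟩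
      have : i + l - (j + k) = (i - j - r) - (k - l - r) := by ring
      rw [this]; exact dvd_sub hd hd'
  inv_mem' := by
    rintro _ (⟨i, j, hd, rfl⟩ | ⟨i, j, hd, rfl⟩)
    · left
      refine ⟨-i, -j, ?_, h.el_inv i j⟩
      have : -i - -j = -(i - j) := by ring
      rw [this]; exact dvd_neg.mpr hd
    · right
      refine ⟨-j, -i, ?_, h.elz_inv i j⟩
      have : -j - -i - r = i - j - r := by ring
      rw [this]; exact hd

theorem el_mem_diffSub (h : WrData S n x y z) {e : ℕ} (he : e ≤ n) (r k l : ℤ) :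
    x ^ k * y ^ l ∈ h.diffSub e r ↔ (2 ^ e : ℤ) ∣ k - l := by
  constructor
  · rintro (⟨k', l', h1, he'⟩ | ⟨k', l', h1, he'⟩)
    · obtain ⟨d1, d2⟩ := (h.el_eq_iff _ _ _ _).mp he'
      have : k - l = (k - k') - (l - l') + (k' - l') := by ring
      rw [this]
      exact dvd_add (dvd_sub ((two_pow_dvd_N he).trans d1) ((two_pow_dvd_N he).trans d2)) h1
    · exact absurd he' (h.el_ne_elz _ _ _ _)
  · intro h1
    exact Or.inl ⟨k, l, h1, rfl⟩

theorem elz_mem_diffSub (h : WrData S n x y z) {e : ℕ} (he : e ≤ n) (r k l : ℤ) :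
    x ^ k * y ^ l * z ∈ h.diffSub e r ↔ (2 ^ e : ℤ) ∣ k - l - r := by
  constructor
  · rintro (⟨k', l', h1, he'⟩ | ⟨k', l', h1, he'⟩)
    · exact absurd he'.symm (h.el_ne_elz _ _ _ _)
    · obtain ⟨d1, d2⟩ := (h.elz_eq_iff _ _ _ _).mp he'
      have : k - l - r = (k - k') - (l - l') + (k' - l' - r) := by ring
      rw [this]
      exact dvd_add (dvd_sub ((two_pow_dvd_N he).trans d1) ((two_pow_dvd_N he).trans d2)) h1
  · intro h1
    exact Or.inr ⟨k, l, h1, rfl⟩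

theorem diffSub_inf_U (h : WrData S n x y z) {e : ℕ} (he : e ≤ n) (r : ℤ) (s : S) :
    s ∈ h.diffSub e r ∧ s ∈ h.U ↔ s ∈ h.vSub e 0 := by
  constructor
  · rintro ⟨h1, ⟨k, l, rfl⟩⟩
    rw [h.el_mem_diffSub he] at h1
    exact (h.el_mem_vSub he (Nat.zero_le n) k l).mpr ⟨h1, by simp⟩
  · rintro ⟨k, l, h1, -, rfl⟩
    exact ⟨(h.el_mem_diffSub he r k l).mpr h1, h.el_mem_U k l⟩

theorem center_le_diffSub (h : WrData S n x y z) {e : ℕ} (he : e ≤ n) (r : ℤ) :
    Subgroup.center S ≤ h.diffSub e r := by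
  intro s hs
  obtain ⟨i, rfl⟩ := (h.mem_center_iff s).mp hs
  rw [h.el_mem_diffSub he]
  simp

/-- Classification of the subgroups containing the centre and not contained in `U`. -/
theorem exists_diffSub (h : WrData S n x y z) (X : Subgroup S) (hZ : Subgroup.center S ≤ X)
    (hXU : ¬ X ≤ h.U) : ∃ e : ℕ, e ≤ n ∧ ∃ r : ℤ, X = h.diffSub e r := by
  classical
  obtain ⟨a, haX, haU⟩ := SetLike.not_le_iff_exists.mp hXU
  rcases h.cases a with ⟨i, j, rfl⟩ | ⟨i, j, rfl⟩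
  · exact absurd (h.el_mem_U i j) haU
  have hex : ∃ e : ℕ, e ≤ n ∧ x ^ (2 ^ e : ℤ) ∈ X := by
    refine ⟨n, le_rfl, ?_⟩
    have : x ^ (2 ^ n : ℤ) = 1 := (h.xpow_eq_one_iff _).mpr dvd_rfl
    rw [this]; exact X.one_mem
  set e := Nat.find hex with he_def
  obtain ⟨he, hxe⟩ := Nat.find_spec hex
  have hmin : ∀ f : ℕ, f < e → ¬ (f ≤ n ∧ x ^ (2 ^ f : ℤ) ∈ X) := fun f hf => Nat.find_min hex hf
  have key : ∀ m : ℤ, x ^ m ∈ X ↔ (2 ^ e : ℤ) ∣ m := by
    intro m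
    constructor
    · intro hm
      by_contra hnd
      have hgd : (Int.gcd m (2 ^ e) : ℤ) ∣ 2 ^ e := Int.gcd_dvd_right _ _
      have hgd' : Int.gcd m (2 ^ e) ∣ 2 ^ e := by
        have : ((Int.gcd m (2 ^ e) : ℕ) : ℤ) ∣ ((2 ^ e : ℕ) : ℤ) := by
          push_cast; exact hgd
        exact Int.natCast_dvd_natCast.mp this
      obtain ⟨f, hfe, hf⟩ := (Nat.dvd_prime_pow Nat.prime_two).mp hgd'
      have hbez := Int.gcd_eq_gcd_ab m (2 ^ e)
      have hxg : x ^ ((Int.gcd m (2 ^ e) : ℕ) : ℤ) ∈ X := by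
        rw [hbez, zpow_add, zpow_mul, zpow_mul]
        exact X.mul_mem (X.zpow_mem hm _) (X.zpow_mem hxe _)
      rw [hf] at hxg
      push_cast at hxg
      rcases Nat.lt_or_ge f e with hlt | hge
      · exact hmin f hlt ⟨le_trans hlt.le he, hxg⟩
      · have hfe' : f = e := le_antisymm hfe hge
        apply hnd
        have h1 : (Int.gcd m (2 ^ e) : ℤ) ∣ m := Int.gcd_dvd_left _ _
        rw [hf, hfe'] at h1
        push_cast at h1
        exact h1
    · rintro ⟨c, rfl⟩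
      rw [zpow_mul]
      exact X.zpow_mem hxe c
  have hel : ∀ k l : ℤ, x ^ k * y ^ l ∈ X ↔ (2 ^ e : ℤ) ∣ k - l := by
    intro k l
    have hc : x ^ l * y ^ l ∈ X := hZ ((h.el_mem_center_iff l l).mpr (by simp))
    have hsplit : x ^ k * y ^ l = x ^ (k - l) * (x ^ l * y ^ l) := by
      rw [← mul_assoc, ← zpow_add]; congr 2; ring
    rw [← key, hsplit]
    constructor
    · intro hm
      have := X.mul_mem hm (X.inv_mem hc)
      rwa [mul_inv_cancel_right] at this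
    · intro hm
      exact X.mul_mem hm hc
  refine ⟨e, he, i - j, ?_⟩
  ext g
  rcases h.cases g with ⟨k, l, rfl⟩ | ⟨k, l, rfl⟩
  · rw [hel, h.el_mem_diffSub he]
  · rw [h.elz_mem_diffSub he]
    have h1 : x ^ k * y ^ l * z = (x ^ (k - i) * y ^ (l - j)) * (x ^ i * y ^ j * z) := by
      rw [h.el_mul_elz]; congr 3 <;> ring
    have h2 : k - l - (i - j) = (k - i) - (l - j) := by ring
    rw [h2, ← hel, h1]
    constructor
    · intro hm
      have := X.mul_mem hm (X.inv_mem haX)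
      rwa [mul_inv_cancel_right] at this
    · intro hm
      exact X.mul_mem hm haX

end WrData

end Cfsg.Agent.Helper20
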