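import Cfsg.Agent.Helper20.Wr6

set_option autoImplicit false

/-!
Wreathed groups: conjugates, normalizers of the subgroups `diffSub e r`.
-/

namespace Cfsg.Agent.Helper20

namespace WrData

variable {S : Type*} [Group S] {n : ℕ} {x y z : S}

theorem conj_mem_diffSub_el (h : WrData S n x y z) {e : ℕ} (he : e ≤ n) (r k l : ℤ) (s : S) :
    (x ^ k * y ^ l) * s * (x ^ k * y ^ l)⁻¹ ∈ h.diffSub e (r + 2 * (k - l)) ↔ s ∈ h.diffSub e r := by
  rcases h.cases s with ⟨i, j, rfl⟩ | ⟨i, j, rfl⟩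
  · rw [h.conj_el_by_el, h.el_mem_diffSub he, h.el_mem_diffSub he]
  · rw [h.conj_elz_by_el, h.elz_mem_diffSub he, h.elz_mem_diffSub he]
    have : i + k - l - (j + l - k) - (r + 2 * (k - l)) = i - j - r := by ring
    rw [this]

theorem conj_mem_diffSub_elz (h : WrData S n x y z) {e : ℕ} (he : e ≤ n) (r k l : ℤ) (s : S) :
    (x ^ k * y ^ l * z) * s * (x ^ k * y ^ l * z)⁻¹ ∈ h.diffSub e (-r + 2 * (k - l))
      ↔ s ∈ h.diffSub e r := by
  rcases h.cases s with ⟨i, j, rfl⟩ | ⟨i, j, rfl⟩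
  · rw [h.conj_el_by_elz, h.el_mem_diffSub he, h.el_mem_diffSub he]
    have : j - i = -(i - j) := by ring
    rw [this, dvd_neg]
  · rw [h.conj_elz_by_elz, h.elz_mem_diffSub he, h.elz_mem_diffSub he]
    have : j + k - l - (i + l - k) - (-r + 2 * (k - l)) = -(i - j - r) := by ring
    rw [this, dvd_neg]

theorem diffSub_congr (h : WrData S n x y z) {e : ℕ} (he : e ≤ n) (r r' : ℤ)
    (hd : (2 ^ e : ℤ) ∣ r - r') : h.diffSub e r = h.diffSub e r' := by
  ext s
  rcases h.cases s with ⟨i, j, rfl⟩ | ⟨i, j, rfl⟩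
  · rw [h.el_mem_diffSub he, h.el_mem_diffSub he]
  · rw [h.elz_mem_diffSub he, h.elz_mem_diffSub he]
    constructor
    · intro h1
      have : i - j - r' = (i - j - r) + (r - r') := by ring
      rw [this]; exact dvd_add h1 hd
    · intro h1
      have : i - j - r = (i - j - r') - (r - r') := by ring
      rw [this]; exact dvd_sub h1 hd

theorem map_conj_diffSub_el (h : WrData S n x y z) {e : ℕ} (he : e ≤ n) (r k l : ℤ) :
    (h.diffSub e r).map (MulAut.conj (x ^ k * y ^ l)).toMonoidHom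
      = h.diffSub e (r + 2 * (k - l)) := by
  ext s
  simp only [Subgroup.mem_map, MulEquiv.coe_toMonoidHom, MulAut.conj_apply]
  constructor
  · rintro ⟨t, ht, rfl⟩
    exact (h.conj_mem_diffSub_el he r k l t).mpr ht
  · intro hs
    refine ⟨(x ^ k * y ^ l)⁻¹ * s * (x ^ k * y ^ l), ?_, by group⟩
    rw [← h.conj_mem_diffSub_el he r k l]
    have : x ^ k * y ^ l * ((x ^ k * y ^ l)⁻¹ * s * (x ^ k * y ^ l)) * (x ^ k * y ^ l)⁻¹ = s := by group
    rwa [this]

theorem r_mem_diffSub (h : WrData S n x y z) {e : ℕ} (he : e ≤ n) (r : ℤ) :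
    x ^ r * y ^ (0 : ℤ) * z ∈ h.diffSub e r := by
  rw [h.elz_mem_diffSub he]; simp

theorem two_pow_succ_dvd_two_mul {e : ℕ} (t : ℤ) : (2 ^ (e + 1) : ℤ) ∣ 2 * t ↔ (2 ^ e : ℤ) ∣ t := by
  rw [pow_succ, mul_comm ((2 : ℤ) ^ e) 2]
  exact mul_dvd_mul_iff_left (by norm_num)

theorem normalizer_diffSub (h : WrData S n x y z) {e : ℕ} (he : e + 1 ≤ n) (r : ℤ) :
    Subgroup.normalizer ((h.diffSub (e + 1) r : Subgroup S) : Set S) = h.diffSub e r := by
  have he' : e ≤ n := by omega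
  ext g
  rw [Subgroup.mem_normalizer_iff]
  constructor
  · intro hg
    have h0 := (hg _).mp (h.r_mem_diffSub he r)
    rcases h.cases g with ⟨k, l, rfl⟩ | ⟨k, l, rfl⟩
    · rw [h.conj_elz_by_el, h.elz_mem_diffSub he] at h0
      rw [h.el_mem_diffSub he']
      have : r + k - l - (0 + l - k) - r = 2 * (k - l) := by ring
      rw [this] at h0
      exact (two_pow_succ_dvd_two_mul _).mp h0
    · rw [h.conj_elz_by_elz, h.elz_mem_diffSub he] at h0
      rw [h.elz_mem_diffSub he']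
      have : 0 + k - l - (r + l - k) - r = 2 * (k - l - r) := by ring
      rw [this] at h0
      exact (two_pow_succ_dvd_two_mul _).mp h0
  · intro hg s
    rcases h.cases g with ⟨k, l, rfl⟩ | ⟨k, l, rfl⟩
    · rw [h.el_mem_diffSub he'] at hg
      have hc : h.diffSub (e + 1) (r + 2 * (k - l)) = h.diffSub (e + 1) r := by
        apply h.diffSub_congr he
        have : r + 2 * (k - l) - r = 2 * (k - l) := by ring
        rw [this]
        exact (two_pow_succ_dvd_two_mul _).mpr hg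
      rw [← h.conj_mem_diffSub_el he r k l s, hc]
    · rw [h.elz_mem_diffSub he'] at hg
      have hc : h.diffSub (e + 1) (-r + 2 * (k - l)) = h.diffSub (e + 1) r := by
        apply h.diffSub_congr he
        have : -r + 2 * (k - l) - r = 2 * (k - l - r) := by ring
        rw [this]
        exact (two_pow_succ_dvd_two_mul _).mpr hg
      rw [← h.conj_mem_diffSub_elz he r k l s, hc]

theorem parity_pow {e : ℕ} (t : ℤ) (ht : (2 ^ e : ℤ) ∣ t) :
    ((2 ^ (e + 1) : ℤ) ∣ t ∧ ¬ (2 ^ (e + 1) : ℤ) ∣ t + 2 ^ e) ∨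
      ((2 ^ (e + 1) : ℤ) ∣ t + 2 ^ e ∧ ¬ (2 ^ (e + 1) : ℤ) ∣ t) := by
  obtain ⟨a, rfl⟩ := ht
  rcases Int.even_or_odd' a with ⟨b, rfl | rfl⟩
  · left
    refine ⟨⟨b, by rw [pow_succ]; ring⟩, ?_⟩
    rintro ⟨c, hc⟩
    rw [pow_succ] at hc
    have h1 : (2 ^ e : ℤ) * (2 * b + 1) = 2 ^ e * (2 * c) := by linarith
    have := mul_left_cancel₀ (by positivity : (2 ^ e : ℤ) ≠ 0) h1
    omega
  · right
    refine ⟨⟨b + 1, by rw [pow_succ]; ring⟩, ?_⟩
    rintro ⟨c, hc⟩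
    rw [pow_succ] at hc
    have h1 : (2 ^ e : ℤ) * (2 * b + 1) = 2 ^ e * (2 * c) := by linarith
    have := mul_left_cancel₀ (by positivity : (2 ^ e : ℤ) ≠ 0) h1
    omega

theorem diffSub_le_diffSub (h : WrData S n x y z) {e : ℕ} (he : e + 1 ≤ n) (r : ℤ) :
    h.diffSub (e + 1) r ≤ h.diffSub e r := by
  have he' : e ≤ n := by omega
  have hd : (2 ^ e : ℤ) ∣ 2 ^ (e + 1) := pow_dvd_pow 2 (Nat.le_succ e)
  intro s hs
  rcases h.cases s with ⟨i, j, rfl⟩ | ⟨i, j, rfl⟩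
  · rw [h.el_mem_diffSub he] at hs
    rw [h.el_mem_diffSub he']
    exact hd.trans hs
  · rw [h.elz_mem_diffSub he] at hs
    rw [h.elz_mem_diffSub he']
    exact hd.trans hs

theorem relIndex_diffSub (h : WrData S n x y z) {e : ℕ} (he : e + 1 ≤ n) (r : ℤ) :
    (h.diffSub (e + 1) r).relIndex (h.diffSub e r) = 2 := by
  have he' : e ≤ n := by omega
  rw [Subgroup.relIndex_eq_two_iff]
  refine ⟨x ^ (2 ^ e : ℤ) * y ^ (0 : ℤ), (h.el_mem_diffSub he' _ _ _).mpr (by simp), ?_⟩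
  intro b hb
  rcases h.cases b with ⟨i, j, rfl⟩ | ⟨i, j, rfl⟩
  · rw [h.el_mem_diffSub he'] at hb
    rw [h.el_mul_el, h.el_mem_diffSub he, h.el_mem_diffSub he]
    have e1 : i + 2 ^ e - (j + 0) = (i - j) + 2 ^ e := by ring
    rw [e1]
    rcases parity_pow (i - j) hb with ⟨h1, h2⟩ | ⟨h1, h2⟩
    · right; exact ⟨h1, h2⟩
    · left; exact ⟨h1, h2⟩
  · rw [h.elz_mem_diffSub he'] at hb
    rw [h.elz_mul_el, h.elz_mem_diffSub he, h.elz_mem_diffSub he]
    have e1 : i + 0 - (j + 2 ^ e) - r = (i - j - r) + 2 ^ e - 2 ^ (e + 1) := by rw [pow_succ]; ring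
    rw [e1]
    rcases parity_pow (i - j - r) hb with ⟨h1, h2⟩ | ⟨h1, h2⟩
    · right
      refine ⟨h1, fun h3 => h2 ?_⟩
      have := dvd_add h3 (dvd_refl ((2 : ℤ) ^ (e + 1)))
      rwa [sub_add_cancel] at this
    · left
      exact ⟨dvd_sub h1 dvd_rfl, h2⟩

end WrData

end Cfsg.Agent.Helper20
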