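import Cfsg.Agent.Helper20.Wr7
import Cfsg.Agent.Helper20.OddAut
import Cfsg.Agent.S1201

set_option autoImplicit false

/-!
Wreathed groups: automorphisms of odd order of the subgroups `diffSub e r`.
-/

namespace Cfsg.Agent.Helper20

namespace WrData

variable {S : Type*} [Group S] {n : ℕ} {x y z : S}

theorem isWreathed (h : WrData S n x y z) : Cfsg.IsWreathed S :=
  ⟨n, h.hn, h.card, x, y, z, h.ox, h.comm, h.disj, h.oz, h.rel⟩

theorem isPGroup (h : WrData S n x y z) : IsPGroup 2 S := IsPGroup.of_card h.card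

theorem el_zpow (h : WrData S n x y z) (k l c : ℤ) : (x ^ k * y ^ l) ^ c = x ^ (k * c) * y ^ (l * c) := by
  rw [(show Commute (x ^ k) (y ^ l) from h.comm_pow k l).mul_zpow, ← zpow_mul, ← zpow_mul]

theorem el_pow (h : WrData S n x y z) (k l : ℤ) (c : ℕ) :
    (x ^ k * y ^ l) ^ c = x ^ (k * c) * y ^ (l * c) := by
  rw [← zpow_natCast, h.el_zpow]

theorem mem_vSub_n_zero_iff (h : WrData S n x y z) (s : S) :
    s ∈ h.vSub n 0 ↔ s ∈ Subgroup.center S := by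
  constructor
  · rintro ⟨k, l, h1, -, rfl⟩
    exact (h.el_mem_center_iff k l).mpr h1
  · intro hs
    obtain ⟨i, rfl⟩ := (h.mem_center_iff s).mp hs
    exact (h.el_mem_vSub le_rfl (Nat.zero_le n) i i).mpr ⟨by simp, by simp⟩

/-! ### index-two steps -/

theorem vSub_step_f (h : WrData S n x y z) {e f : ℕ} (he : e ≤ n) (hf : f + 1 ≤ n) (a b : S)
    (ha : a ∈ h.vSub e f) (hb : b ∈ h.vSub e f) (ha' : a ∉ h.vSub e (f + 1))
    (hb' : b ∉ h.vSub e (f + 1)) : a⁻¹ * b ∈ h.vSub e (f + 1) := by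
  have hf' : f ≤ n := by omega
  obtain ⟨k, l, h1, h2, rfl⟩ := ha
  obtain ⟨k', l', h1', h2', rfl⟩ := hb
  rw [h.el_mem_vSub he hf] at ha' hb'
  rw [h.el_inv, h.el_mul_el, h.el_mem_vSub he hf]
  refine ⟨?_, ?_⟩
  · have : -k + k' - (-l + l') = (k' - l') - (k - l) := by ring
    rw [this]; exact dvd_sub h1' h1
  · have hk : (2 ^ (f + 1) : ℤ) ∣ k + 2 ^ f := by
      rcases parity_pow k h2 with ⟨h3, _⟩ | ⟨h3, _⟩
      · exact absurd ⟨h1, h3⟩ ha'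
      · exact h3
    have hk' : (2 ^ (f + 1) : ℤ) ∣ k' + 2 ^ f := by
      rcases parity_pow k' h2' with ⟨h3, _⟩ | ⟨h3, _⟩
      · exact absurd ⟨h1', h3⟩ hb'
      · exact h3
    have : -k + k' = (k' + 2 ^ f) - (k + 2 ^ f) := by ring
    rw [this]; exact dvd_sub hk' hk

theorem vSub_step_e (h : WrData S n x y z) {e : ℕ} (he : e + 1 ≤ n) (a b : S)
    (ha : a ∈ h.vSub e 0) (hb : b ∈ h.vSub e 0) (ha' : a ∉ h.vSub (e + 1) 0)
    (hb' : b ∉ h.vSub (e + 1) 0) : a⁻¹ * b ∈ h.vSub (e + 1) 0 := by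
  have he' : e ≤ n := by omega
  obtain ⟨k, l, h1, h2, rfl⟩ := ha
  obtain ⟨k', l', h1', h2', rfl⟩ := hb
  rw [h.el_mem_vSub he (Nat.zero_le n)] at ha' hb'
  rw [h.el_inv, h.el_mul_el, h.el_mem_vSub he (Nat.zero_le n)]
  refine ⟨?_, by simp⟩
  have hk : (2 ^ (e + 1) : ℤ) ∣ (k - l) + 2 ^ e := by
    rcases parity_pow (k - l) h1 with ⟨h3, _⟩ | ⟨h3, _⟩
    · exact absurd ⟨h3, by simp⟩ ha'
    · exact h3
  have hk' : (2 ^ (e + 1) : ℤ) ∣ (k' - l') + 2 ^ e := by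
    rcases parity_pow (k' - l') h1' with ⟨h3, _⟩ | ⟨h3, _⟩
    · exact absurd ⟨h3, by simp⟩ hb'
    · exact h3
  have : -k + k' - (-l + l') = ((k' - l') + 2 ^ e) - ((k - l) + 2 ^ e) := by ring
  rw [this]; exact dvd_sub hk' hk

theorem diffSub_step (h : WrData S n x y z) {e : ℕ} (he : e ≤ n) (r : ℤ) (a b : S)
    (ha : a ∈ h.diffSub e r) (hb : b ∈ h.diffSub e r) (ha' : a ∉ h.vSub e 0)
    (hb' : b ∉ h.vSub e 0) : a⁻¹ * b ∈ h.vSub e 0 := by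
  have haU : a ∉ h.U := fun hU => ha' ((h.diffSub_inf_U he r a).mp ⟨ha, hU⟩)
  have hbU : b ∉ h.U := fun hU => hb' ((h.diffSub_inf_U he r b).mp ⟨hb, hU⟩)
  apply (h.diffSub_inf_U he r _).mp
  refine ⟨Subgroup.mul_mem _ (Subgroup.inv_mem _ ha) hb, ?_⟩
  rw [Subgroup.mul_mem_iff_of_index_two h.index_U, inv_mem_iff]
  exact ⟨fun h' => absurd h' haU, fun h' => absurd h' hbU⟩

/-! ### the decomposition of `vSub e' 0` -/

theorem vSub_decomp (h : WrData S n x y z) {e e' : ℕ} (hee' : e ≤ e') (he' : e' ≤ n) (g : S)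
    (hg : g ∈ h.vSub e' 0) :
    ∃ w ∈ h.vSub n 0, ∃ u ∈ h.vSub e 0, g = w * u ^ (2 ^ (e' - e)) := by
  obtain ⟨k, l, h1, -, rfl⟩ := hg
  obtain ⟨c, hc⟩ := h1
  have he : e ≤ n := le_trans hee' he'
  have hpow : (2 ^ e' : ℤ) = 2 ^ e * 2 ^ (e' - e) := by
    rw [← pow_add]; congr 1; omega
  refine ⟨x ^ l * y ^ l, (h.el_mem_vSub le_rfl (Nat.zero_le n) l l).mpr ⟨by simp, by simp⟩,
    x ^ (2 ^ e * c) * y ^ (0 : ℤ), (h.el_mem_vSub he (Nat.zero_le n) _ _).mpr ⟨by simp, by simp⟩, ?_⟩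
  rw [h.el_pow, h.el_mul_el]
  congr 2
  · push_cast
    have : k = l + (k - l) := by ring
    rw [this, hc, hpow]; ring
  · simp

theorem vSub_comp (h : WrData S n x y z) {e e' : ℕ} (hee' : e ≤ e') (he' : e' ≤ n) (w u : S)
    (hw : w ∈ h.vSub n 0) (hu : u ∈ h.vSub e 0) : w * u ^ (2 ^ (e' - e)) ∈ h.vSub e' 0 := by
  obtain ⟨m, m', h1, -, rfl⟩ := hw
  obtain ⟨k, l, h2, -, rfl⟩ := hu
  have hpow : (2 ^ e' : ℤ) = 2 ^ e * 2 ^ (e' - e) := by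
    rw [← pow_add]; congr 1; omega
  rw [h.el_pow, h.el_mul_el, h.el_mem_vSub he' (Nat.zero_le n)]
  refine ⟨?_, by simp⟩
  have : m + k * ((2 ^ (e' - e) : ℕ) : ℤ) - (m' + l * ((2 ^ (e' - e) : ℕ) : ℤ))
      = (m - m') + (k - l) * 2 ^ (e' - e) := by push_cast; ring
  rw [this]
  apply dvd_add ((two_pow_dvd_N he').trans h1)
  rw [hpow]
  exact mul_dvd_mul_right h2 _

theorem vSub_n_pow_decomp (h : WrData S n x y z) {f : ℕ} (g : S) (hg : g ∈ h.vSub n f) :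
    ∃ w ∈ h.vSub n 0, g = w ^ (2 ^ f) := by
  obtain ⟨k, l, h1, ⟨c, hc⟩, rfl⟩ := hg
  refine ⟨x ^ c * y ^ c, (h.el_mem_vSub le_rfl (Nat.zero_le n) c c).mpr ⟨by simp, by simp⟩, ?_⟩
  rw [h.el_pow, h.el_eq_iff]
  push_cast
  refine ⟨by rw [hc]; ring_nf; simp, ?_⟩
  have : l - c * 2 ^ f = -(k - l) := by rw [hc]; ring
  rw [this]; exact dvd_neg.mpr h1

theorem vSub_n_pow_comp (h : WrData S n x y z) {f : ℕ} (hf : f ≤ n) (w : S) (hw : w ∈ h.vSub n 0) :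
    w ^ (2 ^ f) ∈ h.vSub n f := by
  obtain ⟨m, m', h1, -, rfl⟩ := hw
  rw [h.el_pow, h.el_mem_vSub le_rfl hf]
  push_cast
  refine ⟨?_, Dvd.intro_left _ rfl⟩
  have : m * 2 ^ f - m' * 2 ^ f = (m - m') * 2 ^ f := by ring
  rw [this]; exact Dvd.dvd.mul_right h1 _

theorem vSub_n_n (h : WrData S n x y z) (g : S) (hg : g ∈ h.vSub n n) : g = 1 := by
  obtain ⟨k, l, h1, h2, rfl⟩ := hg
  rw [h.el_eq_one_iff]
  refine ⟨h2, ?_⟩
  have : l = k - (k - l) := by ring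
  rw [this]; exact dvd_sub h2 h1

end WrData

end Cfsg.Agent.Helper20
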