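import Cfsg.Agent.Helper20.Wr8

set_option autoImplicit false

/-!
Wreathed groups: automorphisms of odd order of `diffSub e r` are trivial, except when
`e = n - 1` and `r` is even. Cases `e ≤ n - 1` (non-commutative `X`).
-/

namespace Cfsg.Agent.Helper20

namespace WrData

variable {S : Type*} [Group S] {n : ℕ} {x y z : S}

theorem step_lift [Finite S] (h : WrData S n x y z) (X : Subgroup S) (φ : MulAut X) {k : ℕ}
    (hk : Odd k) (hφ : φ ^ k = 1) (H K : Subgroup S) (hHfix : ∀ g : X, (g : S) ∈ H → φ g = g)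
    (hKinv : ∀ g : X, (g : S) ∈ K → ((φ g : X) : S) ∈ K)
    (hidx : ∀ a b : S, a ∈ K → b ∈ K → a ∉ H → b ∉ H → a⁻¹ * b ∈ H) :
    ∀ g : X, (g : S) ∈ K → φ g = g := by
  intro g hg
  have := odd_aut_fix_of_index_two φ hk hφ (H.subgroupOf X) (K.subgroupOf X)
    (fun g hg => hHfix g (Subgroup.mem_subgroupOf.mp hg))
    (fun g hg => Subgroup.mem_subgroupOf.mpr (hKinv g (Subgroup.mem_subgroupOf.mp hg)))
    (fun g _ => (h.isPGroup.to_subgroup X) g)
    (fun a ha b hb ha' hb' => by
      rw [Subgroup.mem_subgroupOf] at ha hb ha' hb' ⊢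
      simpa using hidx a b ha hb ha' hb')
  exact this g (Subgroup.mem_subgroupOf.mpr hg)

theorem vSub_le_diffSub (h : WrData S n x y z) {e e' f : ℕ} (hee' : e ≤ e') (he' : e' ≤ n) (r : ℤ) :
    h.vSub e' f ≤ h.diffSub e r := by
  rintro _ ⟨k, l, h1, -, rfl⟩
  rw [h.el_mem_diffSub (le_trans hee' he')]
  exact (pow_dvd_pow 2 hee').trans h1

/-- The centre of `S` is preserved by automorphisms of a non-commutative subgroup containing it. -/
theorem center_inv [Finite S] (h : WrData S n x y z) (X : Subgroup S) (hnc : ¬ IsMulCommutative X)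
    (φ : MulAut X) (g : X) (hg : (g : S) ∈ Subgroup.center S) :
    ((φ g : X) : S) ∈ Subgroup.center S := by
  have h1 : g ∈ Subgroup.center X := by
    rw [Subgroup.mem_center_iff]
    intro v
    apply Subtype.ext
    exact Subgroup.mem_center_iff.mp hg v
  have h2 : φ g ∈ Subgroup.center X := by
    rw [Subgroup.mem_center_iff] at h1 ⊢
    intro v
    have := congrArg φ (h1 (φ.symm v))
    simpa using this
  exact Cfsg.Agent.S1201.result h.isWreathed X hnc ⟨φ g, h2, rfl⟩

theorem center_inv_symm [Finite S] (h : WrData S n x y z) (X : Subgroup S)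
    (hnc : ¬ IsMulCommutative X) (φ : MulAut X) (g : X)
    (hg : ((φ g : X) : S) ∈ Subgroup.center S) : (g : S) ∈ Subgroup.center S := by
  have := h.center_inv X hnc φ.symm (φ g) hg
  rwa [MulEquiv.symm_apply_apply] at this

/-- Chain argument: an automorphism of odd order preserving the centre and `X ∩ U` is trivial. -/
theorem odd_aut_trivial_of_inv [Finite S] (h : WrData S n x y z) {e : ℕ} (he : e ≤ n) (r : ℤ)
    (φ : MulAut (h.diffSub e r)) {k : ℕ} (hk : Odd k) (hφ : φ ^ k = 1)
    (hZinv : ∀ g : h.diffSub e r, (g : S) ∈ Subgroup.center S →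
      ((φ g : h.diffSub e r) : S) ∈ Subgroup.center S)
    (hUinv : ∀ g : h.diffSub e r, (g : S) ∈ h.vSub e 0 →
      ((φ g : h.diffSub e r) : S) ∈ h.vSub e 0) : φ = 1 := by
  -- the chain inside the centre
  have P1 : ∀ d f : ℕ, f + d = n → ∀ g : h.diffSub e r, (g : S) ∈ h.vSub n f → φ g = g := by
    intro d
    induction d with
    | zero =>
      intro f hf g hg
      have hfn : f = n := by omega
      subst hfn
      have h1 : (g : S) = 1 := h.vSub_n_n _ hg
      have h2 : g = 1 := Subtype.ext h1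
      rw [h2, map_one]
    | succ d ih =>
      intro f hf
      have hf1 : f + 1 ≤ n := by omega
      have hf0 : f ≤ n := by omega
      apply h.step_lift _ φ hk hφ (h.vSub n (f + 1)) (h.vSub n f) (ih (f + 1) (by omega))
      · intro g hg
        obtain ⟨w, hw, hgw⟩ := h.vSub_n_pow_decomp _ hg
        have hwX : w ∈ h.diffSub e r := h.vSub_le_diffSub he le_rfl r hw
        have hgw' : g = (⟨w, hwX⟩ : h.diffSub e r) ^ (2 ^ f) := Subtype.ext (by rw [hgw]; rfl)
        rw [hgw', map_pow, Subgroup.coe_pow]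
        apply h.vSub_n_pow_comp hf0
        rw [h.mem_vSub_n_zero_iff]
        apply hZinv
        exact (h.mem_vSub_n_zero_iff w).mp hw
      · intro a b ha hb ha' hb'
        exact h.vSub_step_f le_rfl hf1 a b ha hb ha' hb'
  -- the chain up to `X ∩ U`
  have P2 : ∀ d e' : ℕ, e' + d = n → e ≤ e' → ∀ g : h.diffSub e r, (g : S) ∈ h.vSub e' 0 →
      φ g = g := by
    intro d
    induction d with
    | zero =>
      intro e' he' _ g hg
      have : e' = n := by omega
      subst this
      exact P1 e' 0 (by omega) g hg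
    | succ d ih =>
      intro e' he' hee'
      have he1 : e' + 1 ≤ n := by omega
      have he0 : e' ≤ n := by omega
      apply h.step_lift _ φ hk hφ (h.vSub (e' + 1) 0) (h.vSub e' 0) (ih (e' + 1) (by omega) (by omega))
      · intro g hg
        obtain ⟨w, hw, u, hu, hgwu⟩ := h.vSub_decomp hee' he0 _ hg
        have hwX : w ∈ h.diffSub e r := h.vSub_le_diffSub he le_rfl r hw
        have huX : u ∈ h.diffSub e r := h.vSub_le_diffSub le_rfl he r hu
        have hg' : g = (⟨w, hwX⟩ : h.diffSub e r) * (⟨u, huX⟩ : h.diffSub e r) ^ (2 ^ (e' - e)) :=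
          Subtype.ext (by rw [hgwu]; rfl)
        rw [hg', map_mul, map_pow, Subgroup.coe_mul, Subgroup.coe_pow]
        apply h.vSub_comp hee' he0
        · rw [h.mem_vSub_n_zero_iff]
          apply hZinv
          exact (h.mem_vSub_n_zero_iff w).mp hw
        · exact hUinv _ hu
      · intro a b ha hb ha' hb'
        exact h.vSub_step_e he1 a b ha hb ha' hb'
  have P3 : ∀ g : h.diffSub e r, (g : S) ∈ h.diffSub e r → φ g = g := by
    apply h.step_lift _ φ hk hφ (h.vSub e 0) (h.diffSub e r) (P2 (n - e) e (by omega) le_rfl)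
    · intro g _
      exact (φ g).2
    · intro a b ha hb ha' hb'
      exact h.diffSub_step he r a b ha hb ha' hb'
  ext g
  rw [P3 g g.2]
  rfl

theorem two_pow_not_dvd {a b : ℕ} (hab : a < b) : ¬ (2 ^ b : ℤ) ∣ 2 ^ a := by
  intro hd
  have h1 : (2 ^ b : ℤ) ≤ 2 ^ a := Int.le_of_dvd (by positivity) hd
  have h2 : (2 : ℤ) ^ a < 2 ^ b := pow_lt_pow_right₀ (by norm_num) hab
  linarith

theorem not_comm_diffSub (h : WrData S n x y z) {e : ℕ} (he : e + 1 ≤ n) (r : ℤ) :
    ¬ IsMulCommutative (h.diffSub e r) := by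
  have he' : e ≤ n := by omega
  intro hc
  have hu : x ^ (2 ^ e : ℤ) * y ^ (0 : ℤ) ∈ h.diffSub e r := (h.el_mem_diffSub he' r _ _).mpr (by simp)
  have ha := h.r_mem_diffSub he' r
  have := hc.is_comm.comm (⟨_, hu⟩ : h.diffSub e r) ⟨_, ha⟩
  have h1 := congrArg Subtype.val this
  have h2 := (h.el_comm_elz_iff _ _ _ _).mp h1
  rw [sub_zero] at h2
  exact two_pow_not_dvd (by omega : e < n) h2

/-- Case `e + 2 ≤ n`. -/
theorem odd_aut_trivial_A [Finite S] (h : WrData S n x y z) {e : ℕ} (he : e + 2 ≤ n) (r : ℤ)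
    (φ : MulAut (h.diffSub e r)) {k : ℕ} (hk : Odd k) (hφ : φ ^ k = 1) : φ = 1 := by
  have he' : e ≤ n := by omega
  have hnc := h.not_comm_diffSub (by omega : e + 1 ≤ n) r
  apply h.odd_aut_trivial_of_inv he' r φ hk hφ (fun g hg => h.center_inv _ hnc φ g hg)
  have hu : x ^ (2 ^ e : ℤ) * y ^ (0 : ℤ) ∈ h.diffSub e r := (h.el_mem_diffSub he' r _ _).mpr (by simp)
  set u₀ : h.diffSub e r := ⟨_, hu⟩ with hu₀
  -- `φ u₀ ∈ U`
  have hc1 : ((φ u₀ : h.diffSub e r) : S) ∈ h.U := by
    by_contra hnot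
    rcases h.cases ((φ u₀ : h.diffSub e r) : S) with ⟨k', l', hkl⟩ | ⟨k', l', hkl⟩
    · exact hnot (hkl ▸ h.el_mem_U k' l')
    · have h1 : ((φ (u₀ * u₀) : h.diffSub e r) : S) ∈ Subgroup.center S := by
        rw [map_mul, Subgroup.coe_mul, hkl, h.elz_sq]
        exact (h.el_mem_center_iff _ _).mpr (by simp)
      have h2 := h.center_inv_symm _ hnc φ _ h1
      rw [Subgroup.coe_mul, hu₀] at h2
      simp only at h2
      rw [h.el_sq, h.el_mem_center_iff] at h2
      have h3 : (2 : ℤ) * 2 ^ e - 2 * 0 = 2 ^ (e + 1) := by rw [pow_succ]; ring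
      rw [h3] at h2
      exact two_pow_not_dvd (by omega : e + 1 < n) h2
  intro g hg
  apply (h.diffSub_inf_U he' r _).mp
  refine ⟨(φ g).2, ?_⟩
  by_contra hnot
  have hcomm : g * u₀ = u₀ * g := by
    apply Subtype.ext
    obtain ⟨k', l', -, -, hkl⟩ := hg
    show (g : S) * (x ^ (2 ^ e : ℤ) * y ^ (0 : ℤ)) = (x ^ (2 ^ e : ℤ) * y ^ (0 : ℤ)) * (g : S)
    rw [hkl]
    exact h.el_comm_el _ _ _ _
  have hcomm' : ((φ u₀ : h.diffSub e r) : S) * ((φ g : h.diffSub e r) : S)
      = ((φ g : h.diffSub e r) : S) * ((φ u₀ : h.diffSub e r) : S) := by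
    have := congrArg (fun t => ((φ t : h.diffSub e r) : S)) hcomm
    simp only [map_mul, Subgroup.coe_mul] at this
    exact this.symm
  have h1 := h.mem_center_of_comm hc1 hnot hcomm'
  have h2 := h.center_inv_symm _ hnc φ _ h1
  rw [hu₀] at h2
  simp only at h2
  rw [h.el_mem_center_iff, sub_zero] at h2
  exact two_pow_not_dvd (by omega : e < n) h2

end WrData

end Cfsg.Agent.Helper20
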